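import Groth.Agent.SmoothingLib.GeomRegDiff
import Mathlib

/-!
# Frames at a point of a geometrically regular algebra: definitions and linear algebra
-/

set_option autoImplicit false
set_option linter.style.haveILetI false

universe u

open IsLocalRing TensorProduct

namespace Groth.Agent.SmoothingLib.GeomDiff

noncomputable section

/-- A polynomial algebra mapping to a local algebra, with chosen parameters generating on both sides. -/
structure Frame (k L : Type u) [Field k] [CommRing L] [Algebra k L] [IsLocalRing L] (d : ℕ) where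
  /-- The variables. -/
  σ : Type u
  [fin : Finite σ]
  /-- The map. -/
  f : MvPolynomial σ k →ₐ[k] L
  /-- The parameters. -/
  x : Fin d → MvPolynomial σ k
  span_f : Ideal.span (Set.range fun i => f (x i)) = maximalIdeal L
  span_x : Ideal.span (Set.range fun i => algebraMap (MvPolynomial σ k)
    (Localization.AtPrime ((maximalIdeal L).comap f)) (x i)) = maximalIdeal _

attribute [instance] Frame.fin

namespace Frame

variable {k L : Type u} [Field k] [CommRing L] [Algebra k L] [IsLocalRing L] {d : ℕ} (F : Frame k L d)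

/-- The prime of the polynomial algebra. -/
abbrev P : Ideal (MvPolynomial F.σ k) := (maximalIdeal L).comap F.f

/-- The local ring of the polynomial algebra. -/
abbrev Rp : Type u := Localization.AtPrime F.P

theorem isUnit_f (s : F.P.primeCompl) : IsUnit (F.f s) := by
  have := s.2
  simp only [Ideal.primeCompl, Submonoid.mem_mk, Subsemigroup.mem_mk] at this
  by_contra h
  exact this ((IsLocalRing.mem_maximalIdeal _).2 h)

/-- The map of the local rings. -/
noncomputable def toL : F.Rp →+* L :=
  IsLocalization.lift (M := F.P.primeCompl) (g := F.f.toRingHom) F.isUnit_f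

theorem toL_algebraMap (r : MvPolynomial F.σ k) : F.toL (algebraMap _ F.Rp r) = F.f r :=
  IsLocalization.lift_eq _ r

/-- The ideal of powers of the parameters. -/
noncomputable abbrev J (N : ℕ) : Ideal F.Rp :=
  Ideal.span (Set.range fun i => algebraMap (MvPolynomial F.σ k) F.Rp (F.x i) ^ N)

end Frame

/-- High powers of a finitely generated ideal lie in the powers of the generators. -/
theorem span_pow_le {A : Type*} [CommRing A] (N : ℕ) :
    ∀ {d : ℕ} (v : Fin d → A), Ideal.span (Set.range v) ^ (d * N + 1) ≤ Ideal.span (Set.range fun i => v i ^ N) := by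
  intro d
  induction d with
  | zero =>
    intro v
    rw [Set.range_eq_empty, Ideal.span_empty, zero_mul, zero_add, pow_one]
    exact bot_le
  | succ d ih =>
    intro v
    have h : Ideal.span (Set.range v) = Ideal.span (Set.range fun i : Fin d => v i.succ) ⊔ Ideal.span {v 0} := by
      rw [← Ideal.span_union]
      congr 1
      ext y
      constructor
      · rintro ⟨i, rfl⟩
        exact Fin.cases (Or.inr rfl) (fun j => Or.inl ⟨j, rfl⟩) i
      · rintro (⟨j, rfl⟩ | rfl) <;> exact ⟨_, rfl⟩
    rw [h, show (d + 1) * N + 1 = d * N + 1 + N by ring]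
    refine Ideal.sup_pow_add_le_pow_sup_pow.trans (sup_le ?_ ?_)
    · refine (ih _).trans (Ideal.span_mono ?_)
      rintro _ ⟨j, rfl⟩
      exact ⟨j.succ, rfl⟩
    · rw [Ideal.span_singleton_pow, Ideal.span_le, Set.singleton_subset_iff]
      exact Ideal.subset_span ⟨0, rfl⟩

/-- A subspace of functions is in bijection with its restriction to some set of coordinates. -/
theorem exists_coord {K : Type*} [Field K] {e : ℕ} (U : Submodule K (Fin e → K)) :
    ∃ S : Finset (Fin e), (∀ u ∈ U, (∀ i ∈ S, u i = 0) → u = 0) ∧
      ∀ c : Fin e → K, ∃ u ∈ U, ∀ i ∈ S, u i = c i := by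
  classical
  have hex : (Finset.univ.filter fun S : Finset (Fin e) => ∀ u ∈ U, (∀ i ∈ S, u i = 0) → u = 0).Nonempty :=
    ⟨Finset.univ, Finset.mem_filter.2 ⟨Finset.mem_univ _, fun u _ h => funext fun i => h i (Finset.mem_univ i)⟩⟩
  obtain ⟨S, hS, hmin⟩ := Finset.exists_min_image _ Finset.card hex
  have hinj := (Finset.mem_filter.1 hS).2
  refine ⟨S, hinj, fun c => ?_⟩
  let R : U →ₗ[K] (↥S → K) := (LinearMap.funLeft K K (fun i : S => (i : Fin e))).comp U.subtype
  by_contra hc
  push_neg at hc
  have hlt : LinearMap.range R < ⊤ := lt_top_iff_ne_top.2 fun h => by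
    obtain ⟨⟨u, hu⟩, hue⟩ := (LinearMap.range_eq_top.1 h) (fun i => c i)
    obtain ⟨i, hi, hne⟩ := hc u hu
    exact hne (congrFun hue ⟨i, hi⟩)
  obtain ⟨g, hg0, hg⟩ := (LinearMap.range R).exists_le_ker_of_lt_top hlt
  have hgs : ∀ v : ↥S → K, g v = ∑ i, v i * g (Pi.single i 1) := fun v => by
    conv_lhs => rw [pi_eq_sum_univ' v, map_sum]
    exact Finset.sum_congr rfl fun i _ => by rw [map_smul, smul_eq_mul]
  obtain ⟨s, hs⟩ : ∃ s, g (Pi.single s 1) ≠ 0 := by
    by_contra h
    push_neg at h
    exact hg0 (LinearMap.ext fun v => by rw [hgs]; simp [h])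
  have h2 : ∀ u ∈ U, (∀ i ∈ S.erase s, u i = 0) → u = 0 := by
    intro u hu h0
    refine hinj u hu fun i hi => ?_
    by_cases his : i = s
    · subst his
      have h1 : g (R ⟨u, hu⟩) = 0 := hg ⟨_, rfl⟩
      rw [hgs, Finset.sum_eq_single_of_mem s (Finset.mem_univ _)] at h1
      · exact (mul_eq_zero.1 h1).resolve_right hs
      · intro j _ hj
        rw [show R ⟨u, hu⟩ j = 0 from h0 j (Finset.mem_erase.2 ⟨fun h => hj (Subtype.ext h), j.2⟩), zero_mul]
    · exact h0 i (Finset.mem_erase.2 ⟨his, hi⟩)
  have := hmin (S.erase s) (Finset.mem_filter.2 ⟨Finset.mem_univ _, h2⟩)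
  rw [Finset.card_erase_of_mem s.2] at this
  have : 0 < S.card := Finset.card_pos.2 ⟨_, s.2⟩
  omega

/-- Derivations extend along formally smooth maps to fields. -/
theorem exists_derivation_extend_smooth {A K : Type u} [CommRing A] [Field K] [Algebra A K]
    [Algebra.FormallySmooth A K] (δ : Derivation ℤ A K) :
    ∃ D : Derivation ℤ K K, ∀ a, D (algebraMap A K a) = δ a := by
  let f := KaehlerDifferential.mapBaseChange ℤ A K
  have hinj : LinearMap.ker f = ⊥ := by
    rw [(Algebra.H1Cotangent.exact_δ_mapBaseChange ℤ A K).linearMap_ker_eq, LinearMap.range_eq_bot]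
    exact Subsingleton.elim _ _
  obtain ⟨g, hg⟩ := f.exists_leftInverse_of_injective hinj
  refine ⟨((LinearMap.liftBaseChange K δ.liftKaehlerDifferential).comp g).compDer (KaehlerDifferential.D ℤ K),
    fun a => ?_⟩
  show LinearMap.liftBaseChange K δ.liftKaehlerDifferential (g (KaehlerDifferential.D ℤ K (algebraMap A K a))) = δ a
  have h1 : KaehlerDifferential.D ℤ K (algebraMap A K a) = f ((1 : K) ⊗ₜ KaehlerDifferential.D ℤ A a) := by
    simp [f]
  rw [h1, ← LinearMap.comp_apply g, hg, LinearMap.id_apply, LinearMap.liftBaseChange_tmul, one_smul,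
    Derivation.liftKaehlerDifferential_comp_D]

/-- A formally unramified, essentially finite type algebra over a field is geometrically reduced. -/
theorem isGeometricallyReduced_of_formallyUnramified (κ K : Type u) [Field κ] [CommRing K] [Algebra κ K]
    [Algebra.FormallyUnramified κ K] [Algebra.EssFiniteType κ K] : Algebra.IsGeometricallyReduced κ K :=
  (Algebra.isGeometricallyReduced_field_iff κ K).2
    (Algebra.FormallyUnramified.isReduced_of_field (AlgebraicClosure κ) (AlgebraicClosure κ ⊗[κ] K))

end

end Groth.Agent.SmoothingLib.GeomDiff
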