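import Groth.Agent.SmoothingLib.SymConormal
import Mathlib.RingTheory.Smooth.StandardSmoothOfFree
import Mathlib.LinearAlgebra.Determinant

/-!
# A smooth algebra is a retract of a standard smooth one
-/

universe u

open MvPolynomial KaehlerDifferential

namespace Groth.Agent.SmoothingLib

variable {R A : Type u} [CommRing R] [CommRing A] [Algebra R A] {n m : ℕ}

theorem smooth_symConormal [Algebra.FormallySmooth R A] (φ : MvPolynomial (Fin n) R →ₐ[R] A)
    (f : Fin m → MvPolynomial (Fin n) R) (hφ : Function.Surjective φ)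
    (hker : RingHom.ker φ.toRingHom = Ideal.span (Set.range f)) :
    Algebra.Smooth A (SymConormal φ f) := by
  classical
  haveI : IsLocalization (⊥ : Submonoid A) A := by
    constructor
    constructor
    · rintro ⟨_, rfl⟩; exact isUnit_one
    · intro z; exact ⟨⟨z, 1⟩, by simp⟩
    · intro x y h; exact ⟨1, by simpa using h⟩
  obtain ⟨hA, ⟨T, hT⟩, -, -⟩ := conormal φ hφ f hker ⊥ A
  let J : Matrix (Fin m) (Fin n) A := Matrix.of fun j => jac φ A (f j)
  have hJTJ : J * T * J = J := funext fun l => hT l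
  have hI : ∀ g ∈ Ideal.span (Set.range f), φ g = 0 := fun g hg => by
    have : g ∈ RingHom.ker φ.toRingHom := hker ▸ hg
    exact this
  have hfz : ∀ j, φ (f j) = 0 := fun j => hI _ (Ideal.subset_span ⟨j, rfl⟩)
  have hjac : ∀ c' : Fin m → MvPolynomial (Fin n) R,
      jac φ A (∑ j, c' j * f j) = Matrix.vecMul (fun j => φ (c' j)) J := fun c' => by
    rw [jac_sum]
    simp only [jac_mul _ _ _ (hfz _)]
    funext i
    rw [Finset.sum_apply]
    rfl
  let r : Fin m → Fin m → A := fun l => (J * T - 1 : Matrix (Fin m) (Fin m) A) l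
  have hr : ∀ l, r l ∈ syz φ f := fun l => by
    choose c' hc' using fun j => hφ (r l j)
    refine ⟨c', hc', ?_⟩
    have h0 : jac φ A (∑ j, c' j * f j) = 0 := by
      rw [hjac, funext hc']
      have : (J * T - 1) * J = 0 := by rw [Matrix.sub_mul, Matrix.one_mul, hJTJ, sub_self]
      exact congrFun this l
    have hx : ∑ j, c' j * f j ∈ Ideal.span (Set.range f) :=
      Ideal.sum_mem _ fun j _ => Ideal.mul_mem_left _ _ (Ideal.subset_span ⟨j, rfl⟩)
    obtain ⟨s, hs, hsx⟩ := hA _ hx h0
    have hs1 : s - 1 ∈ Ideal.span (Set.range f) := by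
      rw [← hker, RingHom.mem_ker]
      change φ (s - 1) = 0
      rw [map_sub, map_one, show φ s = 1 from hs, sub_self]
    rw [show ∑ j, c' j * f j = s * ∑ j, c' j * f j - (s - 1) * ∑ j, c' j * f j by ring]
    exact sub_mem hsx (by rw [pow_two]; exact Ideal.mul_mem_mul hs1 hx)
  have hc0 : ∀ c ∈ syz φ f, Matrix.vecMul c (J * T) = 0 := by
    rintro c ⟨c', hc', hmem⟩
    have h1 : Matrix.vecMul c J = 0 := by
      rw [← funext hc', ← hjac]; exact jac_eq_zero_of_mem_sq φ A hI hmem
    rw [← Matrix.vecMul_vecMul, h1, Matrix.zero_vecMul]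
  let form : (Fin m → A) →ₗ[A] MvPolynomial (Fin m) A :=
    Fintype.linearCombination A fun j => MvPolynomial.X j
  have hform : ∀ c, form c = ∑ j, MvPolynomial.C (c j) * MvPolynomial.X j := fun c => by
    simp [form, Fintype.linearCombination_apply, MvPolynomial.smul_eq_C_mul]
  refine ⟨?_, ?_⟩
  · refine Algebra.FormallySmooth.of_comp_surjective fun T' _ _ I hI2 q => ?_
    choose η hη using fun j => Ideal.Quotient.mk_surjective (q (symY φ f j))
    obtain ⟨g, hg⟩ := exists_symLift φ f T' (fun l => ∑ j, algebraMap A T' ((J * T) l j) * η j) (fun c hc => by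
      simp only [Finset.mul_sum, ← mul_assoc, ← map_mul]
      rw [Finset.sum_comm]
      refine Finset.sum_eq_zero fun j _ => ?_
      rw [← Finset.sum_mul, ← map_sum, show (∑ l, c l * (J * T) l j) = 0 from congrFun (hc0 c hc) j, map_zero, zero_mul])
    refine ⟨g, AlgHom.ext_of_adjoin_eq_top (adjoin_symY φ f) ?_⟩
    rintro _ ⟨l, rfl⟩
    have h1 : Ideal.Quotient.mk (symIdeal φ f) (form (r l)) = 0 :=
      Ideal.Quotient.eq_zero_iff_mem.2 (Ideal.subset_span ⟨_, hr l, (hform _).symm⟩)
    have h2 := congrArg q h1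
    rw [map_zero, hform, map_sum, map_sum] at h2
    simp only [map_mul] at h2
    have h3 : ∀ j, q (Ideal.Quotient.mk (symIdeal φ f) (MvPolynomial.C (r l j))) = algebraMap A (T' ⧸ I) (r l j) :=
      fun j => q.commutes (r l j)
    have hX : ∀ j, Ideal.Quotient.mk (symIdeal φ f) (MvPolynomial.X j) = symY φ f j := fun _ => rfl
    simp only [h3, hX] at h2
    change Ideal.Quotient.mk I (g (symY φ f l)) = q (symY φ f l)
    rw [hg, map_sum, ← sub_eq_zero, ← h2]
    simp only [r, Matrix.sub_apply, map_sub, sub_mul, Finset.sum_sub_distrib, map_mul, hη,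
      Matrix.one_apply, apply_ite (algebraMap A (T' ⧸ I)), map_one, map_zero, ite_mul, one_mul, zero_mul,
      Finset.sum_ite_eq, Finset.mem_univ, if_true]
    rfl
  · refine Algebra.FinitePresentation.quotient ?_
    refine ⟨Finset.univ.image fun l => form (r l), ?_⟩
    refine le_antisymm (Ideal.span_le.2 ?_) (Ideal.span_le.2 ?_)
    · intro x hx
      obtain ⟨l, -, rfl⟩ := Finset.mem_image.1 (Finset.mem_coe.1 hx)
      exact Ideal.subset_span ⟨_, hr l, (hform _).symm⟩
    · rintro _ ⟨c, hc, rfl⟩
      have hc1 : c = -∑ l, c l • r l := by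
        have h1 : Matrix.vecMul c (J * T - 1) = -c := by rw [Matrix.vecMul_sub, hc0 c hc, Matrix.vecMul_one, zero_sub]
        have h2 : ∑ l, c l • r l = Matrix.vecMul c (J * T - 1) := by
          funext j; simp [Matrix.vecMul, dotProduct, r, Finset.sum_apply]
        rw [h2, h1, neg_neg]
      change (∑ j, MvPolynomial.C (c j) * MvPolynomial.X j) ∈ _
      rw [← hform, hc1, map_neg, map_sum]
      refine neg_mem (Submodule.sum_mem _ fun l _ => ?_)
      rw [map_smul, MvPolynomial.smul_eq_C_mul]
      exact Ideal.mul_mem_left _ _ (Ideal.subset_span (Finset.mem_image_of_mem (fun l => form (r l)) (Finset.mem_univ l)))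

theorem exists_standardSmooth_retract [Algebra.Smooth R A] :
    ∃ (B : Type u) (_ : CommRing B) (_ : Algebra R B) (_ : Algebra A B) (_ : IsScalarTower R A B),
      Algebra.Smooth A B ∧ Nonempty (B →ₐ[A] A) ∧ Algebra.IsStandardSmooth R B := by
  classical
  obtain ⟨n, φ, hφ, hfg⟩ := Algebra.FinitePresentation.out (R := R) (A := A)
  obtain ⟨m, f, hf⟩ := Submodule.fg_iff_exists_fin_generating_family.1 hfg
  let C := SymConormal φ f
  haveI : Algebra.Smooth A C := smooth_symConormal φ f hφ hf.symm
  haveI : IsLocalization (⊥ : Submonoid A) A := by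
    constructor
    constructor
    · rintro ⟨_, rfl⟩; exact isUnit_one
    · intro z; exact ⟨⟨z, 1⟩, by simp⟩
    · intro x y h; exact ⟨1, by simpa using h⟩
  haveI : IsLocalization (Algebra.algebraMapSubmonoid C (⊥ : Submonoid A)) C := by
    constructor
    constructor
    · rintro ⟨_, _, rfl, rfl⟩; simpa using isUnit_one
    · intro z; exact ⟨⟨z, 1⟩, by simp⟩
    · intro x y h; exact ⟨1, by simpa using h⟩
  obtain ⟨w, b, hw, hb⟩ := exists_basis_symConormal φ f hφ hf.symm (⊥ : Submonoid A) A C
  obtain ⟨ρ, hρ⟩ := exists_retraction φ f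
  have hker : ∀ x ∈ Ideal.span (Set.range fun j => algebraMap C C (symY φ f j)), ρ x = 0 := fun x hx => by
    have : Ideal.span (Set.range fun j => algebraMap C C (symY φ f j)) ≤ RingHom.ker ρ.toRingHom := by
      rw [Ideal.span_le]; rintro _ ⟨j, rfl⟩; exact hρ j
    exact this hx
  let g : Fin n → C := fun i => algebraMap A C (φ (X i)) + w i
  let M : Matrix (Fin n) (Fin n) C := Matrix.of fun j i => b.repr (D R C (g i)) j
  let h : C := M.det
  have hρh : ρ h = 1 := by
    rw [AlgHom.map_det ρ M]
    rw [show ρ.mapMatrix M = 1 from ?_, Matrix.det_one]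
    ext j i
    have := hker _ (hb i j)
    rw [map_sub, sub_eq_zero] at this
    simp only [AlgHom.mapMatrix_apply, Matrix.map_apply, M, Matrix.of_apply, Matrix.one_apply]
    rw [this]
    simp [apply_ite ρ, eq_comm]
  let B0 := Localization.Away h
  haveI : Algebra.Smooth C B0 := Algebra.Smooth.of_isLocalization_Away h
  haveI : Algebra.Smooth A B0 := Algebra.Smooth.comp A C B0
  haveI : Algebra.Smooth R B0 := Algebra.Smooth.comp R A B0
  haveI : Algebra.FormallyEtale C B0 := Algebra.FormallyEtale.of_isLocalization (.powers h)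
  refine ⟨B0, inferInstance, inferInstance, inferInstance, inferInstance, inferInstance, ?_, ?_⟩
  · have hu : IsUnit (ρ.toRingHom h) := by
      change IsUnit (ρ h); rw [hρh]; exact isUnit_one
    exact ⟨AlgHom.mk (IsLocalization.Away.lift h hu) fun a => by
      rw [IsScalarTower.algebraMap_apply A C B0]
      exact (IsLocalization.Away.lift_eq h hu _).trans (ρ.commutes a)⟩
  · let b0 : Module.Basis (Fin n) B0 Ω[B0⁄R] :=
      (Algebra.TensorProduct.basis B0 b).map (isBaseChange_of_formallyEtale R C B0).equiv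
    let v : Fin n → Ω[B0⁄R] := fun i => D R B0 (algebraMap C B0 (g i))
    have hcoord : ∀ i j, b0.repr (v i) j = algebraMap C B0 (M j i) := fun i j => by
      have h1 : v i = (isBaseChange_of_formallyEtale R C B0).equiv (1 ⊗ₜ D R C (g i)) := by
        rw [IsBaseChange.equiv_tmul, one_smul, map_D]
      rw [h1, Module.Basis.map_repr, LinearEquiv.trans_apply, LinearEquiv.symm_apply_apply,
        Algebra.TensorProduct.basis_repr_tmul, one_smul, Finsupp.mapRange_apply]
      rfl
    have hdet : IsUnit (b0.det v) := by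
      rw [Module.Basis.det_apply, show b0.toMatrix v = M.map (algebraMap C B0) from ?_,
        ← RingHom.mapMatrix_apply, ← RingHom.map_det]
      · exact IsLocalization.Away.algebraMap_isUnit h
      · ext j i; exact hcoord i j
    obtain ⟨hli, hsp⟩ := (Module.Basis.is_basis_iff_det b0).2 hdet
    exact Algebra.IsStandardSmooth.of_basis_kaehlerDifferential (Module.Basis.mk hli hsp.ge) (by
      rintro _ ⟨i, rfl⟩
      exact ⟨algebraMap C B0 (g i), (Module.Basis.mk_apply hli hsp.ge i).symm⟩)

end Groth.Agent.SmoothingLib
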