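import Groth.Agent.SmoothingLib.LocalStandard
import Groth.Agent.SmoothingLib.StandardSmoothRetract
import Mathlib.RingTheory.Smooth.StandardSmooth
import Mathlib.RingTheory.Localization.BaseChange
import Mathlib.LinearAlgebra.Matrix.SchurComplement

/-!
# Descending smooth factorizations from a localization of the base
-/

universe u

open MvPolynomial TensorProduct

namespace Groth.Agent.SmoothingLib

section Clear

variable {R Rₛ : Type u} [CommRing R] [CommRing Rₛ] [Algebra R Rₛ] (S : Submonoid R) [IsLocalization S Rₛ] {ι : Type}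

include S in
theorem exists_clear (q : MvPolynomial ι Rₛ) :
    ∃ u ∈ S, ∃ q₀ : MvPolynomial ι R, MvPolynomial.map (algebraMap R Rₛ) q₀ = C (algebraMap R Rₛ u) * q := by
  induction q using MvPolynomial.induction_on with
  | C r =>
    obtain ⟨⟨r₀, u⟩, h⟩ := IsLocalization.surj S r
    refine ⟨u, u.2, C r₀, ?_⟩
    rw [map_C, ← map_mul, mul_comm, h]
  | add p q hp hq =>
    obtain ⟨u, hu, p₀, hp⟩ := hp
    obtain ⟨v, hv, q₀, hq⟩ := hq
    refine ⟨u * v, S.mul_mem hu hv, C v * p₀ + C u * q₀, ?_⟩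
    simp only [map_add, map_mul, map_C, hp, hq]
    ring
  | mul_X p i hp =>
    obtain ⟨u, hu, p₀, hp⟩ := hp
    exact ⟨u, hu, p₀ * X i, by rw [map_mul, map_X, hp, mul_assoc]⟩

include S in
theorem exists_clear_zero (p : MvPolynomial ι R) (h : MvPolynomial.map (algebraMap R Rₛ) p = 0) :
    ∃ u ∈ S, C u * p = 0 := by
  classical
  have hc : ∀ d, ∃ u ∈ S, u * p.coeff d = 0 := fun d => by
    have := congrArg (coeff d) h
    rw [coeff_map, coeff_zero] at this
    obtain ⟨u, hu⟩ := (IsLocalization.map_eq_zero_iff S Rₛ _).1 this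
    exact ⟨u, u.2, hu⟩
  choose u hu hu0 using hc
  refine ⟨∏ d ∈ p.support, u d, S.prod_mem fun d _ => hu d, MvPolynomial.ext _ _ fun d => ?_⟩
  rw [coeff_C_mul, coeff_zero]
  by_cases hd : d ∈ p.support
  · rw [← Finset.prod_erase_mul _ _ hd, mul_assoc, hu0, mul_zero]
  · rw [notMem_support_iff.1 hd, mul_zero]

include S in
theorem exists_clear_mem {κ : Type} [Fintype κ] (E : κ → MvPolynomial ι R) (p : MvPolynomial ι R)
    (h : MvPolynomial.map (algebraMap R Rₛ) p ∈ Ideal.span (Set.range fun k => MvPolynomial.map (algebraMap R Rₛ) (E k))) :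
    ∃ u ∈ S, C u * p ∈ Ideal.span (Set.range E) := by
  classical
  obtain ⟨c, hc⟩ := Ideal.mem_span_range_iff_exists_fun.1 h
  choose u hu c₀ hc₀ using fun k => exists_clear S (c k)
  let U := ∏ k, u k
  have h0 : MvPolynomial.map (algebraMap R Rₛ) (C U * p - ∑ k, C (∏ j ∈ Finset.univ.erase k, u j) * c₀ k * E k) = 0 := by
    rw [map_sub, map_mul, map_C, ← hc, Finset.mul_sum, map_sum, ← Finset.sum_sub_distrib]
    refine Finset.sum_eq_zero fun k _ => ?_
    simp only [map_mul, map_C, hc₀, U]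
    rw [← Finset.prod_erase_mul _ u (Finset.mem_univ k), map_mul, map_mul]
    ring
  obtain ⟨v, hv, hv0⟩ := exists_clear_zero S _ h0
  refine ⟨v * U, S.mul_mem hv (S.prod_mem fun k _ => hu k), ?_⟩
  rw [show C (v * U) * p = C v * ∑ k, C (∏ j ∈ Finset.univ.erase k, u j) * c₀ k * E k by
    rw [map_mul, mul_assoc, ← sub_eq_zero, ← mul_sub, hv0]]
  exact Ideal.mul_mem_left _ _ (Ideal.sum_mem _ fun k _ => Ideal.mul_mem_left _ _ (Ideal.subset_span ⟨k, rfl⟩))

end Clear

/-- Substituting scaled variables. -/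
noncomputable def scaleHom {Rₛ : Type u} [CommRing Rₛ] {k n : ℕ} (d : Rₛ) :
    MvPolynomial (Fin n) Rₛ →ₐ[Rₛ] MvPolynomial (Fin (k + n)) Rₛ :=
  aeval fun j => C d * X (Fin.natAdd k j)

theorem pderiv_scaleHom_natAdd {Rₛ : Type u} [CommRing Rₛ] {k n : ℕ} (d : Rₛ) (p : MvPolynomial (Fin n) Rₛ) (i : Fin n) :
    pderiv (Fin.natAdd k i) (scaleHom (k := k) d p) = C d * scaleHom d (pderiv i p) := by
  induction p using MvPolynomial.induction_on with
  | C r => simp [scaleHom]
  | add p q hp hq => rw [map_add, map_add, map_add, map_add, hp, hq, mul_add]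
  | mul_X p j hp =>
    have hX : scaleHom (k := k) d (X j) = C d * X (Fin.natAdd k j) := aeval_X _ j
    rw [map_mul, pderiv_mul, hp, pderiv_mul, map_add, map_mul, map_mul, hX]
    rcases eq_or_ne j i with rfl | hne
    · simp [pderiv_mul]; ring
    · rw [pderiv_X_of_ne hne]
      simp [pderiv_mul, pderiv_X_of_ne (show Fin.natAdd k j ≠ Fin.natAdd k i from
        fun h => hne (by simpa [Fin.ext_iff] using h))]
      ring

theorem pderiv_scaleHom_castAdd {Rₛ : Type u} [CommRing Rₛ] {k n : ℕ} (d : Rₛ) (p : MvPolynomial (Fin n) Rₛ) (i : Fin k) :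
    pderiv (Fin.castAdd n i) (scaleHom (k := k) d p) = 0 := by
  induction p using MvPolynomial.induction_on with
  | C r => simp [scaleHom]
  | add p q hp hq => rw [map_add, map_add, hp, hq, add_zero]
  | mul_X p j hp =>
    have hX : scaleHom (k := k) d (X j) = C d * X (Fin.natAdd k j) := aeval_X _ j
    have hne : Fin.natAdd k j ≠ Fin.castAdd n i := fun h => by
      have := congrArg Fin.val h; simp at this; omega
    rw [map_mul, pderiv_mul, hp, hX, zero_mul, pderiv_mul, pderiv_C, zero_mul, pderiv_X_of_ne hne, mul_zero,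
      add_zero, mul_zero, add_zero]

theorem exists_elementary_factor {R A Λ Rₛ B' : Type u} [CommRing R] [CommRing A] [Algebra R A]
    [Algebra.FinitePresentation R A] [CommRing Λ] [Algebra R Λ] (φ : A →ₐ[R] Λ) (S : Submonoid R)
    [CommRing Rₛ] [Algebra R Rₛ] [IsLocalization S Rₛ] [CommRing B'] [Algebra Rₛ B']
    [Algebra.IsStandardSmooth Rₛ B'] (g : Rₛ ⊗[R] A →ₐ[Rₛ] B') (h : B' →ₐ[Rₛ] Rₛ ⊗[R] Λ)
    (hgh : h.comp g = Algebra.TensorProduct.map (AlgHom.id Rₛ Rₛ) φ) :
    ∃ (B : Type u) (_ : CommRing B) (_ : Algebra R B) (α : A →ₐ[R] B) (β : B →ₐ[R] Λ),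
      β.comp α = φ ∧ ∃ s ∈ S, Smoothing.IsElementaryStandard R B (algebraMap R B s) := by
  classical
  letI : Algebra R B' := Algebra.compHom B' (algebraMap R Rₛ)
  haveI : IsScalarTower R Rₛ B' := IsScalarTower.of_algebraMap_eq fun _ => rfl
  obtain ⟨k, π, hπ, hfg⟩ := Algebra.FinitePresentation.out (R := R) (A := A)
  obtain ⟨l, r, hr⟩ := Submodule.fg_iff_exists_fin_generating_family.1 hfg
  have hrz : ∀ i, π (r i) = 0 := fun i => by
    have : r i ∈ RingHom.ker π.toRingHom := hr ▸ Submodule.subset_span ⟨i, rfl⟩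
    exact this
  obtain ⟨ι, σ, hσfin, hιfin, ⟨P₀⟩⟩ := Algebra.IsStandardSmooth.out (R := Rₛ) (S := B')
  obtain ⟨n, ⟨eι⟩⟩ := Finite.exists_equiv_fin ι
  obtain ⟨c, ⟨eσ⟩⟩ := Finite.exists_equiv_fin σ
  let P := P₀.reindex eι.symm eσ.symm
  let fr : Fin c → MvPolynomial (Fin n) Rₛ := P.relation
  let val : Fin n → B' := P.val
  have hker : ∀ p, aeval val p = 0 ↔ p ∈ Ideal.span (Set.range fr) := fun p => by
    rw [P.span_range_relation_eq_ker, P.ker_eq_ker_aeval_val]; rfl
  -- the images of the generators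
  choose lam hlam using fun j => IsLocalizedModule.surj S (TensorProduct.mk R Rₛ Λ 1) (h (val j))
  obtain ⟨den, hden⟩ : ∃ den : S, ∀ j, ∃ μ : Λ, (den : R) • h (val j) = (1 : Rₛ) ⊗ₜ[R] μ := by
    refine ⟨∏ j, (lam j).2, fun j => ⟨((∏ i ∈ Finset.univ.erase j, (lam i).2 : S) : R) • (lam j).1, ?_⟩⟩
    rw [← Finset.prod_erase_mul _ _ (Finset.mem_univ j), Submonoid.coe_mul, mul_smul, TensorProduct.tmul_smul]
    exact congrArg _ (hlam j)
  choose μ hμ using hden
  obtain ⟨d, hd⟩ := (IsLocalization.map_units Rₛ den).exists_right_inv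
  have hdu : IsUnit d := IsUnit.of_mul_eq_one_right _ hd
  -- evaluations
  let ev : MvPolynomial (Fin (k + n)) R →ₐ[R] Λ := aeval (Fin.append (fun i => φ (π (X i))) μ)
  let Θ : MvPolynomial (Fin (k + n)) Rₛ →ₐ[Rₛ] Rₛ ⊗[R] Λ :=
    aeval (Fin.append (fun i => (1 : Rₛ) ⊗ₜ[R] φ (π (X i))) fun j => (1 : Rₛ) ⊗ₜ[R] μ j)
  have hΘev : ∀ p, Θ (MvPolynomial.map (algebraMap R Rₛ) p) = (1 : Rₛ) ⊗ₜ[R] ev p := by
    intro p
    induction p using MvPolynomial.induction_on with
    | C a =>
      rw [map_C]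
      simp only [Θ, ev, aeval_C, Algebra.TensorProduct.algebraMap_apply, Algebra.algebraMap_self, RingHom.id_apply]
      rw [Algebra.algebraMap_eq_smul_one, Algebra.algebraMap_eq_smul_one (A := Λ), TensorProduct.smul_tmul]
    | add p q hp hq => rw [map_add, map_add, map_add, hp, hq, TensorProduct.tmul_add]
    | mul_X p i hp =>
      rw [map_mul, map_X, map_mul, hp, map_mul ev]
      conv_rhs => rw [← one_mul (1 : Rₛ), ← Algebra.TensorProduct.tmul_mul_tmul]
      congr 1
      simp only [Θ, ev, aeval_X]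
      induction i using Fin.addCases with
      | left i => simp
      | right i => simp
  have hΘψ : ∀ p, Θ (scaleHom d p) = h (aeval val p) := by
    intro p
    have : Θ.comp (scaleHom d) = h.comp (aeval val) := MvPolynomial.algHom_ext fun j => by
      simp only [AlgHom.comp_apply, scaleHom, aeval_X, map_mul, Θ, aeval_C, Fin.append_right]
      rw [← hμ, ← algebraMap_smul Rₛ (den : R) (h (val j)), Algebra.smul_def (A := Rₛ ⊗[R] Λ), ← mul_assoc, ← map_mul,
        mul_comm d, hd, map_one, one_mul]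
    exact AlgHom.congr_fun this p
  choose pl hpl using fun i : Fin k => P.algebraMap_surjective (g ((1 : Rₛ) ⊗ₜ[R] π (X i)))
  have hpl' : ∀ i, aeval val (pl i) = g ((1 : Rₛ) ⊗ₜ[R] π (X i)) := fun i => by
    rw [← hpl i, P.algebraMap_eq]; rfl
  -- the relations over the localization
  let F₁ : Fin (k + c) → MvPolynomial (Fin (k + n)) Rₛ :=
    Fin.append (fun i => X (Fin.castAdd n i) - scaleHom d (pl i)) (fun j => scaleHom d (fr j))
  have hΘF : ∀ q, Θ (F₁ q) = 0 := fun q => by
    induction q using Fin.addCases with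
    | left i =>
      simp only [F₁, Fin.append_left, map_sub, hΘψ, hpl']
      rw [← AlgHom.comp_apply h g, hgh]
      simp [Θ]
    | right j =>
      simp only [F₁, Fin.append_right, hΘψ]
      rw [(hker _).2 (Ideal.subset_span ⟨j, rfl⟩), map_zero]
  -- descend
  choose u hu F₀ hF₀ using fun q => exists_clear S (F₁ q)
  have hev : ∀ q, ∃ t ∈ S, t • ev (F₀ q) = 0 := fun q => by
    have h1 : (1 : Rₛ) ⊗ₜ[R] ev (F₀ q) = 0 := by rw [← hΘev, hF₀, map_mul, hΘF, mul_zero]
    obtain ⟨t, ht⟩ := (IsLocalizedModule.eq_zero_iff S (TensorProduct.mk R Rₛ Λ 1)).1 h1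
    exact ⟨t, t.2, ht⟩
  choose t ht hte using hev
  let F : Fin (k + c) → MvPolynomial (Fin (k + n)) R := fun q => C (t q) * F₀ q
  let w : Fin (k + c) → Rₛ := fun q => algebraMap R Rₛ (t q * u q)
  have hw : ∀ q, IsUnit (w q) := fun q => IsLocalization.map_units Rₛ (⟨t q * u q, S.mul_mem (ht q) (hu q)⟩ : S)
  have hF : ∀ q, MvPolynomial.map (algebraMap R Rₛ) (F q) = C (w q) * F₁ q := fun q => by
    simp only [F, map_mul, map_C, hF₀, w]; ring
  let incX : MvPolynomial (Fin k) R →ₐ[R] MvPolynomial (Fin (k + n)) R := rename (Fin.castAdd n)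
  let rel : Fin ((k + c) + l) → MvPolynomial (Fin (k + n)) R := Fin.append F fun i => incX (r i)
  let I := Ideal.span (Set.range rel)
  let B := MvPolynomial (Fin (k + n)) R ⧸ I
  have hevx : ∀ p, ev (incX p) = φ (π p) := fun p => by
    have : ev.comp incX = φ.comp π := MvPolynomial.algHom_ext fun i => by simp [ev, incX]
    exact AlgHom.congr_fun this p
  have hevI : ∀ p ∈ I, ev p = 0 := fun p hp => by
    have : I ≤ RingHom.ker ev.toRingHom := Ideal.span_le.2 (by
      rintro _ ⟨q, rfl⟩
      induction q using Fin.addCases with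
      | left q => simp only [rel, Fin.append_left, F, SetLike.mem_coe, RingHom.mem_ker]
                  change ev (C (t q) * F₀ q) = 0
                  rw [map_mul, MvPolynomial.algHom_C, ← Algebra.smul_def, hte]
      | right i => simp only [rel, Fin.append_right, SetLike.mem_coe, RingHom.mem_ker]
                   change ev (incX (r i)) = 0
                   rw [hevx, hrz, map_zero])
    exact this hp
  let β : B →ₐ[R] Λ := Ideal.Quotient.liftₐ I ev hevI
  let πq : MvPolynomial (Fin (k + n)) R →ₐ[R] B := Ideal.Quotient.mkₐ R I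
  -- the map from `A`
  have hπx : ∀ p, π p = 0 → πq (incX p) = 0 := fun p hp => by
    have hp' : p ∈ RingHom.ker π.toRingHom := hp
    have h1 := Ideal.mem_map_of_mem incX (show p ∈ Ideal.span (Set.range r) from (SetLike.ext_iff.1 hr p).2 hp')
    rw [Ideal.map_span, ← Set.range_comp] at h1
    refine Ideal.Quotient.eq_zero_iff_mem.2 (Ideal.span_mono ?_ h1)
    rintro _ ⟨i, rfl⟩
    exact ⟨Fin.natAdd (k + c) i, by simp [rel]⟩
  let α : A →ₐ[R] B := AlgHom.liftOfSurjective π hπ (πq.comp incX) (fun p hp => hπx p hp)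
  have hαπ : ∀ p, α (π p) = πq (incX p) := fun p => by
    exact AlgHom.liftOfSurjective_apply π hπ _ _ p
  have hβα : β.comp α = φ := by
    refine AlgHom.ext fun a => ?_
    obtain ⟨p, rfl⟩ := hπ a
    rw [AlgHom.comp_apply, hαπ]
    exact hevx p
  -- the localized relations
  let K₁ := Ideal.span (Set.range F₁)
  have hKmap : K₁ ≤ Ideal.span (Set.range fun q => MvPolynomial.map (algebraMap R Rₛ) (F q)) := by
    refine Ideal.span_le.2 ?_
    rintro _ ⟨q, rfl⟩
    rw [SetLike.mem_coe]
    obtain ⟨v, hv⟩ := (hw q).exists_left_inv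
    rw [show F₁ q = C v * MvPolynomial.map (algebraMap R Rₛ) (F q) by rw [hF, ← mul_assoc, ← map_mul, hv, map_one, one_mul]]
    exact Ideal.mul_mem_left _ _ (Ideal.subset_span ⟨q, rfl⟩)
  have htail : ∀ i, ∃ v ∈ S, C v * incX (r i) ∈ Ideal.span (Set.range F) := by
    intro i
    refine exists_clear_mem (Rₛ := Rₛ) S F _ (hKmap ?_)
    let κ : MvPolynomial (Fin k) R →ₐ[R] MvPolynomial (Fin n) Rₛ := aeval pl
    have hd1 : ∀ p, MvPolynomial.map (algebraMap R Rₛ) (incX p) - scaleHom d (κ p) ∈ K₁ := by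
      intro p
      rw [← Ideal.Quotient.eq]
      have : ((Ideal.Quotient.mkₐ R K₁).comp
            ((MvPolynomial.mapAlgHom (Algebra.ofId R Rₛ)).comp incX)) =
          (Ideal.Quotient.mkₐ R K₁).comp (((scaleHom d).restrictScalars R).comp κ) := by
        refine MvPolynomial.algHom_ext fun i => ?_
        simp only [AlgHom.comp_apply, incX, rename_X, κ, aeval_X, AlgHom.restrictScalars_apply, mapAlgHom_apply]
        refine Ideal.Quotient.eq.2 ?_
        have := Ideal.subset_span (α := MvPolynomial (Fin (k + n)) Rₛ) (Set.mem_range_self (f := F₁) (Fin.castAdd c i))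
        simpa [F₁] using this
      exact AlgHom.congr_fun this p
    have hev0 : κ (r i) ∈ Ideal.span (Set.range fr) := by
      rw [← hker]
      have : ((aeval val).restrictScalars R).comp κ =
          (g.restrictScalars R).comp (Algebra.TensorProduct.includeRight.comp π) :=
        MvPolynomial.algHom_ext fun i => by
          simp only [AlgHom.comp_apply, κ, aeval_X, AlgHom.restrictScalars_apply, hpl']
          rfl
      have h1 : aeval val (κ (r i)) = g ((1 : Rₛ) ⊗ₜ[R] π (r i)) := AlgHom.congr_fun this (r i)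
      rw [h1, hrz, TensorProduct.tmul_zero, map_zero]
    rw [← sub_add_cancel (MvPolynomial.map (algebraMap R Rₛ) (incX (r i))) (scaleHom d (κ (r i)))]
    refine add_mem (hd1 _) ?_
    have h2 := Ideal.mem_map_of_mem (scaleHom (k := k) d) hev0
    rw [Ideal.map_span, ← Set.range_comp] at h2
    refine Ideal.span_mono ?_ h2
    rintro _ ⟨j, rfl⟩
    exact ⟨Fin.natAdd k j, by simp [F₁]⟩
  choose v hv hvm using htail
  -- the minor
  let cols : Fin (k + c) ↪ Fin (k + n) :=
    ⟨Fin.append (fun i => Fin.castAdd n i) (fun j => Fin.natAdd k (P.map j)), fun a b hab => by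
      induction a using Fin.addCases with
      | left a =>
        induction b using Fin.addCases with
        | left b => simp at hab; rw [hab]
        | right b => simp [Fin.ext_iff] at hab; omega
      | right a =>
        induction b using Fin.addCases with
        | left b => simp [Fin.ext_iff] at hab; omega
        | right b =>
          simp only [Fin.append_right] at hab
          rw [P.map_inj (Fin.natAdd_injective n k hab)]⟩
  have hcl : ∀ i, cols (Fin.castAdd c i) = Fin.castAdd n i := fun i =>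
    Fin.append_left (fun i => Fin.castAdd n i) (fun j => Fin.natAdd k (P.map j)) i
  have hcr : ∀ j, cols (Fin.natAdd k j) = Fin.natAdd k (P.map j) := fun j =>
    Fin.append_right (fun i => Fin.castAdd n i) (fun j => Fin.natAdd k (P.map j)) j
  let Mn := Smoothing.jacobianMinor F id cols
  let D : MvPolynomial (Fin n) Rₛ := (Matrix.of fun i j : Fin c => pderiv (P.map j) (fr i)).det
  have hD : IsUnit (aeval val D) := by
    have h1 := P.jacobian_isUnit
    rw [Algebra.PreSubmersivePresentation.jacobian_eq_jacobiMatrix_det, P.algebraMap_eq] at h1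
    have h2 : P.jacobiMatrix.det = D := by
      rw [← Matrix.det_transpose P.jacobiMatrix]
      refine congrArg Matrix.det ?_
      ext i j : 2
      rw [Matrix.transpose_apply, Algebra.PreSubmersivePresentation.jacobiMatrix_apply]
      rfl
    rw [← h2]; exact h1
  obtain ⟨W, hW, hMn⟩ : ∃ W : Rₛ, IsUnit W ∧ MvPolynomial.map (algebraMap R Rₛ) Mn = C W * scaleHom d D := by
    refine ⟨(∏ i : Fin k, w (Fin.castAdd c i)) * ∏ j : Fin c, (w (Fin.natAdd k j) * d),
      (IsUnit.prod_univ_iff.2 fun i => hw _).mul (IsUnit.prod_univ_iff.2 fun j => (hw _).mul hdu), ?_⟩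
    simp only [Mn, Smoothing.jacobianMinor]
    rw [RingHom.map_det, ← Matrix.det_submatrix_equiv_self finSumFinEquiv]
    have hblock : ((MvPolynomial.map (algebraMap R Rₛ)).mapMatrix
          (Matrix.of fun a b => pderiv (cols b) (F (id a)))).submatrix finSumFinEquiv finSumFinEquiv =
        Matrix.fromBlocks (Matrix.diagonal fun i => C (w (Fin.castAdd c i)))
          (Matrix.of fun i j => C (w (Fin.castAdd c i)) * pderiv (Fin.natAdd k (P.map j)) (F₁ (Fin.castAdd c i))) 0
          (Matrix.of fun i j => C (w (Fin.natAdd k i) * d) * scaleHom d (pderiv (P.map j) (fr i))) := by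
      apply Matrix.ext
      rintro (a | a) (b | b)
      all_goals simp only [RingHom.mapMatrix_apply, Matrix.submatrix_apply, Matrix.map_apply, Matrix.of_apply, id,
        finSumFinEquiv_apply_left, finSumFinEquiv_apply_right, ← pderiv_map, hF, pderiv_C_mul,
        Matrix.fromBlocks_apply₁₁, Matrix.fromBlocks_apply₁₂, Matrix.fromBlocks_apply₂₁, Matrix.fromBlocks_apply₂₂, Matrix.zero_apply]
      all_goals simp only [hcl, hcr, Fin.append_left, Fin.append_right, F₁]
      · rw [map_sub, pderiv_scaleHom_castAdd, sub_zero]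
        rcases eq_or_ne a b with rfl | hne
        · rw [Matrix.diagonal_apply_eq, pderiv_X_self, mul_one]
        · rw [Matrix.diagonal_apply_ne _ hne, pderiv_X_of_ne (fun h => hne (Fin.castAdd_injective _ _ h)), mul_zero]
      · rw [pderiv_scaleHom_castAdd, mul_zero]
      · rw [pderiv_scaleHom_natAdd, ← mul_assoc, ← map_mul]
    rw [hblock, Matrix.det_fromBlocks_zero₂₁, Matrix.det_diagonal,
      show (Matrix.of fun i j => C (w (Fin.natAdd k i) * d) * scaleHom d (pderiv (P.map j) (fr i))) =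
        Matrix.diagonal (fun i => C (w (Fin.natAdd k i) * d)) *
          (scaleHom (k := k) d).mapMatrix (Matrix.of fun i j : Fin c => pderiv (P.map j) (fr i)) from by
        ext i j : 2; simp [Matrix.diagonal_mul],
      Matrix.det_mul, Matrix.det_diagonal, ← AlgHom.map_det, map_mul C, map_prod, map_prod, mul_assoc]
  obtain ⟨bq, hbq⟩ := hD.exists_right_inv
  obtain ⟨q, hq⟩ := P.algebraMap_surjective bq
  obtain ⟨W', hW'⟩ := hW.exists_left_inv
  have hmem1 : D * q - 1 ∈ Ideal.span (Set.range fr) := by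
    rw [← hker, map_sub, map_mul, map_one, show aeval val q = bq by rw [← hq, P.algebraMap_eq]; rfl, hbq, sub_self]
  obtain ⟨uq, huq, q₀, hq₀⟩ := exists_clear S (C W' * scaleHom (k := k) d q)
  obtain ⟨v₀, hv₀, hv₀m⟩ := exists_clear_mem (Rₛ := Rₛ) S F (Mn * q₀ - C uq) (hKmap (by
    rw [map_sub, map_mul, hMn, hq₀, map_C,
      show C W * scaleHom d D * (C (algebraMap R Rₛ uq) * (C W' * scaleHom (k := k) d q)) - C (algebraMap R Rₛ uq) =
        C (algebraMap R Rₛ uq) * (C (W' * W) * (scaleHom d D * scaleHom d q) - 1) by rw [map_mul]; ring,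
      hW', map_one, one_mul, ← map_mul, ← map_one (scaleHom (k := k) d), ← map_sub]
    refine Ideal.mul_mem_left _ _ ?_
    have h2 := Ideal.mem_map_of_mem (scaleHom (k := k) d) hmem1
    rw [Ideal.map_span, ← Set.range_comp] at h2
    refine Ideal.span_mono ?_ h2
    rintro _ ⟨j, rfl⟩
    exact ⟨Fin.natAdd k j, by simp [F₁]⟩))
  let s : R := v₀ * uq * ∏ i, v i
  refine ⟨B, inferInstance, inferInstance, α, β, hβα, s, S.mul_mem (S.mul_mem hv₀ huq) (S.prod_mem fun i _ => hv i), ?_⟩
  have hFI : Ideal.span (Set.range F) ≤ I := Ideal.span_mono (by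
    rintro _ ⟨q, rfl⟩; exact ⟨Fin.castAdd l q, by simp [rel]⟩)
  refine isElementaryStandard_of_data πq (Ideal.Quotient.mkₐ_surjective R I) rel Ideal.mk_ker
    (Fin.castAdd l) cols _ (πq (C (∏ i, v i) * (C v₀ * q₀))) ?_ fun a₁ ha₁ j => ?_
  · have hminor : Smoothing.jacobianMinor rel (Fin.castAdd l) cols = Mn := by
      simp only [Mn, Smoothing.jacobianMinor]
      congr 1
      ext a b : 2
      simp [rel]
    rw [hminor, ← map_mul, show algebraMap R B s = πq (C s) from (πq.commutes s).symm]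
    symm
    refine Ideal.Quotient.eq.2 ?_
    rw [show C (∏ i, v i) * (C v₀ * q₀) * Mn - C s = C (∏ i, v i) * (C v₀ * (Mn * q₀ - C uq)) by
      simp only [s, map_mul]; ring]
    exact Ideal.mul_mem_left _ _ (hFI hv₀m)
  · have hdiff : a₁ - C s ∈ I := Ideal.Quotient.eq.1 (ha₁.trans (πq.commutes s).symm)
    have hsub : Ideal.span (Set.range F) ≤ Ideal.span (Set.range (rel ∘ Fin.castAdd l)) := Ideal.span_mono (by
      rintro _ ⟨q, rfl⟩; exact ⟨q, by simp [rel]⟩)
    rw [show a₁ * rel j = (a₁ - C s) * rel j + C s * rel j by ring]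
    refine add_mem (Ideal.mem_sup_right (by rw [pow_two]; exact Ideal.mul_mem_mul hdiff (Ideal.subset_span ⟨j, rfl⟩))) ?_
    refine Ideal.mem_sup_left (hsub ?_)
    induction j using Fin.addCases with
    | left q => rw [show rel (Fin.castAdd l q) = F q by simp [rel]]; exact Ideal.mul_mem_left _ _ (Ideal.subset_span ⟨q, rfl⟩)
    | right i =>
      rw [show rel (Fin.natAdd (k + c) i) = incX (r i) by simp [rel],
        show C s * incX (r i) = C (v₀ * uq * ∏ j ∈ Finset.univ.erase i, v j) * (C (v i) * incX (r i)) by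
          rw [← mul_assoc, ← map_mul, mul_assoc _ _ (v i), Finset.prod_erase_mul _ _ (Finset.mem_univ i)]]
      exact Ideal.mul_mem_left _ _ (hvm i)

theorem exists_elementary_factor_of_smooth {R A Λ Rₛ B' : Type u} [CommRing R] [CommRing A] [Algebra R A]
    [Algebra.FinitePresentation R A] [CommRing Λ] [Algebra R Λ] (φ : A →ₐ[R] Λ) (S : Submonoid R)
    [CommRing Rₛ] [Algebra R Rₛ] [IsLocalization S Rₛ] [CommRing B'] [Algebra Rₛ B']
    [Algebra.Smooth Rₛ B'] (g : Rₛ ⊗[R] A →ₐ[Rₛ] B') (h : B' →ₐ[Rₛ] Rₛ ⊗[R] Λ)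
    (hgh : h.comp g = Algebra.TensorProduct.map (AlgHom.id Rₛ Rₛ) φ) :
    ∃ (B : Type u) (_ : CommRing B) (_ : Algebra R B) (α : A →ₐ[R] B) (β : B →ₐ[R] Λ),
      β.comp α = φ ∧ ∃ s ∈ S, Smoothing.IsElementaryStandard R B (algebraMap R B s) := by
  obtain ⟨C', _, _, _, _, -, ⟨ρ⟩, hC'⟩ := exists_standardSmooth_retract (R := Rₛ) (A := B')
  refine exists_elementary_factor φ S ((IsScalarTower.toAlgHom Rₛ B' C').comp g)
    (h.comp (ρ.restrictScalars Rₛ)) ?_
  rw [← hgh]
  ext x
  simp

end Groth.Agent.SmoothingLib
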