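import Groth.Agent.SmoothingLib.LiftSmooth
import Mathlib.RingTheory.Flat.EquationalCriterion
import Mathlib.RingTheory.TensorProduct.Basic
import Mathlib.RingTheory.Smooth.Kaehler

/-!
# Ind-smoothness lifts along nilpotent thickenings
-/

universe u

open MvPolynomial TensorProduct

namespace Groth.Agent.SmoothingLib

variable {R : Type u} [CommRing R] (K : Ideal R)

theorem exists_sum_of_mem_map {B : Type u} [CommRing B] [Algebra R B] {x : B} (h : x ∈ K.map (algebraMap R B)) :
    ∃ (k : ℕ) (r : Fin k → R) (b : Fin k → B), (∀ i, r i ∈ K) ∧ x = ∑ i, r i • b i := by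
  rw [Ideal.map, Ideal.span, Submodule.mem_span_set'] at h
  obtain ⟨k, c, g, rfl⟩ := h
  choose r hr hrg using fun i => (g i).2
  exact ⟨k, r, c, hr, Finset.sum_congr rfl fun i _ => by rw [← hrg i, smul_eq_mul, Algebra.smul_def, mul_comm]⟩

theorem map_sq_eq_bot (hK : K ^ 2 = ⊥) (B : Type u) [CommRing B] [Algebra R B] :
    (K.map (algebraMap R B)) ^ 2 = ⊥ := by
  rw [← Ideal.map_pow, hK, Ideal.map_bot]

theorem mul_eq_zero_of_mem_map (hK : K ^ 2 = ⊥) {B : Type u} [CommRing B] [Algebra R B] {x y : B}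
    (hx : x ∈ K.map (algebraMap R B)) (hy : y ∈ K.map (algebraMap R B)) : x * y = 0 := by
  have := Ideal.mul_mem_mul hx hy
  rwa [← pow_two, map_sq_eq_bot K hK, Ideal.mem_bot] at this

theorem exists_congr_lift (hK : K ^ 2 = ⊥) {Λ : Type u} [CommRing Λ] [Algebra R Λ]
    (h : Smoothing.IndSmooth (R ⧸ K) (Λ ⧸ K.map (algebraMap R Λ)))
    (C : Type u) [CommRing C] [Algebra R C] [Algebra.FinitePresentation R C] (ψ : C →ₐ[R] Λ) :
    ∃ (D : Type u) (_ : CommRing D) (_ : Algebra R D), Algebra.Smooth R D ∧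
      ∃ (u : C →ₐ[R] D ⧸ K.map (algebraMap R D)) (β : D →ₐ[R] Λ),
        ∀ c d, Ideal.Quotient.mk _ d = u c → β d - ψ c ∈ K.map (algebraMap R Λ) := by
  let Lb := Λ ⧸ K.map (algebraMap R Λ)
  let qL : Λ →ₐ[R] Lb := Ideal.Quotient.mkₐ R _
  let ψb : (R ⧸ K) ⊗[R] C →ₐ[R ⧸ K] Lb :=
    Algebra.TensorProduct.lift (Algebra.ofId (R ⧸ K) Lb) (qL.comp ψ) (fun _ _ => Commute.all _ _)
  obtain ⟨B₀, _, _, hB₀, g₀, k₀, hgk⟩ := h ((R ⧸ K) ⊗[R] C) inferInstance ψb
  haveI := hB₀
  obtain ⟨D, _, _, hD, ⟨e⟩⟩ := exists_smooth_lift (A₀ := B₀) K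
  haveI := hD
  let u : C →ₐ[R] D ⧸ K.map (algebraMap R D) :=
    ((e.symm.toAlgHom.comp g₀).restrictScalars R).comp Algebra.TensorProduct.includeRight
  let βb : D →ₐ[R] Lb := ((k₀.comp e.toAlgHom).restrictScalars R).comp (Ideal.Quotient.mkₐ R _)
  have hnil : IsNilpotent (K.map (algebraMap R Λ)) := ⟨2, map_sq_eq_bot K hK Λ⟩
  let β : D →ₐ[R] Λ := Algebra.FormallySmooth.lift (K.map (algebraMap R Λ)) hnil βb
  refine ⟨D, inferInstance, inferInstance, hD, u, β, fun c d hcd => Ideal.Quotient.eq.1 ?_⟩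
  refine (Algebra.FormallySmooth.mk_lift (K.map (algebraMap R Λ)) hnil βb d).trans ?_
  change k₀ (e (Ideal.Quotient.mk _ d)) = _
  rw [hcd]
  change k₀ (e (e.symm (g₀ (1 ⊗ₜ c)))) = _
  rw [e.apply_symm_apply, ← AlgHom.comp_apply k₀, hgk]
  simp [ψb, qL]
  rfl

theorem exists_factor_mod_square_zero {Λ A : Type u} [CommRing Λ] [Algebra R Λ] (hK : K ^ 2 = ⊥)
    (h : Smoothing.IndSmooth (R ⧸ K) (Λ ⧸ K.map (algebraMap R Λ)))
    [CommRing A] [Algebra R A] [Algebra.FinitePresentation R A] (φ : A →ₐ[R] Λ) :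
    ∃ (B : Type u) (_ : CommRing B) (_ : Algebra R B), Algebra.Smooth R B ∧
      ∃ J : Ideal B, J ≤ K.map (algebraMap R B) ∧ J.FG ∧
        ∃ (g : A →ₐ[R] B ⧸ J) (k : (B ⧸ J) →ₐ[R] Λ), k.comp g = φ := by
  classical
  obtain ⟨n, π, hπ, hfg⟩ := Algebra.FinitePresentation.out (R := R) (A := A)
  obtain ⟨m, f, hf⟩ := Submodule.fg_iff_exists_fin_generating_family.1 hfg
  obtain ⟨D, _, _, hD, u, β, hu⟩ := exists_congr_lift K hK h A φ
  haveI := hD
  choose d hd using fun i : Fin n => Ideal.Quotient.mk_surjective (u (π (X i)))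
  choose k r b hr hb using fun i => exists_sum_of_mem_map K (hu _ _ (hd i))
  let Z := Σ i : Fin n, Fin (k i)
  haveI : Algebra.Smooth D (MvPolynomial Z D) := ⟨inferInstance, inferInstance⟩
  haveI : Algebra.Smooth R (MvPolynomial Z D) := Algebra.Smooth.comp R D (MvPolynomial Z D)
  let B := MvPolynomial Z D
  let κ : B →ₐ[R] Λ :=
    { MvPolynomial.eval₂Hom β.toRingHom (fun z : Z => b z.1 z.2) with
      commutes' := fun s => by
        change MvPolynomial.eval₂Hom β.toRingHom _ (algebraMap R B s) = _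
        rw [IsScalarTower.algebraMap_apply R D B, MvPolynomial.algebraMap_eq, MvPolynomial.eval₂Hom_C]
        exact β.commutes s }
  have hκC : ∀ x : D, κ (C x) = β x := fun x => MvPolynomial.eval₂Hom_C _ _ x
  have hκX : ∀ z : Z, κ (X z) = b z.1 z.2 := fun z => MvPolynomial.eval₂Hom_X' _ _ z
  let y : Fin n → B := fun i => C (d i) - ∑ t, r i t • X (⟨i, t⟩ : Z)
  let τ : MvPolynomial (Fin n) R →ₐ[R] B := aeval y
  have hκτ : κ.comp τ = φ.comp π := MvPolynomial.algHom_ext fun i => by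
    simp only [AlgHom.comp_apply, τ, aeval_X, y, map_sub, map_sum, map_smul, hκC, hκX, ← hb]
    ring
  let J : Ideal B := Ideal.span (Set.range fun j => τ (f j))
  have hfz : ∀ j, π (f j) = 0 := fun j => by
    have : f j ∈ RingHom.ker π.toRingHom := hf ▸ Submodule.subset_span ⟨j, rfl⟩
    exact this
  have hJ : J ≤ K.map (algebraMap R B) := by
    rw [Ideal.span_le]
    rintro _ ⟨j, rfl⟩
    refine Ideal.Quotient.eq_zero_iff_mem.1 ?_
    let inc : D ⧸ K.map (algebraMap R D) →ₐ[R] B ⧸ K.map (algebraMap R B) :=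
      Ideal.Quotient.liftₐ _ ((Ideal.Quotient.mkₐ R (K.map (algebraMap R B))).comp (IsScalarTower.toAlgHom R D B))
        (fun x hx => Ideal.Quotient.eq_zero_iff_mem.2 (by
          have := Ideal.mem_map_of_mem (algebraMap D B) hx
          rwa [Ideal.map_map, ← IsScalarTower.algebraMap_eq] at this))
    have h1 : (Ideal.Quotient.mkₐ R (K.map (algebraMap R B))).comp τ = inc.comp (u.comp π) :=
      MvPolynomial.algHom_ext fun i => by
        simp only [AlgHom.comp_apply, τ, aeval_X, y, ← hd]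
        refine Ideal.Quotient.eq.2 ?_
        change C (d i) - _ - C (d i) ∈ _
        rw [sub_sub_cancel_left]
        exact neg_mem (Ideal.sum_mem _ fun t _ => by
          rw [Algebra.smul_def]; exact Ideal.mul_mem_right _ _ (Ideal.mem_map_of_mem _ (hr i t)))
    refine (AlgHom.congr_fun h1 (f j)).trans ?_
    rw [AlgHom.comp_apply, AlgHom.comp_apply, hfz, map_zero, map_zero]
  have hκJ : ∀ x ∈ J, κ x = 0 := fun x hx => by
    have : J ≤ RingHom.ker κ.toRingHom := Ideal.span_le.2 (by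
      rintro _ ⟨j, rfl⟩
      change (κ.comp τ) (f j) = 0
      rw [hκτ, AlgHom.comp_apply, hfz, map_zero])
    exact this hx
  have hτ0 : ∀ p, π p = 0 → Ideal.Quotient.mkₐ R J (τ p) = 0 := fun p hp => by
    have hp' : p ∈ Ideal.span (Set.range f) := (SetLike.ext_iff.1 hf p).2 hp
    have h2 := Ideal.mem_map_of_mem τ hp'
    rw [Ideal.map_span, ← Set.range_comp] at h2
    exact Ideal.Quotient.eq_zero_iff_mem.2 h2
  refine ⟨B, inferInstance, inferInstance, inferInstance, J, hJ, Submodule.fg_span (Set.finite_range _),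
    AlgHom.liftOfSurjective π hπ ((Ideal.Quotient.mkₐ R J).comp τ) (fun p hp => hτ0 p hp),
    Ideal.Quotient.liftₐ J κ hκJ, AlgHom.ext fun a => ?_⟩
  obtain ⟨p, rfl⟩ := hπ a
  rw [AlgHom.comp_apply]
  refine Eq.trans (congrArg (Ideal.Quotient.liftₐ J κ hκJ) (AlgHom.liftOfSurjective_apply π hπ _ _ p)) ?_
  exact AlgHom.congr_fun hκτ p

theorem exists_kill {Λ B : Type u} [CommRing Λ] [Algebra R Λ] [Module.Flat R Λ] (hK : K ^ 2 = ⊥)
    (h : Smoothing.IndSmooth (R ⧸ K) (Λ ⧸ K.map (algebraMap R Λ)))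
    [CommRing B] [Algebra R B] [Algebra.Smooth R B] (φ : B →ₐ[R] Λ) (J : Ideal B)
    (hJ : J ≤ K.map (algebraMap R B)) (hJfg : J.FG) (hφJ : ∀ x ∈ J, φ x = 0) :
    ∃ (B' : Type u) (_ : CommRing B') (_ : Algebra R B'), Algebra.Smooth R B' ∧
      ∃ (α : B →ₐ[R] B') (β : B' →ₐ[R] Λ), (∀ x ∈ J, α x = 0) ∧
        ∀ b : B, β (α b) - φ b ∈ K.map (algebraMap R Λ) := by
  classical
  obtain ⟨N, x, hx⟩ := Submodule.fg_iff_exists_fin_generating_family.1 hJfg
  have hxJ : ∀ t, x t ∈ J := fun t => hx ▸ Submodule.subset_span ⟨t, rfl⟩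
  choose k r b hr hb using fun t => exists_sum_of_mem_map K (hJ (hxJ t))
  have hrel : ∀ t, ∑ i, r t i • φ (b t i) = 0 := fun t => by
    rw [← hφJ _ (hxJ t), hb t, map_sum]
    simp only [map_smul]
  choose kk a yv hy ha using fun t => Module.Flat.isTrivialRelation_of_sum_smul_eq_zero (hrel t)
  let Z := Σ t : Fin N, Fin (kk t)
  let S := MvPolynomial Z B
  let E : (Σ t : Fin N, Fin (k t)) → S := fun p => C (b p.1 p.2) - ∑ j, a p.1 p.2 j • X (⟨p.1, j⟩ : Z)
  haveI : Algebra.FinitePresentation R S := Algebra.FinitePresentation.trans R B S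
  haveI : Algebra.FinitePresentation R (S ⧸ Ideal.span (Set.range E)) :=
    Algebra.FinitePresentation.quotient (Submodule.fg_span (Set.finite_range E))
  let κ : S →ₐ[R] Λ :=
    { MvPolynomial.eval₂Hom φ.toRingHom (fun z : Z => yv z.1 z.2) with
      commutes' := fun s => by
        change MvPolynomial.eval₂Hom φ.toRingHom _ (algebraMap R S s) = _
        rw [IsScalarTower.algebraMap_apply R B S, MvPolynomial.algebraMap_eq, MvPolynomial.eval₂Hom_C]
        exact φ.commutes s }
  have hκC : ∀ x : B, κ (C x) = φ x := fun x => MvPolynomial.eval₂Hom_C _ _ x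
  have hκX : ∀ z : Z, κ (X z) = yv z.1 z.2 := fun z => MvPolynomial.eval₂Hom_X' _ _ z
  have hκE : Ideal.span (Set.range E) ≤ RingHom.ker κ.toRingHom := by
    rw [Ideal.span_le]
    rintro _ ⟨⟨t, i⟩, rfl⟩
    change κ (E ⟨t, i⟩) = 0
    simp only [E, map_sub, map_sum, map_smul, hκC, hκX, ← hy, sub_self]
  obtain ⟨D, _, _, hD, u, β, hu⟩ := exists_congr_lift K hK h (S ⧸ Ideal.span (Set.range E))
    (Ideal.Quotient.liftₐ _ κ fun _ hx => hκE hx)
  haveI := hD
  let uS : S →ₐ[R] D ⧸ K.map (algebraMap R D) := u.comp (Ideal.Quotient.mkₐ R _)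
  have hnil : IsNilpotent (K.map (algebraMap R D)) := ⟨2, map_sq_eq_bot K hK D⟩
  let αb : B →ₐ[R] D ⧸ K.map (algebraMap R D) := uS.comp (IsScalarTower.toAlgHom R B S)
  let α : B →ₐ[R] D := Algebra.FormallySmooth.lift (K.map (algebraMap R D)) hnil αb
  have hα : ∀ c, Ideal.Quotient.mk (K.map (algebraMap R D)) (α c) = uS (C c) :=
    fun c => Algebra.FormallySmooth.mk_lift (K.map (algebraMap R D)) hnil αb c
  choose z hz using fun q : Z => Ideal.Quotient.mk_surjective (uS (X q))
  have hαx : ∀ t, α (x t) = 0 := fun t => by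
    have hmem : ∀ i, α (b t i) - ∑ j, a t i j • z ⟨t, j⟩ ∈ K.map (algebraMap R D) := fun i => by
      refine Ideal.Quotient.eq_zero_iff_mem.1 ?_
      rw [← Ideal.Quotient.mkₐ_eq_mk R, map_sub, map_sum]
      simp only [map_smul, Ideal.Quotient.mkₐ_eq_mk, hα, hz]
      have h0 : uS (E ⟨t, i⟩) = 0 := by
        change u (Ideal.Quotient.mk _ (E ⟨t, i⟩)) = 0
        have hz0 : Ideal.Quotient.mk (Ideal.span (Set.range E)) (E ⟨t, i⟩) = 0 :=
          Ideal.Quotient.eq_zero_iff_mem.2 (Ideal.subset_span ⟨_, rfl⟩)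
        rw [hz0, map_zero]
      simpa [E, map_sum] using h0
    rw [hb t, map_sum]
    simp only [map_smul]
    have h0 : ∀ i, r t i • α (b t i) = r t i • ∑ j, a t i j • z ⟨t, j⟩ := fun i => by
      rw [← sub_eq_zero, ← smul_sub, Algebra.smul_def]
      exact mul_eq_zero_of_mem_map K hK (Ideal.mem_map_of_mem _ (hr t i)) (hmem i)
    simp only [h0, Finset.smul_sum, smul_smul]
    rw [Finset.sum_comm]
    refine Finset.sum_eq_zero fun j _ => ?_
    rw [← Finset.sum_smul, ha, zero_smul]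
  refine ⟨D, inferInstance, inferInstance, hD, α, β, fun y hy' => ?_, fun c => ?_⟩
  · have hle : Ideal.span (Set.range x) ≤ RingHom.ker α.toRingHom := by
      rw [Ideal.span_le]; rintro _ ⟨t, rfl⟩; exact hαx t
    exact hle ((SetLike.ext_iff.1 hx y).2 hy' : y ∈ Ideal.span (Set.range x))
  · rw [← hκC c]
    exact hu (Ideal.Quotient.mk _ (C c)) (α c) (hα c)

theorem indSmooth_of_square_zero {Λ : Type u} [CommRing Λ] [Algebra R Λ] [Module.Flat R Λ] (hK : K ^ 2 = ⊥)
    (h : Smoothing.IndSmooth (R ⧸ K) (Λ ⧸ K.map (algebraMap R Λ))) : Smoothing.IndSmooth R Λ := by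
  classical
  intro A _ _ hA f
  obtain ⟨B, _, _, hB, J, hJ, hJfg, g, k, hkg⟩ := exists_factor_mod_square_zero K hK h f
  let φ : B →ₐ[R] Λ := k.comp (Ideal.Quotient.mkₐ R J)
  obtain ⟨B', _, _, hB', α, β, hα, hβ⟩ := exists_kill K hK h φ J hJ hJfg (fun x hx => by
    change k (Ideal.Quotient.mk J x) = 0
    rw [Ideal.Quotient.eq_zero_iff_mem.2 hx, map_zero])
  let KΛ := K.map (algebraMap R Λ)
  letI : Algebra B Λ := φ.toRingHom.toAlgebra
  haveI : IsScalarTower R B Λ := IsScalarTower.of_algebraMap_eq' φ.comp_algebraMap.symm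
  have hsm : ∀ (x : B) (l : Λ), x • l = φ x * l := fun x l => Algebra.smul_def x l
  let δ : Derivation R B Λ := Derivation.mk' (φ.toLinearMap - (β.comp α).toLinearMap) (fun x y => by
    simp only [LinearMap.sub_apply, AlgHom.toLinearMap_apply, AlgHom.comp_apply, map_mul, hsm]
    have h0 := mul_eq_zero_of_mem_map K hK (hβ x) (hβ y)
    linear_combination -h0)
  have hδ : ∀ x, δ x = φ x - β (α x) := fun x => rfl
  let L := δ.liftKaehlerDifferential
  have hL : ∀ w, L w ∈ KΛ := fun w => by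
    have hw : w ∈ Submodule.span B (Set.range (KaehlerDifferential.D R B)) := by
      rw [KaehlerDifferential.span_range_derivation]; trivial
    induction hw using Submodule.span_induction with
    | mem y hy =>
      obtain ⟨x, rfl⟩ := hy
      rw [Derivation.liftKaehlerDifferential_comp_D, hδ, ← neg_sub]
      exact neg_mem (hβ x)
    | zero => rw [map_zero]; exact zero_mem _
    | add y z _ _ hy hz => rw [map_add]; exact add_mem hy hz
    | smul c y _ hy => rw [map_smul, hsm]; exact Ideal.mul_mem_left _ _ hy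
  haveI := hB
  haveI : Module.Finite B Ω[B⁄R] := inferInstance
  haveI : Module.Projective B Ω[B⁄R] := inferInstance
  obtain ⟨N, p, hp⟩ := Module.Finite.exists_fin' B Ω[B⁄R]
  obtain ⟨s, hs⟩ := Module.projective_lifting_property p LinearMap.id hp
  let γ : Fin N → Ω[B⁄R] := fun i => p (Pi.single i 1)
  have hγ : ∀ w, ∑ i, s w i • γ i = w := fun w => by
    conv_rhs => rw [← show p (s w) = w from LinearMap.congr_fun hs w, pi_eq_sum_univ' (s w)]
    rw [map_sum]
    simp only [map_smul, γ]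
  choose kc r l hr hl using fun i => exists_sum_of_mem_map K (hL (γ i))
  let Z := Σ i : Fin N, Fin (kc i)
  haveI : Algebra.Smooth B' (MvPolynomial Z B') := ⟨inferInstance, inferInstance⟩
  haveI := hB'
  haveI : Algebra.Smooth R (MvPolynomial Z B') := Algebra.Smooth.comp R B' (MvPolynomial Z B')
  let B'' := MvPolynomial Z B'
  let K'' := K.map (algebraMap R B'')
  let ι : B' →ₐ[R] B'' := IsScalarTower.toAlgHom R B' B''
  let W : Fin N → B'' := fun i => ∑ t, r i t • X (⟨i, t⟩ : Z)
  have hW : ∀ i, W i ∈ K'' := fun i => Ideal.sum_mem _ fun t _ => by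
    rw [Algebra.smul_def]; exact Ideal.mul_mem_right _ _ (Ideal.mem_map_of_mem _ (hr i t))
  let Dd : B → B'' := fun x => ∑ i, ι (α (s (KaehlerDifferential.D R B x) i)) * W i
  have hDadd : ∀ x y, Dd (x + y) = Dd x + Dd y := fun x y => by
    simp only [Dd, map_add, Pi.add_apply, add_mul, Finset.sum_add_distrib]
  have hDsmul : ∀ (c : R) x, Dd (c • x) = c • Dd x := fun c x => by
    simp only [Dd, Finset.smul_sum]
    refine Finset.sum_congr rfl fun i _ => ?_
    rw [Derivation.map_smul, ← algebraMap_smul B c (KaehlerDifferential.D R B x), map_smul, Pi.smul_apply,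
      algebraMap_smul, map_smul, map_smul, smul_mul_assoc]
  have hDK : ∀ x, Dd x ∈ K'' := fun x => Ideal.sum_mem _ fun i _ => Ideal.mul_mem_left _ _ (hW i)
  have hDmul : ∀ x y, Dd (x * y) = ι (α x) * Dd y + ι (α y) * Dd x := fun x y => by
    simp only [Dd, Derivation.leibniz, map_add, map_smul, Pi.add_apply, Pi.smul_apply, smul_eq_mul, map_mul]
    rw [Finset.mul_sum, Finset.mul_sum, ← Finset.sum_add_distrib]
    exact Finset.sum_congr rfl fun i _ => by ring
  let α' : B →ₐ[R] B'' := AlgHom.ofLinearMap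
    { toFun := fun x => ι (α x) + Dd x
      map_add' := fun x y => by simp only [map_add, hDadd]; ring
      map_smul' := fun c x => by simp only [map_smul, hDsmul, smul_add, RingHom.id_apply] }
    (by simp [Dd])
    (fun x y => by
      simp only [LinearMap.coe_mk, AddHom.coe_mk, map_mul, hDmul]
      have h0 := mul_eq_zero_of_mem_map K hK (hDK x) (hDK y)
      linear_combination -h0)
  have hα' : ∀ x, α' x = ι (α x) + Dd x := fun x => rfl
  have hαJ : ∀ x ∈ J, α' x = 0 := fun x hx => by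
    rw [hα', hα x hx, map_zero, zero_add]
    obtain ⟨n, c, e, hc, rfl⟩ := exists_sum_of_mem_map K (hJ hx)
    have : ∀ (f : Fin n → B), Dd (∑ i, f i) = ∑ i, Dd (f i) := fun f => by
      simp only [Dd, map_sum, Finset.sum_apply, Finset.sum_mul]
      conv_rhs => rw [Finset.sum_comm]
      exact Finset.sum_congr rfl fun _ _ => Finset.sum_mul _ _ _
    rw [this]
    refine Finset.sum_eq_zero fun i _ => ?_
    rw [hDsmul, Algebra.smul_def]
    exact mul_eq_zero_of_mem_map K hK (Ideal.mem_map_of_mem _ (hc i)) (hDK _)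
  let β'' : B'' →ₐ[R] Λ :=
    { MvPolynomial.eval₂Hom β.toRingHom (fun z : Z => l z.1 z.2) with
      commutes' := fun c => by
        change MvPolynomial.eval₂Hom β.toRingHom _ (algebraMap R B'' c) = _
        rw [IsScalarTower.algebraMap_apply R B' B'', MvPolynomial.algebraMap_eq, MvPolynomial.eval₂Hom_C]
        exact β.commutes c }
  have hβι : ∀ x, β'' (ι x) = β x := fun x => MvPolynomial.eval₂Hom_C _ _ x
  have hβX : ∀ z : Z, β'' (X z) = l z.1 z.2 := fun z => MvPolynomial.eval₂Hom_X' _ _ z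
  have hfinal : ∀ x, β'' (α' x) = φ x := fun x => by
    have hβW : ∀ i, β'' (W i) = L (γ i) := fun i => by
      simp only [W, map_sum, map_smul, hβX, ← hl]
    rw [hα', map_add, hβι]
    simp only [Dd, map_sum, map_mul, hβι, hβW]
    have h1 : ∀ i, β (α (s (KaehlerDifferential.D R B x) i)) * L (γ i) = φ (s (KaehlerDifferential.D R B x) i) * L (γ i) :=
      fun i => by
        have h0 := mul_eq_zero_of_mem_map K hK (hβ (s (KaehlerDifferential.D R B x) i)) (hL (γ i))
        linear_combination h0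
    simp only [h1, ← hsm, ← map_smul, ← map_sum, hγ]
    rw [Derivation.liftKaehlerDifferential_comp_D, hδ]
    ring
  refine ⟨B'', inferInstance, inferInstance, inferInstance, (Ideal.Quotient.liftₐ J α' hαJ).comp g, β'', ?_⟩
  rw [← hkg]
  refine AlgHom.ext fun a => ?_
  obtain ⟨c, hc⟩ := Ideal.Quotient.mk_surjective (g a)
  simp only [AlgHom.comp_apply]
  rw [← hc]
  exact hfinal c

theorem indSmooth_congr {R' Λ Λ' : Type u} [CommRing R'] [CommRing Λ] [CommRing Λ'] [Algebra R Λ] [Algebra R' Λ']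
    (e : R ≃+* R') (eΛ : Λ ≃+* Λ') (he : ∀ r, eΛ (algebraMap R Λ r) = algebraMap R' Λ' (e r))
    (h : Smoothing.IndSmooth R Λ) : Smoothing.IndSmooth R' Λ' := by
  intro A _ _ hA f
  letI : Algebra R R' := e.toRingHom.toAlgebra
  letI : Algebra R A := Algebra.compHom A e.toRingHom
  haveI : IsScalarTower R R' A := IsScalarTower.of_algebraMap_eq fun _ => rfl
  haveI : Algebra.FinitePresentation R R' := RingHom.FinitePresentation.of_bijective e.bijective
  haveI := hA
  haveI : Algebra.FinitePresentation R A := Algebra.FinitePresentation.trans R R' A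
  let f' : A →ₐ[R] Λ :=
    { eΛ.symm.toRingHom.comp f.toRingHom with
      commutes' := fun r => by
        change eΛ.symm (f (algebraMap R' A (e r))) = _
        rw [f.commutes, ← he, RingEquiv.symm_apply_apply] }
  obtain ⟨B, _, _, hB, g, k, hkg⟩ := h A inferInstance f'
  letI : Algebra R' B := Algebra.compHom B e.symm.toRingHom
  letI : Algebra R' R := e.symm.toRingHom.toAlgebra
  haveI : IsScalarTower R' R B := IsScalarTower.of_algebraMap_eq fun _ => rfl
  let e' : R' ≃ₐ[R'] R := AlgEquiv.ofRingEquiv (f := e.symm) fun _ => rfl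
  haveI : Algebra.Smooth R' R := Algebra.Smooth.of_equiv e'
  haveI := hB
  haveI : Algebra.Smooth R' B := Algebra.Smooth.comp R' R B
  refine ⟨B, inferInstance, inferInstance, inferInstance,
    { g.toRingHom with
      commutes' := fun r => by
        change g (algebraMap R' A r) = algebraMap R B (e.symm r)
        rw [← g.commutes]
        congr 1
        change _ = algebraMap R' A (e (e.symm r))
        rw [e.apply_symm_apply] },
    { eΛ.toRingHom.comp k.toRingHom with
      commutes' := fun r => by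
        change eΛ (k (algebraMap R B (e.symm r))) = _
        rw [k.commutes, he, e.apply_symm_apply] }, AlgHom.ext fun a => ?_⟩
  change eΛ (k (g a)) = f a
  rw [← AlgHom.comp_apply k, hkg]
  exact eΛ.apply_symm_apply (f a)

end Groth.Agent.SmoothingLib

namespace Groth.Agent.SmoothingLib

theorem flat_quotient_map {R Λ : Type u} [CommRing R] [CommRing Λ] [Algebra R Λ] [Module.Flat R Λ] (K : Ideal R) :
    Module.Flat (R ⧸ K) (Λ ⧸ K.map (algebraMap R Λ)) :=
  Module.Flat.of_linearEquiv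
    ((Algebra.TensorProduct.quotIdealMapEquivQuotTensor Λ K).toLinearEquiv)

theorem indSmooth_of_nilpotent {R Λ : Type u} [CommRing R] [CommRing Λ] [Algebra R Λ] [Module.Flat R Λ]
    (I : Ideal R) (hI : IsNilpotent I) (h : Smoothing.IndSmooth (R ⧸ I) (Λ ⧸ I.map (algebraMap R Λ))) :
    Smoothing.IndSmooth R Λ := by
  obtain ⟨n, hn⟩ := hI
  induction n using Nat.strong_induction_on generalizing R Λ with
  | _ n ih =>
    rcases le_or_gt n 2 with hle | hlt
    · refine indSmooth_of_square_zero I ?_ h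
      exact le_antisymm (le_trans (Ideal.pow_le_pow_right hle) (le_of_eq hn)) bot_le
    · let K := I ^ 2
      have hK : K ^ (n - 1) = ⊥ := by
        rw [← pow_mul]
        exact le_antisymm (le_trans (Ideal.pow_le_pow_right (by omega)) (le_of_eq hn)) bot_le
      refine ih (n - 1) (by omega) K ?_ hK
      let π := Ideal.Quotient.mk K
      let I' : Ideal (R ⧸ K) := I.map π
      haveI : Module.Flat (R ⧸ K) (Λ ⧸ K.map (algebraMap R Λ)) := flat_quotient_map K
      refine indSmooth_of_square_zero I' (by rw [← Ideal.map_pow]; exact Ideal.map_quotient_self K) ?_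
      have hKI : K ≤ I := Ideal.pow_le_self two_ne_zero
      let e : R ⧸ I ≃+* (R ⧸ K) ⧸ I' :=
        ((Ideal.quotEquivOfEq (sup_eq_right.2 hKI).symm).trans (DoubleQuot.quotQuotEquivQuotSup K I).symm)
      let IΛ := I.map (algebraMap R Λ)
      let KΛ := K.map (algebraMap R Λ)
      have hI' : I'.map (algebraMap (R ⧸ K) (Λ ⧸ KΛ)) = IΛ.map (Ideal.Quotient.mk KΛ) := by
        rw [Ideal.map_map, Ideal.map_map]
        rfl
      let eΛ : Λ ⧸ IΛ ≃+* (Λ ⧸ KΛ) ⧸ I'.map (algebraMap (R ⧸ K) (Λ ⧸ KΛ)) :=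
        ((Ideal.quotEquivOfEq (sup_eq_right.2 (Ideal.map_mono hKI : KΛ ≤ IΛ)).symm).trans
          (DoubleQuot.quotQuotEquivQuotSup KΛ IΛ).symm).trans (Ideal.quotEquivOfEq hI'.symm)
      refine indSmooth_congr e eΛ (fun r => ?_) h
      obtain ⟨r, rfl⟩ := Ideal.Quotient.mk_surjective r
      rfl

end Groth.Agent.SmoothingLib
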