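import Groth.Agent.SmoothingLib.Desingularize
import Groth.Agent.S6829

/-!
# Relative Néron desingularization
-/

universe u

open TensorProduct

namespace Groth.Agent.SmoothingLib

/-- A power of an element of the singular ideal kills the square torsion defect. -/
theorem exists_pow_ann {R D : Type u} [CommRing R] [IsNoetherianRing R] [CommRing D] [Algebra R D]
    [Algebra.FinitePresentation R D] (π : R) (hR : ∀ r : R, π ^ 2 * r = 0 → π * r = 0) {r : D}
    (hr : r ∈ Smoothing.singularIdeal R D) :
    ∃ N : ℕ, ∀ x : D, algebraMap R D π ^ 2 * x = 0 → algebraMap R D π * (r ^ N * x) = 0 := by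
  haveI : IsNoetherianRing D := Algebra.FiniteType.isNoetherianRing R D
  haveI := smooth_away_of_mem_singularIdeal hr
  let K : ℕ →o Ideal D :=
    ⟨fun N => LinearMap.ker (LinearMap.mulLeft D (algebraMap R D π * r ^ N)), fun a b hab x hx => by
      simp only [LinearMap.mem_ker, LinearMap.mulLeft_apply] at hx ⊢
      obtain ⟨d, rfl⟩ := Nat.exists_eq_add_of_le hab
      rw [pow_add, show algebraMap R D π * (r ^ a * r ^ d) * x = r ^ d * (algebraMap R D π * r ^ a * x) by ring, hx,
        mul_zero]⟩
  have hK : ∀ N y, y ∈ K N ↔ algebraMap R D π * r ^ N * y = 0 := fun _ _ => Iff.rfl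
  obtain ⟨N, hN⟩ := monotone_stabilizes_iff_noetherian.2 (inferInstance : IsNoetherian D D) K
  refine ⟨N, fun x hx => ?_⟩
  have h1 : algebraMap R (Localization.Away r) π ^ 2 * algebraMap D _ x = 0 := by
    rw [IsScalarTower.algebraMap_apply R D (Localization.Away r), ← map_pow, ← map_mul, hx, map_zero]
  have h2 := ann_sq_of_flat π 1 (fun y hy => by rw [one_mul]; exact hR y hy) _ h1
  rw [map_one, one_mul, IsScalarTower.algebraMap_apply R D (Localization.Away r), ← map_mul] at h2
  obtain ⟨⟨_, k, rfl⟩, hk⟩ := (IsLocalization.map_eq_zero_iff (Submonoid.powers r) _ _).1 h2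
  have hxk : x ∈ K k := by
    rw [hK]
    rw [mul_comm (algebraMap R D π), mul_assoc]
    exact hk
  have : x ∈ K N := by
    rcases Nat.le_total k N with h | h
    · exact K.monotone h hxk
    · rw [hN k h]; exact hxk
  rw [hK] at this
  rw [← mul_assoc]
  exact this

theorem mem_singularIdeal_of_tower {R D B : Type u} [CommRing R] [CommRing D] [CommRing B]
    [Algebra R D] [Algebra D B] [Algebra R B] [IsScalarTower R D B] [Algebra.FinitePresentation R D]
    [Algebra.FinitePresentation D B] [Algebra.FinitePresentation R B] {r : D}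
    (hr : r ∈ Smoothing.singularIdeal R D) (hb : algebraMap D B r ∈ Smoothing.singularIdeal D B) :
    algebraMap D B r ∈ Smoothing.singularIdeal R B := by
  haveI := smooth_away_of_mem_singularIdeal hr
  haveI := smooth_away_of_mem_singularIdeal hb
  refine mem_singularIdeal_of_smooth ?_
  let Dr := Localization.Away r
  let Br := Localization.Away (algebraMap D B r)
  letI : Algebra Dr Br := (IsLocalization.Away.lift r (g := algebraMap D Br) (by
    rw [IsScalarTower.algebraMap_apply D B Br]; exact IsLocalization.Away.algebraMap_isUnit _)).toAlgebra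
  haveI : IsScalarTower D Dr Br := IsScalarTower.of_algebraMap_eq fun x => (IsLocalization.Away.lift_eq r _ x).symm
  haveI : IsScalarTower R Dr Br := IsScalarTower.of_algebraMap_eq fun x => by
    rw [IsScalarTower.algebraMap_apply R D Dr, ← IsScalarTower.algebraMap_apply D Dr Br,
      ← IsScalarTower.algebraMap_apply R D Br]
  haveI : Algebra.FormallyEtale D Dr := Algebra.FormallyEtale.of_isLocalization (.powers r)
  haveI : Algebra.FormallySmooth Dr Br := Algebra.FormallySmooth.of_restrictScalars D Dr Br
  haveI : Algebra.FormallySmooth R Br := Algebra.FormallySmooth.comp R Dr Br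
  haveI : Algebra.FinitePresentation R Br := Algebra.FinitePresentation.trans R B Br
  exact ⟨inferInstance, inferInstance⟩

theorem exists_relative_desingularization {R Λ A D : Type u} [CommRing R] [IsNoetherianRing R]
    [CommRing Λ] [Algebra R Λ] (π : R) (hR : ∀ r : R, π ^ 2 * r = 0 → π * r = 0)
    (hΛ : ∀ x : Λ, π ^ 2 • x = 0 → π • x = 0) [CommRing A] [Algebra R A]
    [Algebra.FinitePresentation R A] [CommRing D] [Algebra R D] [Algebra.FinitePresentation R D]
    (φ : A →ₐ[R] Λ) (δ : D →ₐ[R] Λ) (hπ : Smoothing.IsStrictlyStandard R A (algebraMap R A π))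
    (ψ : A →ₐ[R] D ⧸ Ideal.span {algebraMap R D (π ^ 4)})
    (hψ : ∀ (a : A) (d : D), Ideal.Quotient.mk (Ideal.span {algebraMap R D (π ^ 4)}) d = ψ a →
      δ d - φ a ∈ Ideal.span {algebraMap R Λ (π ^ 4)}) :
    ∃ (B : Type u) (_ : CommRing B) (_ : Algebra R B) (_ : Algebra D B) (_ : IsScalarTower R D B),
      Algebra.FinitePresentation R B ∧
      ∃ (α : A →ₐ[R] B) (β : B →ₐ[R] Λ), β.comp α = φ ∧
        β.comp (IsScalarTower.toAlgHom R D B) = δ ∧
        (Smoothing.singularIdeal R D).map (algebraMap D B) ≤ Smoothing.singularIdeal D B ∧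
        (Smoothing.singularIdeal R D).map (algebraMap D B) ≤ Smoothing.singularIdeal R B := by
  classical
  haveI : IsNoetherianRing D := Algebra.FiniteType.isNoetherianRing R D
  letI : Algebra D Λ := δ.toRingHom.toAlgebra
  haveI : IsScalarTower R D Λ := IsScalarTower.of_algebraMap_eq fun x => (δ.commutes x).symm
  let p := algebraMap R D π
  let A' := D ⊗[R] A
  let φ' : A' →ₐ[D] Λ := Algebra.TensorProduct.lift (Algebra.ofId D Λ) φ (fun _ _ => Commute.all _ _)
  have hp4 : Ideal.span {p ^ 4} = Ideal.span {algebraMap R D (π ^ 4)} := by rw [map_pow]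
  let ψ₁ : A →ₐ[R] D ⧸ Ideal.span {p ^ 4} :=
    ((Ideal.quotientEquivAlgOfEq R hp4.symm).toAlgHom).comp ψ
  let ρ : A' →ₐ[D] D ⧸ Ideal.span {p ^ 4} :=
    Algebra.TensorProduct.lift (Algebra.ofId D _) ψ₁ (fun _ _ => Commute.all _ _)
  have hstd : Smoothing.IsStrictlyStandard D A' (algebraMap D A' p) := by
    have := (Groth.Agent.S6829.result (R' := D) (algebraMap R A π)).2 hπ
    convert this using 1
    rw [show (1 : D) ⊗ₜ[R] algebraMap R A π = algebraMap R A' π from AlgHom.commutes Algebra.TensorProduct.includeRight π]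
    exact (IsScalarTower.algebraMap_apply R D A' π).symm
  have hΛ' : ∀ x : Λ, p ^ 2 • x = 0 → p • x = 0 := fun x hx => by
    simp only [p, ← map_pow, algebraMap_smul] at hx ⊢
    exact hΛ x hx
  have hρ : ∀ (a : A') (d : D), Ideal.Quotient.mk (Ideal.span {p ^ 4}) d = ρ a →
      algebraMap D Λ d - φ' a ∈ Ideal.span {algebraMap D Λ (p ^ 4)} := by
    have hI : ∀ x ∈ Ideal.span {p ^ 4}, algebraMap D Λ x ∈ Ideal.span {algebraMap D Λ (p ^ 4)} := fun x hx => by
      obtain ⟨y, rfl⟩ := Ideal.mem_span_singleton'.1 hx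
      rw [map_mul]; exact Ideal.mul_mem_left _ _ (Ideal.mem_span_singleton_self _)
    intro a
    induction a using TensorProduct.induction_on with
    | zero =>
      intro d hd
      rw [map_zero, Ideal.Quotient.eq_zero_iff_mem] at hd
      rw [map_zero, sub_zero]; exact hI d hd
    | tmul d' a =>
      intro d hd
      obtain ⟨da, hda⟩ := Ideal.Quotient.mk_surjective (ψ a)
      have h1 := hψ a da hda
      have h2 : Ideal.Quotient.mk (Ideal.span {p ^ 4}) d = Ideal.Quotient.mk _ (d' * da) := by
        rw [hd, map_mul]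
        rw [show ρ (d' ⊗ₜ[R] a) = algebraMap D (D ⧸ Ideal.span {p ^ 4}) d' * ψ₁ a from
          Algebra.TensorProduct.lift_tmul _ _ _ _ _, Ideal.Quotient.algebraMap_eq]
        congr 1
        change Ideal.quotientEquivAlgOfEq R hp4.symm (ψ a) = _
        rw [← hda]; rfl
      have h3 := hI _ (Ideal.Quotient.eq.1 h2)
      rw [map_sub, map_mul] at h3
      have h4 : δ da - φ a ∈ Ideal.span {algebraMap D Λ (p ^ 4)} := by
        rw [show algebraMap D Λ (p ^ 4) = algebraMap R Λ (π ^ 4) by
          simp only [p, ← map_pow, ← IsScalarTower.algebraMap_apply]]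
        exact h1
      have h5 := add_mem h3 (Ideal.mul_mem_left _ (δ d') h4)
      rw [show φ' (d' ⊗ₜ[R] a) = algebraMap D Λ d' * φ a from Algebra.TensorProduct.lift_tmul _ _ _ _ _]
      convert h5 using 1
      change δ d - δ d' * φ a = δ d - δ d' * δ da + δ d' * (δ da - φ a)
      ring
    | add a b ha hb =>
      intro d hd
      obtain ⟨da, hda⟩ := Ideal.Quotient.mk_surjective (ρ a)
      obtain ⟨db, hdb⟩ := Ideal.Quotient.mk_surjective (ρ b)
      have h2 : Ideal.Quotient.mk (Ideal.span {p ^ 4}) d = Ideal.Quotient.mk _ (da + db) := by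
        rw [hd, map_add, map_add, hda, hdb]
      have h3 := add_mem (hI _ (Ideal.Quotient.eq.1 h2)) (add_mem (ha da hda) (hb db hdb))
      rw [map_sub, map_add] at h3
      convert h3 using 1
      rw [map_add]; ring
  obtain ⟨B, iB, iDB, hB, α', β', hβα, hsing⟩ := exists_desingularization p hΛ' φ' hstd ρ hρ
  letI : Algebra R B := Algebra.compHom B (algebraMap R D)
  haveI : IsScalarTower R D B := IsScalarTower.of_algebraMap_eq fun _ => rfl
  haveI hRB : Algebra.FinitePresentation R B := Algebra.FinitePresentation.trans R D B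
  have hle : ∀ r ∈ Smoothing.singularIdeal R D, algebraMap D B r ∈ Smoothing.singularIdeal D B := fun r hr => by
    obtain ⟨N, hN⟩ := exists_pow_ann π hR hr
    have hrad : (Smoothing.singularIdeal D B).IsRadical := PrimeSpectrum.isRadical_vanishingIdeal _
    exact hrad ⟨N, by rw [← map_pow]; exact hsing (r ^ N) hN⟩
  refine ⟨B, iB, inferInstance, iDB, inferInstance, hRB, (α'.restrictScalars R).comp Algebra.TensorProduct.includeRight,
    β'.restrictScalars R, AlgHom.ext fun a => ?_, AlgHom.ext fun d => β'.commutes d, ?_, ?_⟩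
  · have := AlgHom.congr_fun hβα ((1 : D) ⊗ₜ[R] a)
    refine this.trans ((Algebra.TensorProduct.lift_tmul _ _ _ _ _).trans ?_)
    simp
  · exact Ideal.map_le_iff_le_comap.2 fun r hr => hle r hr
  · exact Ideal.map_le_iff_le_comap.2 fun r hr => mem_singularIdeal_of_tower hr (hle r hr)

end Groth.Agent.SmoothingLib
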