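import Groth.Agent.SmoothingLib.Lifting2
import Groth.Agent.SmoothingLib.Desingularize2

/-!
# Desingularization combined with lifting
-/

universe u

namespace Groth.Agent.SmoothingLib

theorem smul_eq_zero_of_pow {R M : Type*} [CommRing R] [AddCommGroup M] [Module R M] (π : R)
    (h : ∀ x : M, π ^ 2 • x = 0 → π • x = 0) : ∀ (k : ℕ) (x : M), π ^ (k + 1) • x = 0 → π • x = 0 := by
  intro k
  induction k with
  | zero => intro x hx; simpa using hx
  | succ k ih =>
    intro x hx
    refine h x ?_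
    rw [pow_two, mul_smul]
    exact ih _ (by rwa [smul_smul, ← pow_succ])

theorem exists_desingularize_lifting {R Λ A C : Type u} [CommRing R] [IsNoetherianRing R] [CommRing Λ]
    [Algebra R Λ] (π ϖ σ : R) (hϖ : ϖ = π ^ 4) (hσ : σ = ϖ ^ 2) (hR : ∀ r : R, π ^ 2 * r = 0 → π * r = 0)
    (hΛ : ∀ x : Λ, π ^ 2 • x = 0 → π • x = 0) [CommRing A] [Algebra R A]
    [Algebra.FinitePresentation R A] (φ : A →ₐ[R] Λ)
    (hπ : Smoothing.IsStrictlyStandard R A (algebraMap R A π))
    [CommRing C] [Algebra R C] [Algebra (R ⧸ Ideal.span {σ}) C] [IsScalarTower R (R ⧸ Ideal.span {σ}) C]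
    [Algebra.FinitePresentation (R ⧸ Ideal.span {σ}) C]
    (γ : A →ₐ[R] C) (g : C →ₐ[R] Λ ⧸ Ideal.span {algebraMap R Λ σ})
    (hfac : ∀ a : A, g (γ a) = Ideal.Quotient.mk (Ideal.span {algebraMap R Λ σ}) (φ a)) :
    ∃ (B : Type u) (_ : CommRing B) (_ : Algebra R B), Algebra.FinitePresentation R B ∧
      ∃ (α : A →ₐ[R] B) (β : B →ₐ[R] Λ), β.comp α = φ ∧
        (∀ (Q : Ideal B) [Q.IsPrime], algebraMap R B π ∉ Q → Algebra.IsSmoothAt R Q) ∧
        (Smoothing.singularIdeal (R ⧸ Ideal.span {σ}) C).map g ≤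
          ((Smoothing.singularIdeal R B).map β).radical.map (Ideal.Quotient.mk (Ideal.span {algebraMap R Λ σ})) := by
  classical
  subst hσ
  have hRϖ : ∀ r : R, ϖ ^ 2 * r = 0 → ϖ * r = 0 := fun r hr => by
    rw [hϖ, ← pow_mul] at hr
    have := smul_eq_zero_of_pow π (M := R) (fun x hx => hR x hx) 7 r hr
    rw [hϖ, show π ^ 4 * r = π ^ 3 * (π • r) by rw [smul_eq_mul]; ring, this, mul_zero]
  have hΛϖ : ∀ x : Λ, ϖ ^ 2 • x = 0 → ϖ • x = 0 := fun x hx => by
    rw [hϖ, ← pow_mul] at hx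
    rw [hϖ, show π ^ 4 • x = π ^ 3 • (π • x) by rw [smul_smul, ← pow_succ], smul_eq_zero_of_pow π hΛ 7 x hx, smul_zero]
  obtain ⟨D, iD, iRD, hD, δ, ψ, hcomp, haway, hat⟩ := exists_lifting ϖ hRϖ hΛϖ g
  subst hϖ
  obtain ⟨B, iB, iRB, iDB, iTower, hB, α, β, hβα, hβδ, -, hsingB⟩ := exists_relative_desingularization π hR hΛ φ δ hπ
    (ψ.comp γ) (fun a d hd => by
      have := hcomp (γ a) d (φ a) hd (hfac a).symm
      exact this)
  have hDmem : ∀ d : D, (∀ (Q : Ideal D) (hQ : Q.IsPrime), ¬ @Algebra.IsSmoothAt R D _ _ _ Q hQ → d ∈ Q) →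
      d ∈ Smoothing.singularIdeal R D := fun d hd => by
    rw [Smoothing.singularIdeal, PrimeSpectrum.mem_vanishingIdeal]
    exact fun q hq => hd q.asIdeal q.isPrime hq
  have hπD : algebraMap R D π ∈ Smoothing.singularIdeal R D := hDmem _ fun Q hQ hns => by
    by_contra hh
    exact hns (@haway Q hQ fun h4 => hh (hQ.mem_of_pow_mem 4 (by rwa [← map_pow])))
  have hπB : algebraMap R B π ∈ Smoothing.singularIdeal R B := by
    rw [IsScalarTower.algebraMap_apply R D B]
    exact hsingB (Ideal.mem_map_of_mem _ hπD)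
  refine ⟨B, iB, iRB, hB, α, β, hβα, fun Q hQ hπQ => ?_, Ideal.map_le_iff_le_comap.2 fun c hc => ?_⟩
  · by_contra hns
    exact hπQ ((PrimeSpectrum.mem_vanishingIdeal _ _).1 hπB ⟨Q, hQ⟩ hns)
  · obtain ⟨d, hd⟩ := Ideal.Quotient.mk_surjective (ψ c)
    obtain ⟨l, hl⟩ := Ideal.Quotient.mk_surjective (g c)
    have hdS : d ∈ Smoothing.singularIdeal R D := hDmem d fun Q hQ hns => by
      by_cases h4 : algebraMap R D (π ^ 4) ∈ Q
      · let I := Ideal.span {algebraMap R D (π ^ 4)}
        have hIQ : I ≤ Q := (Ideal.span_singleton_le_iff_mem _).2 h4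
        let Qb := Q.map (Ideal.Quotient.mk I)
        have hcm : Qb.comap (Ideal.Quotient.mk I) = Q := by
          rw [Ideal.comap_map_of_surjective _ Ideal.Quotient.mk_surjective, sup_eq_left]
          refine le_trans (fun x hx => ?_) hIQ
          exact Ideal.Quotient.eq_zero_iff_mem.1 hx
        haveI : Qb.IsPrime := Ideal.map_isPrime_of_surjective Ideal.Quotient.mk_surjective
          (by rw [Ideal.mk_ker]; exact hIQ)
        by_contra hdQ
        haveI : (Qb.comap ψ).IsPrime := Ideal.comap_isPrime ψ.toRingHom Qb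
        have hsm : Algebra.IsSmoothAt (R ⧸ Ideal.span {(π ^ 4) ^ 2}) (Qb.comap ψ) := by
          by_contra hn
          have hcQ := (PrimeSpectrum.mem_vanishingIdeal _ _).1 hc ⟨Qb.comap ψ, inferInstance⟩ hn
          change ψ c ∈ Qb at hcQ
          rw [← hd, ← Ideal.mem_comap, hcm] at hcQ
          exact hdQ hcQ
        have := @hat Qb inferInstance hsm
        simp only [I] at hcm
        simp only [Qb, I] at this
        refine hns ?_
        convert this using 1
        exact hcm.symm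
      · exact absurd (@haway Q hQ h4) hns
    have h1 := hcomp c d l hd hl
    have hδd : δ d ∈ (Smoothing.singularIdeal R B).map β := by
      rw [← hβδ]
      exact Ideal.mem_map_of_mem β (hsingB (Ideal.mem_map_of_mem _ hdS))
    have hπΛ : algebraMap R Λ π ∈ (Smoothing.singularIdeal R B).map β := by
      rw [← β.commutes]
      exact Ideal.mem_map_of_mem β hπB
    rw [Ideal.mem_comap, ← hl]
    refine Ideal.mem_map_of_mem _ (Ideal.le_radical ?_)
    have h2 : δ d - l ∈ (Smoothing.singularIdeal R B).map β :=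
      (Ideal.span_singleton_le_iff_mem _).2 (by rw [map_pow]; exact Ideal.pow_mem_of_mem _ hπΛ 4 (by norm_num)) h1
    simpa using Ideal.sub_mem _ hδd h2

end Groth.Agent.SmoothingLib
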