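import Groth.Prelude.Def_Found
import Groth.Agent.PRootLib.Main
import Groth.Agent.GeomReg.Basic
import Groth.Agent.VarDim.Basic
import Groth.Agent.CoeffField.Smooth
import Mathlib

/-!
# Derivations at a point of a geometrically regular algebra in characteristic `p`
-/

set_option autoImplicit false
set_option linter.style.haveILetI false

universe u

open IsLocalRing TensorProduct EGA41
open Groth.Agent.PRootLib (Separated rootIdeal)

namespace Groth.Agent.SmoothingLib.GeomDiff

variable (p : ℕ) [hp : Fact p.Prime]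

/-- A field of characteristic `p` has a set on which derivations take arbitrary values. -/
theorem exists_pbasis (k : Type u) [Field k] [CharP k p] :
    ∃ T : Set k, ∀ (M : Type u) [AddCommGroup M] [Module k M] (c : T → M),
      ∃! δ : Derivation ℤ k M, ∀ t : T, δ t = c t := by
  classical
  let k₀ : Subfield k := (frobenius k p).fieldRange
  obtain ⟨T, -, -, hTb⟩ := PBasisLib.exists_isPBasis p k₀ (L := (∅ : Set k)) (S := Set.univ) (Set.empty_subset _)
    (fun t ht => absurd ht (Set.notMem_empty t))
    (eq_top_iff.mpr fun y _ => PBasisLib.subset_Fp p k₀ _ (Set.mem_univ y))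
  refine ⟨T, fun M _ _ c => ?_⟩
  have hzero : ∀ (δ : Derivation ℤ k M) (s : pPowerSubalgebra p k₀ k), δ (s : k) = 0 := by
    intro δ s
    have h : ∀ y : k, δ (y ^ p) = 0 := fun y => by
      rw [Derivation.leibniz_pow, ← Nat.cast_smul_eq_nsmul k, CharP.cast_eq_zero, zero_smul]
    obtain ⟨s, hs⟩ := s
    show δ s = 0
    induction hs using Algebra.adjoin_induction with
    | mem z hz => obtain ⟨y, rfl⟩ := hz; exact h y
    | algebraMap r => obtain ⟨_, y, rfl⟩ := r; exact h y
    | add _ _ _ _ h1 h2 => rw [map_add, h1, h2, add_zero]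
    | mul _ _ _ _ h1 h2 => rw [Derivation.leibniz, h1, h2, smul_zero, smul_zero, add_zero]
  obtain ⟨D, ⟨-, hD⟩, huniq⟩ := PBasisLib.existsUnique_derivation_int hTb (L := M)
    (0 : pPowerSubalgebra p k₀ k →+ M) (by simp) (by simp) c
  exact ⟨D, hD, fun δ hδ => huniq δ ⟨fun s => by simpa using hzero δ s, hδ⟩⟩

variable {k : Type u} [Field k] [CharP k p]

/-- Finite subsets of such a set are separated by derivations. -/
theorem separated_of_pbasis {T : Set k}
    (hT : ∀ (M : Type u) [AddCommGroup M] [Module k M] (c : T → M), ∃! δ : Derivation ℤ k M, ∀ t : T, δ t = c t)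
    {r : ℕ} (t : Fin r → T) (ht : Function.Injective t) : Separated (fun i => (t i : k)) := by
  classical
  intro i
  obtain ⟨D, hD, -⟩ := hT (ResidueField k) (fun s => if s = t i then 1 else 0)
  refine ⟨D, fun l => ?_⟩
  rw [hD]
  exact if_congr ht.eq_iff rfl rfl

omit [CharP k p] in
theorem module_finite_rootQuot {r : ℕ} (t : Fin r → k) :
    Module.Finite k (MvPolynomial (Fin r) k ⧸ rootIdeal p t) := by
  haveI : Algebra.IsIntegral k (MvPolynomial (Fin r) k ⧸ rootIdeal p t) := by
    refine ⟨fun b => ?_⟩
    obtain ⟨P, rfl⟩ := Ideal.Quotient.mk_surjective b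
    induction P using MvPolynomial.induction_on with
    | C a => exact isIntegral_algebraMap (R := k) (x := a)
    | add f g hf hg => rw [map_add]; exact hf.add hg
    | mul_X f i hf =>
      rw [map_mul]
      refine hf.mul ⟨Polynomial.X ^ p - Polynomial.C (t i), Polynomial.monic_X_pow_sub_C _ hp.out.ne_zero, ?_⟩
      rw [Polynomial.eval₂_sub, Polynomial.eval₂_pow, Polynomial.eval₂_X, Polynomial.eval₂_C, ← map_pow]
      exact (Ideal.Quotient.eq_zero_iff_mem.2 (Ideal.subset_span ⟨i, rfl⟩) : Ideal.Quotient.mk (rootIdeal p t) _ = 0) |>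
        fun h => by rw [map_sub] at h; exact h
  exact Algebra.IsIntegral.finite

theorem isField_rootQuot {r : ℕ} {t : Fin r → k} (ht : Separated t) :
    IsField (MvPolynomial (Fin r) k ⧸ rootIdeal p t) := by
  haveI := module_finite_rootQuot p t
  obtain ⟨hloc, -, hiff⟩ := PRootLib.main p r t
  haveI := hloc
  haveI : IsNoetherianRing (MvPolynomial (Fin r) k ⧸ rootIdeal p t) := IsNoetherianRing.of_finite k _
  rw [← IsLocalRing.finrank_cotangentSpace_eq_zero_iff, ← hiff.2 ht, IsLocalRing.finrank_cotangentSpace_eq_zero]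

section Regular

variable {L : Type u} [CommRing L] [Algebra k L] [IsRegularLocalRing L]

omit [CharP k p] [IsRegularLocalRing L] in
theorem exists_equiv_baseChange {r : ℕ} (t : Fin r → k) :
    ∃ e : (MvPolynomial (Fin r) L ⧸ rootIdeal p (fun i => algebraMap k L (t i))) ≃+*
      ((MvPolynomial (Fin r) k ⧸ rootIdeal p t) ⊗[k] L), ∀ l, e (algebraMap L _ l) = 1 ⊗ₜ l := by
  set I := rootIdeal p t
  set J := rootIdeal p (fun i => algebraMap k L (t i))
  let B := MvPolynomial (Fin r) k ⧸ I
  letI : CommRing B := Ideal.Quotient.commRing _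
  let inR : L →+* B ⊗[k] L := (Algebra.TensorProduct.includeRight : L →ₐ[k] B ⊗[k] L).toRingHom
  let xs : Fin r → B ⊗[k] L := fun i => (Ideal.Quotient.mk I (MvPolynomial.X i) : B) ⊗ₜ[k] (1 : L)
  let θ₀ : MvPolynomial (Fin r) L →+* B ⊗[k] L := MvPolynomial.eval₂Hom inR xs
  have hθ₀ : ∀ q ∈ J, θ₀ q = 0 := by
    refine PRootLib.rootIdeal_map_le p _ θ₀ fun i => ?_
    simp only [θ₀, inR, xs, MvPolynomial.eval₂Hom_X', MvPolynomial.eval₂Hom_C, AlgHom.toRingHom_eq_coe, RingHom.coe_coe,
      Algebra.TensorProduct.includeRight_apply, Algebra.TensorProduct.tmul_pow, one_pow, ← map_pow]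
    rw [show Ideal.Quotient.mk I (MvPolynomial.X i ^ p) = algebraMap k B (t i) from
      Ideal.Quotient.eq.mpr (Ideal.subset_span ⟨i, rfl⟩), Algebra.algebraMap_eq_smul_one, TensorProduct.smul_tmul,
      ← Algebra.algebraMap_eq_smul_one]
  let θ : MvPolynomial (Fin r) L ⧸ J →+* B ⊗[k] L := Ideal.Quotient.lift J θ₀ hθ₀
  let α₀ : MvPolynomial (Fin r) k →ₐ[k] MvPolynomial (Fin r) L ⧸ J :=
    MvPolynomial.aeval fun i => Ideal.Quotient.mk J (MvPolynomial.X i)
  have hα₀ : ∀ q ∈ I, α₀ q = 0 := by
    refine PRootLib.rootIdeal_map_le p _ α₀.toRingHom fun i => ?_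
    simp only [α₀, AlgHom.toRingHom_eq_coe, RingHom.coe_coe, MvPolynomial.aeval_X, MvPolynomial.aeval_C, ← map_pow]
    exact Ideal.Quotient.eq.mpr (Ideal.subset_span ⟨i, rfl⟩)
  let ψ : B ⊗[k] L →ₐ[k] MvPolynomial (Fin r) L ⧸ J :=
    Algebra.TensorProduct.lift (Ideal.Quotient.liftₐ I α₀ hα₀) (IsScalarTower.toAlgHom k L _) fun _ _ => Commute.all _ _
  have hθX : ∀ i, θ (Ideal.Quotient.mk J (MvPolynomial.X i)) = xs i := fun i => MvPolynomial.eval₂Hom_X' _ _ i
  have hθC : ∀ l, θ (Ideal.Quotient.mk J (MvPolynomial.C l)) = (1 : B) ⊗ₜ[k] l := fun l => MvPolynomial.eval₂Hom_C _ _ l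
  let iL : B →+* B ⊗[k] L := Algebra.TensorProduct.includeLeftRingHom
  have hleft : θ.comp α₀.toRingHom = iL.comp (Ideal.Quotient.mk I) := by
    refine MvPolynomial.ringHom_ext (fun a => ?_) fun i => ?_
    · show θ (α₀ (MvPolynomial.C a)) = algebraMap k B a ⊗ₜ[k] (1 : L)
      rw [MvPolynomial.algHom_C, IsScalarTower.algebraMap_apply k L]
      exact (hθC _).trans (Algebra.TensorProduct.algebraMap_apply' a).symm
    · show θ (α₀ (MvPolynomial.X i)) = _
      rw [MvPolynomial.aeval_X]
      exact hθX i
  have hψX : ∀ i, ψ (xs i) = Ideal.Quotient.mk J (MvPolynomial.X i) := fun i => by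
    show Ideal.Quotient.liftₐ I α₀ hα₀ (Ideal.Quotient.mk I (MvPolynomial.X i)) * IsScalarTower.toAlgHom k L _ (1 : L) = _
    rw [map_one, mul_one]
    exact MvPolynomial.aeval_X _ i
  refine ⟨RingEquiv.ofRingHom θ ψ.toRingHom ?_ ?_, fun l => MvPolynomial.eval₂Hom_C _ _ l⟩
  · refine RingHom.ext fun x => ?_
    show θ (ψ x) = x
    induction x using TensorProduct.induction_on with
    | zero => simp
    | add x y hx hy => simp only [map_add, hx, hy]
    | tmul b l =>
      obtain ⟨q, rfl⟩ := Ideal.Quotient.mk_surjective b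
      rw [show (Ideal.Quotient.mk I q ⊗ₜ[k] l : B ⊗[k] L) = (Ideal.Quotient.mk I q ⊗ₜ[k] 1) * (1 ⊗ₜ[k] l) by simp,
        map_mul ψ, map_mul θ]
      congr 1
      · simp only [ψ, Algebra.TensorProduct.lift_tmul, map_one, mul_one]
        show θ (α₀ q) = _
        exact RingHom.congr_fun hleft q
      · simp only [ψ, Algebra.TensorProduct.lift_tmul, map_one, one_mul]
        exact hθC l
  · apply Ideal.Quotient.ringHom_ext
    apply MvPolynomial.ringHom_ext
    · intro a
      show ψ (θ (Ideal.Quotient.mk J (MvPolynomial.C a))) = Ideal.Quotient.mk J (MvPolynomial.C a)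
      rw [hθC]
      show Ideal.Quotient.liftₐ I α₀ hα₀ (1 : B) * IsScalarTower.toAlgHom k L _ a = _
      rw [map_one, one_mul]
      rfl
    · intro i
      show ψ (θ (Ideal.Quotient.mk J (MvPolynomial.X i))) = Ideal.Quotient.mk J (MvPolynomial.X i)
      rw [hθX, hψX]

/-- Separated elements of the base stay separated in a geometrically regular local algebra. -/
theorem separated_algebraMap [CharP L p] (hL : CAlg.IsGeometricallyRegular k L) {r : ℕ} {t : Fin r → k}
    (ht : Separated t) : Separated (fun i => algebraMap k L (t i)) := by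
  haveI := module_finite_rootQuot p t
  letI := (isField_rootQuot p ht).toField
  haveI := hL (MvPolynomial (Fin r) k ⧸ rootIdeal p t) inferInstance
  obtain ⟨e, he⟩ := exists_equiv_baseChange p (L := L) t
  haveI : IsRegularRing (MvPolynomial (Fin r) L ⧸ rootIdeal p (fun i => algebraMap k L (t i))) :=
    IsRegularRing.of_ringEquiv e.symm
  obtain ⟨hloc, -, hiff⟩ := PRootLib.main p r (fun i => algebraMap k L (t i))
  haveI := hloc
  set BL := MvPolynomial (Fin r) L ⧸ rootIdeal p (fun i => algebraMap k L (t i))
  haveI : IsRegularLocalRing BL := IsRegularLocalRing.of_isRegularRing_of_isLocalRing _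
  refine hiff.1 ?_
  have hinj : Function.Injective (algebraMap L BL) := by
    have h1 : Function.Injective (fun l : L => (1 : MvPolynomial (Fin r) k ⧸ rootIdeal p t) ⊗ₜ[k] l) :=
      Algebra.TensorProduct.includeRight_injective (algebraMap k _).injective
    intro x y hxy
    refine h1 ?_
    show (1 : MvPolynomial (Fin r) k ⧸ rootIdeal p t) ⊗ₜ[k] x = _
    rw [← he, hxy, he]
  haveI : FaithfulSMul L BL := (faithfulSMul_iff_algebraMap_injective _ _).2 hinj
  haveI : Algebra.IsIntegral L BL := by
    refine ⟨fun b => ?_⟩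
    obtain ⟨P, rfl⟩ := Ideal.Quotient.mk_surjective b
    induction P using MvPolynomial.induction_on with
    | C a => exact isIntegral_algebraMap (R := L) (x := a)
    | add f g hf hg => rw [map_add]; exact hf.add hg
    | mul_X f i hf =>
      rw [map_mul]
      refine hf.mul ⟨Polynomial.X ^ p - Polynomial.C (algebraMap k L (t i)), Polynomial.monic_X_pow_sub_C _ hp.out.ne_zero, ?_⟩
      rw [Polynomial.eval₂_sub, Polynomial.eval₂_pow, Polynomial.eval₂_X, Polynomial.eval₂_C, ← map_pow]
      exact (Ideal.Quotient.eq_zero_iff_mem.2 (Ideal.subset_span ⟨i, rfl⟩) : Ideal.Quotient.mk (rootIdeal p (fun i => algebraMap k L (t i))) _ = 0) |>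
        fun h => by rw [map_sub] at h; exact h
  have hdim : ringKrullDim BL = ringKrullDim L := VarDim.ringKrullDim_eq_of_isIntegral
  have h1 := IsRegularLocalRing.spanFinrank_maximalIdeal (R := L)
  have h2 := IsRegularLocalRing.spanFinrank_maximalIdeal (R := BL)
  rw [spanFinrank_maximalIdeal_eq_finrank_cotangentSpace] at h1 h2
  rw [hdim, ← h1] at h2
  exact_mod_cast h2.symm

end Regular

section Extend

variable {L : Type u} [CommRing L] [Algebra k L] [IsRegularLocalRing L] [CharP L p]
variable {F : Type u} [Field F] [Algebra L F] [Algebra k F] [IsScalarTower k L F]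

omit [CharP k p] [CharP L p] [IsRegularLocalRing L] [Algebra k F] [IsScalarTower k L F] [Algebra k L] in
/-- A derivation to the residue field gives one to every field over it. -/
theorem exists_derivation_comp [IsLocalRing L] (hF : ∀ x ∈ maximalIdeal L, algebraMap L F x = 0)
    (D : Derivation ℤ L (ResidueField L)) :
    ∃ (ι : ResidueField L →+* F) (D' : Derivation ℤ L F),
      (∀ x, ι (residue L x) = algebraMap L F x) ∧ ∀ x, D' x = ι (D x) := by
  let ι : ResidueField L →+* F := Ideal.Quotient.lift _ (algebraMap L F) hF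
  have hι : ∀ (x : L) (w : ResidueField L), ι (x • w) = x • ι w := fun x w => by
    rw [Algebra.smul_def, Algebra.smul_def, map_mul]; rfl
  refine ⟨ι, Derivation.mk' (AddMonoidHom.mk' (fun x => ι (D x)) fun a b => by simp only [map_add]).toIntLinearMap
    (fun a b => ?_), fun x => rfl, fun x => rfl⟩
  simp only [AddMonoidHom.coe_toIntLinearMap, AddMonoidHom.mk'_apply, Derivation.leibniz, map_add, hι]

include p hp in
/-- Derivations of the base into a residue field extend to a geometrically regular local algebra. -/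
theorem exists_derivation_extend (hL : CAlg.IsGeometricallyRegular k L)
    (hF : ∀ x ∈ maximalIdeal L, algebraMap L F x = 0) (δ : Derivation ℤ k F) :
    ∃ D : Derivation ℤ L F, ∀ c, D (algebraMap k L c) = δ c := by
  classical
  obtain ⟨T, hT⟩ := exists_pbasis p k
  let e : T → F ⊗[L] Ω[L⁄ℤ] := fun t => (1 : F) ⊗ₜ[L] KaehlerDifferential.D ℤ L (algebraMap k L t)
  have hli : LinearIndependent F e := by
    rw [linearIndependent_iff']
    intro s g hg i hi
    let t : Fin s.card → T := fun l => s.equivFin.symm l
    have htinj : Function.Injective t := Subtype.val_injective.comp s.equivFin.symm.injective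
    have hsep := separated_algebraMap p hL (separated_of_pbasis (k := k) hT t htinj)
    obtain ⟨D, hD⟩ := hsep (s.equivFin ⟨i, hi⟩)
    obtain ⟨ι, D', -, hD'⟩ := exists_derivation_comp hF D
    have hv : ∀ j ∈ s, LinearMap.liftBaseChange F D'.liftKaehlerDifferential (e j) = if j = i then 1 else 0 := by
      intro j hj
      simp only [e, LinearMap.liftBaseChange_tmul, one_smul, Derivation.liftKaehlerDifferential_comp_D, hD']
      have := hD (s.equivFin ⟨j, hj⟩)
      simp only [t, Equiv.symm_apply_apply] at this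
      rw [this]
      by_cases hji : j = i
      · subst hji; simp
      · rw [if_neg (fun h => hji (congrArg Subtype.val (s.equivFin.injective h))), if_neg hji, map_zero]
    have h := congrArg (LinearMap.liftBaseChange F D'.liftKaehlerDifferential) hg
    rw [map_sum, map_zero, Finset.sum_eq_single_of_mem i hi] at h
    · rwa [map_smul, hv i hi, if_pos rfl, smul_eq_mul, mul_one] at h
    · intro j hj hji
      rw [map_smul, hv j hj, if_neg hji, smul_zero]
  obtain ⟨g, hg⟩ := LinearMap.exists_extend
    ((Finsupp.linearCombination F fun t : T => δ (t : k)).comp hli.repr :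
      Submodule.span F (Set.range e) →ₗ[F] F)
  let D : Derivation ℤ L F :=
    ((g.restrictScalars L).comp (TensorProduct.mk L F (Ω[L⁄ℤ]) 1)).compDer (KaehlerDifferential.D ℤ L)
  refine ⟨D, fun c => ?_⟩
  obtain ⟨δ', -, huniq⟩ := hT F (fun t => δ t)
  have h2 : D.compAlgebraMap k = δ' := huniq _ fun t => by
    show g (e t) = δ t
    have h1 := LinearMap.congr_fun hg ⟨_, Submodule.subset_span (Set.mem_range_self t)⟩
    rw [LinearMap.comp_apply, Submodule.subtype_apply] at h1
    rw [h1, LinearMap.comp_apply, LinearIndependent.repr_eq_single hli t _ rfl, Finsupp.linearCombination_single,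
      one_smul]
  show D.compAlgebraMap k c = δ c
  rw [h2, ← huniq δ fun _ => rfl]

omit [CharP k p] in
theorem exists_natCast (a : ULift.{u} (ZMod p)) : ∃ n : ℕ, (n : ULift.{u} (ZMod p)) = a :=
  ⟨a.down.val, ULift.ext _ _ (by rw [ULift.down_natCast, ZMod.natCast_zmod_val])⟩

omit [CharP k p] [CharP L p] [IsRegularLocalRing L] [Algebra k L] [Algebra L F] [IsScalarTower k L F] [Algebra k F] in
/-- Derivations over the integers are derivations over the prime field. -/
theorem exists_derivation_prime {A M : Type u} [CommRing A] [AddCommGroup M] [Module A M]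
    [Algebra (ULift.{u} (ZMod p)) A] [Module (ULift.{u} (ZMod p)) M] [IsScalarTower (ULift.{u} (ZMod p)) A M]
    (D : Derivation ℤ A M) : ∃ D' : Derivation (ULift.{u} (ZMod p)) A M, ∀ x, D' x = D x := by
  refine ⟨Derivation.mk' { toFun := D, map_add' := map_add D, map_smul' := fun a x => ?_ } D.leibniz, fun _ => rfl⟩
  obtain ⟨n, rfl⟩ := exists_natCast p a
  rw [RingHom.id_apply, Nat.cast_smul_eq_nsmul, Nat.cast_smul_eq_nsmul, map_nsmul]

include p hp in
/-- The residue field of a geometrically regular local algebra has finite `H₁`. -/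
theorem finite_h1 (hL : CAlg.IsGeometricallyRegular k L) (hFs : Function.Surjective (algebraMap L F)) :
    Module.Finite F (Algebra.H1Cotangent k F) := by
  classical
  haveI : CharP F p := charP_of_injective_algebraMap (algebraMap k F).injective p
  let P := ULift.{u} (ZMod p)
  haveI : Finite P := Finite.of_equiv _ Equiv.ulift.symm
  haveI : PerfectField P := PerfectField.ofFinite
  letI : Algebra P k := ((ZMod.castHom dvd_rfl k).comp (ULift.ringEquiv (R := ZMod p)).toRingHom).toAlgebra
  letI : Algebra P L := ((algebraMap k L).comp (algebraMap P k)).toAlgebra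
  haveI : IsScalarTower P k L := IsScalarTower.of_algebraMap_eq fun _ => rfl
  letI : Algebra P F := ((algebraMap k F).comp (algebraMap P k)).toAlgebra
  haveI : IsScalarTower P k F := IsScalarTower.of_algebraMap_eq fun _ => rfl
  haveI : IsScalarTower P L F := IsScalarTower.of_algebraMap_eq fun a => by
    show algebraMap k F (algebraMap P k a) = algebraMap L F (algebraMap k L (algebraMap P k a))
    exact IsScalarTower.algebraMap_apply k L F _
  haveI : Algebra.FormallySmooth P F := CoeffField.formallySmooth_of_perfectField P F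
  haveI : Subsingleton (Algebra.H1Cotangent P F) := Algebra.FormallySmooth.subsingleton_h1Cotangent
  have hF : ∀ x ∈ maximalIdeal L, algebraMap L F x = 0 := fun x hx => by
    have hmax : (RingHom.ker (algebraMap L F)).IsMaximal := RingHom.ker_isMaximal_of_surjective _ hFs
    rwa [← IsLocalRing.eq_maximalIdeal hmax, RingHom.mem_ker] at hx
  let δH := Algebra.H1Cotangent.δ P k F
  have hinj : Function.Injective δH := by
    rw [injective_iff_map_eq_zero]
    intro x hx
    obtain ⟨y, rfl⟩ := (Algebra.H1Cotangent.exact_map_δ P k F x).1 hx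
    rw [Subsingleton.elim y 0, map_zero]
  let f := KaehlerDifferential.mapBaseChange P k F
  let fL := KaehlerDifferential.mapBaseChange P L F
  let ψ : F ⊗[k] Ω[k⁄P] →ₗ[F] F ⊗[L] Ω[L⁄P] := LinearMap.liftBaseChange F
    (((TensorProduct.mk L F (Ω[L⁄P]) 1).restrictScalars k).comp (KaehlerDifferential.map P P k L))
  have hψD : ∀ c, ψ ((1 : F) ⊗ₜ KaehlerDifferential.D P k c) =
      (1 : F) ⊗ₜ KaehlerDifferential.D P L (algebraMap k L c) := fun c => by
    simp [ψ]
  have hspan : ∀ {N : Type u} [AddCommGroup N] [Module F N] (g g' : F ⊗[k] Ω[k⁄P] →ₗ[F] N),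
      (∀ c, g ((1 : F) ⊗ₜ KaehlerDifferential.D P k c) = g' ((1 : F) ⊗ₜ KaehlerDifferential.D P k c)) → g = g' := by
    intro N _ _ g g' h
    refine LinearMap.ext fun v => ?_
    induction v using TensorProduct.induction_on with
    | zero => simp
    | add x y hx hy => simp only [map_add, hx, hy]
    | tmul a ω =>
      have hω : ω ∈ Submodule.span k (Set.range (KaehlerDifferential.D P k)) :=
        (KaehlerDifferential.span_range_derivation P k).symm ▸ Submodule.mem_top
      induction hω using Submodule.span_induction with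
      | mem x hx =>
        obtain ⟨c, rfl⟩ := hx
        rw [show a ⊗ₜ[k] KaehlerDifferential.D P k c = a • ((1 : F) ⊗ₜ[k] KaehlerDifferential.D P k c) by
          rw [TensorProduct.smul_tmul', smul_eq_mul, mul_one], map_smul, map_smul, h]
      | zero => simp
      | add x y _ _ hx hy => simp only [TensorProduct.tmul_add, map_add, hx, hy]
      | smul c x _ hx =>
        rw [TensorProduct.tmul_smul, show c • a ⊗ₜ[k] x = algebraMap k F c • a ⊗ₜ[k] x from
          (IsScalarTower.algebraMap_smul F c _).symm, map_smul, map_smul, hx]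
  have hψinj : Function.Injective ψ := by
    rw [injective_iff_map_eq_zero]
    intro x hx
    by_contra hx0
    obtain ⟨l, hl⟩ := Module.Projective.exists_dual_ne_zero F hx0
    let dP : Derivation P k F :=
      ((l.restrictScalars k).comp (TensorProduct.mk k F (Ω[k⁄P]) 1)).compDer (KaehlerDifferential.D P k)
    obtain ⟨D, hD⟩ := exists_derivation_extend p hL hF (dP.restrictScalars ℤ)
    obtain ⟨D', hD'⟩ := exists_derivation_prime p D
    have h : (LinearMap.liftBaseChange F D'.liftKaehlerDifferential).comp ψ = l := hspan _ _ fun c => by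
      rw [LinearMap.comp_apply, hψD, LinearMap.liftBaseChange_tmul, one_smul,
        Derivation.liftKaehlerDifferential_comp_D, hD', hD]
      rfl
    exact hl (by rw [← h, LinearMap.comp_apply, hx, map_zero])
  have hcomp : fL.comp ψ = f := hspan _ _ fun c => by
    rw [LinearMap.comp_apply, hψD]
    simp [fL, f, IsScalarTower.algebraMap_apply k L F]
  haveI hfinL : Module.Finite F (LinearMap.ker fL) := by
    refine Module.Finite.iff_fg.2 (Submodule.FG.of_restrictScalars L ?_)
    have hex := KaehlerDifferential.exact_kerCotangentToTensor_mapBaseChange P L F hFs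
    have h1 : (LinearMap.ker fL).restrictScalars L =
        LinearMap.range (KaehlerDifferential.kerCotangentToTensor P L F) :=
      SetLike.ext fun z => hex z
    haveI : Module.Finite L (RingHom.ker (algebraMap L F)) :=
      Module.Finite.iff_fg.2 (IsNoetherian.noetherian (RingHom.ker (algebraMap L F)))
    haveI : Module.Finite L (RingHom.ker (algebraMap L F)).Cotangent :=
      Module.Finite.of_surjective _ (Ideal.toCotangent_surjective _)
    rw [h1, LinearMap.range_eq_map]
    exact Module.Finite.fg_top.map _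
  let Ψ : Algebra.H1Cotangent k F →ₗ[F] LinearMap.ker fL :=
    LinearMap.codRestrict _ (ψ.comp δH) fun x => by
      rw [LinearMap.mem_ker, ← LinearMap.comp_apply fL, ← LinearMap.comp_assoc, hcomp]
      exact (Algebra.H1Cotangent.exact_δ_mapBaseChange P k F (δH x)).2 ⟨x, rfl⟩
  haveI : IsNoetherian F (LinearMap.ker fL) := isNoetherian_of_isNoetherianRing_of_finite F (LinearMap.ker fL)
  exact Module.Finite.of_injective Ψ fun x y h => hinj (hψinj (congrArg Subtype.val h))

end Extend

/-- A localization of a geometrically regular algebra is geometrically regular. -/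
theorem isGeometricallyRegular_of_isLocalization {k Λ : Type u} [Field k] [CommRing Λ] [Algebra k Λ]
    (h : CAlg.IsGeometricallyRegular k Λ) (M : Submonoid Λ) (L : Type u) [CommRing L] [Algebra Λ L] [Algebra k L]
    [IsScalarTower k Λ L] [IsLocalization M L] : CAlg.IsGeometricallyRegular k L := by
  intro k' _ _ hf
  haveI := h k' hf
  letI : Algebra (k' ⊗[k] Λ) (k' ⊗[k] L) :=
    (Algebra.TensorProduct.map (AlgHom.id k' k') (IsScalarTower.toAlgHom k Λ L)).toRingHom.toAlgebra
  haveI : IsScalarTower k' (k' ⊗[k] Λ) (k' ⊗[k] L) := IsScalarTower.of_algebraMap_eq fun c => by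
    show _ = Algebra.TensorProduct.map (AlgHom.id k' k') (IsScalarTower.toAlgHom k Λ L) (c ⊗ₜ 1)
    simp
  haveI := IsLocalization.tensorProduct_tensorProduct_right (A := Λ) k k' M L
    (RingHom.ext fun x => by
      show Algebra.TensorProduct.map (AlgHom.id k' k') (IsScalarTower.toAlgHom k Λ L) (1 ⊗ₜ x) = _
      simp)
  exact GeomReg.isRegularRing_of_isLocalization
    (M.map (Algebra.TensorProduct.includeRight (R := k) (A := k'))) (k' ⊗[k] L)

end Groth.Agent.SmoothingLib.GeomDiff
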