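import Mathlib.Algebra.Polynomial.Div
import Mathlib.Algebra.Polynomial.Degree.Lemmas
import Mathlib.RingTheory.Etale.Basic
import Mathlib.RingTheory.FinitePresentation
import Mathlib.LinearAlgebra.Matrix.Charpoly.Coeff
import Mathlib.RingTheory.Ideal.Quotient.Operations

/-!
# The étale algebra classifying idempotents modulo a monic polynomial
-/

universe u v

open Polynomial

namespace Groth.Agent.SmoothingLib.IdemCover

variable {P : Type u} [CommRing P]

section
variable {T : Type v} [CommRing T] {d : ℕ}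

/-- The polynomial with coefficient vector `c`. -/
noncomputable def pol (c : Fin d → T) : T[X] := ∑ i, Polynomial.C (c i) * Polynomial.X ^ (i : ℕ)

theorem coeff_pol (c : Fin d → T) (j : ℕ) : (pol c).coeff j = if h : j < d then c ⟨j, h⟩ else 0 := by
  rw [pol, finsetSum_coeff]
  split
  · rw [Finset.sum_eq_single ⟨j, ‹_›⟩]
    · simp
    · intro i _ hi; simp [coeff_C_mul, coeff_X_pow, show j ≠ (i : ℕ) from fun h => hi (Fin.ext h.symm)]
    · simp
  · refine Finset.sum_eq_zero fun i _ => ?_
    simp [coeff_C_mul, coeff_X_pow, show j ≠ (i : ℕ) from fun h => by omega]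

theorem pol_injective : Function.Injective (pol (T := T) (d := d)) := fun a b h => funext fun i => by
  simpa [coeff_pol] using congrArg (fun p => Polynomial.coeff p i) h

theorem pol_sub (a b : Fin d → T) : pol (a - b) = pol a - pol b := by
  simp [pol, sub_mul, Finset.sum_sub_distrib]

theorem map_pol {T' : Type*} [CommRing T'] (g : T →+* T') (c : Fin d → T) : (pol c).map g = pol (g ∘ c) := by
  simp [pol, Polynomial.map_sum]

theorem modByMonic_pol (χ : T[X]) (hχ : χ.Monic) (hd : χ.natDegree = d) (c : Fin d → T) : pol c %ₘ χ = pol c := by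
  nontriviality T
  rw [modByMonic_eq_self_iff hχ, degree_eq_natDegree hχ.ne_zero, hd, degree_lt_iff_coeff_zero]
  intro j hj
  rw [coeff_pol, dif_neg (by omega)]

theorem exists_pol_dvd_sub (χ : T[X]) (hχ : χ.Monic) (hd : χ.natDegree = d) (p : T[X]) :
    ∃ c : Fin d → T, χ ∣ p - pol c := by
  refine ⟨fun i => (p %ₘ χ).coeff i, ?_⟩
  have h : pol (fun i : Fin d => (p %ₘ χ).coeff i) = p %ₘ χ := by
    nontriviality T
    ext j
    rw [coeff_pol]
    split
    · rfl
    · refine (coeff_eq_zero_of_degree_lt ((degree_modByMonic_lt p hχ).trans_le ?_)).symm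
      rw [degree_eq_natDegree hχ.ne_zero, hd]
      exact_mod_cast (by omega : d ≤ j)
  rw [h]
  exact ⟨p /ₘ χ, by conv_lhs => enter [1]; rw [← modByMonic_add_div p χ]
                    ring⟩

theorem eq_of_dvd_sub_of_sub_mem (χ : T[X]) (hχ : χ.Monic) (hd : χ.natDegree = d) {J : Ideal T} (hJ : J ^ 2 = ⊥)
    {a b : Fin d → T} (ha : χ ∣ pol a ^ 2 - pol a) (hb : χ ∣ pol b ^ 2 - pol b) (hab : ∀ i, a i - b i ∈ J) :
    a = b := by
  have hsq : (pol a - pol b) ^ 2 = 0 := by
    rw [← pol_sub, pow_two, pol, Finset.sum_mul_sum]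
    refine Finset.sum_eq_zero fun i _ => Finset.sum_eq_zero fun j _ => ?_
    have h0 : (a - b) i * (a - b) j = 0 := by
      have := Ideal.mul_mem_mul (hab i) (hab j)
      rwa [← pow_two, hJ, Ideal.mem_bot] at this
    rw [mul_mul_mul_comm, ← Polynomial.C_mul, h0, Polynomial.C_0, zero_mul]
  have h : χ ∣ pol a - pol b := by
    have e : pol a - pol b = ((pol a ^ 2 - pol a) - (pol b ^ 2 - pol b)) * (2 * pol b - 1)
        - (pol a - pol b) * (4 * (pol b ^ 2 - pol b)) := by linear_combination -(2 * pol b - 1) * hsq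
    rw [e]
    exact dvd_sub (Dvd.dvd.mul_right (dvd_sub ha hb) _) (Dvd.dvd.mul_left (Dvd.dvd.mul_left hb _) _)
  apply pol_injective
  rw [← sub_eq_zero, ← pol_sub, ← modByMonic_pol χ hχ hd (a - b), modByMonic_eq_zero_iff_dvd hχ, pol_sub]
  exact h

end

/-- The equations of an idempotent modulo `χ`. -/
noncomputable def relation (χ : P[X]) (j : Fin χ.natDegree) : MvPolynomial (Fin χ.natDegree) P :=
  ((pol (T := MvPolynomial (Fin χ.natDegree) P) MvPolynomial.X ^ 2 - pol MvPolynomial.X) %ₘ
    χ.map MvPolynomial.C).coeff j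

/-- The algebra classifying idempotents modulo `χ`. -/
abbrev IdemAlg (χ : P[X]) : Type u :=
  MvPolynomial (Fin χ.natDegree) P ⧸ Ideal.span (Set.range (relation χ))

/-- The universal coefficient vector. -/
noncomputable def gen (χ : P[X]) (i : Fin χ.natDegree) : IdemAlg χ := Ideal.Quotient.mk _ (MvPolynomial.X i)

variable {χ : P[X]} (hχ : χ.Monic) {T : Type u} [CommRing T] [Algebra P T]

include hχ in
theorem aeval_relation_eq (c : Fin χ.natDegree → T) (j : Fin χ.natDegree) :
    MvPolynomial.aeval c (relation χ j) = ((pol c ^ 2 - pol c) %ₘ χ.map (algebraMap P T)).coeff j := by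
  have h : (χ.map MvPolynomial.C).map (MvPolynomial.aeval c : MvPolynomial (Fin χ.natDegree) P →ₐ[P] T).toRingHom =
      χ.map (algebraMap P T) := by
    rw [Polynomial.map_map]
    congr 1
    ext p
    simp
  have hc : pol ((MvPolynomial.aeval c : MvPolynomial (Fin χ.natDegree) P →ₐ[P] T).toRingHom ∘ MvPolynomial.X) = pol c :=
    congrArg pol (funext fun i => MvPolynomial.aeval_X c i)
  rw [relation, ← hc, ← h, ← map_pol, ← Polynomial.map_pow, ← Polynomial.map_sub, ← Polynomial.map_modByMonic _ (hχ.map _),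
    Polynomial.coeff_map]
  rfl

include hχ in
theorem forall_aeval_relation_iff (c : Fin χ.natDegree → T) :
    (∀ j, MvPolynomial.aeval c (relation χ j) = 0) ↔ χ.map (algebraMap P T) ∣ pol c ^ 2 - pol c := by
  nontriviality T
  simp only [aeval_relation_eq hχ]
  rw [← modByMonic_eq_zero_iff_dvd (hχ.map _)]
  refine ⟨fun h => ?_, fun h j => by rw [h, Polynomial.coeff_zero]⟩
  ext j
  rw [Polynomial.coeff_zero]
  by_cases hj : j < χ.natDegree
  · exact h ⟨j, hj⟩
  · refine coeff_eq_zero_of_degree_lt ((degree_modByMonic_lt _ (hχ.map _)).trans_le ?_)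
    rw [degree_eq_natDegree (hχ.map _).ne_zero, hχ.natDegree_map]
    exact_mod_cast (by omega : χ.natDegree ≤ j)

include hχ in
theorem dvd_of_hom (g : IdemAlg χ →ₐ[P] T) :
    χ.map (algebraMap P T) ∣ pol (g ∘ gen χ) ^ 2 - pol (g ∘ gen χ) := by
  refine (forall_aeval_relation_iff hχ _).1 fun j => ?_
  have : MvPolynomial.aeval (g ∘ gen χ) = g.comp (Ideal.Quotient.mkₐ P _) :=
    MvPolynomial.algHom_ext fun i => by simp [gen]
  rw [this]
  change g (Ideal.Quotient.mk _ (relation χ j)) = 0
  have hz : Ideal.Quotient.mk (Ideal.span (Set.range (relation χ))) (relation χ j) = 0 :=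
    Ideal.Quotient.eq_zero_iff_mem.2 (Ideal.subset_span ⟨j, rfl⟩)
  rw [hz, map_zero]

include hχ in
theorem exists_hom (c : Fin χ.natDegree → T) (h : χ.map (algebraMap P T) ∣ pol c ^ 2 - pol c) :
    ∃ g : IdemAlg χ →ₐ[P] T, ∀ i, g (gen χ i) = c i := by
  refine ⟨Ideal.Quotient.liftₐ _ (MvPolynomial.aeval c) fun x hx => ?_, fun i => MvPolynomial.aeval_X c i⟩
  have hle : Ideal.span (Set.range (relation χ)) ≤
      RingHom.ker (MvPolynomial.aeval c : MvPolynomial (Fin χ.natDegree) P →ₐ[P] T) := by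
    rw [Ideal.span_le]
    rintro _ ⟨j, rfl⟩
    exact (forall_aeval_relation_iff hχ c).2 h j
  exact hle hx

theorem adjoin_gen : Algebra.adjoin P (Set.range (gen χ)) = ⊤ := by
  rw [show gen χ = Ideal.Quotient.mkₐ P (Ideal.span (Set.range (relation χ))) ∘ MvPolynomial.X from rfl,
    Set.range_comp, Algebra.adjoin_image, MvPolynomial.adjoin_range_X, Algebra.map_top, AlgHom.range_eq_top]
  exact Ideal.Quotient.mkₐ_surjective P _

theorem hom_ext {T : Type*} [CommRing T] [Algebra P T] {g g' : IdemAlg χ →ₐ[P] T}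
    (h : ∀ i, g (gen χ i) = g' (gen χ i)) : g = g' :=
  AlgHom.ext_of_adjoin_eq_top adjoin_gen (by rintro _ ⟨i, rfl⟩; exact h i)

include hχ in
theorem etale : Algebra.Etale P (IdemAlg χ) := by
  refine ⟨?_, Algebra.FinitePresentation.quotient (Submodule.fg_span (Set.finite_range _))⟩
  refine Algebra.FormallyEtale.iff_comp_bijective.2 ?_
  intro T _ _ J hJ
  refine ⟨fun g g' h => hom_ext fun i => ?_, fun q => ?_⟩
  · have hab : ∀ i, g (gen χ i) - g' (gen χ i) ∈ J := fun i =>
      Ideal.Quotient.eq.1 (AlgHom.congr_fun h (gen χ i))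
    rcases subsingleton_or_nontrivial T with h0 | h0
    · exact Subsingleton.elim _ _
    exact congrFun (eq_of_dvd_sub_of_sub_mem (χ.map (algebraMap P T)) (hχ.map _)
      (by rw [hχ.natDegree_map]) hJ (dvd_of_hom hχ g) (dvd_of_hom hχ g') hab) i
  · rcases subsingleton_or_nontrivial T with h0 | h0
    · haveI : Subsingleton (T ⧸ J) := Ideal.Quotient.mk_surjective.subsingleton
      exact ⟨(exists_hom hχ (fun _ => (0 : T)) ⟨0, Subsingleton.elim _ _⟩).choose, AlgHom.ext fun _ => Subsingleton.elim _ _⟩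
    choose c hc using fun i => Ideal.Quotient.mk_surjective (q (gen χ i))
    let μ : T[X] →+* (T ⧸ J)[X] := Polynomial.mapRingHom (Ideal.Quotient.mk J)
    let χT := χ.map (algebraMap P T)
    have hχT : χT.Monic := hχ.map _
    have hμ : ∀ p, μ p = p.map (Ideal.Quotient.mk J) := fun p => rfl
    have hμm : (μ χT).Monic := hχT.map _
    have hd : μ χT ∣ μ (pol c ^ 2 - pol c) := by
      rw [map_sub, map_pow, hμ χT, hμ (pol c), map_pol, Polynomial.map_map,
        show (Ideal.Quotient.mk J) ∘ c = q ∘ gen χ from funext hc]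
      exact dvd_of_hom hχ q
    -- the reduction of the defect modulo `χ` has coefficients in `J`
    let r := (pol c ^ 2 - pol c) %ₘ χT
    have hr : μ r = 0 := by
      rw [hμ, Polynomial.map_modByMonic _ hχT, ← hμ, ← hμ, modByMonic_eq_zero_iff_dvd hμm]
      exact hd
    have hr2 : r ^ 2 = 0 := by
      ext j
      rw [pow_two, Polynomial.coeff_mul, Polynomial.coeff_zero]
      refine Finset.sum_eq_zero fun ij _ => ?_
      have hm : ∀ k, r.coeff k ∈ J := fun k => by
        have := congrArg (fun p => Polynomial.coeff p k) hr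
        simpa [μ, Polynomial.coeff_map, Ideal.Quotient.eq_zero_iff_mem] using this
      have := Ideal.mul_mem_mul (hm ij.1) (hm ij.2)
      rwa [← pow_two, hJ, Ideal.mem_bot] at this
    obtain ⟨c', hc'⟩ := exists_pol_dvd_sub χT hχT (hχ.natDegree_map _) (3 * pol c ^ 2 - 2 * pol c ^ 3)
    have hres : χT ∣ (pol c ^ 2 - pol c) - r := ⟨(pol c ^ 2 - pol c) /ₘ χT, by
      have := modByMonic_add_div (pol c ^ 2 - pol c) χT
      linear_combination -this⟩
    have h1 : χT ∣ pol c' ^ 2 - pol c' := by
      set e := pol c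
      set p := 3 * e ^ 2 - 2 * e ^ 3
      have he : χT ∣ p ^ 2 - p := by
        have : p ^ 2 - p = ((e ^ 2 - e - r) * (e ^ 2 - e + r) + r ^ 2) * (4 * (e ^ 2 - e) - 3) := by
          simp only [p]; ring
        rw [this, hr2, add_zero]
        exact (hres.mul_right _).mul_right _
      rw [show pol c' ^ 2 - pol c' = (p ^ 2 - p) - (p - pol c') * (p + pol c' - 1) by ring]
      exact dvd_sub he (hc'.mul_right _)
    obtain ⟨g, hg⟩ := exists_hom hχ c' h1
    refine ⟨g, hom_ext fun i => ?_⟩
    change Ideal.Quotient.mk J (g (gen χ i)) = q (gen χ i)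
    rw [hg, ← hc]
    refine congrFun (g := (Ideal.Quotient.mk J) ∘ c) (f := (Ideal.Quotient.mk J) ∘ c') ?_ i
    apply pol_injective
    have hd' : (μ χT).natDegree = χ.natDegree := by
      haveI : Nontrivial (T ⧸ J) := Ideal.Quotient.nontrivial_iff.2 fun h => top_ne_bot (α := Ideal T) (by
        rw [h, ← Ideal.one_eq_top, one_pow, Ideal.one_eq_top] at hJ; exact hJ)
      rw [hμ, hχT.natDegree_map, hχ.natDegree_map]
    rw [← sub_eq_zero, ← pol_sub, ← modByMonic_pol (μ χT) (hχT.map _) hd', pol_sub, ← map_pol, ← map_pol, ← hμ, ← hμ,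
      modByMonic_eq_zero_iff_dvd hμm]
    have h2 : μ (pol c') - μ (pol c) =
        -μ (3 * pol c ^ 2 - 2 * pol c ^ 3 - pol c') + μ (pol c ^ 2 - pol c - r) * μ (1 - 2 * pol c) + μ r * μ (1 - 2 * pol c) := by
      simp only [← map_mul, ← map_neg, ← map_add, ← map_sub]
      congr 1
      ring
    rw [h2, hr, zero_mul, add_zero]
    exact dvd_add (map_dvd μ hc').neg_right ((map_dvd μ hres).mul_right _)

end Groth.Agent.SmoothingLib.IdemCover
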