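import Groth.Agent.SmoothingLib.Conormal
import Groth.Agent.SmoothingLib.IdemCover
import Mathlib.LinearAlgebra.Matrix.Charpoly.Coeff
import Mathlib.RingTheory.Nakayama
import Mathlib.RingTheory.Smooth.Basic

/-!
# Lifting smooth algebras along a closed subscheme
-/

universe u v

open KaehlerDifferential TensorProduct

namespace Groth.Agent.SmoothingLib

section Idempotent

open Polynomial

variable {S : Type u} [CommRing S] {m : ℕ}

theorem charpoly_dvd_of_idempotent (E : Matrix (Fin m) (Fin m) S) (hE : E * E = E) :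
    E.charpoly ∣ (X ^ 2 - X) ^ m := by
  classical
  refine ⟨(1 - E).charpoly, ?_⟩
  rw [Matrix.charpoly, Matrix.charpoly, ← Matrix.det_mul]
  have h : E.charmatrix * (1 - E).charmatrix = Matrix.scalar (Fin m) (X ^ 2 - X : S[X]) := by
    have hE0 : E.map (Polynomial.C : S → S[X]) * E.map Polynomial.C = E.map Polynomial.C := by
      rw [← Matrix.map_mul, hE]
    simp only [Matrix.charmatrix, RingHom.mapMatrix_apply]
    rw [Matrix.map_sub _ (by simp), Matrix.map_one _ (map_zero _) (map_one _)]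
    have hc : (Matrix.scalar (Fin m) (X : S[X])) * E.map Polynomial.C = E.map Polynomial.C * Matrix.scalar (Fin m) (X : S[X]) :=
      (Matrix.scalar_commute (X : S[X]) (fun r' => mul_comm _ r') _).eq
    rw [map_sub, map_pow, pow_two]
    simp only [sub_mul, mul_sub, mul_one, hE0]
    rw [hc]
    abel
  rw [h, Matrix.scalar_apply, Matrix.det_diagonal, Finset.prod_const, Finset.card_univ, Fintype.card_fin]

theorem exists_idempotent_coeffs (χ : S[X]) (hχ : χ.Monic) {d : ℕ} (hd : χ.natDegree = d)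
    (E : Matrix (Fin m) (Fin m) S) (hE : E * E = E) (hχE : χ = E.charpoly) :
    ∃ c : Fin d → S, χ ∣ IdemCover.pol c ^ 2 - IdemCover.pol c ∧ Polynomial.aeval E (IdemCover.pol c) = E := by
  let e : S[X] := 1 - (1 - X ^ m) ^ m
  obtain ⟨c, hc⟩ := IdemCover.exists_pol_dvd_sub χ hχ hd e
  refine ⟨c, ?_, ?_⟩
  · have h1 : (X : S[X]) ^ m ∣ e := by
      have := sub_dvd_pow_sub_pow (1 : S[X]) (1 - X ^ m) m
      rwa [one_pow, sub_sub_cancel] at this
    have h2 : (1 - X : S[X]) ^ m ∣ 1 - e := by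
      rw [show 1 - e = (1 - X ^ m) ^ m by simp [e]]
      have := sub_dvd_pow_sub_pow (1 : S[X]) X m
      rw [one_pow] at this
      exact pow_dvd_pow_of_dvd this m
    have h3 : (X ^ 2 - X : S[X]) ^ m ∣ e ^ 2 - e := by
      rw [show e ^ 2 - e = -(e * (1 - e)) by ring, show (X ^ 2 - X : S[X]) = -1 * (X * (1 - X)) by ring, mul_pow, mul_pow]
      exact ((IsUnit.mul_left_dvd (isUnit_one.neg.pow m)).2 (mul_dvd_mul h1 h2)).neg_right
    rw [show IdemCover.pol c ^ 2 - IdemCover.pol c =
      (e ^ 2 - e) - (e - IdemCover.pol c) * (e + IdemCover.pol c - 1) by ring]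
    exact dvd_sub ((hχE ▸ charpoly_dvd_of_idempotent E hE : χ ∣ _).trans h3) (hc.mul_right _)
  · obtain ⟨r, hr⟩ := hc
    have h0 : Polynomial.aeval E χ = 0 := hχE ▸ Matrix.aeval_self_charpoly E
    rw [show IdemCover.pol c = e - χ * r by linear_combination -hr, map_sub, map_mul, h0, zero_mul, sub_zero]
    rcases m with _ | k
    · exact Subsingleton.elim _ _
    · have hid : IsIdempotentElem E := hE
      simp only [e, map_sub, map_pow, Polynomial.aeval_X, map_one]
      rw [hid.pow_succ_eq, hid.one_sub.pow_succ_eq, sub_sub_cancel]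

end Idempotent

/-- The zero locus of `G` is smooth if `G = W G` for an idempotent `W` and the differential of `G` is
split on the image of `W`. -/
theorem formallySmooth_zeroLocus {R S A : Type u} [CommRing R] [CommRing S] [CommRing A] [Algebra R S]
    [Algebra R A] [Algebra S A] [IsScalarTower R S A] [Algebra.FormallySmooth R S] {n m : ℕ}
    (bΩ : Module.Basis (Fin n) S Ω[S⁄R]) (G : Fin m → S) (W : Matrix (Fin m) (Fin m) S)
    (hW : W * W = W) (hWG : ∀ l, ∑ j, W l j * G j = G l)
    (T : Matrix (Fin n) (Fin m) S)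
    (hψ : IsUnit (W * (Matrix.of fun l i => bΩ.repr (D R S (G l)) i) * T * W + (1 - W)).det)
    (hsurj : Function.Surjective (algebraMap S A))
    (hker : RingHom.ker (algebraMap S A) = Ideal.span (Set.range G)) :
    Algebra.FormallySmooth R A := by
  classical
  let K := RingHom.ker (algebraMap S A)
  let Jm : Matrix (Fin m) (Fin n) S := Matrix.of fun l i => bΩ.repr (D R S (G l)) i
  let ψ : Matrix (Fin m) (Fin m) S := W * Jm * T * W + (1 - W)
  have hmem : ∀ l, G l ∈ K := fun l => by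
    change G l ∈ RingHom.ker (algebraMap S A)
    rw [hker]; exact Ideal.subset_span ⟨l, rfl⟩
  let gl : Fin m → K := fun l => ⟨G l, hmem l⟩
  have hK : ∀ l i, Jm l i - (W * Jm) l i ∈ K := fun l i => by
    have h1 : D R S (G l) = ∑ j, (W l j • D R S (G j) + G j • D R S (W l j)) := by
      conv_lhs => rw [← hWG l]
      simp [map_sum]
    have h2 : Jm l i = (W * Jm) l i + ∑ j, G j * bΩ.repr (D R S (W l j)) i := by
      change bΩ.repr (D R S (G l)) i = _
      rw [h1]
      simp [Matrix.mul_apply, Jm, Finsupp.coe_finsetSum, Finset.sum_apply, Finset.sum_add_distrib]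
    rw [h2, add_sub_cancel_left]
    exact Ideal.sum_mem _ fun j _ => Ideal.mul_mem_right _ _ (hmem j)
  have hWψ : W * ψ = ψ * W := by
    simp only [ψ, mul_add, add_mul, mul_sub, sub_mul, mul_one, one_mul, hW, sub_self, add_zero, ← Matrix.mul_assoc]
    simp only [Matrix.mul_assoc, hW]
  have hWQW : W * Jm * T * W = ψ * W := by
    simp only [ψ, add_mul, sub_mul, one_mul, hW, sub_self, add_zero]
    simp only [Matrix.mul_assoc, hW]
  have hψu : IsUnit ψ := (Matrix.isUnit_iff_isUnit_det ψ).2 hψ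
  obtain ⟨ψu, hψu⟩ := hψu
  let ψ' : Matrix (Fin m) (Fin m) S := ↑ψu⁻¹
  have hψ' : ψ * ψ' = 1 := by rw [← hψu]; exact ψu.mul_inv
  have hψ'' : ψ' * ψ = 1 := by rw [← hψu]; exact ψu.inv_mul
  have hWψ' : ψ' * W = W * ψ' := by
    calc ψ' * W = ψ' * W * (ψ * ψ') := by rw [hψ', mul_one]
      _ = ψ' * (W * ψ) * ψ' := by simp only [Matrix.mul_assoc]
      _ = ψ' * ψ * W * ψ' := by rw [hWψ]; simp only [Matrix.mul_assoc]
      _ = W * ψ' := by rw [hψ'', one_mul]
  have hid : W * Jm * T * ψ' * W = W := by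
    rw [Matrix.mul_assoc _ ψ', hWψ', ← Matrix.mul_assoc, hWQW, Matrix.mul_assoc, ← hWψ', ← Matrix.mul_assoc, hψ', one_mul]
  let bA : Module.Basis (Fin n) A (A ⊗[S] Ω[S⁄R]) := Algebra.TensorProduct.basis A bΩ
  let π : (Fin n → S) →ₗ[S] (Fin n → A) := LinearMap.compLeft (Algebra.linearMap S A) (Fin n)
  have hπ : Function.Surjective π := fun v => ⟨fun i => (hsurj (v i)).choose, funext fun i => (hsurj (v i)).choose_spec⟩
  let e : (Fin n → S) →ₗ[S] K.Cotangent :=
    Fintype.linearCombination S fun i => ∑ j, (T * ψ') i j • K.toCotangent (gl j)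
  have hπe : LinearMap.ker π ≤ LinearMap.ker e := fun v hv => by
    rw [LinearMap.mem_ker, Fintype.linearCombination_apply]
    refine Finset.sum_eq_zero fun i _ => ?_
    rw [Finset.smul_sum]
    refine Finset.sum_eq_zero fun j _ => ?_
    rw [smul_smul, ← map_smul, Ideal.toCotangent_eq_zero, pow_two]
    exact Ideal.mul_mem_mul (Ideal.mul_mem_right _ _ (congrFun hv i)) (hmem j)
  let ē : (Fin n → A) →ₗ[S] K.Cotangent :=
    (LinearMap.ker π).liftQ e hπe ∘ₗ (π.quotKerEquivOfSurjective hπ).symm.toLinearMap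
  have hē : ∀ v, ē (π v) = e v := fun v => by
    have : (π.quotKerEquivOfSurjective hπ).symm (π v) = Submodule.Quotient.mk v := by
      apply (π.quotKerEquivOfSurjective hπ).injective
      rw [LinearEquiv.apply_symm_apply]; rfl
    simp [ē, this]
  refine (Algebra.FormallySmooth.iff_split_injection (R := R) (P := S) hsurj).2
    ⟨ē ∘ₗ bA.equivFun.toLinearMap.restrictScalars S, ?_⟩
  have hgen : ∀ l, ē (bA.equivFun (kerCotangentToTensor R S A (K.toCotangent (gl l)))) = K.toCotangent (gl l) := by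
    intro l
    have h1 : bA.equivFun (kerCotangentToTensor R S A (K.toCotangent (gl l))) = π (Jm l) := by
      funext i
      rw [kerCotangentToTensor_toCotangent, Module.Basis.equivFun_apply, Algebra.TensorProduct.basis_repr_tmul, one_smul]
      rfl
    rw [h1, hē, Fintype.linearCombination_apply]
    simp only [Finset.smul_sum, smul_smul]
    rw [Finset.sum_comm]
    simp only [← Finset.sum_smul]
    change ∑ j, (Jm * (T * ψ')) l j • K.toCotangent (gl j) = _
    simp only [← map_smul, ← map_sum]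
    rw [Ideal.toCotangent_eq]
    have hs : (((∑ j, (Jm * (T * ψ')) l j • gl j : K)) : S) = ∑ j, (Jm * (T * ψ')) l j * G j := by
      simp [gl]
    rw [hs]
    have hd : ∑ j, (Jm * (T * ψ')) l j * G j - ∑ j, (W * Jm * (T * ψ')) l j * G j ∈ K ^ 2 := by
      rw [← Finset.sum_sub_distrib]
      refine Ideal.sum_mem _ fun j _ => ?_
      rw [← sub_mul, pow_two, ← Matrix.sub_apply, ← Matrix.sub_mul, Matrix.mul_apply]
      exact Ideal.mul_mem_mul (Ideal.sum_mem _ fun i _ => Ideal.mul_mem_right _ _ (hK l i)) (hmem j)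
    have he : ∑ j, (W * Jm * (T * ψ')) l j * G j = G l := by
      have hG : ∀ M : Matrix (Fin m) (Fin m) S, ∑ j, M l j * G j = ∑ j, (M * W) l j * G j := fun M => by
        conv_lhs => enter [2, j]; rw [← hWG j]
        simp only [Finset.mul_sum, Matrix.mul_apply, Finset.sum_mul, mul_assoc]
        exact Finset.sum_comm
      rw [hG, ← Matrix.mul_assoc, hid, hWG]
    rw [he] at hd
    exact hd
  refine LinearMap.ext fun x => ?_
  obtain ⟨⟨z, hz⟩, rfl⟩ := Ideal.toCotangent_surjective K x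
  have hz' : z ∈ Ideal.span (Set.range G) := hker ▸ hz
  obtain ⟨v, hv⟩ := Ideal.mem_span_range_iff_exists_fun.1 hz'
  have hx : K.toCotangent ⟨z, hz⟩ = ∑ l, v l • K.toCotangent (gl l) := by
    simp only [← map_smul, ← map_sum]
    refine congrArg _ (Subtype.ext ?_)
    simp [gl, hv]
  rw [hx, LinearMap.id_apply, map_sum]
  refine Finset.sum_congr rfl fun l _ => ?_
  rw [map_smul]
  exact congrArg (v l • ·) (hgen l)

section Cover

variable {P A₀ : Type u} [CommRing P] [CommRing A₀] [Algebra P A₀]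

/-- An étale `P`-algebra over which an idempotent matrix of `A₀` lifts to an idempotent. -/
theorem exists_idem_cover [Nontrivial A₀] (hs : Function.Surjective (algebraMap P A₀)) {m : ℕ}
    (E₀ : Matrix (Fin m) (Fin m) A₀) (hE₀ : E₀ * E₀ = E₀) :
    ∃ (B : Type u) (_ : CommRing B) (_ : Algebra P B) (θ : B →ₐ[P] A₀) (W : Matrix (Fin m) (Fin m) B)
      (d : ℕ) (gg : Fin d → B), Algebra.Etale P B ∧ W * W = W ∧ W.map θ = E₀ ∧ (∀ i, θ (gg i) = 0) ∧
      (∀ b, ∃ p, b - algebraMap P B p ∈ Ideal.span (Set.range gg)) ∧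
      ∀ L : Ideal B, (∀ p, algebraMap P A₀ p = 0 → algebraMap P B p ∈ L) →
        (∀ i j, gg i * gg j ∈ L) → ∀ i, gg i ∈ L := by
  classical
  choose E' hE' using fun l j => hs (E₀ l j)
  let EP : Matrix (Fin m) (Fin m) P := Matrix.of E'
  have hEP : EP.map (algebraMap P A₀) = E₀ := by ext l j; exact hE' l j
  let χ : Polynomial P := EP.charpoly
  have hχ : χ.Monic := EP.charpoly_monic
  have hχ₀ : χ.map (algebraMap P A₀) = E₀.charpoly := by
    rw [← Matrix.charpoly_map]; exact congrArg Matrix.charpoly hEP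
  obtain ⟨c₀, hc₀, hc₀E⟩ := exists_idempotent_coeffs (χ.map (algebraMap P A₀)) (hχ.map _) (d := χ.natDegree)
    (by rw [hχ.natDegree_map]) E₀ hE₀ hχ₀
  obtain ⟨θ, hθgen⟩ := IdemCover.exists_hom hχ c₀ hc₀
  choose cP hcP using fun i => hs (c₀ i)
  let g := IdemCover.gen χ
  let EB : Matrix (Fin m) (Fin m) (IdemCover.IdemAlg χ) := EP.map (algebraMap P _)
  refine ⟨IdemCover.IdemAlg χ, inferInstance, inferInstance, θ, Polynomial.aeval EB (IdemCover.pol g), χ.natDegree,
    fun i => g i - algebraMap P _ (cP i), IdemCover.etale hχ, ?_, ?_, ?_, ?_, ?_⟩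
  · obtain ⟨r, hr⟩ := IdemCover.dvd_of_hom hχ (AlgHom.id P (IdemCover.IdemAlg χ))
    have h0 : Polynomial.aeval EB (χ.map (algebraMap P (IdemCover.IdemAlg χ))) = 0 := by
      rw [← Matrix.charpoly_map]; exact Matrix.aeval_self_charpoly _
    have h1 : Polynomial.aeval EB (IdemCover.pol g ^ 2 - IdemCover.pol g) = 0 := by
      refine Eq.trans (congrArg (Polynomial.aeval EB) hr) ?_
      rw [map_mul, h0, zero_mul]
    have h2 := (map_sub (Polynomial.aeval EB) (IdemCover.pol g ^ 2) (IdemCover.pol g)).symm.trans h1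
    rw [map_pow, pow_two, sub_eq_zero] at h2
    exact h2
  · have hmap : ∀ M : Matrix (Fin m) (Fin m) (IdemCover.IdemAlg χ), M.map θ = θ.mapMatrix M := fun M => rfl
    rw [hmap]
    conv_rhs => rw [← hc₀E]
    rw [IdemCover.pol, IdemCover.pol, map_sum, map_sum, map_sum]
    refine Finset.sum_congr rfl fun i _ => ?_
    simp only [map_mul, map_pow, Polynomial.aeval_C, Polynomial.aeval_X]
    refine congrArg₂ (· * ·) ?_ (congrArg (· ^ (i : ℕ)) ?_)
    · ext a b
      rw [AlgHom.mapMatrix_apply, Matrix.map_apply, Matrix.algebraMap_matrix_apply, Matrix.algebraMap_matrix_apply]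
      by_cases hab : a = b
      · rw [if_pos hab, if_pos hab]; exact hθgen i
      · rw [if_neg hab, if_neg hab, map_zero]
    · rw [← hEP]
      ext a b
      exact θ.commutes _
  · intro i
    rw [map_sub, θ.commutes, hcP, sub_eq_zero]
    exact hθgen i
  · intro b
    have hb : b ∈ Algebra.adjoin P (Set.range g) := IdemCover.adjoin_gen (χ := χ) ▸ Algebra.mem_top
    induction hb using Algebra.adjoin_induction with
    | mem y hy => obtain ⟨i, rfl⟩ := hy; exact ⟨cP i, Ideal.subset_span ⟨i, rfl⟩⟩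
    | algebraMap p => exact ⟨p, by rw [sub_self]; exact zero_mem _⟩
    | add x y _ _ hx hy =>
      obtain ⟨p, hp⟩ := hx; obtain ⟨q, hq⟩ := hy
      refine ⟨p + q, ?_⟩
      rw [map_add, show x + y - (algebraMap P _ p + algebraMap P _ q) =
        (x - algebraMap P _ p) + (y - algebraMap P _ q) by ring]
      exact add_mem hp hq
    | mul x y _ _ hx hy =>
      obtain ⟨p, hp⟩ := hx; obtain ⟨q, hq⟩ := hy
      refine ⟨p * q, ?_⟩
      rw [map_mul, show x * y - algebraMap P _ p * algebraMap P _ q =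
        (x - algebraMap P _ p) * y + algebraMap P _ p * (y - algebraMap P _ q) by ring]
      exact add_mem (Ideal.mul_mem_right _ _ hp) (Ideal.mul_mem_left _ _ hq)
  · intro L hL hsq i
    let T := IdemCover.IdemAlg χ ⧸ L
    let q : IdemCover.IdemAlg χ →ₐ[P] T := Ideal.Quotient.mkₐ P L
    rcases subsingleton_or_nontrivial T with h0 | h0
    · exact Ideal.Quotient.eq_zero_iff_mem.1 (Subsingleton.elim _ (0 : T))
    let J : Ideal T := Ideal.span (Set.range fun i => q (g i - algebraMap P _ (cP i)))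
    have hJ : J ^ 2 = ⊥ := by
      rw [pow_two, Ideal.span_mul_span', Ideal.span_eq_bot]
      rintro _ ⟨_, ⟨a, rfl⟩, _, ⟨b, rfl⟩, rfl⟩
      change q _ * q _ = 0
      rw [← map_mul]
      exact Ideal.Quotient.eq_zero_iff_mem.2 (hsq a b)
    have hbP : IdemCover.pol (fun i => algebraMap P T (cP i)) = (IdemCover.pol cP).map (algebraMap P T) := by
      rw [IdemCover.map_pol]; rfl
    have hb : χ.map (algebraMap P T) ∣ IdemCover.pol (fun i => algebraMap P T (cP i)) ^ 2 -
        IdemCover.pol (fun i => algebraMap P T (cP i)) := by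
      rw [← Polynomial.modByMonic_eq_zero_iff_dvd (hχ.map _), hbP, ← Polynomial.map_pow, ← Polynomial.map_sub,
        ← Polynomial.map_modByMonic _ hχ]
      ext k
      rw [Polynomial.coeff_map, Polynomial.coeff_zero, IsScalarTower.algebraMap_apply P (IdemCover.IdemAlg χ) T]
      refine Ideal.Quotient.eq_zero_iff_mem.2 (hL _ ?_)
      rw [← Polynomial.coeff_map, Polynomial.map_modByMonic _ hχ, Polynomial.map_sub, Polynomial.map_pow,
        IdemCover.map_pol, show algebraMap P A₀ ∘ cP = c₀ from funext hcP,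
        (Polynomial.modByMonic_eq_zero_iff_dvd (hχ.map _)).2 hc₀, Polynomial.coeff_zero]
    have hab := IdemCover.eq_of_dvd_sub_of_sub_mem (χ.map (algebraMap P T)) (hχ.map _) (by rw [hχ.natDegree_map])
      hJ (IdemCover.dvd_of_hom hχ q) hb (fun i => Ideal.subset_span ⟨i, (map_sub q _ _).trans (congrArg (_ - ·) (q.commutes _))⟩)
    refine Ideal.Quotient.eq_zero_iff_mem.1 ?_
    change q (g i - algebraMap P _ (cP i)) = 0
    rw [map_sub, AlgHom.commutes, sub_eq_zero]
    exact congrFun hab i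

end Cover

/-- Cutting out a smooth lift. -/
theorem exists_of_cover {R A₀ B : Type u} [CommRing R] (I : Ideal R) [CommRing A₀] [Algebra (R ⧸ I) A₀] [Algebra R A₀]
    [IsScalarTower R (R ⧸ I) A₀] [CommRing B] [Algebra R B] [Algebra.Smooth R B] {n m : ℕ}
    (bB : Module.Basis (Fin n) B Ω[B⁄R]) (θ : B →ₐ[R] A₀) (hθ : Function.Surjective θ)
    (W : Matrix (Fin m) (Fin m) B) (hW : W * W = W) (G : Fin m → B) (hWG : ∀ l, ∑ j, W l j * G j = G l)
    (hG : ∀ l, θ (G l) = 0) (T : Matrix (Fin n) (Fin m) B)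
    (hdet : θ (W * (Matrix.of fun l i => bB.repr (D R B (G l)) i) * T * W + (1 - W)).det = 1)
    (u : B) (hu : θ u = 1)
    (hu' : ∀ b, θ b = 0 → u * b ∈ I.map (algebraMap R B) ⊔ Ideal.span (Set.range G)) :
    ∃ (A : Type u) (_ : CommRing A) (_ : Algebra R A), Algebra.Smooth R A ∧
      Nonempty ((A ⧸ I.map (algebraMap R A)) ≃ₐ[R ⧸ I] A₀) := by
  classical
  let JB : Matrix (Fin m) (Fin n) B := Matrix.of fun l i => bB.repr (D R B (G l)) i
  let ψ := (W * JB * T * W + (1 - W)).det
  have hψ : θ ψ = 1 := hdet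
  let S := Localization.Away (u * ψ)
  haveI : Algebra.FormallyEtale B S := Algebra.FormallyEtale.of_isLocalization (.powers (u * ψ))
  haveI : Algebra.Smooth B S := Algebra.Smooth.of_isLocalization_Away (u * ψ)
  haveI : Algebra.Smooth R S := Algebra.Smooth.comp R B S
  let bS : Module.Basis (Fin n) S Ω[S⁄R] :=
    (Algebra.TensorProduct.basis S bB).map (isBaseChange_of_formallyEtale R B S).equiv
  let GS : Fin m → S := fun l => algebraMap B S (G l)
  let A := S ⧸ Ideal.span (Set.range GS)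
  have hcS : ∀ l i, bS.repr (D R S (GS l)) i = algebraMap B S (JB l i) := fun l i => by
    have h1 : D R S (GS l) = (isBaseChange_of_formallyEtale R B S).equiv (1 ⊗ₜ D R B (G l)) := by
      rw [IsBaseChange.equiv_tmul, one_smul, map_D]
    rw [h1, Module.Basis.map_repr, LinearEquiv.trans_apply, LinearEquiv.symm_apply_apply,
      Algebra.TensorProduct.basis_repr_tmul, one_smul, Finsupp.mapRange_apply]
    rfl
  have hAsm : Algebra.FormallySmooth R A := by
    refine formallySmooth_zeroLocus bS GS ((algebraMap B S).mapMatrix W) ?_ (fun l => ?_) (T.map (algebraMap B S)) ?_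
      Ideal.Quotient.mk_surjective Ideal.mk_ker
    · rw [← map_mul, hW]
    · simp only [GS, RingHom.mapMatrix_apply, Matrix.map_apply, ← map_mul, ← map_sum, hWG]
    · rw [show (Matrix.of fun l i => bS.repr (D R S (GS l)) i) = JB.map (algebraMap B S) from by ext l i; exact hcS l i]
      have h1 : (algebraMap B S).mapMatrix W * JB.map (algebraMap B S) * T.map (algebraMap B S) *
          (algebraMap B S).mapMatrix W + (1 - (algebraMap B S).mapMatrix W) =
          (algebraMap B S).mapMatrix (W * JB * T * W + (1 - W)) := by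
        simp only [map_add, map_sub, map_one, RingHom.mapMatrix_apply, Matrix.map_mul]
      rw [h1, ← RingHom.map_det]
      have h2 : IsUnit (algebraMap B S (u * ψ)) := IsLocalization.Away.algebraMap_isUnit (u * ψ)
      rw [map_mul, IsUnit.mul_iff] at h2
      exact h2.2
  haveI : Algebra.Smooth R A :=
    ⟨hAsm, Algebra.FinitePresentation.quotient (Submodule.fg_span (Set.finite_range _))⟩
  refine ⟨A, inferInstance, inferInstance, inferInstance, ?_⟩
  have huψ : IsUnit (θ.toRingHom (u * ψ)) := by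
    change IsUnit (θ (u * ψ)); rw [map_mul, hu, hψ, one_mul]; exact isUnit_one
  let θS : S →+* A₀ := IsLocalization.Away.lift (u * ψ) huψ
  have hθS : ∀ b, θS (algebraMap B S b) = θ b := IsLocalization.Away.lift_eq _ huψ
  let θA : A →+* A₀ := Ideal.Quotient.lift _ θS fun x hx => by
    have : Ideal.span (Set.range GS) ≤ RingHom.ker θS := by
      rw [Ideal.span_le]; rintro _ ⟨l, rfl⟩
      exact (hθS _).trans (hG l)
    exact this hx
  let q : B →+* A := (Ideal.Quotient.mk _).comp (algebraMap B S)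
  have hq : ∀ b, θA (q b) = θ b := fun b => hθS b
  have hθAs : Function.Surjective θA := fun a => by
    obtain ⟨b, rfl⟩ := hθ a; exact ⟨q b, hq b⟩
  have hqR : q.comp (algebraMap R B) = algebraMap R A := RingHom.ext fun r => by
    change Ideal.Quotient.mk _ (algebraMap B S (algebraMap R B r)) = _
    rw [← IsScalarTower.algebraMap_apply]
    rfl
  have hθAR : θA.comp (algebraMap R A) = algebraMap R A₀ := RingHom.ext fun r => by
    rw [RingHom.comp_apply, ← hqR, RingHom.comp_apply, hq, θ.commutes]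
  have hqH : (I.map (algebraMap R B) ⊔ Ideal.span (Set.range G)).map q ≤ I.map (algebraMap R A) := by
    rw [Ideal.map_sup, Ideal.map_map, hqR, sup_le_iff]
    refine ⟨le_rfl, le_trans (le_of_eq ?_) bot_le⟩
    rw [Ideal.map_eq_bot_iff_le_ker, Ideal.span_le]
    rintro _ ⟨l, rfl⟩
    exact Ideal.Quotient.eq_zero_iff_mem.2 (Ideal.subset_span ⟨l, rfl⟩)
  have hker : RingHom.ker θA = I.map (algebraMap R A) := by
    refine le_antisymm (fun a ha => ?_) ?_
    · obtain ⟨s, rfl⟩ := Ideal.Quotient.mk_surjective a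
      obtain ⟨k, b, hb⟩ := IsLocalization.Away.surj (u * ψ) s
      have hb0 : θ b = 0 := by
        rw [← hθS, ← hb, map_mul, show θS s = 0 from ha, zero_mul]
      have h2 := hqH (Ideal.mem_map_of_mem q (hu' b hb0))
      have hu0 : IsUnit (q (u * ψ)) :=
        (IsLocalization.Away.algebraMap_isUnit (S := S) (u * ψ)).map (Ideal.Quotient.mk (Ideal.span (Set.range GS)))
      have hu1 := hu0
      rw [map_mul q u ψ, IsUnit.mul_iff] at hu1
      have hqb : q b = Ideal.Quotient.mk _ s * q (u * ψ) ^ k := by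
        change Ideal.Quotient.mk _ (algebraMap B S b) = _
        rw [← hb, map_mul, map_pow]; rfl
      rw [map_mul q u b, hqb, Ideal.unit_mul_mem_iff_mem _ hu1.1, Ideal.mul_unit_mem_iff_mem _ (hu0.pow k)] at h2
      exact h2
    · rw [Ideal.map_le_iff_le_comap]
      intro r hr
      change θA (algebraMap R A r) = 0
      rw [← RingHom.comp_apply, hθAR, IsScalarTower.algebraMap_apply R (R ⧸ I) A₀, Ideal.Quotient.algebraMap_eq,
        Ideal.Quotient.eq_zero_iff_mem.2 hr, map_zero]
  refine ⟨AlgEquiv.ofRingEquiv (f := (Ideal.quotEquivOfEq hker.symm).trans (RingHom.quotientKerEquivOfSurjective hθAs)) ?_⟩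
  intro x
  obtain ⟨r, rfl⟩ := Ideal.Quotient.mk_surjective x
  change θA (algebraMap R A r) = algebraMap (R ⧸ I) A₀ (Ideal.Quotient.mk I r)
  rw [← RingHom.comp_apply, hθAR, IsScalarTower.algebraMap_apply R (R ⧸ I) A₀]
  rfl

theorem smooth_lift_of_subsingleton {R A₀ : Type u} [CommRing R] (I : Ideal R) [CommRing A₀] [Algebra (R ⧸ I) A₀]
    [Subsingleton A₀] :
    ∃ (A : Type u) (_ : CommRing A) (_ : Algebra R A), Algebra.Smooth R A ∧
      Nonempty ((A ⧸ I.map (algebraMap R A)) ≃ₐ[R ⧸ I] A₀) := by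
  haveI : Subsingleton (Localization.Away (0 : R)) :=
    subsingleton_of_zero_eq_one (by
      obtain ⟨v, hv⟩ := (IsLocalization.Away.algebraMap_isUnit (S := Localization.Away (0 : R)) (0 : R)).exists_right_inv
      rwa [map_zero, zero_mul] at hv)
  haveI : Subsingleton (Localization.Away (0 : R) ⧸ I.map (algebraMap R (Localization.Away (0 : R)))) :=
    Ideal.Quotient.mk_surjective.subsingleton
  exact ⟨Localization.Away (0 : R), inferInstance, inferInstance, Algebra.Smooth.of_isLocalization_Away 0,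
    ⟨AlgEquiv.ofRingEquiv (f := { toFun := fun _ => 0, invFun := fun _ => 0
                                  left_inv := fun _ => Subsingleton.elim _ _
                                  right_inv := fun _ => Subsingleton.elim _ _
                                  map_mul' := fun _ _ => Subsingleton.elim _ _
                                  map_add' := fun _ _ => Subsingleton.elim _ _ }) fun _ => Subsingleton.elim _ _⟩⟩

theorem exists_nakayama {B : Type u} [CommRing B] (H K : Ideal B) (hHK : H ≤ K) {ι : Type} [Finite ι] (s : ι → B)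
    (hK : K ≤ H ⊔ Ideal.span (Set.range s)) (hs : ∀ i, s i ∈ K) (hKK : K ≤ H ⊔ K ^ 2) :
    ∃ u : B, u - 1 ∈ K ∧ ∀ b ∈ K, u * b ∈ H := by
  let q := Ideal.Quotient.mk H
  have hN : K.map q = (Ideal.span (Set.range s)).map q := by
    refine le_antisymm ((Ideal.map_mono hK).trans ?_) (Ideal.map_mono ?_)
    · rw [Ideal.map_sup, Ideal.map_quotient_self, bot_sup_eq]
    · rw [Ideal.span_le]; rintro _ ⟨i, rfl⟩; exact hs i
  have hfg : (K.map q).FG := by
    rw [hN]; exact Ideal.FG.map (Submodule.fg_span (Set.finite_range s) : (Ideal.span (Set.range s)).FG) q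
  have hle : (K.map q : Submodule (B ⧸ H) (B ⧸ H)) ≤ K.map q • (K.map q : Submodule (B ⧸ H) (B ⧸ H)) := by
    rw [smul_eq_mul, ← Ideal.map_mul, ← pow_two]
    refine (Ideal.map_mono hKK).trans ?_
    rw [Ideal.map_sup, Ideal.map_quotient_self, bot_sup_eq]
  obtain ⟨v, hv, hv'⟩ := Submodule.exists_sub_one_mem_and_smul_eq_zero_of_fg_of_le_smul _ _ hfg hle
  obtain ⟨u, rfl⟩ := Ideal.Quotient.mk_surjective v
  refine ⟨u, ?_, fun b hb => Ideal.Quotient.eq_zero_iff_mem.1 ?_⟩
  · rw [← map_one q, ← map_sub] at hv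
    obtain ⟨k, hk, hk'⟩ := (Ideal.mem_map_iff_of_surjective q Ideal.Quotient.mk_surjective).1 hv
    rw [← sub_sub_cancel k (u - 1)]
    exact sub_mem hk (hHK (Ideal.Quotient.eq.1 hk'))
  · rw [map_mul]; exact hv' _ (Ideal.mem_map_of_mem _ hb)

/-- Lifting from a cover. -/
theorem exists_lift_of_presentation {R P A₀ : Type u} [CommRing R] (I : Ideal R) [CommRing A₀] [Nontrivial A₀]
    [Algebra (R ⧸ I) A₀] [Algebra R A₀] [IsScalarTower R (R ⧸ I) A₀] [CommRing P] [Algebra R P] [Algebra P A₀]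
    [IsScalarTower R P A₀] [Algebra.Smooth R P] {n m : ℕ} (bP : Module.Basis (Fin n) P Ω[P⁄R])
    (hs : Function.Surjective (algebraMap P A₀)) (f : Fin m → P) (hf : ∀ j, algebraMap P A₀ (f j) = 0)
    (hker : ∀ p, algebraMap P A₀ p = 0 → p ∈ I.map (algebraMap R P) ⊔ Ideal.span (Set.range f))
    (T₀ : Matrix (Fin n) (Fin m) A₀)
    (hT₀ : ∀ J₀ : Matrix (Fin m) (Fin n) A₀,
      (∀ l i, J₀ l i = algebraMap P A₀ (bP.repr (D R P (f l)) i)) → J₀ * T₀ * J₀ = J₀ ∧
        ∀ l, ∃ cc : Fin m → P, (∀ j, algebraMap P A₀ (cc j) = ((1 : Matrix (Fin m) (Fin m) A₀) - J₀ * T₀) l j) ∧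
          ∑ j, cc j * f j ∈ I.map (algebraMap R P) ⊔ Ideal.span (Set.range f) ^ 2) :
    ∃ (A : Type u) (_ : CommRing A) (_ : Algebra R A), Algebra.Smooth R A ∧
      Nonempty ((A ⧸ I.map (algebraMap R A)) ≃ₐ[R ⧸ I] A₀) := by
  classical
  let J₀ : Matrix (Fin m) (Fin n) A₀ := Matrix.of fun l i => algebraMap P A₀ (bP.repr (D R P (f l)) i)
  obtain ⟨hJTJ, hsyz⟩ := hT₀ J₀ fun l i => rfl
  have hE₀ : (J₀ * T₀) * (J₀ * T₀) = J₀ * T₀ := by rw [← Matrix.mul_assoc, hJTJ]
  obtain ⟨B, _, _, θP, W, d, gg, hEt, hW, hθW, hgg, hdec, hL⟩ := exists_idem_cover hs (J₀ * T₀) hE₀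
  letI : Algebra R B := Algebra.compHom B (algebraMap R P)
  haveI : IsScalarTower R P B := IsScalarTower.of_algebraMap_eq fun _ => rfl
  haveI := hEt
  haveI : Algebra.Smooth P B := inferInstance
  haveI : Algebra.Smooth R B := Algebra.Smooth.comp R P B
  let θ : B →ₐ[R] A₀ := θP.restrictScalars R
  have hθ : ∀ p, θ (algebraMap P B p) = algebraMap P A₀ p := θP.commutes
  have hθs : Function.Surjective θ := fun a => by
    obtain ⟨p, rfl⟩ := hs a; exact ⟨_, hθ p⟩
  let bB : Module.Basis (Fin n) B Ω[B⁄R] :=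
    (Algebra.TensorProduct.basis B bP).map (isBaseChange_of_formallyEtale R P B).equiv
  have hcoord : ∀ p i, bB.repr (D R B (algebraMap P B p)) i = algebraMap P B (bP.repr (D R P p) i) := fun p i => by
    have h1 : D R B (algebraMap P B p) = (isBaseChange_of_formallyEtale R P B).equiv (1 ⊗ₜ D R P p) := by
      rw [IsBaseChange.equiv_tmul, one_smul, map_D]
    rw [h1, Module.Basis.map_repr, LinearEquiv.trans_apply, LinearEquiv.symm_apply_apply,
      Algebra.TensorProduct.basis_repr_tmul, one_smul, Finsupp.mapRange_apply]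
  let F : Fin m → B := fun j => algebraMap P B (f j)
  let G : Fin m → B := fun l => ∑ j, W l j * F j
  have hWG : ∀ l, ∑ j, W l j * G j = G l := fun l => by
    have h1 : ∀ l j, ∑ k, W l k * W k j = W l j := fun l j => by rw [← Matrix.mul_apply, hW]
    change (∑ k, W l k * ∑ j, W k j * F j) = ∑ j, W l j * F j
    simp only [Finset.mul_sum, ← mul_assoc]
    rw [Finset.sum_comm]
    exact Finset.sum_congr rfl fun j _ => by rw [← Finset.sum_mul, h1]
  have hF0 : ∀ j, θ (F j) = 0 := fun j => by rw [hθ, hf]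
  have hG0 : ∀ l, θ (G l) = 0 := fun l => by
    simp only [G, map_sum, map_mul, hF0, mul_zero, Finset.sum_const_zero]
  let K : Ideal B := RingHom.ker θ.toRingHom
  have hIK : I.map (algebraMap R B) ≤ K := by
    rw [Ideal.map_le_iff_le_comap]
    intro r hr
    change θ (algebraMap R B r) = 0
    rw [θ.commutes, IsScalarTower.algebraMap_apply R (R ⧸ I) A₀, Ideal.Quotient.algebraMap_eq,
      Ideal.Quotient.eq_zero_iff_mem.2 hr, map_zero]
  let H : Ideal B := I.map (algebraMap R B) ⊔ Ideal.span (Set.range G)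
  have hHK : H ≤ K := sup_le hIK (by rw [Ideal.span_le]; rintro _ ⟨l, rfl⟩; exact hG0 l)
  have hPB : ∀ p, algebraMap P A₀ p = 0 → algebraMap P B p ∈ I.map (algebraMap R B) ⊔ Ideal.span (Set.range F) :=
    fun p hp => by
      have h := Ideal.mem_map_of_mem (algebraMap P B) (hker p hp)
      rwa [Ideal.map_sup, Ideal.map_map, ← IsScalarTower.algebraMap_eq, Ideal.map_span, ← Set.range_comp] at h
  let s : Fin m ⊕ Fin d → B := Sum.elim F gg
  have hsK : ∀ i, s i ∈ K := by rintro (j | i); exacts [hF0 j, hgg i]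
  have hKs : K ≤ H ⊔ Ideal.span (Set.range s) := fun b hb => by
    obtain ⟨p, hp⟩ := hdec b
    have hgK : Ideal.span (Set.range gg) ≤ K := by rw [Ideal.span_le]; rintro _ ⟨i, rfl⟩; exact hgg i
    have hp0 : algebraMap P A₀ p = 0 := by
      rw [← hθ]
      have : θ (b - algebraMap P B p) = 0 := hgK hp
      rw [map_sub, show θ b = 0 from hb, zero_sub, neg_eq_zero] at this
      exact this
    rw [← sub_add_cancel b (algebraMap P B p)]
    refine add_mem (Ideal.mem_sup_right (Ideal.span_mono ?_ hp))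
      (SetLike.le_def.1 (sup_le_sup le_sup_left (Ideal.span_mono ?_)) (hPB p hp0))
    · rintro _ ⟨i, rfl⟩; exact ⟨Sum.inr i, rfl⟩
    · rintro _ ⟨j, rfl⟩; exact ⟨Sum.inl j, rfl⟩
  have hF : ∀ l, F l ∈ H ⊔ K ^ 2 := by
    intro l
    obtain ⟨cc, hcc, hmem⟩ := hsyz l
    have hy : algebraMap P B (∑ j, cc j * f j) ∈ I.map (algebraMap R B) ⊔ K ^ 2 := by
      have h := Ideal.mem_map_of_mem (algebraMap P B) hmem
      rw [Ideal.map_sup, Ideal.map_map, ← IsScalarTower.algebraMap_eq, Ideal.map_pow, Ideal.map_span,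
        ← Set.range_comp] at h
      refine SetLike.le_def.1 (sup_le_sup le_rfl (Ideal.pow_right_mono ?_ 2)) h
      rw [Ideal.span_le]; rintro _ ⟨j, rfl⟩; exact hF0 j
    have hd1 : F l - G l - algebraMap P B (∑ j, cc j * f j) ∈ K ^ 2 := by
      have he : F l - G l - algebraMap P B (∑ j, cc j * f j) =
          ∑ j, (((1 : Matrix (Fin m) (Fin m) B) - W) l j - algebraMap P B (cc j)) * F j := by
        simp only [G, F, map_sum, map_mul, sub_mul, Finset.sum_sub_distrib, Matrix.sub_apply, Matrix.one_apply,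
          ite_mul, one_mul, zero_mul, Finset.sum_ite_eq, Finset.mem_univ, if_true]
      rw [he, pow_two]
      refine Ideal.sum_mem _ fun j _ => Ideal.mul_mem_mul ?_ (hF0 j)
      change θ _ = 0
      rw [map_sub, hθ, hcc, sub_eq_zero, Matrix.sub_apply, Matrix.sub_apply, map_sub, ← hθW, Matrix.map_apply]
      congr 1
      simp [Matrix.one_apply, apply_ite]
    rw [show F l = (G l + algebraMap P B (∑ j, cc j * f j)) + (F l - G l - algebraMap P B (∑ j, cc j * f j)) by ring]
    refine add_mem (add_mem (Ideal.mem_sup_left (Ideal.mem_sup_right (Ideal.subset_span ⟨l, rfl⟩))) ?_)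
      (Ideal.mem_sup_right hd1)
    exact SetLike.le_def.1 (sup_le_sup le_sup_left le_rfl) hy
  have hgL : ∀ i, gg i ∈ H ⊔ K ^ 2 := hL _
    (fun p hp => SetLike.le_def.1 (sup_le (le_sup_left.trans le_sup_left)
      (by rw [Ideal.span_le]; rintro _ ⟨j, rfl⟩; exact hF j)) (hPB p hp))
    (fun i j => Ideal.mem_sup_right (by rw [pow_two]; exact Ideal.mul_mem_mul (hgg i) (hgg j)))
  obtain ⟨u, hu, hu'⟩ := exists_nakayama H K hHK s hKs hsK
    (hKs.trans (sup_le le_sup_left (by rw [Ideal.span_le]; rintro _ ⟨j | i, rfl⟩; exacts [hF j, hgL i])))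
  choose T' hT' using fun i j => hs (T₀ i j)
  let TB : Matrix (Fin n) (Fin m) B := Matrix.of fun i j => algebraMap P B (T' i j)
  let JB : Matrix (Fin m) (Fin n) B := Matrix.of fun l i => bB.repr (D R B (G l)) i
  have hJB : JB.map θ = J₀ := by
    ext l i
    change θ (bB.repr (D R B (G l)) i) = J₀ l i
    have hDG : D R B (G l) = ∑ j, (W l j • D R B (F j) + F j • D R B (W l j)) := by simp [G, map_sum]
    rw [hDG]
    simp only [map_sum, map_add, map_smul, Finsupp.coe_finsetSum, Finset.sum_apply, Finsupp.coe_add, Pi.add_apply,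
      Finsupp.coe_smul, Pi.smul_apply, smul_eq_mul, map_mul, hF0, zero_mul, add_zero]
    have h2 : ∀ j, θ (W l j) = (J₀ * T₀) l j := fun j => congrFun (congrFun hθW l) j
    have h3 : ∀ j, θ (bB.repr (D R B (F j)) i) = J₀ j i := fun j => by rw [hcoord, hθ]; rfl
    simp only [h2, h3]
    exact congrFun (congrFun hJTJ l) i
  have hdet : θ (W * JB * TB * W + (1 - W)).det = 1 := by
    have hTB : TB.map θ = T₀ := by ext i j; exact (hθ _).trans (hT' i j)
    have hθW' : W.map θ = J₀ * T₀ := hθW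
    rw [AlgHom.map_det θ, map_add, map_sub, map_one, AlgHom.mapMatrix_apply, Matrix.map_mul, Matrix.map_mul,
      Matrix.map_mul, AlgHom.mapMatrix_apply, hθW', hJB, hTB, Matrix.mul_assoc _ J₀ T₀, hE₀, hE₀, add_sub_cancel,
      Matrix.det_one]
  refine exists_of_cover I bB θ hθs W hW G hWG hG0 TB hdet u ?_ fun b hb => hu' b hb
  have : θ (u - 1) = 0 := hu
  rwa [map_sub, map_one, sub_eq_zero] at this

theorem exists_smooth_lift {R A₀ : Type u} [CommRing R] (I : Ideal R) [CommRing A₀]
    [Algebra (R ⧸ I) A₀] [Algebra.Smooth (R ⧸ I) A₀] :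
    ∃ (A : Type u) (_ : CommRing A) (_ : Algebra R A), Algebra.Smooth R A ∧
      Nonempty ((A ⧸ I.map (algebraMap R A)) ≃ₐ[R ⧸ I] A₀) := by
  classical
  rcases subsingleton_or_nontrivial A₀ with h0 | h0
  · exact smooth_lift_of_subsingleton I
  letI : Algebra R A₀ := Algebra.compHom A₀ (algebraMap R (R ⧸ I))
  haveI : IsScalarTower R (R ⧸ I) A₀ := IsScalarTower.of_algebraMap_eq fun _ => rfl
  obtain ⟨n, φ₀, hφ₀, hfg⟩ := Algebra.FinitePresentation.out (R := R ⧸ I) (A := A₀)
  obtain ⟨m, f₀, hf₀⟩ := Submodule.fg_iff_exists_fin_generating_family.1 hfg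
  haveI : IsLocalization (⊥ : Submonoid A₀) A₀ := by
    constructor
    constructor
    · rintro ⟨_, rfl⟩; exact isUnit_one
    · intro z; exact ⟨⟨z, 1⟩, by simp⟩
    · intro x y h; exact ⟨1, by simpa using h⟩
  obtain ⟨hA, ⟨T₀, hT₀⟩, -, -⟩ := conormal φ₀ hφ₀ f₀ hf₀.symm ⊥ A₀
  have hker₀ : ∀ x, φ₀ x = 0 ↔ x ∈ Ideal.span (Set.range f₀) := fun x => by
    rw [← show RingHom.ker φ₀.toRingHom = Ideal.span (Set.range f₀) from hf₀.symm]
    rfl
  have hfz : ∀ j, φ₀ (f₀ j) = 0 := fun j => (hker₀ _).2 (Ideal.subset_span ⟨j, rfl⟩)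
  let μ : MvPolynomial (Fin n) R →+* MvPolynomial (Fin n) (R ⧸ I) := MvPolynomial.map (Ideal.Quotient.mk I)
  have hμ : Function.Surjective μ := MvPolynomial.map_surjective _ Ideal.Quotient.mk_surjective
  have hkμ : ∀ x, μ x = 0 → x ∈ I.map (algebraMap R (MvPolynomial (Fin n) R)) := by
    intro x hx
    rw [MvPolynomial.algebraMap_eq, MvPolynomial.mem_map_C_iff]
    intro k
    have := congrArg (MvPolynomial.coeff k) hx
    rwa [MvPolynomial.coeff_map, MvPolynomial.coeff_zero, Ideal.Quotient.eq_zero_iff_mem] at this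
  choose f hf using fun j => hμ (f₀ j)
  have hlift : ∀ (x : MvPolynomial (Fin n) R) (k : ℕ), μ x ∈ Ideal.span (Set.range f₀) ^ k →
      x ∈ I.map (algebraMap R (MvPolynomial (Fin n) R)) ⊔ Ideal.span (Set.range f) ^ k := by
    intro x k hx
    have hx' : μ x ∈ (Ideal.span (Set.range f) ^ k).map μ := by
      rw [Ideal.map_pow, Ideal.map_span, ← Set.range_comp, show μ ∘ f = f₀ from funext hf]
      exact hx
    obtain ⟨q, hq, hqx⟩ := (Ideal.mem_map_iff_of_surjective μ hμ).1 hx'
    rw [show x = (x - q) + q by ring]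
    exact Submodule.add_mem_sup (hkμ _ (by rw [map_sub, hqx, sub_self])) hq
  letI : Algebra (MvPolynomial (Fin n) R) A₀ := (φ₀.toRingHom.comp μ).toAlgebra
  haveI : IsScalarTower R (MvPolynomial (Fin n) R) A₀ := IsScalarTower.of_algebraMap_eq fun r => by
    change algebraMap R A₀ r = φ₀ (μ (MvPolynomial.C r))
    rw [MvPolynomial.map_C, ← MvPolynomial.algebraMap_eq, φ₀.commutes]
    rfl
  haveI : Algebra.Smooth R (MvPolynomial (Fin n) R) := ⟨inferInstance, inferInstance⟩
  refine exists_lift_of_presentation I (mvPolynomialBasis R (Fin n)) (hφ₀.comp hμ) f (fun j => ?_) (fun p hp => ?_)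
    T₀ fun J₀ hJ₀ => ?_
  · change φ₀ (μ (f j)) = 0
    rw [hf, hfz]
  · have := hlift p 1 (by rw [pow_one]; exact (hker₀ _).1 hp)
    rwa [pow_one] at this
  · have hJ : J₀ = Matrix.of fun j => jac φ₀ A₀ (f₀ j) := by
      ext l i
      rw [hJ₀, mvPolynomialBasis_repr_apply]
      change φ₀ (μ (MvPolynomial.pderiv i (f l))) = φ₀ (MvPolynomial.pderiv i (f₀ l))
      rw [← MvPolynomial.pderiv_map, hf]
    have hJTJ : J₀ * T₀ * J₀ = J₀ := by rw [hJ]; exact funext fun l => hT₀ l
    refine ⟨hJTJ, fun l => ?_⟩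
    choose c' hc' using fun j => hφ₀ (((1 : Matrix (Fin m) (Fin m) A₀) - J₀ * T₀) l j)
    choose cc hcc using fun j => hμ (c' j)
    refine ⟨cc, fun j => ?_, hlift _ 2 ?_⟩
    · change φ₀ (μ (cc j)) = _
      rw [hcc, hc']
    simp only [map_sum, map_mul, hcc, hf]
    have h0 : jac φ₀ A₀ (∑ j, c' j * f₀ j) = 0 := by
      rw [jac_sum]
      simp only [jac_mul _ _ _ (hfz _), hc']
      have : ((1 : Matrix (Fin m) (Fin m) A₀) - J₀ * T₀) * J₀ = 0 := by
        rw [Matrix.sub_mul, Matrix.one_mul, hJTJ, sub_self]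
      funext i
      rw [Finset.sum_apply]
      have h4 := congrFun (congrFun this l) i
      rw [Matrix.mul_apply] at h4
      simp only [hJ] at h4 ⊢
      exact h4
    have hx : ∑ j, c' j * f₀ j ∈ Ideal.span (Set.range f₀) :=
      Ideal.sum_mem _ fun j _ => Ideal.mul_mem_left _ _ (Ideal.subset_span ⟨j, rfl⟩)
    obtain ⟨s, hs, hsx⟩ := hA _ hx h0
    have hs1 : s - 1 ∈ Ideal.span (Set.range f₀) :=
      (hker₀ _).1 (by rw [map_sub, map_one, show φ₀ s = 1 from hs, sub_self])
    rw [show ∑ j, c' j * f₀ j = s * ∑ j, c' j * f₀ j - (s - 1) * ∑ j, c' j * f₀ j by ring]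
    exact sub_mem hsx (by rw [pow_two]; exact Ideal.mul_mem_mul hs1 hx)

end Groth.Agent.SmoothingLib
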