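import Groth.Agent.SmoothingLib.GeomStable
import Groth.Agent.SmoothingLib.GeomFrameBasic
import Mathlib

/-!
# Clearing the denominators of a frame
-/

set_option autoImplicit false
set_option linter.style.haveILetI false

universe u

open IsLocalRing MvPolynomial

namespace Groth.Agent.SmoothingLib.GeomDiff

/-- Homogenization with respect to an extra variable. -/
theorem exists_homog {σ k : Type u} [Field k] (v : MvPolynomial σ k) :
    ∃ (θ : MvPolynomial (σ ⊕ PUnit.{u+1}) k) (e : ℕ), ∀ (S : Type u) [CommRing S] [Algebra k S] (g y : σ → S) (β : S),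
      (∀ s, y s = g s * β) → aeval (Sum.elim y fun _ => β) θ = aeval g v * β ^ e := by
  induction v using MvPolynomial.induction_on with
  | C c => exact ⟨C c, 0, fun S _ _ g y β _ => by rw [algHom_C, algHom_C, pow_zero, mul_one]⟩
  | add p q hp hq =>
    obtain ⟨θ, e, h⟩ := hp
    obtain ⟨θ', e', h'⟩ := hq
    refine ⟨θ * X (Sum.inr PUnit.unit) ^ e' + θ' * X (Sum.inr PUnit.unit) ^ e, e + e', fun S _ _ g y β hy => ?_⟩
    simp only [map_add, map_mul, map_pow, aeval_X, Sum.elim_inr, h S g y β hy, h' S g y β hy, pow_add]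
    ring
  | mul_X p s hp =>
    obtain ⟨θ, e, h⟩ := hp
    refine ⟨θ * X (Sum.inl s), e + 1, fun S _ _ g y β hy => ?_⟩
    simp only [map_mul, aeval_X, Sum.elim_inl, h S g y β hy, hy s, pow_succ]
    ring

set_option maxHeartbeats 1000000 in
/-- A smooth base with exact relations, stable parameters, and the frame in its local ring. -/
theorem exists_base {k A Λ : Type u} [Field k] [CommRing A] [Algebra k A] [CommRing Λ] [Algebra k Λ]
    [IsNoetherianRing Λ] (φ : A →ₐ[k] Λ) (𝔮 : Ideal Λ) [𝔮.IsPrime] [IsRegularLocalRing (Localization.AtPrime 𝔮)]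
    {d r n e : ℕ} (hn : 0 < n) (he : 0 < e) (hd : ringKrullDim (Localization.AtPrime 𝔮) = d)
    (F : Frame k (Localization.AtPrime 𝔮) d) (a : Fin r → A) (lam : Fin d → Fin r → Localization.AtPrime 𝔮)
    (hlam : ∀ i, F.f (F.x i) ^ n = ∑ j, lam i j * algebraMap Λ (Localization.AtPrime 𝔮) (φ (a j))) :
    ∃ (R' : Type u) (_ : CommRing R') (_ : Algebra k R'), Algebra.Smooth k R' ∧
      ∃ (δ : R' →ₐ[k] Λ) (x : Fin d → R') (lamΛ : Fin d → Fin r → Λ),
        (∀ i, δ (x i) ^ n = ∑ j, lamΛ i j * φ (a j)) ∧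
        (∀ i : Fin d, ∀ z, x i ^ 2 * z ∈ Ideal.span (Set.range fun j : {j : Fin d // (j : ℕ) < (i : ℕ)} => x j ^ e) →
          x i * z ∈ Ideal.span (Set.range fun j : {j : Fin d // (j : ℕ) < (i : ℕ)} => x j ^ e)) ∧
        (∀ i : Fin d, ∀ z, δ (x i) ^ 2 * z ∈ Ideal.span (Set.range fun j : {j : Fin d // (j : ℕ) < (i : ℕ)} => δ (x j) ^ e) →
          δ (x i) * z ∈ Ideal.span (Set.range fun j : {j : Fin d // (j : ℕ) < (i : ℕ)} => δ (x j) ^ e)) ∧
        ∃ (hT : Localization.AtPrime (𝔮.comap δ.toRingHom) →ₐ[k] Localization.AtPrime 𝔮)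
          (gs : F.σ → Localization.AtPrime (𝔮.comap δ.toRingHom))
          (u : Fin d → (Localization.AtPrime (𝔮.comap δ.toRingHom))ˣ),
          IsLocalHom hT.toRingHom ∧ (∀ z, hT (algebraMap R' _ z) = algebraMap Λ _ (δ z)) ∧
          (∀ s, hT (gs s) = F.f (X s)) ∧ (∀ i, algebraMap R' _ (x i) = (u i : _) * aeval gs (F.x i)) ∧
          ∀ i j, algebraMap Λ _ (lamΛ i j) = hT (u i) ^ n * lam i j := by
  classical
  let L := Localization.AtPrime 𝔮
  obtain ⟨b, hb⟩ := IsLocalization.exist_integer_multiples_of_finite 𝔮.primeCompl fun s => F.f (X s)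
  choose Y hY using hb
  have hY' : ∀ s, algebraMap Λ L (Y s) = F.f (X s) * algebraMap Λ L b := fun s => by
    rw [hY s, Algebra.smul_def, mul_comm]
  let δ₀ : MvPolynomial (F.σ ⊕ PUnit.{u+1}) k →ₐ[k] Λ := aeval (Sum.elim Y fun _ => (b : Λ))
  choose θ ex hθe using fun i => exists_homog (F.x i)
  have hθL : ∀ i, algebraMap Λ L (δ₀ (θ i)) = F.f (F.x i) * algebraMap Λ L b ^ ex i := fun i => by
    have h1 := hθe i L (fun s => F.f (X s)) (fun s => algebraMap Λ L (Y s)) (algebraMap Λ L b) hY'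
    rw [show (aeval fun s => F.f (X s)) = F.f from (aeval_unique F.f).symm] at h1
    rw [← h1]
    have h2 : (IsScalarTower.toAlgHom k Λ L).comp δ₀ =
        aeval (Sum.elim (fun s => algebraMap Λ L (Y s)) fun _ => algebraMap Λ L b) :=
      MvPolynomial.algHom_ext fun s => by rcases s with s | s <;> simp [δ₀]
    exact AlgHom.congr_fun h2 (θ i)
  have hbu : IsUnit (algebraMap Λ L b) := IsLocalization.map_units L b
  obtain ⟨c, hc⟩ := IsLocalization.exist_integer_multiples_of_finite 𝔮.primeCompl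
    fun ij : Fin d × Fin r => algebraMap Λ L b ^ (ex ij.1 * n) * lam ij.1 ij.2
  choose ℓ hℓ using hc
  have hℓ' : ∀ i j, algebraMap Λ L (ℓ (i, j)) = algebraMap Λ L c * (algebraMap Λ L b ^ (ex i * n) * lam i j) :=
    fun i j => by rw [hℓ (i, j), Algebra.smul_def]
  have hrel : ∀ i, ∃ w : 𝔮.primeCompl, (w : Λ) * ((c : Λ) * δ₀ (θ i) ^ n) = w * ∑ j, ℓ (i, j) * φ (a j) := fun i => by
    refine (IsLocalization.eq_iff_exists 𝔮.primeCompl L).1 ?_
    simp only [map_mul, map_pow, map_sum, hℓ', hθL, mul_pow, ← pow_mul, hlam i, Finset.mul_sum, Finset.sum_mul]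
    exact Finset.sum_congr rfl fun j _ => by ring
  choose w hw using hrel
  haveI : Algebra.Smooth k (MvPolynomial (F.σ ⊕ PUnit.{u+1}) k) := ⟨inferInstance, inferInstance⟩
  obtain ⟨R', _, _, hsm, ι, δ, hδι, s, hs, hstR, hstΛ⟩ := exists_stable_base 𝔮 hd δ₀ θ (by
    refine le_antisymm (Ideal.span_le.2 ?_) ((F.span_f.symm.le).trans (Ideal.span_le.2 ?_))
    · rintro _ ⟨i, rfl⟩
      show algebraMap Λ L (δ₀ (θ i)) ∈ maximalIdeal L
      rw [hθL]
      exact F.span_f.le (Ideal.mul_mem_right _ _ (Ideal.subset_span (Set.mem_range_self i)))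
    · rintro _ ⟨i, rfl⟩
      refine (Ideal.mul_unit_mem_iff_mem _ (hbu.pow (ex i))).1 ?_
      rw [← hθL]
      exact Ideal.subset_span ⟨i, rfl⟩) (fun i => (w i : Λ) * c)
    (fun i => 𝔮.primeCompl.mul_mem (w i).2 c.2) e he
  choose hs' hdvd using hs
  choose r' hr' using hdvd
  have hδθ : ∀ i, δ (ι (θ i)) = δ₀ (θ i) := fun i => AlgHom.congr_fun hδι _
  let T := Localization.AtPrime (𝔮.comap δ.toRingHom)
  let hTr : T →+* L := Localization.localRingHom _ 𝔮 δ.toRingHom rfl
  have hTr' : ∀ z, hTr (algebraMap R' T z) = algebraMap Λ L (δ z) := fun z =>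
    Localization.localRingHom_to_map _ _ _ rfl z
  let hT : T →ₐ[k] L := ⟨hTr, fun z => by
    rw [IsScalarTower.algebraMap_apply k R' T]
    refine (hTr' _).trans ?_
    rw [δ.commutes, ← IsScalarTower.algebraMap_apply]⟩
  have hT' : ∀ z, hT (algebraMap R' T z) = algebraMap Λ L (δ z) := hTr'
  have hunit : ∀ z, δ z ∉ 𝔮 → IsUnit (algebraMap R' T z) := fun z hz =>
    IsLocalization.map_units T (⟨z, hz⟩ : (𝔮.comap δ.toRingHom).primeCompl)
  have hδb : δ (ι (X (Sum.inr PUnit.unit))) = (b : Λ) :=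
    (AlgHom.congr_fun hδι _).trans (aeval_X _ _)
  let bu : Tˣ := (hunit (ι (X (Sum.inr PUnit.unit))) (by rw [hδb]; exact b.2)).unit
  have hbu' : hT (bu : T) = algebraMap Λ L b := by
    show hT (algebraMap R' T (ι (X (Sum.inr PUnit.unit)))) = _
    rw [hT', hδb]
  let gs : F.σ → T := fun s => algebraMap R' T (ι (X (Sum.inl s))) * ↑bu⁻¹
  have hgs : ∀ t, hT (gs t) = F.f (X t) := fun t => by
    refine hbu.mul_right_cancel ?_
    rw [← hY' t]
    conv_lhs => rw [← hbu', ← map_mul, Units.inv_mul_cancel_right, hT']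
    exact congrArg _ ((AlgHom.congr_fun hδι _).trans (aeval_X _ _))
  let u : Fin d → Tˣ := fun i => (hunit (s i) (hs' i)).unit * bu ^ ex i
  refine ⟨R', inferInstance, inferInstance, hsm, δ, fun i => s i * ι (θ i),
    fun i j => δ (s i) ^ (n - 1) * (r' i * (w i * ℓ (i, j))), fun i => ?_, hstR, hstΛ, hT, gs, u,
    Localization.isLocalHom_localRingHom _ _ _ rfl, hT', hgs, fun i => ?_, fun i j => ?_⟩
  · obtain ⟨m, rfl⟩ : ∃ m, n = m + 1 := ⟨n - 1, by omega⟩
    rw [map_mul, hδθ, mul_pow, pow_succ (δ (s i)), Nat.add_sub_cancel]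
    conv_lhs => rw [hr' i]
    calc _ = (δ (s i)) ^ m * r' i * ((w i : Λ) * (c * δ₀ (θ i) ^ (m + 1))) := by rw [hr' i]; ring
      _ = (δ (s i)) ^ m * r' i * ((w i : Λ) * ∑ j, ℓ (i, j) * φ (a j)) := by rw [hw i]
      _ = _ := by simp only [Finset.mul_sum]; exact Finset.sum_congr rfl fun j _ => by ring
  · have h1 : (IsScalarTower.toAlgHom k R' T).comp ι =
        aeval (Sum.elim (fun s => algebraMap R' T (ι (X (Sum.inl s)))) fun _ => (bu : T)) :=
      MvPolynomial.algHom_ext fun s => by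
        rcases s with s | s
        · rw [aeval_X]; rfl
        · rw [aeval_X]; exact (IsUnit.unit_spec _).symm
    have h2 : algebraMap R' T (ι (θ i)) = aeval gs (F.x i) * (bu : T) ^ ex i :=
      (AlgHom.congr_fun h1 (θ i)).trans (hθe i T gs _ (bu : T) fun s => by simp [gs])
    rw [map_mul, h2]
    simp only [u, Units.val_mul, Units.val_pow_eq_pow_val, IsUnit.unit_spec]
    ring
  · obtain ⟨m, rfl⟩ : ∃ m, n = m + 1 := ⟨n - 1, by omega⟩
    simp only [u, Units.val_mul, Units.val_pow_eq_pow_val, IsUnit.unit_spec, map_mul, map_pow, hbu', hT', hℓ',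
      Nat.add_sub_cancel]
    simp only [hr' i, map_mul, show algebraMap Λ (Localization.AtPrime 𝔮) (ℓ (i, j)) = _ from hℓ' i j]
    ring

end Groth.Agent.SmoothingLib.GeomDiff
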