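import Groth.Agent.SmoothingLib.LocalResolve
import Groth.Agent.SGA1Q.FlatNilp
import Mathlib.RingTheory.MvPolynomial.Ideal

/-!
# The algebra of power relations, monomial ideals, and flatness over a nilpotent quotient
-/

set_option linter.style.haveILetI false

universe u

open MvPolynomial
open scoped TensorProduct

namespace Groth.Agent.SmoothingLib.RegRes

/-- Multiplication by a variable is injective modulo powers of the other variables. -/
theorem mem_span_X_pow_of_X_pow_mul_mem {k : Type u} [CommRing k] {σ : Type*} (s : Set σ) (e a : ℕ) (i : σ)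
    (hi : i ∉ s) (f : MvPolynomial σ k)
    (h : X i ^ a * f ∈ Ideal.span ((fun j => (X j : MvPolynomial σ k) ^ e) '' s)) :
    f ∈ Ideal.span ((fun j => (X j : MvPolynomial σ k) ^ e) '' s) := by
  classical
  have hS : (fun j => (X j : MvPolynomial σ k) ^ e) '' s =
      (fun m => monomial m (1 : k)) '' ((fun j => Finsupp.single j e) '' s) := by
    rw [Set.image_image]
    exact Set.image_congr fun j _ => X_pow_eq_monomial
  rw [hS, mem_ideal_span_monomial_image] at h ⊢
  intro m hm
  have hm' : Finsupp.single i a + m ∈ (X i ^ a * f).support := by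
    rw [X_pow_eq_monomial, mem_support_iff, coeff_monomial_mul, one_mul]
    exact mem_support_iff.1 hm
  obtain ⟨t, ⟨j, hj, rfl⟩, ht⟩ := h _ hm'
  refine ⟨_, ⟨j, hj, rfl⟩, fun l => ?_⟩
  have h1 := ht l
  have hji : i ≠ j := fun h => hi (h ▸ hj)
  by_cases hl : j = l
  · subst hl
    simpa [Finsupp.single_apply, hji] using h1
  · simp [Finsupp.single_apply, hl]

set_option maxHeartbeats 1000000 in
/-- Flatness over a quotient by an ideal with nilpotent image from the injectivity of `I ⊗ M → M`. -/
theorem flat_quotient_of_injective {R M : Type u} [CommRing R] [CommRing M] [Algebra R M] (I J : Ideal R)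
    (hJI : J ≤ I) [I.IsMaximal] (hpow : ∃ n : ℕ, I ^ n ≤ J) (hI : Function.Injective (I.subtype.rTensor M)) :
    Module.Flat (R ⧸ J) (M ⧸ J.map (algebraMap R M)) := by
  classical
  let mk := Ideal.Quotient.mk J
  let I' := I.map mk
  let M' := M ⧸ J.map (algebraMap R M)
  let mkM : M →+* M' := Ideal.Quotient.mk _
  have hnil : IsNilpotent I' := by
    obtain ⟨n, hn⟩ := hpow
    exact ⟨n, by rw [← Ideal.map_pow]; exact Ideal.map_eq_bot_iff_le_ker mk |>.2 (hn.trans Ideal.mk_ker.ge)⟩
  haveI : I'.IsMaximal := Ideal.map_eq_top_or_isMaximal_of_surjective mk Ideal.Quotient.mk_surjective ‹_› |>.resolve_left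
    fun h => (inferInstance : I.IsMaximal).ne_top (by
      have := congrArg (Ideal.comap mk) h
      rw [Ideal.comap_map_of_surjective mk Ideal.Quotient.mk_surjective, Ideal.comap_top, ← RingHom.ker_eq_comap_bot,
        Ideal.mk_ker, sup_eq_left.2 hJI] at this
      exact this)
  haveI : Module.Flat ((R ⧸ J) ⧸ I') (((R ⧸ J) ⧸ I') ⊗[R ⧸ J] M') := by
    letI := Ideal.Quotient.field I'
    infer_instance
  refine SGA1Q.flat_of_isNilpotent I' M' hnil ?_ (SGA1Q.keepsInjective_of_flat I' M')
  let ev₀ : TensorProduct R I M →ₗ[R] M := (TensorProduct.lid R M).toLinearMap ∘ₗ I.subtype.rTensor M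
  have hev₀ : Function.Injective ev₀ := (TensorProduct.lid R M).injective.comp hI
  let ev : TensorProduct (R ⧸ J) I' M' →ₗ[R ⧸ J] M' :=
    (TensorProduct.lid (R ⧸ J) M').toLinearMap ∘ₗ I'.subtype.rTensor M'
  let f : TensorProduct R I M →+ TensorProduct (R ⧸ J) I' M' :=
    TensorProduct.liftAddHom
      (AddMonoidHom.mk' (fun i : I => AddMonoidHom.mk'
        (fun m : M => (⟨mk i, Ideal.mem_map_of_mem mk i.2⟩ : I') ⊗ₜ[R ⧸ J] mkM m)
        (fun a b => by rw [map_add, TensorProduct.tmul_add]))
        (fun a b => by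
          refine AddMonoidHom.ext fun m => ?_
          simp only [AddMonoidHom.add_apply, AddMonoidHom.mk'_apply, ← TensorProduct.add_tmul]
          congr 1))
      (fun r i m => by
        simp only [AddMonoidHom.mk'_apply]
        rw [show (⟨mk ((r • i : I) : R), Ideal.mem_map_of_mem mk (r • i).2⟩ : I') =
          mk r • (⟨mk i, Ideal.mem_map_of_mem mk i.2⟩ : I') from Subtype.ext (by simp),
          TensorProduct.smul_tmul]
        rfl)
  have hf : ∀ (i : I) (m : M), f (i ⊗ₜ m) = (⟨mk i, Ideal.mem_map_of_mem mk i.2⟩ : I') ⊗ₜ[R ⧸ J] mkM m :=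
    fun _ _ => rfl
  have hfs : Function.Surjective f := fun x => by
    induction x using TensorProduct.induction_on with
    | zero => exact ⟨0, map_zero f⟩
    | add a b ha hb =>
      obtain ⟨a', rfl⟩ := ha
      obtain ⟨b', rfl⟩ := hb
      exact ⟨a' + b', map_add f _ _⟩
    | tmul i m =>
      obtain ⟨i, hi⟩ := i
      obtain ⟨r, hr, rfl⟩ := (Ideal.mem_map_iff_of_surjective mk Ideal.Quotient.mk_surjective).1 hi
      obtain ⟨m, rfl⟩ := Ideal.Quotient.mk_surjective m
      exact ⟨(⟨r, hr⟩ : I) ⊗ₜ m, rfl⟩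
  have hev : ∀ x, ev (f x) = mkM (ev₀ x) := fun x => by
    induction x using TensorProduct.induction_on with
    | zero => simp
    | add a b ha hb => simp only [map_add, ha, hb]
    | tmul i m =>
      rw [hf]
      simp only [ev, ev₀, LinearMap.comp_apply, LinearMap.rTensor_tmul, LinearEquiv.coe_coe, TensorProduct.lid_tmul]
      show mk i • mkM m = mkM (i.1 • m)
      rw [Algebra.smul_def i.1 m, map_mul, Algebra.smul_def]
      rfl
  have hJM : ∀ z ∈ J.map (algebraMap R M), ∃ y, f y = 0 ∧ ev₀ y = z := by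
    intro z hz
    induction hz using Submodule.span_induction with
    | mem x hx =>
      obtain ⟨j, hj, rfl⟩ := hx
      refine ⟨(⟨j, hJI hj⟩ : I) ⊗ₜ 1, ?_, by simp [ev₀, Algebra.smul_def]⟩
      rw [hf, show (⟨mk j, Ideal.mem_map_of_mem mk (hJI hj)⟩ : I') = 0 from
        Subtype.ext (Ideal.Quotient.eq_zero_iff_mem.2 hj), TensorProduct.zero_tmul]
    | zero => exact ⟨0, map_zero f, map_zero ev₀⟩
    | add a b _ _ ha hb =>
      obtain ⟨a', ha', rfl⟩ := ha
      obtain ⟨b', hb', rfl⟩ := hb
      exact ⟨a' + b', by rw [map_add, ha', hb', add_zero], map_add _ _ _⟩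
    | smul c x _ hx =>
      obtain ⟨y, hy, rfl⟩ := hx
      refine ⟨(LinearMap.mulLeft R c).lTensor I y, ?_, ?_⟩
      · have hG : ∀ w, f ((LinearMap.mulLeft R c).lTensor I w) = (LinearMap.mulLeft (R ⧸ J) (mkM c)).lTensor I' (f w) := by
          intro w
          induction w using TensorProduct.induction_on with
          | zero => simp
          | add a b ha hb => simp only [map_add, ha, hb]
          | tmul i m => simp [hf]
        rw [hG, hy, map_zero]
      · have hE : ev₀ ∘ₗ (LinearMap.mulLeft R c).lTensor I = LinearMap.mulLeft R c ∘ₗ ev₀ := by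
          refine TensorProduct.ext' fun i m => ?_
          simp [ev₀]
        exact LinearMap.congr_fun hE y
  refine (injective_iff_map_eq_zero (I'.subtype.rTensor M')).2 fun x hx => ?_
  obtain ⟨y, rfl⟩ := hfs x
  have h1 : mkM (ev₀ y) = 0 := by rw [← hev]; simp [ev, hx]
  obtain ⟨z, hz, hzy⟩ := hJM _ (Ideal.Quotient.eq_zero_iff_mem.1 h1)
  rw [← hev₀ hzy, hz]

section PowerRel

variable {k A : Type u} [CommRing k] [CommRing A] [Algebra k A] {d r : ℕ} (n : ℕ) (a : Fin r → A)

/-- The relations `x_i^n = ∑ a_j x_ij`. -/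
noncomputable def powerRel (i : Fin d) : MvPolynomial (Fin d ⊕ Fin d × Fin r) A :=
  X (Sum.inl i) ^ n - ∑ j, C (a j) * X (Sum.inr (i, j))

/-- The universal algebra with these relations. -/
abbrev PowerAlg (d : ℕ) : Type u :=
  MvPolynomial (Fin d ⊕ Fin d × Fin r) A ⧸ Ideal.span (Set.range (powerRel (d := d) n a))

/-- Its map from the polynomial ring in the `x_i`. -/
noncomputable def powerBase : MvPolynomial (Fin d) k →ₐ[k] PowerAlg n a d :=
  aeval fun i => Ideal.Quotient.mk _ (X (Sum.inl i))

set_option maxHeartbeats 1000000 in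
/-- Where some `a_j` is invertible and `A` is smooth, the universal algebra is smooth over the `x_i`. -/
theorem formallySmooth_powerAlg [Algebra (MvPolynomial (Fin d) k) (PowerAlg n a d)]
    (halg : algebraMap (MvPolynomial (Fin d) k) (PowerAlg n a d) = (powerBase n a).toRingHom)
    (j₀ : Fin r) [Algebra.FormallySmooth k (Localization.Away (a j₀))] :
    Algebra.FormallySmooth (MvPolynomial (Fin d) k) (Localization.Away (algebraMap A (PowerAlg n a d) (a j₀))) := by
  classical
  let P := MvPolynomial (Fin d) k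
  let L := Localization.Away (algebraMap A (PowerAlg n a d) (a j₀))
  let mkA : MvPolynomial (Fin d ⊕ Fin d × Fin r) A →+* PowerAlg n a d := Ideal.Quotient.mk _
  let v : Fin d ⊕ Fin d × Fin r → L := fun t => algebraMap _ L (mkA (X t))
  refine Algebra.FormallySmooth.of_comp_surjective fun T _ _ I hI2 g => ?_
  have hI : IsNilpotent I := ⟨2, hI2⟩
  letI : Algebra k T := ((algebraMap P T).comp (algebraMap k P)).toAlgebra
  haveI : IsScalarTower k P T := IsScalarTower.of_algebraMap_eq fun _ => rfl
  let gA : A →+* T ⧸ I := g.toRingHom.comp ((algebraMap (PowerAlg n a d) L).comp (algebraMap A (PowerAlg n a d)))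
  have hgu : IsUnit (gA (a j₀)) := (IsLocalization.Away.algebraMap_isUnit
    (S := L) (algebraMap A (PowerAlg n a d) (a j₀))).map g
  have hkA : ∀ c : k, gA (algebraMap k A c) = algebraMap k (T ⧸ I) c := fun c => by
    show g (algebraMap _ L (algebraMap A (PowerAlg n a d) (algebraMap k A c))) = _
    have h1 : algebraMap A (PowerAlg n a d) (algebraMap k A c) = algebraMap P (PowerAlg n a d) (C c) := by
      rw [halg]
      show _ = powerBase n a (C c)
      rw [MvPolynomial.algHom_C, ← IsScalarTower.algebraMap_apply]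
    rw [h1, ← IsScalarTower.algebraMap_apply P (PowerAlg n a d) L, g.commutes]
    rfl
  let u : Localization.Away (a j₀) →ₐ[k] T ⧸ I :=
    ⟨IsLocalization.Away.lift (a j₀) hgu, fun c => by
      show IsLocalization.Away.lift (a j₀) hgu (algebraMap k _ c) = _
      rw [IsScalarTower.algebraMap_apply k A (Localization.Away (a j₀)), IsLocalization.Away.lift_eq, hkA]⟩
  let ut := Algebra.FormallySmooth.lift I hI u
  let uA : A →+* T := ut.toRingHom.comp (algebraMap A (Localization.Away (a j₀)))
  have huA : ∀ x, Ideal.Quotient.mk I (uA x) = gA x := fun x => by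
    show Ideal.Quotient.mk I (ut _) = _
    rw [Algebra.FormallySmooth.mk_lift]
    exact IsLocalization.Away.lift_eq (a j₀) hgu x
  obtain ⟨ai, hai⟩ := ((IsLocalization.Away.algebraMap_isUnit (S := Localization.Away (a j₀)) (a j₀)).map ut).exists_right_inv
  have hai' : uA (a j₀) * ai = 1 := hai
  choose η hη using fun t => Ideal.Quotient.mk_surjective (g (v t))
  let x : Fin d → T := fun i => algebraMap P T (X i)
  let val : Fin d ⊕ Fin d × Fin r → T := Sum.elim x fun ij =>
    if ij.2 = j₀ then ai * (x ij.1 ^ n - ∑ j ∈ Finset.univ.erase j₀, uA (a j) * η (Sum.inr (ij.1, j)))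
    else η (Sum.inr ij)
  let G₀ : MvPolynomial (Fin d ⊕ Fin d × Fin r) A →+* T := eval₂Hom uA val
  have hker : ∀ p ∈ Ideal.span (Set.range (powerRel (d := d) n a)), G₀ p = 0 := fun p hp => by
    refine (Ideal.span_le.2 ?_ : _ ≤ RingHom.ker G₀) hp
    rintro _ ⟨i, rfl⟩
    show G₀ (powerRel n a i) = 0
    simp only [powerRel, map_sub, map_pow, map_sum, map_mul, G₀, eval₂Hom_X', eval₂Hom_C]
    have hoff : ∀ j ∈ Finset.univ.erase j₀, uA (a j) * val (Sum.inr (i, j)) = uA (a j) * η (Sum.inr (i, j)) :=
      fun j hj => by simp only [val, Sum.elim_inr, if_neg (Finset.ne_of_mem_erase hj)]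
    rw [← Finset.add_sum_erase _ _ (Finset.mem_univ j₀), Finset.sum_congr rfl hoff]
    simp only [val, Sum.elim_inl, Sum.elim_inr, if_true]
    rw [← mul_assoc, hai', one_mul, sub_add_cancel, sub_self]
  let G₁ : PowerAlg n a d →+* T := Ideal.Quotient.lift _ G₀ hker
  have hG₁u : IsUnit (G₁ (algebraMap A (PowerAlg n a d) (a j₀))) := by
    show IsUnit (G₀ (C (a j₀)))
    simp only [G₀, eval₂Hom_C]
    exact IsUnit.of_mul_eq_one (b := ai) hai'
  let G : L →+* T := IsLocalization.Away.lift (algebraMap A (PowerAlg n a d) (a j₀)) hG₁u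
  have hG : ∀ y, G (algebraMap (PowerAlg n a d) L y) = G₁ y := IsLocalization.Away.lift_eq _ hG₁u
  have hGP : ∀ p : P, G (algebraMap P L p) = algebraMap P T p := by
    intro p
    rw [IsScalarTower.algebraMap_apply P (PowerAlg n a d) L, hG, halg]
    have : G₁.comp (powerBase (k := k) (d := d) n a).toRingHom = algebraMap P T := by
      refine MvPolynomial.ringHom_ext (fun c => ?_) fun i => ?_
      · show G₁ (powerBase n a (C c)) = _
        rw [MvPolynomial.algHom_C, IsScalarTower.algebraMap_apply k A (PowerAlg n a d)]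
        show G₀ (C (algebraMap k A c)) = _
        simp only [G₀, eval₂Hom_C]
        show ut (algebraMap A _ (algebraMap k A c)) = _
        rw [← IsScalarTower.algebraMap_apply, ut.commutes]
        rfl
      · show G₁ (powerBase n a (X i)) = _
        rw [powerBase, aeval_X]
        show G₀ (X (Sum.inl i)) = _
        simp [G₀, val, x]
    exact RingHom.congr_fun this p
  refine ⟨⟨G, hGP⟩, AlgHom.ext fun y => ?_⟩
  refine RingHom.congr_fun (f := (Ideal.Quotient.mk I).comp G) (g := g.toRingHom) ?_ y
  refine IsLocalization.ringHom_ext (Submonoid.powers (algebraMap A (PowerAlg n a d) (a j₀))) ?_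
  have hgx : ∀ i, g (v (Sum.inl i)) = Ideal.Quotient.mk I (x i) := fun i => by
    have h1 : v (Sum.inl i) = algebraMap P L (X i) := by
      rw [IsScalarTower.algebraMap_apply P (PowerAlg n a d) L, halg]
      show _ = algebraMap _ L (powerBase n a (X i))
      rw [powerBase, aeval_X]
    rw [h1, g.commutes]
    rfl
  refine Ideal.Quotient.ringHom_ext (MvPolynomial.ringHom_ext (fun c => ?_) fun t => ?_)
  · show Ideal.Quotient.mk I (G (algebraMap _ L (mkA (C c)))) = gA c
    rw [hG, ← huA]
    show Ideal.Quotient.mk I (G₀ (C c)) = _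
    simp [G₀]
  · show Ideal.Quotient.mk I (G (v t)) = g (v t)
    rw [hG]
    show Ideal.Quotient.mk I (G₀ (X t)) = _
    rw [eval₂Hom_X']
    rcases t with i | ⟨i, j⟩
    · exact (hgx i).symm
    · by_cases hj : j = j₀
      · subst hj
        have hrel : mkA (powerRel n a i) = 0 := Ideal.Quotient.eq_zero_iff_mem.2 (Ideal.subset_span ⟨i, rfl⟩)
        have h1 := congrArg (fun y => g (algebraMap _ L y)) hrel
        simp only [powerRel, map_sub, map_pow, map_sum, map_mul, map_zero] at h1
        rw [← Finset.add_sum_erase _ _ (Finset.mem_univ j)] at h1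
        have hCg : ∀ c, g (algebraMap _ L (mkA (C c))) = gA c := fun _ => rfl
        change g (v (Sum.inl i)) ^ n - (g (algebraMap _ L (mkA (C (a j)))) * g (v (Sum.inr (i, j))) +
          ∑ x ∈ Finset.univ.erase j, g (algebraMap _ L (mkA (C (a x)))) * g (v (Sum.inr (i, x)))) = 0 at h1
        simp only [hCg, hgx, ← hη, ← huA, ← map_pow, ← map_mul, ← map_sum, ← map_sub, ← map_add] at h1
        simp only [val, Sum.elim_inr, if_true, ← hη]
        rw [Ideal.Quotient.eq] at ⊢
        rw [Ideal.Quotient.eq_zero_iff_mem] at h1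
        have := I.mul_mem_left ai h1
        rw [show ai * (x i ^ n - ∑ j' ∈ Finset.univ.erase j, uA (a j') * η (Sum.inr (i, j'))) - η (Sum.inr (i, j)) =
          ai * (x i ^ n - (uA (a j) * η (Sum.inr (i, j)) +
            ∑ j' ∈ Finset.univ.erase j, uA (a j') * η (Sum.inr (i, j')))) by
          linear_combination η (Sum.inr (i, j)) * hai']
        exact this
      · simp only [val, Sum.elim_inr, if_neg hj, hη]

end PowerRel

end Groth.Agent.SmoothingLib.RegRes
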