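import Groth.Agent.SmoothingLib.GeomFrame
import Groth.Agent.SmoothingLib.RelationAlg
import Mathlib

/-!
# Moving the ind-smooth factorization to a smooth base
-/

set_option autoImplicit false
set_option linter.style.haveILetI false

universe u

open MvPolynomial
open scoped TensorProduct

namespace Groth.Agent.SmoothingLib.GeomDiff

open RegRes (PowerAlg powerRel powerBase)

set_option maxHeartbeats 2000000 in
set_option synthInstance.maxHeartbeats 200000 in
theorem exists_factor_mod {k A L : Type u} [Field k] [CommRing A] [Algebra k A] [Algebra.FinitePresentation k A]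
    [CommRing L] [Algebra k L] [IsLocalRing L] {d r n N : ℕ} (F : Frame k L d) (φ : A →ₐ[k] L)
    (a : Fin r → A) (gens : Finset A) (hgens : Algebra.adjoin k (gens : Set A) = ⊤)
    (lam : Fin d → Fin r → L) (hlam : ∀ i, F.f (F.x i) ^ n = ∑ j, lam i j * φ (a j))
    (hS : letI : Algebra F.Rp L := F.toL.toAlgebra
      letI : CommRing (F.Rp ⧸ F.J N) := Ideal.Quotient.commRing _
      letI : CommRing (L ⧸ (F.J N).map (algebraMap F.Rp L)) := Ideal.Quotient.commRing _
      ∃ S : Subalgebra (F.Rp ⧸ F.J N) (L ⧸ (F.J N).map (algebraMap F.Rp L)),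
        (∀ e ∈ gens, Ideal.Quotient.mk _ (φ e) ∈ S) ∧ (∀ i j, Ideal.Quotient.mk _ (lam i j) ∈ S) ∧
          Smoothing.IndSmooth (F.Rp ⧸ F.J N) S)
    {T : Type u} [CommRing T] [Algebra k T] (hT : T →ₐ[k] L) [IsLocalHom hT.toRingHom] (gs : F.σ → T)
    (hgs : ∀ s, hT (gs s) = F.f (X s)) (u : Fin d → Tˣ)
    (KT : Ideal T) (hKT : KT = Ideal.span (Set.range fun i => ((u i : T) * aeval gs (F.x i)) ^ N))
    (KL : Ideal L) (hKL : KL = KT.map hT.toRingHom) :
    ∃ (B : Type u) (_ : CommRing B) (_ : Algebra (T ⧸ KT) B), Algebra.Smooth (T ⧸ KT) B ∧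
      ∃ (γ : PowerAlg n a d →+* B) (hB : B →+* L ⧸ KL),
        (∀ p, γ (powerBase (k := k) n a p) = algebraMap (T ⧸ KT) B
          (Ideal.Quotient.mk KT (aeval (fun i => (u i : T) * aeval gs (F.x i)) p))) ∧
        (∀ z, hB (algebraMap (T ⧸ KT) B (Ideal.Quotient.mk KT z)) = Ideal.Quotient.mk KL (hT z)) ∧
        (∀ x, hB (γ (Ideal.Quotient.mk _ (MvPolynomial.C x))) = Ideal.Quotient.mk KL (φ x)) ∧
        (∀ i, hB (γ (Ideal.Quotient.mk _ (X (Sum.inl i)))) = Ideal.Quotient.mk KL (hT (u i) * F.f (F.x i))) ∧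
        ∀ i j, hB (γ (Ideal.Quotient.mk _ (X (Sum.inr (i, j))))) = Ideal.Quotient.mk KL (hT (u i) ^ n * lam i j) := by
  classical
  letI : Algebra F.Rp L := F.toL.toAlgebra
  let R0 := F.Rp ⧸ F.J N
  letI : CommRing R0 := Ideal.Quotient.commRing _
  let JL := (F.J N).map (algebraMap F.Rp L)
  let LN := L ⧸ JL
  letI : CommRing LN := Ideal.Quotient.commRing _
  obtain ⟨S, hSg, hSl, hind⟩ := hS
  let A' := PowerAlg n a d
  letI : CommRing A' := Ideal.Quotient.commRing _
  let R := MvPolynomial (Fin d) k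
  letI : Algebra R A' := (powerBase n a).toRingHom.toAlgebra
  haveI : IsScalarTower k R A' := IsScalarTower.of_algebraMap_eq fun c => ((powerBase n a).commutes c).symm
  haveI : Algebra.FinitePresentation A A' :=
    Algebra.FinitePresentation.quotient (Submodule.fg_span (Set.finite_range _))
  haveI : Algebra.FinitePresentation k A' := Algebra.FinitePresentation.trans k A A'
  haveI : Algebra.FinitePresentation R A' :=
    Algebra.FinitePresentation.of_restrict_scalars_finitePresentation k R A'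
  -- the base
  let θ : R →+* R0 := (Ideal.Quotient.mk (F.J N)).comp
    ((algebraMap (MvPolynomial F.σ k) F.Rp).comp (aeval F.x : R →ₐ[k] MvPolynomial F.σ k).toRingHom)
  letI : Algebra R R0 := θ.toAlgebra
  -- the point in the artinian piece
  let G₀ : MvPolynomial (Fin d ⊕ Fin d × Fin r) A →+* LN :=
    eval₂Hom ((Ideal.Quotient.mk JL).comp φ.toRingHom)
      (Sum.elim (fun i => Ideal.Quotient.mk JL (F.f (F.x i))) fun ij => Ideal.Quotient.mk JL (lam ij.1 ij.2))
  have hG₀ : ∀ q ∈ Ideal.span (Set.range (powerRel (d := d) n a)), G₀ q = 0 := fun q hq => by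
    refine (Ideal.span_le.2 ?_ : _ ≤ RingHom.ker G₀) hq
    rintro _ ⟨i, rfl⟩
    show G₀ (powerRel n a i) = 0
    simp only [G₀, powerRel, map_sub, map_pow, map_sum, map_mul, eval₂Hom_X', eval₂Hom_C, Sum.elim_inl,
      Sum.elim_inr, sub_eq_zero, RingHom.comp_apply]
    rw [← map_pow, hlam i, map_sum]
    exact Finset.sum_congr rfl fun j _ => by rw [map_mul, mul_comm]; rfl
  let ψ₀ : A' →+* LN := Ideal.Quotient.lift _ G₀ hG₀
  have hR0L : ∀ v : MvPolynomial F.σ k, algebraMap R0 LN (Ideal.Quotient.mk _ (algebraMap _ F.Rp v)) =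
      Ideal.Quotient.mk JL (F.f v) := fun v => congrArg (Ideal.Quotient.mk JL) (F.toL_algebraMap v)
  have hψR : ∀ v : R, ψ₀ (algebraMap R A' v) = algebraMap R0 LN (θ v) := by
    have : ψ₀.comp (algebraMap R A') = (algebraMap R0 LN).comp θ := by
      refine MvPolynomial.ringHom_ext (fun c => ?_) fun i => ?_
      · show ψ₀ (powerBase n a (MvPolynomial.C c)) = algebraMap R0 LN (Ideal.Quotient.mk _ (algebraMap _ F.Rp (aeval F.x (MvPolynomial.C c))))
        rw [hR0L, MvPolynomial.algHom_C, MvPolynomial.algHom_C, AlgHom.commutes, IsScalarTower.algebraMap_apply k A A']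
        show G₀ (MvPolynomial.C (algebraMap k A c)) = _
        rw [eval₂Hom_C, RingHom.comp_apply]
        exact congrArg _ (φ.commutes c)
      · show ψ₀ (powerBase n a (X i)) = algebraMap R0 LN (Ideal.Quotient.mk _ (algebraMap _ F.Rp (aeval F.x (X i))))
        rw [hR0L, aeval_X, powerBase, aeval_X]
        exact eval₂Hom_X' _ _ _
    exact RingHom.congr_fun this
  have hψS : ∀ v, ψ₀ v ∈ S := by
    intro v
    obtain ⟨v, rfl⟩ := Ideal.Quotient.mk_surjective v
    induction v using MvPolynomial.induction_on with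
    | C x =>
      show G₀ (MvPolynomial.C x) ∈ S
      rw [eval₂Hom_C]
      have hx : x ∈ Algebra.adjoin k (gens : Set A) := hgens.symm ▸ Algebra.mem_top
      induction hx using Algebra.adjoin_induction with
      | mem e he => exact hSg e he
      | algebraMap c =>
        show Ideal.Quotient.mk JL (φ (algebraMap k A c)) ∈ S
        rw [φ.commutes, ← F.f.commutes, ← hR0L]
        exact S.algebraMap_mem _
      | add x y _ _ hx hy => rw [map_add]; exact add_mem hx hy
      | mul x y _ _ hx hy => rw [map_mul]; exact mul_mem hx hy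
    | add p q hp hq => rw [map_add, map_add]; exact add_mem hp hq
    | mul_X p i hp =>
      rw [map_mul, map_mul]
      refine mul_mem hp ?_
      show G₀ (X i) ∈ S
      rw [eval₂Hom_X']
      rcases i with i | ⟨i, j⟩
      · show Ideal.Quotient.mk JL (F.f (F.x i)) ∈ S
        rw [← hR0L]
        exact S.algebraMap_mem _
      · exact hSl i j
  letI : Algebra R LN := ((algebraMap R0 LN).comp θ).toAlgebra
  letI : SMul R R0 := Algebra.toSMul
  letI : Module R R0 := Algebra.toModule
  letI : Module R0 R0 := Semiring.toModule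
  letI : DistribMulAction R R0 := Module.toDistribMulAction
  letI : MulAction R R0 := DistribMulAction.toMulAction
  letI : SMul R LN := Algebra.toSMul
  letI : SMul R0 LN := Algebra.toSMul
  haveI : IsScalarTower R R0 LN := IsScalarTower.of_algebraMap_eq fun _ => rfl
  haveI : IsScalarTower R R0 S := IsScalarTower.of_algebraMap_eq fun v => Subtype.ext (by
    show ((algebraMap R S v : S) : LN) = _
    rfl)
  let ψS : A' →ₐ[R] S := ⟨ψ₀.codRestrict S hψS, fun v => Subtype.ext (hψR v)⟩
  let A0 := R0 ⊗[R] A'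
  let f₁ : A0 →ₐ[R0] S := Algebra.TensorProduct.lift (Algebra.ofId R0 S) ψS fun _ _ => Commute.all _ _
  obtain ⟨B₀, _, _, hB₀, g₀, h₀, hgh₀⟩ := hind A0 inferInstance f₁
  haveI := hB₀
  let β : A' →+* B₀ := g₀.toRingHom.comp (Algebra.TensorProduct.includeRight : A' →ₐ[R] A0).toRingHom
  have hβR : ∀ v : R, β (algebraMap R A' v) = algebraMap R0 B₀ (θ v) := fun v => by
    show g₀ ((1 : R0) ⊗ₜ[R] algebraMap R A' v) = _
    rw [← g₀.commutes]
    congr 1
    rw [Algebra.algebraMap_eq_smul_one, TensorProduct.tmul_smul, TensorProduct.smul_tmul',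
      Algebra.TensorProduct.algebraMap_apply]
    congr 1
    exact (Algebra.algebraMap_eq_smul_one v).symm
  have hβh : ∀ v, ((h₀ (β v) : S) : LN) = ψ₀ v := fun v => by
    show ((h₀.comp g₀ ((1 : R0) ⊗ₜ[R] v) : S) : LN) = _
    rw [hgh₀]
    show ((Algebra.TensorProduct.lift _ _ _ ((1 : R0) ⊗ₜ[R] v) : S) : LN) = _
    rw [Algebra.TensorProduct.lift_tmul, map_one, one_mul]
    rfl
  -- the map of the bases
  have hTf : ∀ v, hT (aeval gs v) = F.f v := fun v => by
    have h1 : hT.comp (aeval gs) = F.f := MvPolynomial.algHom_ext fun s => by simp [hgs]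
    exact AlgHom.congr_fun h1 v
  let gp : F.Rp →+* T := IsLocalization.lift (M := F.P.primeCompl) (g := (aeval gs : MvPolynomial F.σ k →ₐ[k] T).toRingHom)
    fun s => isUnit_of_map_unit hT.toRingHom _ (by
      show IsUnit (hT (aeval gs (s : MvPolynomial F.σ k)))
      rw [hTf]; exact F.isUnit_f s)
  have hgp : ∀ v, gp (algebraMap _ F.Rp v) = aeval gs v := fun v => IsLocalization.lift_eq _ v
  let Tq := T ⧸ KT
  letI : CommRing Tq := Ideal.Quotient.commRing _
  have hJK : (F.J N).map gp = KT := by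
    rw [hKT, Ideal.map_span, ← Set.range_comp]
    refine le_antisymm (Ideal.span_le.2 ?_) (Ideal.span_le.2 ?_)
    · rintro _ ⟨i, rfl⟩
      show gp (algebraMap _ F.Rp (F.x i) ^ N) ∈ _
      rw [map_pow, hgp]
      refine (Ideal.unit_mul_mem_iff_mem _ ((u i).isUnit.pow N)).1 ?_
      rw [← mul_pow]
      exact Ideal.subset_span ⟨i, rfl⟩
    · rintro _ ⟨i, rfl⟩
      show ((u i : T) * aeval gs (F.x i)) ^ N ∈ _
      rw [mul_pow]
      exact Ideal.mul_mem_left _ _ (Ideal.subset_span ⟨i, by simp [hgp]⟩)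
  let θT : R0 →+* Tq := Ideal.Quotient.lift _ ((Ideal.Quotient.mk KT).comp gp) fun v hv =>
    Ideal.Quotient.eq_zero_iff_mem.2 (hJK ▸ Ideal.mem_map_of_mem gp hv)
  letI : Algebra R0 Tq := θT.toAlgebra
  let LK := L ⧸ KL
  letI : CommRing LK := Ideal.Quotient.commRing _
  have hgpL : hT.toRingHom.comp gp = algebraMap F.Rp L := by
    refine IsLocalization.ringHom_ext F.P.primeCompl (RingHom.ext fun v => ?_)
    show hT (gp (algebraMap _ F.Rp v)) = F.toL (algebraMap _ F.Rp v)
    rw [hgp, hTf, F.toL_algebraMap]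
  have hJLK : JL = KL := by rw [hKL, ← hJK, Ideal.map_map, hgpL]
  let hTq : Tq →+* LK := Ideal.Quotient.lift _ ((Ideal.Quotient.mk KL).comp hT.toRingHom) fun v hv =>
    Ideal.Quotient.eq_zero_iff_mem.2 (hKL ▸ Ideal.mem_map_of_mem hT.toRingHom hv)
  let eL : LN ≃+* LK := Ideal.quotEquivOfEq hJLK
  have heL : ∀ v, eL (Ideal.Quotient.mk JL v) = Ideal.Quotient.mk KL v := fun v => Ideal.quotEquivOfEq_mk _ v
  letI : Algebra R0 LK := (hTq.comp θT).toAlgebra
  letI : Algebra Tq LK := hTq.toAlgebra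
  haveI : IsScalarTower R0 Tq LK := IsScalarTower.of_algebraMap_eq fun _ => rfl
  have hcompat : ∀ v : R0, eL (algebraMap R0 LN v) = algebraMap R0 LK v := fun v => by
    obtain ⟨v, rfl⟩ := Ideal.Quotient.mk_surjective v
    show eL (Ideal.Quotient.mk JL (algebraMap F.Rp L v)) = Ideal.Quotient.mk KL (hT (gp v))
    rw [heL]
    exact congrArg _ (RingHom.congr_fun hgpL v).symm
  let hb : B₀ →ₐ[R0] LK :=
    { eL.toRingHom.comp (S.val.toRingHom.comp h₀.toRingHom) with
      commutes' := fun v => by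
        show eL ((h₀ (algebraMap R0 B₀ v) : S) : LN) = _
        rw [h₀.commutes]
        exact hcompat v }
  let B := Tq ⊗[R0] B₀
  let hB : B →ₐ[Tq] LK := Algebra.TensorProduct.lift (Algebra.ofId Tq LK) hb fun _ _ => Commute.all _ _
  let incl : B₀ →+* B := (Algebra.TensorProduct.includeRight : B₀ →ₐ[R0] B).toRingHom
  let U : Fin d → B := fun i => algebraMap Tq B (Ideal.Quotient.mk KT (u i : T))
  let γ₀ : MvPolynomial (Fin d ⊕ Fin d × Fin r) A →+* B :=
    eval₂Hom (incl.comp (β.comp ((Ideal.Quotient.mk _).comp MvPolynomial.C)))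
      (Sum.elim (fun i => U i * incl (β (Ideal.Quotient.mk _ (X (Sum.inl i)))))
        fun ij => U ij.1 ^ n * incl (β (Ideal.Quotient.mk _ (X (Sum.inr ij)))))
  have hγ₀ : ∀ q ∈ Ideal.span (Set.range (powerRel (d := d) n a)), γ₀ q = 0 := fun q hq => by
    refine (Ideal.span_le.2 ?_ : _ ≤ RingHom.ker γ₀) hq
    rintro _ ⟨i, rfl⟩
    show γ₀ (powerRel n a i) = 0
    have h0 : incl (β (Ideal.Quotient.mk _ (powerRel (d := d) n a i))) = 0 := by
      rw [Ideal.Quotient.eq_zero_iff_mem.2 (Ideal.subset_span (Set.mem_range_self i)), map_zero, map_zero]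
    have h1 : γ₀ (powerRel n a i) = U i ^ n * incl (β (Ideal.Quotient.mk _ (powerRel (d := d) n a i))) := by
      simp only [γ₀, powerRel, map_sub, map_pow, map_sum, map_mul, eval₂Hom_X', eval₂Hom_C, Sum.elim_inl,
        Sum.elim_inr, RingHom.comp_apply, mul_sub, Finset.mul_sum, mul_pow]
      congr 1
      exact Finset.sum_congr rfl fun j _ => mul_left_comm _ _ _
    rw [h1, h0, mul_zero]
  let γ : A' →+* B := Ideal.Quotient.lift _ γ₀ hγ₀
  have hγC : ∀ x, γ (Ideal.Quotient.mk _ (MvPolynomial.C x)) = incl (β (Ideal.Quotient.mk _ (MvPolynomial.C x))) :=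
    fun x => eval₂Hom_C _ _ _
  have hγl : ∀ i, γ (Ideal.Quotient.mk _ (X (Sum.inl i))) = U i * incl (β (Ideal.Quotient.mk _ (X (Sum.inl i)))) :=
    fun i => eval₂Hom_X' _ _ _
  have hγr : ∀ ij, γ (Ideal.Quotient.mk _ (X (Sum.inr ij))) = U ij.1 ^ n * incl (β (Ideal.Quotient.mk _ (X (Sum.inr ij)))) :=
    fun ij => eval₂Hom_X' _ _ _
  have hinclT : ∀ v : R0, incl (algebraMap R0 B₀ v) = algebraMap Tq B (θT v) := fun v =>
    ((Algebra.TensorProduct.includeRight : B₀ →ₐ[R0] B).commutes v).trans (IsScalarTower.algebraMap_apply R0 Tq B v)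
  have hincl : ∀ b, hB (incl b) = eL ((h₀ b : S) : LN) := fun b => by
    show Algebra.TensorProduct.lift _ _ _ ((1 : Tq) ⊗ₜ[R0] b) = _
    rw [Algebra.TensorProduct.lift_tmul, map_one, one_mul]
    rfl
  have hU : ∀ i, hB (U i) = Ideal.Quotient.mk KL (hT (u i : T)) := fun i => hB.commutes _
  refine ⟨B, inferInstance, inferInstance, inferInstance, γ, hB.toRingHom, ?_, fun z => hB.commutes _, fun x => ?_,
    fun i => ?_, fun i j => ?_⟩
  · have : γ.comp (powerBase n a).toRingHom = ((algebraMap Tq B).comp (Ideal.Quotient.mk KT)).comp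
        (aeval (fun i => (u i : T) * aeval gs (F.x i)) : R →ₐ[k] T).toRingHom := by
      refine MvPolynomial.ringHom_ext (fun c => ?_) fun i => ?_
      · show γ (powerBase n a (MvPolynomial.C c)) = algebraMap Tq B (Ideal.Quotient.mk KT (aeval _ (MvPolynomial.C c)))
        rw [MvPolynomial.algHom_C, MvPolynomial.algHom_C, IsScalarTower.algebraMap_apply k A A']
        show γ (Ideal.Quotient.mk _ (MvPolynomial.C (algebraMap k A c))) = _
        rw [hγC, show (Ideal.Quotient.mk _ (MvPolynomial.C (algebraMap k A c)) : A') = algebraMap R A' (MvPolynomial.C c) by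
            show _ = powerBase n a (MvPolynomial.C c)
            rw [MvPolynomial.algHom_C, IsScalarTower.algebraMap_apply k A A']
            rfl, hβR, hinclT]
        show algebraMap Tq B (Ideal.Quotient.mk KT (gp (algebraMap _ F.Rp (aeval F.x (MvPolynomial.C c))))) = _
        rw [hgp, MvPolynomial.algHom_C, AlgHom.commutes]
      · show γ (powerBase n a (X i)) = algebraMap Tq B (Ideal.Quotient.mk KT (aeval _ (X i)))
        rw [powerBase, aeval_X, aeval_X, hγl,
          show (Ideal.Quotient.mk _ (X (Sum.inl i)) : A') = algebraMap R A' (X i) from (aeval_X (fun i => (Ideal.Quotient.mk _ (X (Sum.inl i)) : A')) i).symm,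
          hβR, hinclT, map_mul, map_mul]
        congr 1
        show algebraMap Tq B (Ideal.Quotient.mk KT (gp (algebraMap _ F.Rp (aeval F.x (X i))))) = _
        rw [hgp, aeval_X]
    exact RingHom.congr_fun this
  · show hB (γ _) = _
    rw [hγC, hincl, hβh]
    exact (congrArg eL (eval₂Hom_C _ _ _)).trans (heL _)
  · show hB (γ _) = _
    rw [hγl, map_mul hB, hincl, hβh, hU, map_mul]
    congr 1
    exact (congrArg eL (eval₂Hom_X' _ _ _)).trans (heL _)
  · show hB (γ _) = _
    rw [hγr, map_mul hB, map_pow hB, hincl, hβh, hU, map_mul, map_pow]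
    congr 1
    exact (congrArg eL (eval₂Hom_X' _ _ _)).trans (heL _)

end Groth.Agent.SmoothingLib.GeomDiff
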