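import Mathlib
import Groth.Agent.PBasisLib.Smooth
import Groth.Agent.PBasisLib.Field

/-!
# Artinian local subalgebras which are essentially of finite type
-/

set_option autoImplicit false
set_option linter.style.haveILetI false

universe u

open TensorProduct EGA41 Groth.Agent.PBasisLib

namespace Groth.Agent.SmoothingLib.ArtinSub

/-- If the kernel of `K ⊗ Ω_k → Ω_K` is finite, then `k` has, up to finitely many elements, a `p`-basis
which stays `p`-independent in `K`. -/
theorem exists_free_complement (p : ℕ) [Fact p.Prime] (P k K : Type u) [Field P] [Field k] [Field K]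
    [Algebra P k] [Algebra P K] [Algebra k K] [IsScalarTower P k K] [CharP k p] [CharP K p]
    (hH : Module.Finite K (Algebra.H1Cotangent k K)) :
    ∃ (S : Set k) (T : Finset k), SetFree p P (algebraMap k K '' S) ∧
      Fp p P (S ∪ (T : Set k)) = ⊤ := by
  classical
  let f : K ⊗[k] Ω[k⁄P] →ₗ[K] Ω[K⁄P] := KaehlerDifferential.mapBaseChange P k K
  let gen : k → K ⊗[k] Ω[k⁄P] := fun t => (1 : K) ⊗ₜ[k] KaehlerDifferential.D P k t
  have hgen : Submodule.span K (Set.range gen) = ⊤ := by
    rw [eq_top_iff]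
    rintro v -
    induction v using TensorProduct.induction_on with
    | zero => exact zero_mem _
    | tmul a ω =>
      have hω : ω ∈ Submodule.span k (Set.range (KaehlerDifferential.D P k)) :=
        (KaehlerDifferential.span_range_derivation P k).symm ▸ Submodule.mem_top
      induction hω using Submodule.span_induction with
      | mem x hx =>
        obtain ⟨t, rfl⟩ := hx
        rw [show a ⊗ₜ[k] KaehlerDifferential.D P k t = a • gen t by
          show _ = a • ((1 : K) ⊗ₜ[k] KaehlerDifferential.D P k t)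
          rw [TensorProduct.smul_tmul', smul_eq_mul, mul_one]]
        exact Submodule.smul_mem _ _ (Submodule.subset_span ⟨t, rfl⟩)
      | zero => rw [TensorProduct.tmul_zero]; exact zero_mem _
      | add x y _ _ hx hy => rw [TensorProduct.tmul_add]; exact add_mem hx hy
      | smul c x _ hx =>
        rw [TensorProduct.tmul_smul, show c • a ⊗ₜ[k] x = algebraMap k K c • a ⊗ₜ[k] x from
          (IsScalarTower.algebraMap_smul K c _).symm]
        exact Submodule.smul_mem _ _ hx
    | add x y hx hy => exact add_mem hx hy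
  obtain ⟨b, hb, hbspan, hbli⟩ := exists_linearIndependent K (Set.range fun t => f (gen t))
  choose pre hpre using hb
  let S : Set k := Set.range fun x : b => pre x.2
  have hpre' : ∀ x : b, f (gen (pre x.2)) = x := fun x => hpre x.2
  have hD : ∀ t, f (gen t) = KaehlerDifferential.D P K (algebraMap k K t) := fun t => by
    show KaehlerDifferential.mapBaseChange P k K _ = _
    simp [gen]
  have hfree : Free p P (fun x : b => algebraMap k K (pre x.2)) := by
    rw [free_iff_linearIndependent_D]
    have : (fun x : b => KaehlerDifferential.D P K (algebraMap k K (pre x.2))) = Subtype.val :=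
      funext fun x => (hD _).symm.trans (hpre' x)
    rw [this]
    exact hbli
  -- the kernel is spanned by finitely many generators
  have hker : (LinearMap.ker f).FG := by
    have h1 : LinearMap.ker f = LinearMap.range (Algebra.H1Cotangent.δ P k K) :=
      LinearMap.exact_iff.1 (Algebra.H1Cotangent.exact_δ_mapBaseChange P k K)
    rw [h1, LinearMap.range_eq_map]
    exact hH.fg_top.map _
  obtain ⟨s, hs⟩ := hker
  have hfin : ∀ v : K ⊗[k] Ω[k⁄P], ∃ T : Finset k, v ∈ Submodule.span K (gen '' (T : Set k)) := fun v => by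
    obtain ⟨T, hT, hv⟩ := Submodule.mem_span_finite_of_mem_span (hgen ▸ Submodule.mem_top : v ∈ Submodule.span K (Set.range gen))
    choose pT hpT using fun x : (T : Set (K ⊗[k] Ω[k⁄P])) => hT x.2
    refine ⟨Finset.univ.image pT, Submodule.span_mono ?_ hv⟩
    intro x hx
    exact ⟨pT ⟨x, hx⟩, Finset.mem_image_of_mem _ (Finset.mem_univ _), hpT ⟨x, hx⟩⟩
  choose Tv hTv using hfin
  let T : Finset k := s.biUnion Tv
  have hU : Submodule.span K (gen '' (S ∪ (T : Set k))) = ⊤ := by
    rw [eq_top_iff]
    rintro v -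
    have h1 : f v ∈ (Submodule.span K (gen '' S)).map f := by
      have h2 : f v ∈ Submodule.span K b := by
        rw [hbspan, show (Set.range fun t => f (gen t)) = f '' Set.range gen from (Set.range_comp f gen), ← Submodule.map_span, hgen]
        exact ⟨v, Submodule.mem_top, rfl⟩
      rw [Submodule.map_span]
      refine Submodule.span_mono ?_ h2
      intro x hx
      exact ⟨gen (pre hx), ⟨pre hx, ⟨⟨x, hx⟩, rfl⟩, rfl⟩, hpre hx⟩
    obtain ⟨w, hw, hwv⟩ := h1
    have h3 : v - w ∈ Submodule.span K (gen '' (S ∪ (T : Set k))) := by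
      have : v - w ∈ LinearMap.ker f := by rw [LinearMap.mem_ker, map_sub, hwv, sub_self]
      rw [← hs] at this
      refine Submodule.span_le.2 (fun x hx => ?_) this
      refine Submodule.span_mono ?_ (hTv x)
      exact Set.image_mono fun t ht => Or.inr (Finset.mem_biUnion.2 ⟨x, hx, ht⟩)
    rw [← sub_add_cancel v w]
    exact add_mem h3 (Submodule.span_mono (Set.image_mono Set.subset_union_left) hw)
  have hUk : Submodule.span k (KaehlerDifferential.D P k '' (S ∪ (T : Set k))) = ⊤ := by
    by_contra hne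
    obtain ⟨ℓ, hℓ, hℓ'⟩ := Submodule.exists_le_ker_of_lt_top _ (lt_top_iff_ne_top.2 hne)
    let L : K ⊗[k] Ω[k⁄P] →ₗ[K] K := ((Algebra.linearMap k K).comp ℓ).liftBaseChange K
    have h0 : Submodule.span K (gen '' (S ∪ (T : Set k))) ≤ LinearMap.ker L := by
      rw [Submodule.span_le]
      rintro _ ⟨t, ht, rfl⟩
      have : ℓ (KaehlerDifferential.D P k t) = 0 := hℓ' (Submodule.subset_span ⟨t, ht, rfl⟩)
      show L (gen t) = 0
      simp [L, gen, this]
    refine hℓ (LinearMap.ext fun ω => ?_)
    have h1 : L ((1 : K) ⊗ₜ[k] ω) = 0 := h0 (hU ▸ Submodule.mem_top)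
    simpa [L] using h1
  refine ⟨S, T, ?_, ?_⟩
  · rw [show algebraMap k K '' S = Set.range fun x : b => algebraMap k K (pre x.2) from (Set.range_comp _ _).symm]
    exact setFree_range p P hfree
  · have h := (isPGenerating_iff_span_D p P (fun x : (S ∪ (T : Set k) : Set k) => (x : k))).2 (by
      rw [show (Set.range fun x : (S ∪ (T : Set k) : Set k) => KaehlerDifferential.D P k (x : k)) =
        KaehlerDifferential.D P k '' (S ∪ (T : Set k)) from (Set.image_eq_range _ _).symm]
      exact hUk)
    rwa [isPGenerating_iff_Fp, show Set.range (fun x : (S ∪ (T : Set k) : Set k) => (x : k)) = S ∪ (T : Set k) from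
      Subtype.range_coe] at h

/-- Iterated `p`-generation. -/
theorem closure_pow_union_eq_top (p : ℕ) [Fact p.Prime] {P k : Type u} [Field P] [Field k] [Algebra P k] [CharP k p]
    (hP : ∀ a : P, a ^ p = a) {U : Set k} (h : Fp p P U = ⊤) (j : ℕ) :
    Subfield.closure ((Set.range fun y : k => y ^ p ^ j) ∪ U) = ⊤ := by
  induction j with
  | zero =>
    rw [eq_top_iff]
    exact fun y _ => Subfield.subset_closure (Or.inl ⟨y, by simp⟩)
  | succ j ih =>
    let M := Subfield.closure ((Set.range fun y : k => y ^ p ^ (j + 1)) ∪ U)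
    let F : Subfield k := M.comap (iterateFrobenius k p j)
    have hPF : ∀ a : P, algebraMap P k a ∈ F := fun a => by
      show iterateFrobenius k p j (algebraMap P k a) ∈ M
      have hfix : ∀ i, a ^ p ^ i = a := fun i => by
        induction i with
        | zero => simp
        | succ i ih' => rw [pow_succ, pow_mul, ih', hP]
      rw [iterateFrobenius_def, ← map_pow, hfix j, ← hfix (j + 1), map_pow]
      exact Subfield.subset_closure (Or.inl ⟨_, rfl⟩)
    have hle : Fp p P U ≤ Subfield.toIntermediateField F hPF := by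
      rw [Fp, IntermediateField.adjoin_le_iff]
      rintro y (⟨w, rfl⟩ | hy)
      · show iterateFrobenius k p j (w ^ p) ∈ M
        rw [iterateFrobenius_def, ← pow_mul, ← pow_succ']
        exact Subfield.subset_closure (Or.inl ⟨w, rfl⟩)
      · show iterateFrobenius k p j y ∈ M
        rw [iterateFrobenius_def]
        have h' : y ∈ M := Subfield.subset_closure (Or.inr hy)
        exact _root_.pow_mem h' _
    rw [h] at hle
    rw [eq_top_iff, ← ih, Subfield.closure_le]
    rintro y (⟨w, rfl⟩ | hy)
    · have h1 : iterateFrobenius k p j w ∈ M := hle (x := w) IntermediateField.mem_top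
      rwa [iterateFrobenius_def] at h1
    · exact Subfield.subset_closure (Or.inr hy)

variable {k Λ : Type u} [Field k] [CommRing Λ] [Algebra k Λ] [IsLocalRing Λ] [IsArtinianRing Λ]

open IsLocalRing in
theorem adjoin_sigma_eq_top {K : Type u} [Field K] [Algebra K Λ]
    (hsec : ∀ x : Λ, ∃ a : K, x - algebraMap K Λ a ∈ maximalIdeal Λ) (s : Finset Λ)
    (hs : Ideal.span (s : Set Λ) = maximalIdeal Λ) : Algebra.adjoin K (s : Set Λ) = ⊤ := by
  set W := Algebra.adjoin K (s : Set Λ)
  have h1 : ∀ x ∈ maximalIdeal Λ, ∃ w ∈ W, w ∈ maximalIdeal Λ ∧ x - w ∈ maximalIdeal Λ ^ 2 := by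
    intro x hx
    rw [← hs] at hx
    induction hx using Submodule.span_induction with
    | mem y hy => exact ⟨y, Algebra.subset_adjoin hy, hs ▸ Ideal.subset_span hy, by simp⟩
    | zero => exact ⟨0, zero_mem _, zero_mem _, by simp⟩
    | add x y _ _ hx hy =>
      obtain ⟨w, hw, hwm, hw'⟩ := hx
      obtain ⟨z, hz, hzm, hz'⟩ := hy
      exact ⟨w + z, add_mem hw hz, add_mem hwm hzm, by rw [add_sub_add_comm]; exact add_mem hw' hz'⟩
    | smul a x _ hx =>
      obtain ⟨w, hw, hwm, hw'⟩ := hx
      obtain ⟨c, hc⟩ := hsec a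
      refine ⟨algebraMap K Λ c * w, mul_mem (Subalgebra.algebraMap_mem _ _) hw, Ideal.mul_mem_left _ _ hwm, ?_⟩
      rw [smul_eq_mul, show a * x - algebraMap K Λ c * w = a * (x - w) + (a - algebraMap K Λ c) * w by ring]
      exact add_mem (Ideal.mul_mem_left _ _ hw') (pow_two (maximalIdeal Λ) ▸ Ideal.mul_mem_mul hc hwm)
  have h2 : ∀ j, 1 ≤ j → ∀ x ∈ maximalIdeal Λ ^ j, ∃ w ∈ W, w ∈ maximalIdeal Λ ^ j ∧
      x - w ∈ maximalIdeal Λ ^ (j + 1) := by
    intro j hj
    induction j, hj using Nat.le_induction with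
    | base => intro x hx; rw [pow_one] at hx ⊢; exact h1 x hx
    | succ j hj ih =>
      intro x hx
      rw [pow_succ] at hx
      refine Submodule.mul_induction_on hx (fun u hu v hv => ?_) (fun x y hx hy => ?_)
      · obtain ⟨w, hw, hwm, hw'⟩ := ih u hu
        obtain ⟨z, hz, hzm, hz'⟩ := h1 v hv
        refine ⟨w * z, mul_mem hw hz, pow_succ (maximalIdeal Λ) j ▸ Ideal.mul_mem_mul hwm hzm, ?_⟩
        rw [show u * v - w * z = (u - w) * v + w * (v - z) by ring]
        refine add_mem ?_ ?_
        · rw [pow_succ _ (j + 1)]; exact Ideal.mul_mem_mul hw' hv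
        · rw [show j + 1 + 1 = j + 2 from rfl, pow_add]; exact Ideal.mul_mem_mul hwm hz'
      · obtain ⟨w, hw, hwm, hw'⟩ := hx
        obtain ⟨z, hz, hzm, hz'⟩ := hy
        exact ⟨w + z, add_mem hw hz, add_mem hwm hzm, by rw [add_sub_add_comm]; exact add_mem hw' hz'⟩
  rw [eq_top_iff]
  rintro x -
  have h3 : ∀ j, ∃ w ∈ W, x - w ∈ maximalIdeal Λ ^ (j + 1) := fun j => by
    induction j with
    | zero =>
      obtain ⟨c, hc⟩ := hsec x
      exact ⟨_, Subalgebra.algebraMap_mem _ c, by rwa [pow_one]⟩
    | succ j ih =>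
      obtain ⟨w, hw, hw'⟩ := ih
      obtain ⟨z, hz, -, hz'⟩ := h2 (j + 1) (by omega) _ hw'
      exact ⟨w + z, add_mem hw hz, by rw [← sub_sub]; exact hz'⟩
  obtain ⟨N, hN⟩ : IsNilpotent (maximalIdeal Λ) := by
    have := IsArtinianRing.isNilpotent_jacobson_bot (R := Λ)
    rwa [IsLocalRing.jacobson_eq_maximalIdeal ⊥ bot_ne_top] at this
  obtain ⟨w, hw, hw'⟩ := h3 N
  rw [pow_succ, hN, zero_mul, Submodule.zero_eq_bot, Ideal.mem_bot, sub_eq_zero] at hw'
  rw [hw']; exact hw

open IsLocalRing in
theorem exists_subalgebra (p : ℕ) [Fact p.Prime] [CharP k p]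
    (hH : Module.Finite (ResidueField Λ) (Algebra.H1Cotangent k (ResidueField Λ))) (E : Finset Λ) :
    ∃ (A : Subalgebra k Λ) (_ : IsLocalRing A), (↑E : Set Λ) ⊆ A ∧ IsArtinianRing A ∧ Module.Flat A Λ ∧
      Algebra.EssFiniteType k A ∧ (maximalIdeal A).map (algebraMap A Λ) = maximalIdeal Λ := by
  classical
  let K := ResidueField Λ
  haveI : CharP Λ p := charP_of_injective_algebraMap (algebraMap k Λ).injective p
  haveI : CharP K p := charP_of_injective_algebraMap (algebraMap k K).injective p
  let P := ULift.{u} (ZMod p)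
  haveI : CharP P p := charP_of_injective_ringHom (f := (ULift.ringEquiv (R := ZMod p)).symm.toRingHom) (ULift.ringEquiv (R := ZMod p)).symm.injective p
  haveI : Finite P := Finite.of_equiv _ Equiv.ulift.symm
  haveI : PerfectRing P p := PerfectRing.ofFiniteOfIsReduced p P
  have hP : ∀ a : P, a ^ p = a := fun a => by
    apply (ULift.ringEquiv (R := ZMod p)).injective
    rw [map_pow, ZMod.pow_card]
  letI : Algebra P k := ((ZMod.castHom dvd_rfl k).comp (ULift.ringEquiv (R := ZMod p)).toRingHom).toAlgebra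
  letI : Algebra P Λ := ((algebraMap k Λ).comp (algebraMap P k)).toAlgebra
  haveI : IsScalarTower P k Λ := IsScalarTower.of_algebraMap_eq fun _ => rfl
  letI : Algebra P K := ((algebraMap k K).comp (algebraMap P k)).toAlgebra
  haveI : IsScalarTower P k K := IsScalarTower.of_algebraMap_eq fun _ => rfl
  haveI : IsScalarTower P Λ K := IsScalarTower.of_algebraMap_eq fun a => by
    show algebraMap k K (algebraMap P k a) = algebraMap Λ K (algebraMap k Λ (algebraMap P k a))
    exact IsScalarTower.algebraMap_apply k Λ K _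
  obtain ⟨S, T, hS, hST⟩ := exists_free_complement p P k K hH
  -- a coefficient field containing `S`
  obtain ⟨B, hSB, -, hB⟩ := exists_isPBasis p P (Set.subset_univ _) hS
    (eq_top_iff.mpr fun y _ => subset_Fp p P _ (Set.mem_univ y))
  let z : B → Λ := fun x => if h : (x : K) ∈ algebraMap k K '' S then algebraMap k Λ h.choose
    else (residue_surjective (x : K)).choose
  have hz : ∀ x, residue Λ (z x) = x := fun x => by
    simp only [z]
    split
    · next h => exact (IsScalarTower.algebraMap_apply k Λ K h.choose).symm.trans h.choose_spec.2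
    · exact (residue_surjective (x : K)).choose_spec
  have hnil : IsNilpotent (maximalIdeal Λ) := by
    have := IsArtinianRing.isNilpotent_jacobson_bot (R := Λ)
    rwa [IsLocalRing.jacobson_eq_maximalIdeal ⊥ bot_ne_top] at this
  obtain ⟨σ, ⟨hσ, hσz⟩, -⟩ := existsUnique_lift p hB Λ (maximalIdeal Λ) hnil
    (⟨RingHom.id K, fun a => IsScalarTower.algebraMap_apply P Λ K a⟩ : K →ₐ[P] Λ ⧸ maximalIdeal Λ) z hz
  have hσK : ∀ a, residue Λ (σ a) = a := fun a => AlgHom.congr_fun hσ a
  letI : Algebra K Λ := σ.toRingHom.toAlgebra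
  have hsec : ∀ x : Λ, x - algebraMap K Λ (residue Λ x) ∈ maximalIdeal Λ := fun x => by
    show x - σ (residue Λ x) ∈ _
    rw [← residue_eq_zero_iff, map_sub, hσK, sub_self]
  have hσS : ∀ t ∈ S, σ (algebraMap k K t) = algebraMap k Λ t := fun t ht => by
    have h1 := hσz ⟨algebraMap k K t, hSB ⟨t, ht, rfl⟩⟩
    rw [h1]
    have hmem : algebraMap k K t ∈ algebraMap k K '' S := ⟨t, ht, rfl⟩
    simp only [z, dif_pos hmem]
    exact congrArg _ ((algebraMap k K).injective hmem.choose_spec.2)
  obtain ⟨N, hN⟩ := hnil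
  have hpow : ∀ t : k, σ (algebraMap k K (t ^ p ^ N)) = algebraMap k Λ (t ^ p ^ N) := fun t => by
    rw [map_pow, map_pow, map_pow, ← sub_eq_zero, ← sub_pow_char_pow, ← Ideal.mem_bot, ← Ideal.zero_eq_bot]
    refine hN ▸ Ideal.pow_le_pow_right (N.lt_pow_self (Fact.out : p.Prime).one_lt).le (Ideal.pow_mem_pow ?_ _)
    rw [← residue_eq_zero_iff, map_sub, hσK, sub_eq_zero]
    exact IsScalarTower.algebraMap_apply k Λ K t
  let k₁ : Subfield k := Subfield.closure ((Set.range fun y : k => y ^ p ^ N) ∪ S)
  have hk₁ : ∀ t ∈ k₁, σ (algebraMap k K t) = algebraMap k Λ t := fun t ht => by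
    let D : Subfield k :=
      { Subring.comap (RingHom.id k) (RingHom.eqLocus (σ.toRingHom.comp (algebraMap k K)) (algebraMap k Λ)) with
        inv_mem' := fun x hx => by
          rcases eq_or_ne x 0 with rfl | hx0
          · simp
          refine ((IsUnit.mk0 x hx0).map (algebraMap k Λ)).mul_left_cancel ?_
          show algebraMap k Λ x * σ (algebraMap k K x⁻¹) = algebraMap k Λ x * algebraMap k Λ x⁻¹
          have hx' : σ (algebraMap k K x) = algebraMap k Λ x := hx
          rw [← map_mul (algebraMap k Λ), mul_inv_cancel₀ hx0, map_one, ← hx', ← map_mul, ← map_mul,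
            mul_inv_cancel₀ hx0, map_one, map_one] }
    have hle : k₁ ≤ D := Subfield.closure_le.2 (by
      rintro y (⟨w, rfl⟩ | hy)
      · exact hpow w
      · exact hσS y hy)
    exact hle ht
  -- a basis adapted to the maximal ideal
  obtain ⟨sm, hsm⟩ := (IsNoetherian.noetherian (maximalIdeal Λ) : (maximalIdeal Λ).FG)
  haveI : Module.Finite K Λ := by
    haveI : Algebra.FiniteType K Λ :=
      ⟨⟨sm, adjoin_sigma_eq_top (fun x => ⟨_, hsec x⟩) sm hsm⟩⟩
    haveI : Algebra.IsIntegral K Λ := ⟨fun x => by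
      have h1 : IsIntegral K (x - algebraMap K Λ (residue Λ x)) := by
        refine IsIntegral.of_pow (n := N + 1) (by omega) ?_
        have : (x - algebraMap K Λ (residue Λ x)) ^ (N + 1) ∈ maximalIdeal Λ ^ (N + 1) := Ideal.pow_mem_pow (hsec x) _
        rw [pow_succ (maximalIdeal Λ), hN, zero_mul, Ideal.zero_eq_bot, Ideal.mem_bot] at this
        rw [this]; exact isIntegral_zero
      have h2 := h1.add (isIntegral_algebraMap (R := K) (A := Λ) (x := residue Λ x))
      rwa [sub_add_cancel] at h2⟩
    exact Algebra.IsIntegral.finite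
  let mK : Submodule K Λ := (maximalIdeal Λ).restrictScalars K
  let bm := Module.finBasis K mK
  let e : Option (Fin (Module.finrank K mK)) → Λ := fun i => i.elim 1 fun j => (bm j : Λ)
  have heq : ∀ g : Option (Fin (Module.finrank K mK)) → K, ∑ i, g i • e i = algebraMap K Λ (g none) + (∑ j, g (some j) • bm j : mK) := fun g => by
    rw [Fintype.sum_option]
    simp [e, Algebra.smul_def]
  have hli : LinearIndependent K e := by
    rw [Fintype.linearIndependent_iff]
    intro g hg
    rw [heq] at hg
    have h0 : g none = 0 := by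
      have h1 := congrArg (residue Λ) hg
      rw [map_add, map_zero, (residue_eq_zero_iff _).2 (∑ j, g (some j) • bm j : mK).2, add_zero] at h1
      exact (hσK _).symm.trans h1
    rw [h0, map_zero, zero_add] at hg
    have h2 := Fintype.linearIndependent_iff.1 bm.linearIndependent (fun j => g (some j)) (Subtype.ext hg)
    rintro (_ | j)
    · exact h0
    · exact h2 j
  have hsp : ⊤ ≤ Submodule.span K (Set.range e) := fun x _ => by
    let v : mK := ⟨x - algebraMap K Λ (residue Λ x), hsec x⟩
    have hx : x = residue Λ x • e none + (v : Λ) := by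
      show x = residue Λ x • (1 : Λ) + (x - algebraMap K Λ (residue Λ x))
      rw [Algebra.smul_def, mul_one]; exact (add_sub_cancel _ _).symm
    rw [hx]
    refine add_mem (Submodule.smul_mem _ _ (Submodule.subset_span ⟨none, rfl⟩)) ?_
    rw [← bm.sum_repr v, Submodule.coe_sum]
    exact Submodule.sum_mem _ fun j _ => Submodule.smul_mem _ _ (Submodule.subset_span ⟨some j, rfl⟩)
  let be : Module.Basis (Option (Fin (Module.finrank K mK))) K Λ := Module.Basis.mk hli hsp
  have hbe : ∀ i, be i = e i := fun i => Module.Basis.mk_apply hli hsp i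
  let co : Λ → Option (Fin (Module.finrank K mK)) → K := fun x i => be.repr x i
  let I₀ := Option (Fin (Module.finrank K mK))
  let C : Finset K :=
    (Finset.univ.image fun q : I₀ × I₀ × I₀ => co (e q.1 * e q.2.1) q.2.2) ∪
      ((T.image (algebraMap k Λ) ∪ E) ×ˢ (Finset.univ : Finset I₀)).image fun q => co q.1 q.2
  let L₀ : Subfield K := Subfield.closure (algebraMap k K '' (k₁ : Set k) ∪ (C : Set K))
  have hC : ∀ c ∈ C, c ∈ L₀ := fun c hc => Subfield.subset_closure (Or.inr hc)
  have hce : ∀ i j, co (e i) j ∈ L₀ := fun i j => by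
    show be.repr (e i) j ∈ L₀
    rw [← hbe, be.repr_self, Finsupp.single_apply]
    split
    · exact one_mem _
    · exact zero_mem _
  have hcmul : ∀ x y, (∀ i, co x i ∈ L₀) → (∀ i, co y i ∈ L₀) → ∀ i, co (x * y) i ∈ L₀ := by
    intro x y hx hy l
    show be.repr (x * y) l ∈ L₀
    rw [← be.sum_repr x, ← be.sum_repr y, Finset.sum_mul_sum]
    simp only [map_sum, Finsupp.coe_finsetSum, Finset.sum_apply]
    refine sum_mem fun i _ => sum_mem fun j _ => ?_
    rw [smul_mul_smul_comm, map_smul, Finsupp.smul_apply, smul_eq_mul, hbe, hbe]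
    exact mul_mem (mul_mem (hx i) (hy j))
      (hC _ (Finset.mem_union_left _ (Finset.mem_image.2 ⟨(i, j, l), Finset.mem_univ _, rfl⟩)))
  have hcσ : ∀ c ∈ L₀, ∀ i, co (σ c) i ∈ L₀ := fun c hc i => by
    show be.repr (σ c) i ∈ L₀
    rw [show σ c = c • e none from by simp [e, Algebra.smul_def]; rfl, map_smul, Finsupp.smul_apply, smul_eq_mul]
    exact mul_mem hc (hce none i)
  let A₀ : Subring Λ :=
    { carrier := {x | ∀ i, co x i ∈ L₀}
      one_mem' := fun i => hce none i
      mul_mem' := fun {x y} hx hy => hcmul x y hx hy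
      zero_mem' := fun i => by show be.repr 0 i ∈ L₀; simp
      add_mem' := fun {x y} hx hy i => by show be.repr (x + y) i ∈ L₀; rw [map_add]; exact add_mem (hx i) (hy i)
      neg_mem' := fun {x} hx i => by show be.repr (-x) i ∈ L₀; rw [map_neg]; exact neg_mem (hx i) }
  -- `k` maps into `A₀`
  have hkA : ∀ t : k, algebraMap k Λ t ∈ A₀ := by
    have h1 : ∀ t ∈ k₁, algebraMap k Λ t ∈ A₀ := fun t ht => by
      rw [← hk₁ t ht]
      exact hcσ _ (Subfield.subset_closure (Or.inl ⟨t, ht, rfl⟩))
    let D : Subfield k :=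
      { A₀.comap (algebraMap k Λ) with
        inv_mem' := fun y hy => by
          rcases eq_or_ne y 0 with rfl | hy0
          · simpa using zero_mem A₀
          show algebraMap k Λ y⁻¹ ∈ A₀
          have hpos : 0 < p ^ N := pow_pos (Fact.out : p.Prime).pos N
          rw [show y⁻¹ = y ^ (p ^ N - 1) * (y ^ p ^ N)⁻¹ by
            conv_rhs => rw [show p ^ N = (p ^ N - 1) + 1 by omega, pow_succ, Nat.add_sub_cancel]
            field_simp, map_mul, map_pow]
          exact mul_mem (_root_.pow_mem hy _) (h1 _ (inv_mem (Subfield.subset_closure (Or.inl ⟨y, rfl⟩)))) }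
    have htop : D = ⊤ := by
      rw [eq_top_iff, ← closure_pow_union_eq_top p hP hST N, Subfield.closure_le]
      rintro y (⟨w, rfl⟩ | hy | hy)
      · exact h1 _ (Subfield.subset_closure (Or.inl ⟨w, rfl⟩))
      · exact h1 _ (Subfield.subset_closure (Or.inr hy))
      · intro i
        exact hC _ (Finset.mem_union_right _ (Finset.mem_image.2
          ⟨(algebraMap k Λ y, i), Finset.mem_product.2 ⟨Finset.mem_union_left _ (Finset.mem_image_of_mem _ hy),
            Finset.mem_univ _⟩, rfl⟩))
    exact fun t => (htop.symm ▸ Subfield.mem_top t : t ∈ D)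
  let A : Subalgebra k Λ := { A₀ with algebraMap_mem' := hkA }
  have heA : ∀ i, e i ∈ A := fun i j => hce i j
  have hσA : ∀ c ∈ L₀, σ c ∈ A := fun c hc i => hcσ c hc i
  have hdec : ∀ x : Λ, x = ∑ i, σ (co x i) * e i := fun x => by
    conv_lhs => rw [← be.sum_repr x]
    exact Finset.sum_congr rfl fun i _ => by rw [hbe, Algebra.smul_def]; rfl
  -- `Λ` is free over `A`
  let bK := Module.Free.chooseBasis L₀ K
  have hfreeA : Module.Free A Λ := by
    refine Module.Free.of_basis (Module.Basis.mk (v := fun j => σ (bK j)) ?_ ?_)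
    · rw [linearIndependent_iff']
      intro s g hg
      have h1 : ∀ l, ∑ j ∈ s, (⟨co (g j : Λ) l, (g j).2 l⟩ : L₀) • bK j = 0 := fun l => by
        have h2 := congrArg (fun x => co x l) hg
        simp only [co, map_sum, Finsupp.coe_finsetSum, Finset.sum_apply, map_zero, Finsupp.zero_apply] at h2
        refine Eq.trans (Finset.sum_congr rfl fun j _ => ?_) h2
        show co (g j : Λ) l * bK j = be.repr ((g j : Λ) * σ (bK j)) l
        rw [mul_comm (g j : Λ), show σ (bK j) * (g j : Λ) = bK j • (g j : Λ) from (Algebra.smul_def _ _).symm,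
          map_smul, Finsupp.smul_apply, smul_eq_mul, mul_comm]
      intro j hj
      refine Subtype.ext ((hdec _).trans (Finset.sum_eq_zero fun l _ => ?_))
      have h3 := linearIndependent_iff'.1 bK.linearIndependent s _ (h1 l) j hj
      rw [show co (g j : Λ) l = 0 from congrArg Subtype.val h3, map_zero, zero_mul]
    · rintro x -
      rw [hdec x]
      refine Submodule.sum_mem _ fun i _ => ?_
      have hi : co x i ∈ Submodule.span L₀ (Set.range bK) := bK.span_eq.symm ▸ Submodule.mem_top
      generalize co x i = cc at hi ⊢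
      induction hi using Submodule.span_induction with
      | mem y hy =>
        obtain ⟨j, rfl⟩ := hy
        rw [mul_comm]
        exact Submodule.smul_mem _ (⟨e i, heA i⟩ : A) (Submodule.subset_span ⟨j, rfl⟩)
      | zero => rw [map_zero, zero_mul]; exact zero_mem _
      | add y w _ _ hy hw => rw [map_add, add_mul]; exact add_mem hy hw
      | smul c y _ hy =>
        rw [show σ (c • y) * e i = σ (c : K) * (σ y * e i) by
          rw [← mul_assoc, ← map_mul]; rfl]
        exact Submodule.smul_mem _ (⟨σ (c : K), hσA _ c.2⟩ : A) hy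
  haveI := hfreeA
  have hcomap : ∀ J : Ideal A, (J.map (algebraMap A Λ)).comap (algebraMap A Λ) = J := fun J =>
    Ideal.comap_map_eq_self_of_faithfullyFlat J
  have hunit : ∀ a : A, IsUnit (a : Λ) → IsUnit a := fun a ha => by
    rw [← Ideal.span_singleton_eq_top, ← hcomap (Ideal.span {a}), Ideal.map_span, Set.image_singleton,
      Ideal.span_singleton_eq_top.2 (show IsUnit (algebraMap A Λ a) from ha), Ideal.comap_top]
  haveI hloc : IsLocalRing A := by
    refine IsLocalRing.of_nonunits_add fun a b ha hb hab => ?_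
    have h1 : (a : Λ) ∈ maximalIdeal Λ := fun h => ha (hunit a h)
    have h2 : (b : Λ) ∈ maximalIdeal Λ := fun h => hb (hunit b h)
    exact (add_mem h1 h2 : ((a + b : A) : Λ) ∈ maximalIdeal Λ) (hab.map A.val)
  refine ⟨A, hloc, fun x hx i => hC _ (Finset.mem_union_right _ (Finset.mem_image.2
    ⟨(x, i), Finset.mem_product.2 ⟨Finset.mem_union_right _ hx, Finset.mem_univ _⟩, rfl⟩)), ?_, inferInstance, ?_, ?_⟩
  · exact (StrictMono.wellFoundedLT (f := fun J : Ideal A => J.map (algebraMap A Λ))
      (Monotone.strictMono_of_injective (fun _ _ h => Ideal.map_mono h) fun J J' h => by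
        rw [← hcomap J, ← hcomap J']; exact congrArg (Ideal.comap _) h)) |> fun h => (isArtinian_iff A A).2 h.wf
  · rw [Algebra.essFiniteType_iff]
    let gens : Finset A := (Finset.univ.image fun i => (⟨e i, heA i⟩ : A)) ∪
      C.attach.image fun c => ⟨σ c.1, hσA _ (hC _ c.2)⟩
    refine ⟨gens, ?_⟩
    let W := Algebra.adjoin k (gens : Set A)
    let G : A → Prop := fun a => ∃ t ∈ W, IsUnit t ∧ a * t ∈ W
    have hGmem : ∀ a ∈ W, G a := fun a ha => ⟨1, one_mem _, isUnit_one, by rwa [mul_one]⟩
    have hGadd : ∀ a b, G a → G b → G (a + b) := by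
      rintro a b ⟨s, hs, hsu, hsa⟩ ⟨t, ht, htu, htb⟩
      refine ⟨s * t, mul_mem hs ht, hsu.mul htu, ?_⟩
      rw [show (a + b) * (s * t) = (a * s) * t + (b * t) * s by ring]
      exact add_mem (mul_mem hsa ht) (mul_mem htb hs)
    have hGmul : ∀ a b, G a → G b → G (a * b) := by
      rintro a b ⟨s, hs, hsu, hsa⟩ ⟨t, ht, htu, htb⟩
      refine ⟨s * t, mul_mem hs ht, hsu.mul htu, ?_⟩
      rw [show a * b * (s * t) = (a * s) * (b * t) by ring]
      exact mul_mem hsa htb
    have hGneg : ∀ a, G a → G (-a) := by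
      rintro a ⟨s, hs, hsu, hsa⟩
      exact ⟨s, hs, hsu, by rw [neg_mul]; exact neg_mem hsa⟩
    let Q : Subfield K :=
      { carrier := {c | ∃ h : σ c ∈ A, G ⟨σ c, h⟩}
        one_mem' := ⟨by rw [map_one]; exact one_mem _, by
          convert hGmem 1 (one_mem W); exact map_one σ⟩
        zero_mem' := ⟨by rw [map_zero]; exact zero_mem _, by
          convert hGmem 0 (zero_mem W); exact map_zero σ⟩
        add_mem' := fun {a b} ⟨ha, ga⟩ ⟨hb, gb⟩ => ⟨by rw [map_add]; exact add_mem ha hb, by
          convert hGadd _ _ ga gb; exact map_add σ a b⟩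
        mul_mem' := fun {a b} ⟨ha, ga⟩ ⟨hb, gb⟩ => ⟨by rw [map_mul]; exact mul_mem ha hb, by
          convert hGmul _ _ ga gb; exact map_mul σ a b⟩
        neg_mem' := fun {a} ⟨ha, ga⟩ => ⟨by rw [map_neg]; exact neg_mem ha, by
          convert hGneg _ ga; exact map_neg σ a⟩
        inv_mem' := fun c ⟨hc, gc⟩ => by
          rcases eq_or_ne c 0 with rfl | hc0
          · rw [inv_zero]; exact ⟨hc, gc⟩
          obtain ⟨t, ht, htu, htc⟩ := gc
          obtain ⟨u, hu⟩ := hunit (⟨σ c, hc⟩ : A) ((IsUnit.mk0 c hc0).map σ)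
          have hinv : σ c⁻¹ = ((u⁻¹ : Aˣ) : A) := by
            refine ((IsUnit.mk0 c hc0).map σ).mul_left_cancel ?_
            rw [← map_mul, mul_inv_cancel₀ hc0, map_one]
            have := congrArg (Subtype.val : A → Λ) (Units.mul_inv u)
            rw [hu] at this
            exact this.symm
          refine ⟨hinv ▸ Subtype.mem _, (⟨σ c, hc⟩ : A) * t, htc, (hu ▸ u.isUnit).mul htu, ?_⟩
          convert ht
          refine Subtype.ext ?_
          show σ c⁻¹ * (σ c * (t : Λ)) = t
          rw [← mul_assoc, ← map_mul, inv_mul_cancel₀ hc0, map_one, one_mul] }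
    have hQ : L₀ ≤ Q := Subfield.closure_le.2 (by
      rintro _ (⟨t, ht, rfl⟩ | hc)
      · refine ⟨by rw [hk₁ t ht]; exact hkA t, hGmem _ ?_⟩
        convert Subalgebra.algebraMap_mem W t
        exact hk₁ t ht
      · exact ⟨hσA _ (hC _ hc), hGmem _ (Algebra.subset_adjoin (Finset.mem_union_right _
          (Finset.mem_image.2 ⟨⟨_, hc⟩, Finset.mem_attach _ _, rfl⟩)))⟩)
    intro a
    have ha : a = ∑ i, (⟨σ (co (a : Λ) i), hσA _ (a.2 i)⟩ : A) * ⟨e i, heA i⟩ := Subtype.ext (by
      rw [AddSubmonoidClass.coe_finsetSum]; exact hdec _)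
    suffices G a by exact this
    rw [ha]
    refine Finset.sum_induction _ G hGadd (hGmem 0 (zero_mem _)) fun i _ => hGmul _ _ (hQ (a.2 i)).2 (hGmem _ ?_)
    exact Algebra.subset_adjoin (Finset.mem_union_left _ (Finset.mem_image_of_mem _ (Finset.mem_univ i)))
  · refine le_antisymm (Ideal.map_le_iff_le_comap.2 fun a ha h => ha (hunit a h)) fun x hx => ?_
    have h1 : x = ∑ j, σ (bm.repr ⟨x, hx⟩ j) * (bm j : Λ) := by
      have h2 := congrArg (Subtype.val : mK → Λ) (bm.sum_repr ⟨x, hx⟩)
      rw [Submodule.coe_sum] at h2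
      refine h2.symm.trans (Finset.sum_congr rfl fun j _ => ?_)
      rw [Submodule.coe_smul, Algebra.smul_def]; rfl
    rw [h1]
    refine Ideal.sum_mem _ fun j _ => Ideal.mul_mem_left _ _ (Ideal.mem_map_of_mem (algebraMap A Λ)
      (x := (⟨e (some j), heA _⟩ : A)) fun h => ?_)
    exact (bm j).2 (h.map A.val)

end Groth.Agent.SmoothingLib.ArtinSub
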