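import Groth.Agent.SmoothingLib.Conormal
import Mathlib.RingTheory.Smooth.Locus
import Mathlib.RingTheory.Nakayama

/-!
# Smooth points have elementary standard neighbourhoods
-/

universe u

open MvPolynomial

namespace Groth.Agent.SmoothingLib

variable {R A : Type u} [CommRing R] [CommRing A] [Algebra R A] {n m : ℕ}

theorem exists_elementary_data (φ : MvPolynomial (Fin n) R →ₐ[R] A) (hφ : Function.Surjective φ)
    (f : Fin m → MvPolynomial (Fin n) R) (hker : RingHom.ker φ.toRingHom = Ideal.span (Set.range f))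
    (q : Ideal A) [q.IsPrime] [Algebra.IsSmoothAt R q] :
    ∃ a : A, a ∉ q ∧ ∃ (c : ℕ) (rows : Fin c ↪ Fin m) (cols : Fin c ↪ Fin n) (a' : A),
      a = a' * φ (Smoothing.jacobianMinor f rows cols) ∧
      ∀ a₁ : MvPolynomial (Fin n) R, φ a₁ = a → ∀ ℓ : Fin m,
        a₁ * f ℓ ∈ Ideal.span (Set.range (f ∘ rows)) ⊔ Ideal.span (Set.range f) ^ 2 := by
  classical
  let B := Localization.AtPrime q
  let I := Ideal.span (Set.range f)
  obtain ⟨hA, ⟨T, hT⟩, -⟩ := conormal φ hφ f hker q.primeCompl B
  let v : Fin m → (Fin n → B) := fun l => jac φ B (f l)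
  let res := IsLocalRing.residue B
  let vb : Fin m → (Fin n → IsLocalRing.ResidueField B) := fun l => res ∘ v l
  obtain ⟨κ, r, hr, hsp, hli⟩ := exists_linearIndependent' (IsLocalRing.ResidueField B) vb
  haveI : Fintype κ := Fintype.ofInjective r hr
  let c := Fintype.card κ
  let e := (Fintype.equivFin κ).symm
  let rows : Fin c ↪ Fin m := ⟨r ∘ e, hr.comp e.injective⟩
  have hli' : LinearIndependent (IsLocalRing.ResidueField B) (vb ∘ rows) := hli.comp e e.injective
  have hsp' : Submodule.span (IsLocalRing.ResidueField B) (Set.range (vb ∘ rows)) =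
      Submodule.span (IsLocalRing.ResidueField B) (Set.range vb) := by
    rw [← hsp]; congr 1
    exact e.surjective.range_comp (vb ∘ r)
  let N := Submodule.span B (Set.range v)
  let N' := Submodule.span B (Set.range (v ∘ rows))
  have hNN : N ≤ N' ⊔ IsLocalRing.maximalIdeal B • N := by
    rw [Submodule.span_le]
    rintro _ ⟨l, rfl⟩
    have hl : vb l ∈ Submodule.span (IsLocalRing.ResidueField B) (Set.range (vb ∘ rows)) :=
      hsp' ▸ Submodule.subset_span ⟨l, rfl⟩
    obtain ⟨cb, hcb⟩ := (Submodule.mem_span_range_iff_exists_fun _).1 hl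
    choose cc hcc using fun j => IsLocalRing.residue_surjective (R := B) (cb j)
    let w := v l - ∑ j, cc j • v (rows j)
    have hw : ∀ i, w i ∈ IsLocalRing.maximalIdeal B := fun i => by
      rw [← IsLocalRing.residue_eq_zero_iff]
      simp only [w, Pi.sub_apply, Finset.sum_apply, Pi.smul_apply, smul_eq_mul, map_sub, map_sum, map_mul, hcc]
      have := congrFun hcb i
      simp only [Finset.sum_apply, Pi.smul_apply, smul_eq_mul] at this
      exact sub_eq_zero.2 this.symm
    have hww : Matrix.vecMul (Matrix.vecMul w T) (Matrix.of v) = w := by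
      simp only [w, Matrix.sub_vecMul, Matrix.sum_vecMul, Matrix.smul_vecMul]
      rw [show Matrix.of v = Matrix.of fun j => jac φ B (f j) from rfl, hT]
      simp only [hT, v]
    have hsum : (w : Fin n → B) = ∑ j, Matrix.vecMul w T j • v j := by
      conv_lhs => rw [← hww]
      funext i
      simp [Matrix.vecMul, dotProduct, Finset.sum_apply]
    rw [show v l = (∑ j, cc j • v (rows j)) + w by simp [w]]
    refine Submodule.add_mem_sup (Submodule.sum_mem _ fun j _ =>
      Submodule.smul_mem _ _ (Submodule.subset_span ⟨j, rfl⟩)) ?_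
    rw [hsum]
    refine Submodule.sum_mem _ fun j _ => Submodule.smul_mem_smul ?_ (Submodule.subset_span ⟨j, rfl⟩)
    simp only [Matrix.vecMul, dotProduct]
    exact Ideal.sum_mem _ fun i _ => Ideal.mul_mem_right _ _ (hw i)
  have hN : N ≤ N' := Submodule.le_of_le_smul_of_le_jacobson_bot (Submodule.fg_span (Set.finite_range v))
    (IsLocalRing.maximalIdeal_le_jacobson _) hNN
  have hden : ∀ ℓ, ∃ s, φ s ∈ q.primeCompl ∧ s * f ℓ ∈ Ideal.span (Set.range (f ∘ rows)) ⊔ I ^ 2 := by
    intro ℓ
    obtain ⟨d, hd⟩ := (Submodule.mem_span_range_iff_exists_fun _).1 (hN (Submodule.subset_span ⟨ℓ, rfl⟩))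
    obtain ⟨⟨b, hb⟩, hbd⟩ := IsLocalization.exist_integer_multiples q.primeCompl Finset.univ d
    choose x hx using fun j => hbd j (Finset.mem_univ j)
    obtain ⟨b', rfl⟩ := hφ b
    choose x' hx' using fun j => hφ (x j)
    let y := b' * f ℓ - ∑ j, x' j * f (rows j)
    have hfz : ∀ j, φ (f j) = 0 := fun j => by
      have : f j ∈ RingHom.ker φ.toRingHom := hker ▸ Ideal.subset_span ⟨j, rfl⟩
      exact this
    have hy : y ∈ I := sub_mem (Ideal.mul_mem_left _ _ (Ideal.subset_span ⟨ℓ, rfl⟩))
      (Ideal.sum_mem _ fun j _ => Ideal.mul_mem_left _ _ (Ideal.subset_span ⟨rows j, rfl⟩))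
    have hy0 : jac φ B y = 0 := by
      simp only [y, jac_sub, jac_sum, jac_mul _ _ _ (hfz _)]
      rw [sub_eq_zero, ← show (∑ j, d j • (v ∘ rows) j) = jac φ B (f ℓ) from hd, Finset.smul_sum]
      refine Finset.sum_congr rfl fun j _ => ?_
      rw [smul_smul, hx', ← Algebra.smul_def, hx j]
      rfl
    obtain ⟨s, hs, hsy⟩ := hA y hy hy0
    refine ⟨s * b', by rw [map_mul]; exact mul_mem hs hb, ?_⟩
    rw [show s * b' * f ℓ = s * ∑ j, x' j * f (rows j) + s * y by simp only [y]; ring]
    exact Submodule.add_mem_sup (Ideal.mul_mem_left _ _ (Ideal.sum_mem _ fun j _ =>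
      Ideal.mul_mem_left _ _ (Ideal.subset_span ⟨j, rfl⟩))) hsy
  choose s hs hs' using hden
  let M0 : Matrix (Fin c) (Fin n) B := Matrix.of fun j => v (rows j)
  obtain ⟨cols, hcols⟩ := exists_minor_ne_zero (M0.map res) hli'
  have hminor : φ (Smoothing.jacobianMinor f rows cols) ∉ q := by
    intro hmem
    refine hcols ?_
    rw [Matrix.submatrix_map, ← RingHom.mapMatrix_apply, ← RingHom.map_det]
    have h1 : (M0.submatrix id cols).det = algebraMap A B (φ (Smoothing.jacobianMinor f rows cols)) := by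
      rw [Smoothing.jacobianMinor, AlgHom.map_det, RingHom.map_det]; rfl
    rw [h1, IsLocalRing.residue_eq_zero_iff]
    exact (IsLocalization.AtPrime.to_map_mem_maximal_iff B q _).2 hmem
  refine ⟨φ (∏ ℓ, s ℓ) * φ (Smoothing.jacobianMinor f rows cols), ?_, c, rows, cols, _, rfl, fun a₁ ha₁ ℓ => ?_⟩
  · exact q.primeCompl.mul_mem (by rw [map_prod]; exact prod_mem fun ℓ _ => hs ℓ) hminor
  · have h1 : a₁ - (∏ ℓ, s ℓ) * Smoothing.jacobianMinor f rows cols ∈ I := by
      change _ ∈ Ideal.span _
      rw [← hker, RingHom.mem_ker]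
      change φ _ = 0
      rw [map_sub, ha₁, map_mul, sub_self]
    rw [show a₁ * f ℓ = (a₁ - (∏ ℓ, s ℓ) * Smoothing.jacobianMinor f rows cols) * f ℓ +
      ((∏ k ∈ Finset.univ.erase ℓ, s k) * Smoothing.jacobianMinor f rows cols) * (s ℓ * f ℓ) by
        rw [← Finset.mul_prod_erase Finset.univ s (Finset.mem_univ ℓ)]; ring]
    refine add_mem (Ideal.mem_sup_right ?_) (Ideal.mul_mem_left _ _ (hs' ℓ))
    rw [pow_two]
    exact Ideal.mul_mem_mul h1 (Ideal.subset_span ⟨ℓ, rfl⟩)

end Groth.Agent.SmoothingLib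

namespace Groth.Agent.SmoothingLib

/-- The data of `exists_elementary_data` give an elementary standard element. -/
theorem isElementaryStandard_of_data {R A : Type u} [CommRing R] [CommRing A] [Algebra R A] {n m c : ℕ}
    (φ : MvPolynomial (Fin n) R →ₐ[R] A) (hφ : Function.Surjective φ)
    (f : Fin m → MvPolynomial (Fin n) R) (hker : RingHom.ker φ.toRingHom = Ideal.span (Set.range f))
    (rows : Fin c → Fin m) (cols : Fin c ↪ Fin n) (a a' : A)
    (ha : a = a' * φ (Smoothing.jacobianMinor f rows cols))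
    (hkill : ∀ a₁ : MvPolynomial (Fin n) R, φ a₁ = a → ∀ ℓ : Fin m,
        a₁ * f ℓ ∈ Ideal.span (Set.range (f ∘ rows)) ⊔ Ideal.span (Set.range f) ^ 2) :
    Smoothing.IsElementaryStandard R A a := by
  classical
  have hcn : c ≤ n := by simpa using Fintype.card_le_of_embedding cols
  obtain ⟨σ, hσ⟩ := Equiv.Perm.exists_extending_pair (Fin.castLE hcn) cols (Fin.castLE_injective _) cols.injective
  let g : Fin (c + m) → MvPolynomial (Fin n) R :=
    fun j => rename σ.symm (Fin.addCases (motive := fun _ => MvPolynomial (Fin n) R) (f ∘ rows) f j)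
  have hrange : Set.range g = rename σ.symm '' Set.range f := by
    rw [← Set.range_comp]
    refine Set.Subset.antisymm ?_ ?_
    · rintro _ ⟨j, rfl⟩
      induction j using Fin.addCases with
      | left i => exact ⟨rows i, by simp [g]⟩
      | right i => exact ⟨i, by simp [g]⟩
    · rintro _ ⟨i, rfl⟩
      exact ⟨Fin.natAdd c i, by simp [g]⟩
  have hren : ∀ x : MvPolynomial (Fin n) R, rename σ (rename σ.symm x) = x := fun x => by simp [rename_rename]
  have hren' : ∀ x : MvPolynomial (Fin n) R, rename σ.symm (rename σ x) = x := fun x => by simp [rename_rename]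
  let P : Smoothing.MarkedPresentation R A :=
    { n := n, m := c + m, c := c, hcn := hcn, hcm := Nat.le_add_right c m, rel := g
      hom := φ.comp (rename σ)
      surj := fun y => by
        obtain ⟨x, rfl⟩ := hφ y
        exact ⟨rename σ.symm x, congrArg φ (hren x)⟩
      ker_eq := by
        rw [hrange, ← Ideal.map_span, ← hker]
        ext x
        refine ⟨fun hx => ?_, fun hx => ?_⟩
        · rw [← hren' x]
          exact Ideal.mem_map_of_mem _ hx
        · obtain ⟨y, hy, rfl⟩ := (Ideal.mem_map_iff_of_surjective _ (fun z => ⟨rename σ z, hren' z⟩)).1 hx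
          change φ (rename σ (rename σ.symm y)) = 0
          rw [hren]; exact hy }
  refine ⟨P, ⟨a', ?_⟩, fun a₁ ha₁ j hj => ?_⟩
  · change a = a' * φ (rename σ (Smoothing.jacobianMinor g (Fin.castLE _) (Fin.castLE hcn)))
    rw [ha, Smoothing.jacobianMinor, Smoothing.jacobianMinor, AlgHom.map_det (rename σ : MvPolynomial (Fin n) R →ₐ[R] _)]
    congr 3
    ext j k : 2
    have hg : g (Fin.castLE (Nat.le_add_right c m) j) = rename σ.symm (f (rows j)) := by
      have : Fin.castLE (Nat.le_add_right c m) j = Fin.castAdd m j := rfl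
      simp [g, this]
    have hk : Fin.castLE hcn k = σ.symm (cols k) := by rw [Equiv.eq_symm_apply]; exact hσ k
    simp only [Matrix.of_apply, AlgHom.mapMatrix_apply, Matrix.map_apply, hg, hk]
    rw [pderiv_rename σ.symm.injective, hren]
  · obtain ⟨i, rfl⟩ : ∃ i, Fin.natAdd c i = j :=
      ⟨⟨(j : ℕ) - c, by have h1 : (j : ℕ) < c + m := j.2; change c ≤ (j : ℕ) at hj; omega⟩,
        Fin.ext (by change c ≤ (j : ℕ) at hj; simp; omega)⟩
    have h1 := Ideal.mem_map_of_mem (rename σ.symm : MvPolynomial (Fin n) R →ₐ[R] _) (hkill (rename σ a₁) ha₁ i)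
    rw [map_mul, hren', Ideal.map_sup, Ideal.map_pow, Ideal.map_span, Ideal.map_span, ← hrange] at h1
    rw [show P.rel (Fin.natAdd c i) = rename σ.symm (f i) by simp [P, g]]
    revert h1
    refine fun h1 => SetLike.le_def.1 (sup_le_sup ?_ le_rfl) h1
    refine Ideal.span_mono ?_
    rintro _ ⟨_, ⟨k, rfl⟩, rfl⟩
    exact ⟨Fin.castAdd m k, k.2, by simp [P, g]⟩

theorem isStrictlyStandard_of_isElementaryStandard {R A : Type u} [CommRing R] [CommRing A] [Algebra R A] {a : A}
    (h : Smoothing.IsElementaryStandard R A a) : Smoothing.IsStrictlyStandard R A a := by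
  obtain ⟨P, ⟨a', ha'⟩, hk⟩ := h
  exact ⟨P, ha' ▸ Ideal.mul_mem_left _ _ (Ideal.subset_span ⟨_, rfl⟩), hk⟩

theorem exists_isElementaryStandard {R A : Type u} [CommRing R] [CommRing A] [Algebra R A]
    [Algebra.FinitePresentation R A] (q : Ideal A) [q.IsPrime] [Algebra.IsSmoothAt R q] :
    ∃ a : A, a ∉ q ∧ Smoothing.IsElementaryStandard R A a := by
  obtain ⟨n, φ, hφ, hfg⟩ := Algebra.FinitePresentation.out (R := R) (A := A)
  obtain ⟨m, f, hf⟩ := Submodule.fg_iff_exists_fin_generating_family.1 hfg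
  obtain ⟨a, ha, c, rows, cols, a', h1, h2⟩ := exists_elementary_data φ hφ f hf.symm q
  exact ⟨a, ha, isElementaryStandard_of_data φ hφ f hf.symm rows cols a a' h1 h2⟩

end Groth.Agent.SmoothingLib
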