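import Groth.Agent.SmoothingLib.LiftDesingularize
import Groth.Agent.SmoothingLib.LocalStandard
import Mathlib.RingTheory.TensorProduct.Quotient
import Mathlib.RingTheory.Extension.Presentation.Basic

/-!
# Resolving modulo powers of several elements
-/

universe u

open TensorProduct

namespace Groth.Agent.SmoothingLib

theorem formallyEtale_of_bijective {S S' : Type u} [CommRing S] [CommRing S'] [Algebra S S']
    (h : Function.Bijective (algebraMap S S')) : Algebra.FormallyEtale S S' :=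
  Algebra.FormallyEtale.of_equiv (AlgEquiv.ofBijective (Algebra.ofId S S') h)

theorem singularIdeal_eq_of_bijective {S S' C : Type u} [CommRing S] [CommRing S'] [CommRing C] [Algebra S S']
    [Algebra S C] [Algebra S' C] [IsScalarTower S S' C] (h : Function.Bijective (algebraMap S S')) :
    Smoothing.singularIdeal S C = Smoothing.singularIdeal S' C := by
  haveI := formallyEtale_of_bijective h
  have : Algebra.smoothLocus S C = Algebra.smoothLocus S' C := by
    ext q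
    refine ⟨fun hq => ?_, fun hq => ?_⟩
    · haveI : Algebra.FormallySmooth S (Localization.AtPrime q.asIdeal) := hq
      exact Algebra.FormallySmooth.of_restrictScalars S S' (Localization.AtPrime q.asIdeal)
    · haveI : Algebra.FormallySmooth S' (Localization.AtPrime q.asIdeal) := hq
      exact Algebra.FormallySmooth.comp S S' (Localization.AtPrime q.asIdeal)
  rw [Smoothing.singularIdeal, Smoothing.singularIdeal, this]

theorem finitePresentation_iff_of_bijective {S S' C : Type u} [CommRing S] [CommRing S'] [CommRing C] [Algebra S S']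
    [Algebra S C] [Algebra S' C] [IsScalarTower S S' C] (h : Function.Bijective (algebraMap S S')) :
    Algebra.FinitePresentation S C ↔ Algebra.FinitePresentation S' C := by
  haveI : Algebra.FinitePresentation S S' :=
    Algebra.FinitePresentation.equiv (AlgEquiv.ofBijective (Algebra.ofId S S') h)
  exact ⟨fun _ => Algebra.FinitePresentation.of_restrict_scalars_finitePresentation S S' C,
    fun _ => Algebra.FinitePresentation.trans S S' C⟩

theorem isStrictlyStandard_congr {R A A' : Type u} [CommRing R] [CommRing A] [CommRing A'] [Algebra R A]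
    [Algebra R A'] (e : A ≃ₐ[R] A') {a : A} (h : Smoothing.IsStrictlyStandard R A a) :
    Smoothing.IsStrictlyStandard R A' (e a) := by
  obtain ⟨P, hmin, hk⟩ := h
  refine ⟨{ n := P.n, m := P.m, c := P.c, hcn := P.hcn, hcm := P.hcm, rel := P.rel, hom := e.toAlgHom.comp P.hom
            surj := e.surjective.comp P.surj, ker_eq := ?_ }, ?_, fun a' ha' => hk a' (e.injective ha')⟩
  · rw [← P.ker_eq]
    exact RingHom.ker_comp_of_injective P.hom.toRingHom (f := e.toAlgHom.toRingHom) e.injective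
  · have h1 := Ideal.mem_map_of_mem e.toAlgHom hmin
    rw [Ideal.map_span, ← Set.range_comp] at h1
    exact h1

/-- Base change of strictly standard elements along a quotient. -/
theorem isStrictlyStandard_quotient {R A : Type u} [CommRing R] [CommRing A] [Algebra R A]
    [Algebra.FinitePresentation R A] (J : Ideal R) {a : A} (h : Smoothing.IsStrictlyStandard R A a) :
    Smoothing.IsStrictlyStandard (R ⧸ J) (A ⧸ J.map (algebraMap R A)) (Ideal.Quotient.mk _ a) := by
  have := isStrictlyStandard_congr (Algebra.TensorProduct.quotIdealMapEquivQuotTensor A J).symm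
    ((Groth.Agent.S6829.result (R' := R ⧸ J) a).2 h)
  rwa [← Algebra.TensorProduct.quotIdealMapEquivQuotTensor_mk, AlgEquiv.symm_apply_apply] at this

theorem singularIdeal_quotient {R A : Type u} [CommRing R] [CommRing A] [Algebra R A]
    [Algebra.FinitePresentation R A] (J : Ideal R) {a : A} (h : a ∈ Smoothing.singularIdeal R A) :
    Ideal.Quotient.mk (J.map (algebraMap R A)) a ∈
      Smoothing.singularIdeal (R ⧸ J) (A ⧸ J.map (algebraMap R A)) := by
  have hspan : Smoothing.singularIdeal R A ≤ (Ideal.span {a : A | Smoothing.IsStrictlyStandard R A a}).radical := by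
    intro x hx
    rw [← PrimeSpectrum.vanishingIdeal_zeroLocus_eq_radical, PrimeSpectrum.zeroLocus_span,
      PrimeSpectrum.mem_vanishingIdeal]
    intro q hq
    refine (PrimeSpectrum.mem_vanishingIdeal _ _).1 hx q fun hsm => ?_
    haveI : Algebra.IsSmoothAt R q.asIdeal := hsm
    obtain ⟨a, ha, hea⟩ := exists_isElementaryStandard (R := R) q.asIdeal
    exact ha (hq (isStrictlyStandard_of_isElementaryStandard hea))
  haveI : Algebra.FinitePresentation (R ⧸ J) (A ⧸ J.map (algebraMap R A)) :=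
    Algebra.FinitePresentation.equiv (Algebra.TensorProduct.quotIdealMapEquivQuotTensor A J).symm
  obtain ⟨k, hk⟩ := hspan h
  have h1 := Ideal.mem_map_of_mem (Ideal.Quotient.mk (J.map (algebraMap R A))) hk
  rw [map_pow, Ideal.map_span] at h1
  refine (PrimeSpectrum.isRadical_vanishingIdeal _) ⟨k, Ideal.span_le.2 ?_ h1⟩
  rintro _ ⟨x, hx, rfl⟩
  exact mem_singularIdeal_of_smooth (smooth_and_stablyFree _ (isStrictlyStandard_quotient J hx)).1

variable {R A Λ : Type u} [CommRing R] [CommRing A] [Algebra R A] [CommRing Λ] [Algebra R Λ]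

/-- Resolution of the problem modulo an ideal of the base. -/
def ResolvableMod (φ : A →ₐ[R] Λ) (𝔮 : Ideal Λ) (J : Ideal R) : Prop :=
  ∃ (C : Type u) (_ : CommRing C) (_ : Algebra R C) (_ : Algebra (R ⧸ J) C) (_ : IsScalarTower R (R ⧸ J) C),
    Algebra.FinitePresentation (R ⧸ J) C ∧
    ∃ (γ : A →ₐ[R] C) (g : C →ₐ[R] Λ ⧸ J.map (algebraMap R Λ)),
      (∀ a, g (γ a) = Ideal.Quotient.mk _ (φ a)) ∧
      (Smoothing.singRad R φ).map (Ideal.Quotient.mk (J.map (algebraMap R Λ))) ≤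
        ((Smoothing.singularIdeal (R ⧸ J) C).map g).radical ∧
      ¬ (Smoothing.singularIdeal (R ⧸ J) C).map g ≤ 𝔮.map (Ideal.Quotient.mk (J.map (algebraMap R Λ)))

set_option maxHeartbeats 800000 in
theorem resolvableMod_step [IsNoetherianRing R] [Algebra.FinitePresentation R A] (φ : A →ₐ[R] Λ) (𝔮 : Ideal Λ)
    [𝔮.IsPrime] (J J' : Ideal R) (π : R) (hJ' : J' = J ⊔ Ideal.span {π ^ 8})
    (hJ𝔮 : J.map (algebraMap R Λ) ≤ 𝔮) (hπ𝔮 : algebraMap R Λ π ∈ 𝔮)
    (hR : ∀ x : R, π ^ 2 * x ∈ J → π * x ∈ J)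
    (hΛ : ∀ x : Λ, algebraMap R Λ π ^ 2 * x ∈ J.map (algebraMap R Λ) → algebraMap R Λ π * x ∈ J.map (algebraMap R Λ))
    (hstd : Smoothing.IsStrictlyStandard R A (algebraMap R A π))
    (hres : ResolvableMod φ 𝔮 J') : ResolvableMod φ 𝔮 J := by
  classical
  obtain ⟨C, iC, iRC, iR'C, iT, hC, γ, g, hfac, hle, hnot⟩ := hres
  let R₁ := R ⧸ J
  let JA := J.map (algebraMap R A)
  let JΛ := J.map (algebraMap R Λ)
  let A₁ := A ⧸ JA
  let Λ₁ := Λ ⧸ JΛ
  haveI hA₁ : Algebra.FinitePresentation R₁ A₁ :=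
    Algebra.FinitePresentation.equiv (Algebra.TensorProduct.quotIdealMapEquivQuotTensor A J).symm
  let φ₁₀ : A₁ →ₐ[R] Λ₁ := Ideal.Quotient.liftₐ JA ((Ideal.Quotient.mkₐ R JΛ).comp φ) (fun x hx => by
    have h1 := Ideal.mem_map_of_mem φ.toRingHom hx
    rw [Ideal.map_map, show φ.toRingHom.comp (algebraMap R A) = algebraMap R Λ from φ.comp_algebraMap] at h1
    exact Ideal.Quotient.eq_zero_iff_mem.2 h1)
  let φ₁ : A₁ →ₐ[R₁] Λ₁ := AlgHom.extendScalarsOfSurjective Ideal.Quotient.mk_surjective φ₁₀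
  let p : R₁ := Ideal.Quotient.mk J π
  have hpstd : Smoothing.IsStrictlyStandard R₁ A₁ (algebraMap R₁ A₁ p) := isStrictlyStandard_quotient J hstd
  have hR₁ : ∀ r : R₁, p ^ 2 * r = 0 → p * r = 0 := fun r hr => by
    obtain ⟨r, rfl⟩ := Ideal.Quotient.mk_surjective r
    simp only [p, ← map_pow, ← map_mul] at hr ⊢
    exact Ideal.Quotient.eq_zero_iff_mem.2 (hR r (Ideal.Quotient.eq_zero_iff_mem.1 hr))
  have hpΛ : algebraMap R₁ Λ₁ p = Ideal.Quotient.mk JΛ (algebraMap R Λ π) := rfl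
  have hΛ₁ : ∀ x : Λ₁, p ^ 2 • x = 0 → p • x = 0 := fun x hx => by
    obtain ⟨x, rfl⟩ := Ideal.Quotient.mk_surjective x
    simp only [Algebra.smul_def, map_pow, hpΛ] at hx ⊢
    rw [← map_pow, ← map_mul, Ideal.Quotient.eq_zero_iff_mem] at hx
    rw [← map_mul, Ideal.Quotient.eq_zero_iff_mem]
    exact hΛ x hx
  -- `C` over `R₁ ⧸ (p ^ 8)`
  let I₁ := Ideal.span {p ^ 8}
  have hJJ' : J ≤ J' := hJ' ▸ le_sup_left
  have hπJ' : π ^ 8 ∈ J' := hJ' ▸ Ideal.mem_sup_right (Ideal.mem_span_singleton_self _)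
  let e : R₁ ⧸ I₁ →+* R ⧸ J' := Ideal.Quotient.lift I₁ (Ideal.Quotient.factor hJJ') (fun x hx => by
    obtain ⟨y, rfl⟩ := Ideal.mem_span_singleton'.1 hx
    rw [map_mul, show Ideal.Quotient.factor hJJ' (p ^ 8) = 0 from Ideal.Quotient.eq_zero_iff_mem.2 hπJ', mul_zero])
  have he : Function.Bijective e := by
    refine ⟨(injective_iff_map_eq_zero e).2 fun x hx => ?_, fun y => ?_⟩
    · obtain ⟨x, rfl⟩ := Ideal.Quotient.mk_surjective x
      obtain ⟨x, rfl⟩ := Ideal.Quotient.mk_surjective x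
      have hx' : x ∈ J' := Ideal.Quotient.eq_zero_iff_mem.1 hx
      rw [hJ'] at hx'
      obtain ⟨j, hj, z, hz, rfl⟩ := Submodule.mem_sup.1 hx'
      obtain ⟨y, rfl⟩ := Ideal.mem_span_singleton'.1 hz
      refine Ideal.Quotient.eq_zero_iff_mem.2 ?_
      rw [map_add, Ideal.Quotient.eq_zero_iff_mem.2 hj, zero_add, map_mul, map_pow]
      exact Ideal.mul_mem_left _ _ (Ideal.mem_span_singleton_self _)
    · obtain ⟨y, rfl⟩ := Ideal.Quotient.mk_surjective y
      exact ⟨Ideal.Quotient.mk I₁ (Ideal.Quotient.mk J y), rfl⟩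
  letI algS : Algebra (R₁ ⧸ I₁) (R ⧸ J') := e.toAlgebra
  letI algIC : Algebra (R₁ ⧸ I₁) C := ((algebraMap (R ⧸ J') C).comp e).toAlgebra
  haveI : IsScalarTower (R₁ ⧸ I₁) (R ⧸ J') C := IsScalarTower.of_algebraMap_eq fun _ => rfl
  letI alg1C : Algebra R₁ C := ((algebraMap (R₁ ⧸ I₁) C).comp (Ideal.Quotient.mk I₁)).toAlgebra
  haveI : IsScalarTower R₁ (R₁ ⧸ I₁) C := ⟨fun r x c => by
    obtain ⟨x, rfl⟩ := Ideal.Quotient.mk_surjective x
    change (Ideal.Quotient.mk I₁ (r * x) : R₁ ⧸ I₁) • c = algebraMap (R₁ ⧸ I₁) C (Ideal.Quotient.mk I₁ r) * ((Ideal.Quotient.mk I₁ x : R₁ ⧸ I₁) • c)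
    rw [Algebra.smul_def, Algebra.smul_def, map_mul (Ideal.Quotient.mk I₁), map_mul, mul_assoc]⟩
  haveI : IsScalarTower R R₁ C := IsScalarTower.of_algebraMap_eq fun x =>
    IsScalarTower.algebraMap_apply R (R ⧸ J') C x
  haveI hC₁ : Algebra.FinitePresentation (R₁ ⧸ I₁) C := (finitePresentation_iff_of_bijective he).2 hC
  have hsing : Smoothing.singularIdeal (R₁ ⧸ I₁) C = Smoothing.singularIdeal (R ⧸ J') C :=
    singularIdeal_eq_of_bijective he
  let JA' := J'.map (algebraMap R A)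
  let JΛ' := J'.map (algebraMap R Λ)
  let σ := algebraMap R₁ Λ₁ (p ^ 8)
  let θ : Λ ⧸ JΛ' →ₐ[R] Λ₁ ⧸ Ideal.span {σ} := Ideal.Quotient.liftₐ JΛ'
    ((Ideal.Quotient.mkₐ R (Ideal.span {σ})).comp (Ideal.Quotient.mkₐ R JΛ)) (fun x hx => by
      refine Ideal.Quotient.eq_zero_iff_mem.2 ?_
      have h1 := Ideal.mem_map_of_mem (Ideal.Quotient.mk JΛ) hx
      simp only [JΛ', hJ', Ideal.map_sup, Ideal.map_span, Set.image_singleton] at h1
      rw [Ideal.map_quotient_self, bot_sup_eq] at h1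
      exact h1)
  let g₁ : C →ₐ[R₁] Λ₁ ⧸ Ideal.span {σ} := AlgHom.extendScalarsOfSurjective Ideal.Quotient.mk_surjective (θ.comp g)
  let γ₁₀ : A₁ →ₐ[R] C := Ideal.Quotient.liftₐ JA γ (fun x hx => by
    have h1 := Ideal.mem_map_of_mem γ.toRingHom hx
    rw [Ideal.map_map, show γ.toRingHom.comp (algebraMap R A) = algebraMap R C from γ.comp_algebraMap] at h1
    have h2 : J.map (algebraMap R C) ≤ ⊥ := Ideal.map_le_iff_le_comap.2 fun j hj => by
      rw [Ideal.mem_comap, Ideal.mem_bot, IsScalarTower.algebraMap_apply R (R ⧸ J') C,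
        Ideal.Quotient.algebraMap_eq, Ideal.Quotient.eq_zero_iff_mem.2 (hJJ' hj), map_zero]
    exact (Ideal.mem_bot).1 (h2 h1))
  let γ₁ : A₁ →ₐ[R₁] C := AlgHom.extendScalarsOfSurjective Ideal.Quotient.mk_surjective γ₁₀
  have hfac₁ : ∀ a : A₁, g₁ (γ₁ a) = Ideal.Quotient.mk (Ideal.span {σ}) (φ₁ a) := fun a => by
    obtain ⟨a, rfl⟩ := Ideal.Quotient.mk_surjective a
    change θ (g (γ a)) = _
    rw [hfac a]
    rfl
  obtain ⟨B, iB, iB₁, hB, α, β, hβα, haway, hsingle⟩ :=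
    exists_desingularize_lifting p (p ^ 4) (p ^ 8) rfl (by rw [← pow_mul]) hR₁ hΛ₁ φ₁ hpstd γ₁ g₁ hfac₁
  letI : Algebra R B := Algebra.compHom B (algebraMap R R₁)
  haveI : IsScalarTower R R₁ B := IsScalarTower.of_algebraMap_eq fun _ => rfl
  refine ⟨B, iB, inferInstance, iB₁, inferInstance, hB,
    (α.restrictScalars R).comp (Ideal.Quotient.mkₐ R JA), β.restrictScalars R,
    fun a => (AlgHom.congr_fun hβα (Ideal.Quotient.mk JA a)).trans rfl, ?_, ?_⟩
  · -- the singular radical grows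
    have hpB : algebraMap R₁ B p ∈ Smoothing.singularIdeal R₁ B := by
      rw [Smoothing.singularIdeal, PrimeSpectrum.mem_vanishingIdeal]
      intro q hq
      by_contra hh
      exact hq (haway q.asIdeal hh)
    have hσ : σ ∈ ((Smoothing.singularIdeal R₁ B).map β).radical := by
      refine Ideal.le_radical ?_
      simp only [σ]
      rw [map_pow, ← β.commutes p]
      exact Ideal.pow_mem_of_mem _ (Ideal.mem_map_of_mem β hpB) 8 (by norm_num)
    rw [Smoothing.singRad]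
    refine (Ideal.map_radical_le _).trans ((Ideal.radical_mono ?_).trans (le_of_eq (Ideal.radical_idem _)))
    rw [Ideal.map_le_iff_le_comap, Ideal.map_le_iff_le_comap]
    intro x hx
    have h1 : θ (Ideal.Quotient.mk JΛ' (φ x)) ∈ ((Smoothing.singularIdeal (R ⧸ J') C).map g).radical.map θ :=
      Ideal.mem_map_of_mem θ (hle (Ideal.mem_map_of_mem _ (Ideal.le_radical (Ideal.mem_map_of_mem φ hx))))
    have h2 := Ideal.map_radical_le _ h1
    rw [← hsing, Ideal.map_mapₐ] at h2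
    have h3 : θ (Ideal.Quotient.mk JΛ' (φ x)) ∈
        (((Smoothing.singularIdeal R₁ B).map β).radical.map (Ideal.Quotient.mk (Ideal.span {σ}))).radical :=
      Ideal.radical_mono hsingle h2
    obtain ⟨k, hk⟩ := h3
    have hk' : Ideal.Quotient.mk (Ideal.span {σ}) (Ideal.Quotient.mk JΛ (φ x) ^ k) ∈
        ((Smoothing.singularIdeal R₁ B).map β).radical.map (Ideal.Quotient.mk (Ideal.span {σ})) := by
      rw [map_pow]; exact hk
    rw [← Ideal.mem_comap, Ideal.comap_map_of_surjective _ Ideal.Quotient.mk_surjective] at hk'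
    have h4 : Ideal.Quotient.mk JΛ (φ x) ^ k ∈ ((Smoothing.singularIdeal R₁ B).map β).radical := by
      refine (sup_le le_rfl ?_ : _ ≤ ((Smoothing.singularIdeal R₁ B).map β).radical) hk'
      intro z hz
      exact (Ideal.span_singleton_le_iff_mem _).2 hσ (Ideal.Quotient.eq_zero_iff_mem.1 hz)
    exact (Ideal.radical_isRadical _) ⟨k, h4⟩
  · -- the new algebra is smooth at `𝔮`
    intro hcontra
    refine hnot (Ideal.map_le_iff_le_comap.2 fun c hc => ?_)
    obtain ⟨l, hl⟩ := Ideal.Quotient.mk_surjective (g c)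
    have hσ𝔮 : σ ∈ 𝔮.map (Ideal.Quotient.mk JΛ) := by
      simp only [σ]
      rw [map_pow, hpΛ, ← map_pow]
      exact Ideal.mem_map_of_mem _ (Ideal.pow_mem_of_mem _ hπ𝔮 8 (by norm_num))
    haveI : (𝔮.map (Ideal.Quotient.mk JΛ)).IsPrime :=
      Ideal.map_isPrime_of_surjective Ideal.Quotient.mk_surjective (by rw [Ideal.mk_ker]; exact hJ𝔮)
    have hrad : ((Smoothing.singularIdeal R₁ B).map β).radical ≤ 𝔮.map (Ideal.Quotient.mk JΛ) :=
      (Ideal.IsPrime.isRadical inferInstance).radical_le_iff.2 hcontra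
    have h1 : g₁ c ∈ (𝔮.map (Ideal.Quotient.mk JΛ)).map (Ideal.Quotient.mk (Ideal.span {σ})) :=
      Ideal.map_mono hrad (hsingle (Ideal.mem_map_of_mem g₁ (hsing ▸ hc)))
    have h2 : Ideal.Quotient.mk (Ideal.span {σ}) (Ideal.Quotient.mk JΛ l) ∈
        (𝔮.map (Ideal.Quotient.mk JΛ)).map (Ideal.Quotient.mk (Ideal.span {σ})) := by
      change θ (g c) ∈ _ at h1
      rw [← hl] at h1
      exact h1
    rw [← Ideal.mem_comap, Ideal.comap_map_of_surjective _ Ideal.Quotient.mk_surjective] at h2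
    have h3 : Ideal.Quotient.mk JΛ l ∈ 𝔮.map (Ideal.Quotient.mk JΛ) := by
      refine (sup_le le_rfl ?_ : _ ≤ 𝔮.map (Ideal.Quotient.mk JΛ)) h2
      intro z hz
      exact (Ideal.span_singleton_le_iff_mem _).2 hσ𝔮 (Ideal.Quotient.eq_zero_iff_mem.1 hz)
    rw [← Ideal.mem_comap, Ideal.comap_map_of_surjective _ Ideal.Quotient.mk_surjective] at h3
    have h4 : l ∈ 𝔮 := (sup_le le_rfl (fun z hz => hJ𝔮 (Ideal.Quotient.eq_zero_iff_mem.1 hz)) : _ ≤ 𝔮) h3
    rw [Ideal.mem_comap, ← hl]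
    exact Ideal.mem_map_of_mem _ h4

theorem resolvable_of_resolvableMod_bot (φ : A →ₐ[R] Λ) (𝔮 : Ideal Λ) (J : Ideal R) (hJ : J = ⊥)
    (h : ResolvableMod φ 𝔮 J) : Smoothing.Resolvable R φ 𝔮 := by
  subst hJ
  obtain ⟨C, _, _, _, _, hC, γ, g, hfac, hle, hnot⟩ := h
  have hbij : Function.Bijective (algebraMap R (R ⧸ (⊥ : Ideal R))) :=
    ⟨(injective_iff_map_eq_zero _).2 fun x hx => by simpa [Ideal.Quotient.eq_zero_iff_mem] using hx,
      Ideal.Quotient.mk_surjective⟩
  have hJΛ : (⊥ : Ideal R).map (algebraMap R Λ) = ⊥ := Ideal.map_bot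
  let mkΛ := Ideal.Quotient.mkₐ R ((⊥ : Ideal R).map (algebraMap R Λ))
  have hinj : Function.Injective mkΛ := (injective_iff_map_eq_zero mkΛ).2 fun x hx => by
    have := Ideal.Quotient.eq_zero_iff_mem.1 hx
    rwa [hJΛ, Ideal.mem_bot] at this
  let e : Λ ≃ₐ[R] Λ ⧸ (⊥ : Ideal R).map (algebraMap R Λ) :=
    AlgEquiv.ofBijective mkΛ ⟨hinj, Ideal.Quotient.mk_surjective⟩
  let h' : C →ₐ[R] Λ := e.symm.toAlgHom.comp g
  haveI hCR : Algebra.FinitePresentation R C := (finitePresentation_iff_of_bijective hbij).2 hC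
  have hs := singularIdeal_eq_of_bijective (C := C) hbij
  have hmap : ((Smoothing.singularIdeal R C).map h').map mkΛ = (Smoothing.singularIdeal (R ⧸ (⊥ : Ideal R)) C).map g := by
    rw [← hs, Ideal.map_mapₐ]
    refine congrArg (fun f : C →ₐ[R] _ => (Smoothing.singularIdeal R C).map f) (AlgHom.ext fun c => ?_)
    exact e.apply_symm_apply (g c)
  refine ⟨C, inferInstance, inferInstance, hCR, γ, h', AlgHom.ext fun a => ?_, fun x hx => ?_, fun hh => hnot ?_⟩
  · change e.symm (g (γ a)) = φ a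
    rw [hfac]
    exact e.symm_apply_apply (φ a)
  · have h1 : mkΛ x ∈ _ := hle (Ideal.mem_map_of_mem _ hx)
    rw [← hmap] at h1
    obtain ⟨k, hk⟩ := h1
    rw [← map_pow] at hk
    obtain ⟨y, hy, hyx⟩ := (Ideal.mem_map_iff_of_surjective _ Ideal.Quotient.mk_surjective).1 hk
    exact ⟨k, hinj hyx ▸ hy⟩
  · rw [← hmap]
    exact Ideal.map_mono (Ideal.le_radical.trans hh)

theorem resolvableMod_of_resolvable (φ : A →ₐ[R] Λ) (𝔮 : Ideal Λ) (K : Ideal R) [Algebra.FinitePresentation R A]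
    (φK : (A ⧸ K.map (algebraMap R A)) →ₐ[R ⧸ K] (Λ ⧸ K.map (algebraMap R Λ)))
    (hφK : ∀ a : A, φK (Ideal.Quotient.mk _ a) = Ideal.Quotient.mk _ (φ a))
    [𝔮.IsPrime] (hK : K.map (algebraMap R Λ) ≤ 𝔮)
    (hres : Smoothing.Resolvable (R ⧸ K) φK (𝔮.map (Ideal.Quotient.mk (K.map (algebraMap R Λ))))) :
    ResolvableMod φ 𝔮 K := by
  obtain ⟨C, iC, iKC, hC, γ, g, hgγ, hle, hnot⟩ := hres
  letI : Algebra R C := Algebra.compHom C (algebraMap R (R ⧸ K))
  haveI : IsScalarTower R (R ⧸ K) C := IsScalarTower.of_algebraMap_eq fun _ => rfl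
  refine ⟨C, iC, inferInstance, iKC, inferInstance, hC, (γ.restrictScalars R).comp (Ideal.Quotient.mkₐ R _),
    g.restrictScalars R, fun a => (AlgHom.congr_fun hgγ _).trans (hφK a), ?_, fun hh => hnot ?_⟩
  · rw [Smoothing.singRad]
    refine (Ideal.map_radical_le _).trans ((Ideal.radical_mono ?_).trans (le_of_eq (Ideal.radical_idem _)))
    rw [Ideal.map_le_iff_le_comap, Ideal.map_le_iff_le_comap]
    intro x hx
    rw [Ideal.mem_comap, Ideal.mem_comap, ← hφK]
    exact hle (Ideal.le_radical (Ideal.mem_map_of_mem φK (singularIdeal_quotient K hx)))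
  · haveI : (𝔮.map (Ideal.Quotient.mk (K.map (algebraMap R Λ)))).IsPrime :=
      Ideal.map_isPrime_of_surjective Ideal.Quotient.mk_surjective (by rw [Ideal.mk_ker]; exact hK)
    rw [Smoothing.singRad]
    exact (Ideal.IsPrime.isRadical inferInstance).radical_le_iff.2 hh

/-- Resolution descends from the quotient by eighth powers. -/
theorem resolvable_of_resolvable_mod_pows [IsNoetherianRing R] [Algebra.FinitePresentation R A]
    (φ : A →ₐ[R] Λ) (𝔮 : Ideal Λ) [𝔮.IsPrime] {r : ℕ} (π : Fin r → R)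
    (hπ𝔮 : ∀ i, algebraMap R Λ (π i) ∈ 𝔮)
    (hR : ∀ i : Fin r, ∀ x : R ⧸ Ideal.span (Set.range fun j : {j : Fin r // (j : ℕ) < (i : ℕ)} => π j ^ 8),
      Ideal.Quotient.mk _ (π i) ^ 2 * x = 0 → Ideal.Quotient.mk _ (π i) * x = 0)
    (hΛ : ∀ i : Fin r, ∀ x : Λ ⧸ Ideal.span (Set.range fun j : {j : Fin r // (j : ℕ) < (i : ℕ)} =>
        algebraMap R Λ (π j) ^ 8),
      Ideal.Quotient.mk _ (algebraMap R Λ (π i)) ^ 2 * x = 0 → Ideal.Quotient.mk _ (algebraMap R Λ (π i)) * x = 0)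
    (hstd : ∀ i, Smoothing.IsStrictlyStandard R A (algebraMap R A (π i)))
    (K : Ideal R) (hK : K = Ideal.span (Set.range fun i => π i ^ 8))
    (φK : (A ⧸ K.map (algebraMap R A)) →ₐ[R ⧸ K] (Λ ⧸ K.map (algebraMap R Λ)))
    (hφK : ∀ a : A, φK (Ideal.Quotient.mk _ a) = Ideal.Quotient.mk _ (φ a))
    (hres : Smoothing.Resolvable (R ⧸ K) φK (𝔮.map (Ideal.Quotient.mk (K.map (algebraMap R Λ))))) :
    Smoothing.Resolvable R φ 𝔮 := by
  let J : ℕ → Ideal R := fun k => Ideal.span (Set.range fun j : {j : Fin r // (j : ℕ) < k} => π j ^ 8)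
  have hJ0 : J 0 = ⊥ := Ideal.span_eq_bot.2 (by rintro _ ⟨⟨j, hj⟩, rfl⟩; exact absurd hj (Nat.not_lt_zero _))
  have hmapJ : ∀ k, (J k).map (algebraMap R Λ) =
      Ideal.span (Set.range fun j : {j : Fin r // (j : ℕ) < k} => algebraMap R Λ (π j) ^ 8) := fun k => by
    simp only [J, Ideal.map_span, ← Set.range_comp, Function.comp_def, map_pow]
  have hJ𝔮 : ∀ k, (J k).map (algebraMap R Λ) ≤ 𝔮 := fun k => by
    rw [hmapJ, Ideal.span_le]
    rintro _ ⟨j, rfl⟩
    exact Ideal.pow_mem_of_mem _ (hπ𝔮 _) 8 (by norm_num)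
  have hJr : J r = K := by
    rw [hK]
    refine congrArg Ideal.span (Set.ext fun x => ⟨?_, ?_⟩)
    · rintro ⟨j, rfl⟩; exact ⟨j, rfl⟩
    · rintro ⟨j, rfl⟩; exact ⟨⟨j, j.2⟩, rfl⟩
  have hsucc : ∀ i : Fin r, J (i + 1) = J i ⊔ Ideal.span {π i ^ 8} := fun i => by
    simp only [J]
    rw [← Ideal.span_union]
    refine congrArg Ideal.span (Set.ext fun x => ⟨?_, ?_⟩)
    · rintro ⟨⟨j, hj⟩, rfl⟩
      rcases Nat.lt_succ_iff_lt_or_eq.1 hj with h | h
      · exact Or.inl ⟨⟨j, h⟩, rfl⟩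
      · refine Or.inr ?_
        obtain rfl : j = i := Fin.ext h
        rfl
    · rintro (⟨⟨j, hj⟩, rfl⟩ | rfl)
      · exact ⟨⟨j, Nat.lt_succ_of_lt hj⟩, rfl⟩
      · exact ⟨⟨i, Nat.lt_succ_self _⟩, rfl⟩
  have hmain : ∀ d k, k + d = r → ResolvableMod φ 𝔮 (J k) := by
    intro d
    induction d with
    | zero =>
      intro k hk
      rw [add_zero] at hk
      rw [hk, hJr]
      exact resolvableMod_of_resolvable φ 𝔮 K φK hφK (hJr ▸ hJ𝔮 r) hres
    | succ d ih =>
      intro k hk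
      let i : Fin r := ⟨k, by omega⟩
      refine resolvableMod_step φ 𝔮 (J k) (J (k + 1)) (π i) (hsucc i) (hJ𝔮 k) (hπ𝔮 i) (fun x hx => ?_)
        (fun x hx => ?_) (hstd i) (ih (k + 1) (by omega))
      · have := hR i (Ideal.Quotient.mk _ x) (by
          rw [← map_pow, ← map_mul]; exact Ideal.Quotient.eq_zero_iff_mem.2 hx)
        rw [← map_mul] at this
        exact Ideal.Quotient.eq_zero_iff_mem.1 this
      · rw [hmapJ] at hx ⊢
        have := hΛ i (Ideal.Quotient.mk _ x) (by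
          rw [← map_pow, ← map_mul]; exact Ideal.Quotient.eq_zero_iff_mem.2 hx)
        rw [← map_mul] at this
        exact Ideal.Quotient.eq_zero_iff_mem.1 this
  exact resolvable_of_resolvableMod_bot φ 𝔮 (J 0) hJ0 (hmain r 0 (by omega))

end Groth.Agent.SmoothingLib
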