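import Groth.Agent.CAlgGlobalDim.RegSeq
import Mathlib.RingTheory.Regular.RegularSequence
import Mathlib.RingTheory.Localization.Ideal

/-!
# Adjusting parameters at a regular prime
-/

universe u

open RingTheory.Sequence IsLocalRing

namespace Groth.Agent.SmoothingLib

variable {A : Type u} [CommRing A] [IsNoetherianRing A] [IsLocalRing A]

theorem weaklyRegular_pow_prefix (e : ℕ) : ∀ (l₁ l₂ p : List A), (∀ r ∈ p ++ l₁ ++ l₂, r ∈ maximalIdeal A) →
    0 < e → IsWeaklyRegular A (p ++ l₁ ++ l₂) → IsWeaklyRegular A (p ++ l₁.map (· ^ e) ++ l₂) := by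
  intro l₁
  induction l₁ with
  | nil => intro l₂ p _ _ h; simpa using h
  | cons a l ih =>
    intro l₂ p hm he h
    have hperm1 : List.Perm (p ++ (a :: l) ++ l₂) ((p ++ l ++ l₂) ++ [a]) := by
      simp only [List.append_assoc, List.cons_append]
      exact (List.perm_middle).trans (by simpa [List.append_assoc] using (List.perm_append_comm (l₁ := [a]) (l₂ := p ++ (l ++ l₂))))
    have hjac : ∀ r ∈ p ++ (a :: l) ++ l₂, r ∈ (Module.annihilator A A).jacobson := fun r hr =>
      IsLocalRing.maximalIdeal_le_jacobson _ (hm r hr)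
    have h1 := h.of_perm_of_subset_jacobson_annihilator hperm1 hjac
    rw [isWeaklyRegular_append_iff] at h1
    obtain ⟨h1, h2⟩ := h1
    rw [isWeaklyRegular_singleton_iff] at h2
    have h3 : IsWeaklyRegular A ((p ++ l ++ l₂) ++ [a ^ e]) := by
      rw [isWeaklyRegular_append_iff, isWeaklyRegular_singleton_iff]
      exact ⟨h1, h2.pow e⟩
    have hperm2 : List.Perm ((p ++ l ++ l₂) ++ [a ^ e]) ((p ++ [a ^ e]) ++ l ++ l₂) := by
      simp only [List.append_assoc]
      refine List.Perm.append_left p ?_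
      simpa [List.append_assoc] using (List.perm_append_comm (l₁ := l ++ l₂) (l₂ := [a ^ e]))
    have hm2 : ∀ r ∈ (p ++ [a ^ e]) ++ l ++ l₂, r ∈ maximalIdeal A := by
      intro r hr
      simp only [List.mem_append, List.mem_singleton] at hr
      rcases hr with ((hr | rfl) | hr) | hr
      · exact hm r (by simp [hr])
      · exact Ideal.pow_mem_of_mem _ (hm a (by simp)) e he
      · exact hm r (by simp [hr])
      · exact hm r (by simp [hr])
    have h4 := h3.of_perm_of_subset_jacobson_annihilator hperm2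
      (fun r hr => IsLocalRing.maximalIdeal_le_jacobson _ (hm2 r (hperm2.subset hr)))
    have h5 := ih l₂ (p ++ [a ^ e]) hm2 he h4
    simpa [List.append_assoc] using h5

/-- A member of a regular system of parameters is a nonzerodivisor modulo powers of the previous ones. -/
theorem mem_span_pow_of_mul_mem {B : Type u} [CommRing B] [IsRegularLocalRing B] {d e : ℕ} (he : 0 < e)
    (hd : ringKrullDim B = d) (y : Fin d → B) (hy : Ideal.span (Set.range y) = maximalIdeal B) (i : Fin d) (x : B)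
    (hx : y i * x ∈ Ideal.span (Set.range fun j : {j : Fin d // (j : ℕ) < (i : ℕ)} => y j ^ e)) :
    x ∈ Ideal.span (Set.range fun j : {j : Fin d // (j : ℕ) < (i : ℕ)} => y j ^ e) := by
  have hwr : IsWeaklyRegular B (List.ofFn y) :=
    CAlgGlobalDim.isWeaklyRegular_of_generators d B (List.ofFn y) List.length_ofFn
      ((CAlgGlobalDim.ofList_ofFn y).trans hy) (CAlgGlobalDim.spanFinrank_eq_of_dim B d hd).ge
  have hm : ∀ r ∈ List.ofFn y, r ∈ maximalIdeal B := fun r hr => by
    rw [← hy]; exact Ideal.subset_span ((List.mem_ofFn).1 hr)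
  have h := weaklyRegular_pow_prefix e ((List.ofFn y).take i) ((List.ofFn y).drop i) []
    (by simpa using hm) he (by simpa using hwr)
  rw [List.nil_append, isWeaklyRegular_append_iff,
    List.drop_eq_getElem_cons (by simp : (i : ℕ) < (List.ofFn y).length), isWeaklyRegular_cons_iff] at h
  have hreg := h.2.1
  have hlist : Ideal.ofList (((List.ofFn y).take i).map (· ^ e)) =
      Ideal.span (Set.range fun j : {j : Fin d // (j : ℕ) < (i : ℕ)} => y j ^ e) := by
    refine congrArg Ideal.span (Set.ext fun r => ?_)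
    simp only [Set.mem_setOf_eq, List.mem_map, Set.mem_range]
    constructor
    · rintro ⟨z, hz, rfl⟩
      obtain ⟨k, hk, rfl⟩ := List.mem_iff_getElem.1 hz
      simp only [List.length_take, List.length_ofFn, lt_min_iff] at hk
      exact ⟨⟨⟨k, hk.2⟩, hk.1⟩, by simp⟩
    · rintro ⟨⟨j, hj⟩, rfl⟩
      exact ⟨y j, List.mem_iff_getElem.2 ⟨j, by simp; omega, by simp⟩, rfl⟩
  rw [← hlist] at hx ⊢
  have h0 : (Submodule.Quotient.mk x : B ⧸ Ideal.ofList (((List.ofFn y).take i).map (· ^ e)) • (⊤ : Submodule B B)) = 0 := by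
    refine hreg ?_
    change (List.ofFn y)[(i : ℕ)] • _ = (List.ofFn y)[(i : ℕ)] • _
    rw [smul_zero, ← Submodule.Quotient.mk_smul, Submodule.Quotient.mk_eq_zero, smul_eq_mul, smul_eq_mul, Ideal.mul_top]
    simpa using hx
  rwa [Submodule.Quotient.mk_eq_zero, smul_eq_mul, Ideal.mul_top] at h0

variable {Λ : Type u} [CommRing Λ] [IsNoetherianRing Λ]

/-- A multiple of `y` by an element outside `q` has the same annihilator as its square modulo `a`. -/
theorem exists_mul_stable (q a : Ideal Λ) [q.IsPrime] (y t : Λ) (ht : t ∉ q)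
    (hnzd : ∀ x : Localization.AtPrime q, algebraMap Λ _ y * x ∈ a.map (algebraMap Λ (Localization.AtPrime q)) →
      x ∈ a.map (algebraMap Λ (Localization.AtPrime q))) :
    ∃ s, s ∉ q ∧ t ∣ s ∧ ∀ x, (s * y) ^ 2 * x ∈ a → s * y * x ∈ a := by
  classical
  let B := Localization.AtPrime q
  let colon : Λ → Ideal Λ := fun c => Submodule.comap (LinearMap.mulLeft Λ c) a
  have hcolon : ∀ c x, x ∈ colon c ↔ c * x ∈ a := fun c x => Iff.rfl
  have hmono : ∀ c, Monotone fun k => colon (c ^ k) := fun c k l hkl x hx => by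
    rw [hcolon, show c ^ l = c ^ (l - k) * c ^ k by rw [← pow_add, Nat.sub_add_cancel hkl], mul_assoc]
    exact a.mul_mem_left _ hx
  have stab : ∀ c, ∃ K, ∀ k, K ≤ k → colon (c ^ K) = colon (c ^ k) := fun c =>
    monotone_stabilizes_iff_noetherian.2 inferInstance ⟨fun k => colon (c ^ k), hmono c⟩
  obtain ⟨k₀, hk₀⟩ := stab y
  have hloc : ∀ g ∈ colon (y ^ k₀), ∃ u, u ∉ q ∧ u * g ∈ a := fun g hg => by
    have h1 : ∀ k : ℕ, algebraMap Λ B y ^ k * algebraMap Λ B g ∈ a.map (algebraMap Λ B) →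
        algebraMap Λ B g ∈ a.map (algebraMap Λ B) := by
      intro k
      induction k with
      | zero => simp
      | succ k ih => intro h; rw [pow_succ', mul_assoc] at h; exact ih (hnzd _ h)
    obtain ⟨u, hu, hug⟩ := (IsLocalization.algebraMap_mem_map_algebraMap_iff q.primeCompl B a g).1
      (h1 k₀ (by rw [← map_pow, ← map_mul]; exact Ideal.mem_map_of_mem _ hg))
    exact ⟨u, hu, hug⟩
  obtain ⟨n, g, hg⟩ := Submodule.fg_iff_exists_fin_generating_family.1 (IsNoetherian.noetherian (colon (y ^ k₀)))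
  choose u hu hug using fun i => hloc (g i) (hg ▸ Submodule.subset_span ⟨i, rfl⟩)
  have hs₀ : ∀ x ∈ colon (y ^ k₀), (∏ i, u i) * x ∈ a := fun x hx => by
    have hle : colon (y ^ k₀) ≤ colon (∏ i, u i) := by
      rw [← hg, Submodule.span_le]
      rintro _ ⟨i, rfl⟩
      rw [SetLike.mem_coe, hcolon, ← Finset.prod_erase_mul _ _ (Finset.mem_univ i), mul_assoc]
      exact a.mul_mem_left _ (hug i)
    exact hle hx
  let s₁ := (∏ i, u i) * t
  obtain ⟨K, hK⟩ := stab s₁
  refine ⟨s₁ ^ (K + 1), ?_, dvd_pow (dvd_mul_left _ _) (by omega), fun x hx => ?_⟩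
  · exact q.primeCompl.pow_mem (q.primeCompl.mul_mem (prod_mem fun i _ => hu i) ht) _
  have h2 : (s₁ ^ (K + 1)) ^ 2 * x ∈ colon (y ^ k₀) := by
    rw [hk₀ (max k₀ 2) (le_max_left _ _)]
    refine hmono y (le_max_right k₀ 2) ?_
    rw [hcolon, ← mul_assoc, ← mul_pow, mul_comm y]
    exact hx
  have h3 : x ∈ colon (s₁ ^ (1 + 2 * (K + 1))) := by
    rw [hcolon, pow_add, pow_one, mul_assoc, pow_mul']
    change (∏ i, u i) * t * _ ∈ a
    rw [mul_comm (∏ i, u i) t, mul_assoc]
    exact a.mul_mem_left _ (hs₀ _ h2)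
  rw [← hK _ (by omega), hK (K + 1) (by omega), hcolon] at h3
  rw [mul_right_comm]
  exact a.mul_mem_right _ h3

theorem exists_stable_params_pow (I q : Ideal Λ) [q.IsPrime] (n e d : ℕ) (hn : 0 < n) (he : 0 < e)
    (hpow : (q ^ n).map (algebraMap Λ (Localization.AtPrime q)) ≤ I.map (algebraMap Λ (Localization.AtPrime q)))
    [IsRegularLocalRing (Localization.AtPrime q)] (hd : ringKrullDim (Localization.AtPrime q) = d) :
    ∃ (π : Fin d → Λ),
      Ideal.span (Set.range fun i => algebraMap Λ (Localization.AtPrime q) (π i)) =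
        q.map (algebraMap Λ (Localization.AtPrime q)) ∧
      (∀ i, π i ^ n ∈ I) ∧
      ∀ i : Fin d, ∀ x : Λ ⧸ Ideal.span (Set.range fun j : {j : Fin d // (j : ℕ) < (i : ℕ)} => π j ^ e),
        Ideal.Quotient.mk _ (π i) ^ 2 * x = 0 → Ideal.Quotient.mk _ (π i) * x = 0 := by
  classical
  let B := Localization.AtPrime q
  have hmax : q.map (algebraMap Λ B) = maximalIdeal B := IsLocalization.AtPrime.map_eq_maximalIdeal q B
  obtain ⟨rs, hrs, hspan⟩ := RegLoc6.exists_regularSequence_maximalIdeal B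
  -- generators of the maximal ideal coming from `q`
  obtain ⟨v, hv⟩ : ∃ v : Fin d → B, Ideal.span (Set.range v) = maximalIdeal B := by
    have hdim : (maximalIdeal B).spanFinrank = d := CAlgGlobalDim.spanFinrank_eq_of_dim B d hd
    have hfg : (maximalIdeal B : Submodule B B).FG := IsNoetherian.noetherian _
    obtain ⟨f, hf⟩ := Submodule.FG.exists_span_set_encard_eq_spanFinrank hfg
    have hfin : f.Finite := Set.finite_of_encard_eq_coe hf.1
    have hcard : hfin.toFinset.card = d := by
      have := hf.1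
      rw [hfin.encard_eq_coe_toFinset_card, hdim] at this
      exact_mod_cast this
    let ev := (hfin.toFinset.equivFinOfCardEq hcard).symm
    refine ⟨fun i => (ev i : B), ?_⟩
    rw [← hf.2]
    refine congrArg _ (Set.ext fun r => ?_)
    simp only [Set.mem_range]
    constructor
    · rintro ⟨i, rfl⟩; exact hfin.mem_toFinset.1 (ev i).2
    · intro hr; exact ⟨ev.symm ⟨r, hfin.mem_toFinset.2 hr⟩, by simp⟩
  choose ys hys using fun i => IsLocalization.surj q.primeCompl (v i)
  let y : Fin d → Λ := fun i => (ys i).1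
  have hspan_units : ∀ w w' : Fin d → B, (∀ j, Associated (w j) (w' j)) →
      Ideal.span (Set.range w) = Ideal.span (Set.range w') := by
    intro w w' h
    refine le_antisymm (Ideal.span_le.2 ?_) (Ideal.span_le.2 ?_)
    · rintro _ ⟨j, rfl⟩
      exact Ideal.mem_of_dvd _ (h j).dvd' (Ideal.subset_span ⟨j, rfl⟩)
    · rintro _ ⟨j, rfl⟩
      exact Ideal.mem_of_dvd _ (h j).dvd (Ideal.subset_span ⟨j, rfl⟩)
  have hy : Ideal.span (Set.range fun i => algebraMap Λ B (y i)) = maximalIdeal B := by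
    rw [← hv]
    refine hspan_units _ _ fun j => Associated.symm ⟨(IsLocalization.map_units B (ys j).2).unit, ?_⟩
    exact hys j
  have hyq : ∀ i, y i ∈ q := fun i => by
    rw [← IsLocalization.AtPrime.to_map_mem_maximal_iff B q (y i), ← hy]
    exact Ideal.subset_span ⟨i, rfl⟩
  have ht : ∀ i, ∃ t, t ∉ q ∧ t * y i ^ n ∈ I := fun i => by
    obtain ⟨t, ht, h⟩ := (IsLocalization.algebraMap_mem_map_algebraMap_iff q.primeCompl B I (y i ^ n)).1
      (hpow (Ideal.mem_map_of_mem _ (Ideal.pow_mem_pow (hyq i) n)))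
    exact ⟨t, ht, h⟩
  choose t ht htI using ht
  have key : ∀ k : ℕ, k ≤ d → ∃ π : Fin d → Λ, ∀ i : Fin d, (i : ℕ) < k →
      (∃ s, s ∉ q ∧ t i ∣ s ∧ π i = s * y i) ∧
      ∀ x, π i ^ 2 * x ∈ Ideal.span (Set.range fun j : {j : Fin d // (j : ℕ) < (i : ℕ)} => π j ^ e) →
        π i * x ∈ Ideal.span (Set.range fun j : {j : Fin d // (j : ℕ) < (i : ℕ)} => π j ^ e) := by
    intro k
    induction k with
    | zero => exact fun _ => ⟨fun _ => 0, fun i hi => absurd hi (Nat.not_lt_zero _)⟩
    | succ k ih =>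
      intro hk
      obtain ⟨π, hπ⟩ := ih (by omega)
      let i₀ : Fin d := ⟨k, by omega⟩
      let a := Ideal.span (Set.range fun j : {j : Fin d // (j : ℕ) < k} => π j ^ e)
      obtain ⟨s, hs, hts, hstab⟩ := exists_mul_stable q a (y i₀) (t i₀) (ht i₀) (by
        have ha : a.map (algebraMap Λ B) =
            Ideal.span (Set.range fun j : {j : Fin d // (j : ℕ) < k} => algebraMap Λ B (y j) ^ e) := by
          rw [Ideal.map_span, ← Set.range_comp]
          have hassoc : ∀ j : {j : Fin d // (j : ℕ) < k},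
              Associated (algebraMap Λ B (π j ^ e)) (algebraMap Λ B (y j) ^ e) := fun j => by
            obtain ⟨⟨s, hs, -, he⟩, -⟩ := hπ j j.2
            rw [map_pow, he, map_mul]
            refine (Associated.symm ?_).pow_pow
            exact (associated_unit_mul_right _ _ (IsLocalization.map_units B (⟨s, hs⟩ : q.primeCompl)))
          refine le_antisymm (Ideal.span_le.2 ?_) (Ideal.span_le.2 ?_)
          · rintro _ ⟨j, rfl⟩
            exact Ideal.mem_of_dvd _ (hassoc j).dvd' (Ideal.subset_span ⟨j, rfl⟩)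
          · rintro _ ⟨j, rfl⟩
            exact Ideal.mem_of_dvd _ (hassoc j).dvd (Ideal.subset_span ⟨j, rfl⟩)
        intro x hx
        rw [ha] at hx ⊢
        exact mem_span_pow_of_mul_mem he hd _ hy i₀ x hx)
      refine ⟨Function.update π i₀ (s * y i₀), fun i hi => ?_⟩
      have hset : ∀ l : Fin d, (l : ℕ) ≤ k →
          (fun j : {j : Fin d // (j : ℕ) < (l : ℕ)} => Function.update π i₀ (s * y i₀) j ^ e) =
            fun j : {j : Fin d // (j : ℕ) < (l : ℕ)} => π j ^ e := fun l hl => funext fun j => by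
        rw [Function.update_of_ne]
        intro h
        have := congrArg Fin.val h
        have := j.2
        simp only [i₀] at *
        omega
      rw [hset i (by omega)]
      rcases eq_or_ne i i₀ with rfl | hne
      · rw [Function.update_self]
        exact ⟨⟨s, hs, hts, rfl⟩, hstab⟩
      · rw [Function.update_of_ne hne]
        refine hπ i ?_
        have : (i : ℕ) ≠ k := fun h => hne (Fin.ext h)
        omega
  obtain ⟨π, hπ⟩ := key d le_rfl
  refine ⟨π, ?_, fun i => ?_, fun i x hx => ?_⟩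
  · rw [hmax, ← hy]
    refine hspan_units _ _ fun j => ?_
    obtain ⟨⟨s, hs, -, he⟩, -⟩ := hπ j j.2
    rw [he, map_mul]
    exact (associated_unit_mul_right _ _ (IsLocalization.map_units B (⟨s, hs⟩ : q.primeCompl))).symm
  · obtain ⟨⟨s, hs, ⟨c, hc⟩, he⟩, -⟩ := hπ i i.2
    have hn' : s ^ n = s ^ (n - 1) * s := by rw [← pow_succ, Nat.sub_add_cancel hn]
    rw [he, mul_pow, hn', hc, show (t i * c) ^ (n - 1) * (t i * c) * y i ^ n =
      (t i * c) ^ (n - 1) * c * (t i * y i ^ n) by ring]
    exact Ideal.mul_mem_left _ _ (htI i)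
  · obtain ⟨x, rfl⟩ := Ideal.Quotient.mk_surjective x
    rw [← map_pow, ← map_mul, Ideal.Quotient.eq_zero_iff_mem] at hx
    rw [← map_mul, Ideal.Quotient.eq_zero_iff_mem]
    exact (hπ i i.2).2 x hx

theorem exists_stable_params (I q : Ideal Λ) [q.IsPrime] (n e d : ℕ) (hn : 0 < n) (he : 0 < e)
    (hpow : (q ^ n).map (algebraMap Λ (Localization.AtPrime q)) ≤ I.map (algebraMap Λ (Localization.AtPrime q)))
    [IsRegularLocalRing (Localization.AtPrime q)] (hd : ringKrullDim (Localization.AtPrime q) = d) :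
    ∃ (N : ℕ) (π : Fin d → Λ), 0 < N ∧
      Ideal.span (Set.range fun i => algebraMap Λ (Localization.AtPrime q) (π i)) =
        q.map (algebraMap Λ (Localization.AtPrime q)) ∧
      (∀ i, π i ^ N ∈ I) ∧
      ∀ i : Fin d, ∀ x : Λ ⧸ Ideal.span (Set.range fun j : {j : Fin d // (j : ℕ) < (i : ℕ)} => π j ^ e),
        Ideal.Quotient.mk _ (π i) ^ 2 * x = 0 → Ideal.Quotient.mk _ (π i) * x = 0 := by
  obtain ⟨π, h1, h2, h3⟩ := exists_stable_params_pow I q n e d hn he hpow hd
  exact ⟨n, π, hn, h1, h2, h3⟩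

end Groth.Agent.SmoothingLib
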