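import Groth.Agent.SmoothingLib.Conormal
import Mathlib.RingTheory.FinitePresentation
import Mathlib.LinearAlgebra.FreeModule.StrongRankCondition

/-!
# Smooth localizations with stably free differentials give strictly standard powers
-/

universe u

open MvPolynomial KaehlerDifferential

namespace Groth.Agent.SmoothingLib

/-- Maximal minors of a split matrix generate the unit ideal. -/
theorem span_minors_eq_top {B : Type u} [CommRing B] {c n : ℕ} (M : Matrix (Fin c) (Fin n) B)
    (L : Matrix (Fin n) (Fin c) B) (h : M * L = 1) :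
    Ideal.span (Set.range fun cols : Fin c → Fin n => (M.submatrix id cols).det) = ⊤ := by
  classical
  by_contra hne
  obtain ⟨P, hP, hle⟩ := Ideal.exists_le_maximal _ hne
  letI := Ideal.Quotient.field P
  let q := Ideal.Quotient.mk P
  have h' : M.map q * L.map q = 1 := by
    rw [← Matrix.map_mul, h, Matrix.map_one _ (map_zero q) (map_one q)]
  have hli : LinearIndependent (B ⧸ P) (M.map q).row := by
    rw [← Matrix.vecMul_injective_iff]
    intro v w hvw
    have h2 := congrArg (fun t => Matrix.vecMul t (L.map q)) hvw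
    simpa [Matrix.vecMul_vecMul, h'] using h2
  obtain ⟨cols, hcols⟩ := exists_minor_ne_zero (M.map q) hli
  refine hcols ?_
  rw [Matrix.submatrix_map, ← RingHom.mapMatrix_apply, ← RingHom.map_det]
  exact Ideal.Quotient.eq_zero_iff_mem.2 (hle (Ideal.subset_span ⟨cols, rfl⟩))

theorem jac_smul_sum {R A : Type u} [CommRing R] [CommRing A] [Algebra R A] {n m : ℕ}
    (φ : MvPolynomial (Fin n) R →ₐ[R] A) (B : Type u) [CommRing B] [Algebra A B]
    (f c : Fin m → MvPolynomial (Fin n) R) (hf : ∀ j, φ (f j) = 0) :
    jac φ B (∑ j, c j * f j) = Matrix.vecMul (fun j => algebraMap A B (φ (c j))) (Matrix.of fun j => jac φ B (f j)) := by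
  rw [jac_sum]
  funext i
  rw [Finset.sum_apply]
  simp only [jac_mul _ _ _ (hf _)]
  rfl

set_option maxHeartbeats 1000000 in
theorem exists_strictlyStandard_pow {R A : Type u} [CommRing R] [CommRing A] [Algebra R A]
    [Algebra.FinitePresentation R A] (a : A) [Algebra.Smooth R (Localization.Away a)]
    (p q : ℕ) (e : (Ω[Localization.Away a⁄R] × (Fin p → Localization.Away a)) ≃ₗ[Localization.Away a]
      (Fin q → Localization.Away a)) :
    ∃ e₀ : ℕ, ∀ N : ℕ, e₀ ≤ N → Smoothing.IsStrictlyStandard R A (a ^ N) := by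
  classical
  obtain ⟨n, φ, hφ, hfg⟩ := Algebra.FinitePresentation.out (R := R) (A := A)
  obtain ⟨m, f, hf⟩ := Submodule.fg_iff_exists_fin_generating_family.1 hfg
  let B := Localization.Away a
  rcases subsingleton_or_nontrivial B with hB | hB
  · -- a nilpotent
    obtain ⟨⟨_, k, rfl⟩, hk⟩ := (IsLocalization.map_eq_zero_iff (Submonoid.powers a) B (1 : A)).1 (Subsingleton.elim _ _)
    have hk0 : a ^ k = 0 := by simpa using hk
    refine ⟨k, fun N hN => ?_⟩
    have hN0 : a ^ N = 0 := by rw [← Nat.sub_add_cancel hN, pow_add, hk0, mul_zero]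
    refine ⟨⟨n, m, 0, Nat.zero_le _, Nat.zero_le _, f, φ, hφ, hf.symm⟩, hN0 ▸ zero_mem _, fun a' ha' j _ => ?_⟩
    refine Ideal.mem_sup_right ?_
    rw [pow_two]
    refine Ideal.mul_mem_mul ?_ (Ideal.subset_span ⟨j, rfl⟩)
    change a' ∈ Ideal.span (Set.range f)
    rw [show Ideal.span (Set.range f) = RingHom.ker φ.toRingHom from hf, RingHom.mem_ker]
    exact ha'.trans hN0
  obtain ⟨hA, ⟨T, hT⟩, hspan, hrel⟩ := conormal φ hφ f hf.symm (Submonoid.powers a) B
  let J : Matrix (Fin m) (Fin n) B := Matrix.of fun j => jac φ B (f j)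
  have hJTJ : J * T * J = J := funext fun l => hT l
  let E := T * J
  have hEE : E * E = E := by
    change T * J * (T * J) = T * J
    rw [Matrix.mul_assoc, ← Matrix.mul_assoc J, hJTJ]
  have hJE : J * (1 - E) = 0 := by
    change J * (1 - T * J) = 0
    rw [Matrix.mul_sub, Matrix.mul_one, ← Matrix.mul_assoc, hJTJ, sub_self]
  -- a section of `B^n → Ω`
  let g : (Fin n → B) →ₗ[B] Ω[B⁄R] := Fintype.linearCombination B fun i => D R B (algebraMap A B (φ (X i)))
  have hg : Function.Surjective g := fun y => by
    obtain ⟨w, hw⟩ := (Submodule.mem_span_range_iff_exists_fun B).1 (hspan ▸ Submodule.mem_top : y ∈ _)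
    exact ⟨w, (Fintype.linearCombination_apply B _ _).trans hw⟩
  have hgJ : ∀ w, g w = 0 ↔ ∃ u, Matrix.vecMul u J = w := fun w => by
    rw [Fintype.linearCombination_apply]; exact hrel w
  have hgE : ∀ w, g (Matrix.vecMul w E) = 0 := fun w =>
    (hgJ _).2 ⟨Matrix.vecMul w T, by rw [Matrix.vecMul_vecMul]⟩
  have hker : LinearMap.ker g ≤ LinearMap.ker (1 - E).vecMulLinear := fun w hw => by
    obtain ⟨u, rfl⟩ := (hgJ w).1 hw
    rw [LinearMap.mem_ker, Matrix.vecMulLinear_apply, Matrix.vecMul_vecMul, hJE, Matrix.vecMul_zero]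
  let h : Ω[B⁄R] →ₗ[B] (Fin n → B) :=
    (LinearMap.ker g).liftQ _ hker ∘ₗ (g.quotKerEquivOfSurjective hg).symm.toLinearMap
  have hh : ∀ w, h (g w) = Matrix.vecMul w (1 - E) := fun w => by
    have : (g.quotKerEquivOfSurjective hg).symm (g w) = Submodule.Quotient.mk w := by
      apply (g.quotKerEquivOfSurjective hg).injective
      rw [LinearEquiv.apply_symm_apply]; rfl
    simp [h, this, Matrix.vecMul_sub]
  have hpq : p ≤ q := by
    have hs : Function.Surjective ((LinearMap.snd B Ω[B⁄R] (Fin p → B)).comp e.symm.toLinearMap) :=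
      Prod.snd_surjective.comp e.symm.surjective
    exact le_of_fin_surjective B _ hs
  -- coordinates
  let c := n + p
  let ι : (Fin c → B) →ₗ[B] (Fin (n + q) → B) :=
    { toFun := fun v => Fin.append (Matrix.vecMul (fun i => v (Fin.castAdd p i)) E)
        (e (g (fun i => v (Fin.castAdd p i)), fun i => v (Fin.natAdd n i)))
      map_add' := fun v v' => by
        ext i
        induction i using Fin.addCases with
        | left i =>
          simp only [Pi.add_apply, Fin.append_left]
          exact congrFun (Matrix.add_vecMul E (fun i => v (Fin.castAdd p i)) (fun i => v' (Fin.castAdd p i))) i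
        | right i =>
          simp only [Pi.add_apply, Fin.append_right]
          rw [← Pi.add_apply (e _) (e _), ← map_add, Prod.mk_add_mk, ← map_add]
          rfl
      map_smul' := fun r v => by
        ext i
        induction i using Fin.addCases with
        | left i =>
          simp only [Pi.smul_apply, Fin.append_left, RingHom.id_apply]
          exact congrFun (Matrix.smul_vecMul r (fun i => v (Fin.castAdd p i)) E) i
        | right i =>
          simp only [Pi.smul_apply, Fin.append_right, RingHom.id_apply]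
          rw [← Pi.smul_apply r (e _), ← map_smul, Prod.smul_mk, ← map_smul]
          rfl }
  let π : (Fin (n + q) → B) →ₗ[B] (Fin c → B) :=
    { toFun := fun z => Fin.append
        (Matrix.vecMul (fun i => z (Fin.castAdd q i)) E + h (e.symm (fun i => z (Fin.natAdd n i))).1)
        (e.symm (fun i => z (Fin.natAdd n i))).2
      map_add' := fun z z' => by
        have h1 : (fun i => (z + z') (Fin.natAdd n i)) = (fun i => z (Fin.natAdd n i)) + fun i => z' (Fin.natAdd n i) := rfl
        have h2 : (fun i => (z + z') (Fin.castAdd q i)) = (fun i => z (Fin.castAdd q i)) + fun i => z' (Fin.castAdd q i) := rfl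
        rw [h1, h2, map_add, Prod.fst_add, Prod.snd_add, map_add, Matrix.add_vecMul]
        ext i
        induction i using Fin.addCases with
        | left i => simp only [Pi.add_apply, Fin.append_left]; ring
        | right i => simp only [Pi.add_apply, Fin.append_right]
      map_smul' := fun r z => by
        have h1 : (fun i => (r • z) (Fin.natAdd n i)) = r • fun i => z (Fin.natAdd n i) := rfl
        have h2 : (fun i => (r • z) (Fin.castAdd q i)) = r • fun i => z (Fin.castAdd q i) := rfl
        rw [h1, h2, map_smul, Prod.smul_fst, Prod.smul_snd, map_smul, Matrix.smul_vecMul]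
        ext i
        induction i using Fin.addCases with
        | left i => simp only [Pi.smul_apply, Fin.append_left, RingHom.id_apply, Pi.add_apply, smul_add]
        | right i => simp only [Pi.smul_apply, Fin.append_right, RingHom.id_apply] }
  have hhE : ∀ ω, Matrix.vecMul (h ω) E = 0 := fun ω => by
    obtain ⟨w, rfl⟩ := hg ω
    rw [hh, Matrix.vecMul_vecMul, Matrix.sub_mul, Matrix.one_mul, hEE, sub_self, Matrix.vecMul_zero]
  have hgh : ∀ ω, g (h ω) = ω := fun ω => by
    obtain ⟨w, rfl⟩ := hg ω
    rw [hh, Matrix.vecMul_sub, Matrix.vecMul_one, map_sub, hgE, sub_zero]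
  have hπι : ∀ v, π (ι v) = v := fun v => by
    change Fin.append _ _ = v
    simp only [ι, LinearMap.coe_mk, AddHom.coe_mk, Fin.append_left, Fin.append_right, LinearEquiv.symm_apply_apply]
    rw [hh, Matrix.vecMul_vecMul, hEE, ← Matrix.vecMul_add, add_sub_cancel, Matrix.vecMul_one]
    exact Fin.append_castAdd_natAdd
  have hιπ : ∀ z, Matrix.vecMul (fun i => z (Fin.castAdd q i)) E = (fun i => z (Fin.castAdd q i)) → ι (π z) = z := by
    intro z hz
    change Fin.append _ _ = z
    simp only [π, LinearMap.coe_mk, AddHom.coe_mk, Fin.append_left, Fin.append_right]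
    rw [Matrix.add_vecMul, hhE, add_zero, Matrix.vecMul_vecMul, hEE, hz]
    rw [map_add, hgh, ← hz, hgE, zero_add]
    simp only [Prod.mk.eta, LinearEquiv.apply_symm_apply, hz]
    exact Fin.append_castAdd_natAdd
  -- the enlarged presentation
  let inc : MvPolynomial (Fin n) R →ₐ[R] MvPolynomial (Fin (n + q)) R := rename (Fin.castAdd q)
  let φ' : MvPolynomial (Fin (n + q)) R →ₐ[R] A := aeval (Fin.append (fun i => φ (X i)) (fun _ => 0))
  have hφ' : ∀ x, φ' (inc x) = φ x := fun x => by
    have : φ'.comp inc = φ := MvPolynomial.algHom_ext fun i => by simp [φ', inc]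
    exact AlgHom.congr_fun this x
  let f' : Fin (m + q) → MvPolynomial (Fin (n + q)) R :=
    Fin.append (fun j => inc (f j)) (fun k => X (Fin.natAdd n k))
  have hfz : ∀ j, φ (f j) = 0 := fun j => by
    have : f j ∈ RingHom.ker φ.toRingHom := hf ▸ Submodule.subset_span ⟨j, rfl⟩
    exact this
  have hf'z : ∀ j, φ' (f' j) = 0 := fun j => by
    induction j using Fin.addCases with
    | left i => simp [f', hφ', hfz]
    | right i => simp [f', φ']
  let I' := Ideal.span (Set.range f')
  have hdec : ∀ x : MvPolynomial (Fin (n + q)) R, ∃ y, x - inc y ∈ I' := by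
    intro x
    induction x using MvPolynomial.induction_on with
    | C r => exact ⟨C r, by simp [inc]⟩
    | add x y hx hy =>
      obtain ⟨u, hu⟩ := hx; obtain ⟨v, hv⟩ := hy
      exact ⟨u + v, by rw [map_add, add_sub_add_comm]; exact add_mem hu hv⟩
    | mul_X x i hx =>
      obtain ⟨u, hu⟩ := hx
      induction i using Fin.addCases with
      | left i =>
        refine ⟨u * X i, ?_⟩
        rw [show x * X (Fin.castAdd q i) - inc (u * X i) = (x - inc u) * X (Fin.castAdd q i) by simp [inc]; ring]
        exact Ideal.mul_mem_right _ _ hu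
      | right i =>
        refine ⟨0, ?_⟩
        rw [map_zero, sub_zero]
        exact Ideal.mul_mem_left _ _ (Ideal.subset_span ⟨Fin.natAdd m i, by simp [f']⟩)
  have hker' : RingHom.ker φ'.toRingHom = I' := by
    refine le_antisymm (fun x hx => ?_) (Ideal.span_le.2 (by rintro _ ⟨j, rfl⟩; exact hf'z j))
    obtain ⟨y, hy⟩ := hdec x
    have hle : I' ≤ RingHom.ker φ'.toRingHom := Ideal.span_le.2 (by rintro _ ⟨j, rfl⟩; exact hf'z j)
    have hy0 : y ∈ Ideal.span (Set.range f) := by
      rw [show Ideal.span (Set.range f) = RingHom.ker φ.toRingHom from hf, RingHom.mem_ker]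
      change φ y = 0
      have h1 : φ' (x - inc y) = 0 := hle hy
      rwa [map_sub, show φ' x = 0 from hx, zero_sub, neg_eq_zero, hφ'] at h1
    rw [← sub_add_cancel x (inc y)]
    refine add_mem hy ?_
    have h2 := Ideal.mem_map_of_mem inc hy0
    rw [Ideal.map_span, ← Set.range_comp] at h2
    refine Ideal.span_mono ?_ h2
    rintro _ ⟨j, rfl⟩
    exact ⟨Fin.castAdd q j, by simp [f']⟩
  have hsurj' : Function.Surjective φ' := fun y => by
    obtain ⟨x, rfl⟩ := hφ y; exact ⟨_, hφ' x⟩
  obtain ⟨hA', -, -, -⟩ := conormal φ' hsurj' f' hker' (Submonoid.powers a) B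
  let J' : Matrix (Fin (m + q)) (Fin (n + q)) B := Matrix.of fun j => jac φ' B (f' j)
  have hjac : ∀ x, jac φ' B (inc x) = Fin.append (jac φ B x) 0 := fun x => by
    ext i
    induction i using Fin.addCases with
    | left i => simp [jac, inc, pderiv_rename (Fin.castAdd_injective n q), hφ', φ']
    | right i =>
      simp only [jac, Fin.append_right, Pi.zero_apply]
      rw [show pderiv (Fin.natAdd n i) (inc x) = 0 from pderiv_eq_zero_of_notMem_vars ?_, map_zero, map_zero]
      intro hmem
      obtain ⟨k, -, hk⟩ := Finset.mem_image.1 (vars_rename _ _ hmem)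
      have := congrArg Fin.val hk
      simp at this
      omega
  have hJ'u : ∀ u : Fin (m + q) → B, Matrix.vecMul u J' =
      Fin.append (Matrix.vecMul (fun j => u (Fin.castAdd q j)) J) (fun k => u (Fin.natAdd m k)) := by
    intro u
    ext i
    simp only [Matrix.vecMul, dotProduct, J', Matrix.of_apply, Fin.sum_univ_add, f', Fin.append_left, Fin.append_right,
      hjac]
    induction i using Fin.addCases with
    | left i =>
      simp [jac, J, pderiv_X, Pi.single_apply]
      refine (congrArg (_ + ·) (Finset.sum_eq_zero fun k _ =>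
        if_neg (fun h => by have := congrArg Fin.val h; simp at this; omega))).trans (add_zero _)
    | right i => simp [jac, pderiv_X, Pi.single_apply, Fin.natAdd_inj]
  -- every `ι v` is a combination of the rows of `J'`
  have hrows : ∀ v, ∃ u, Matrix.vecMul u J' = ι v := fun v => by
    refine ⟨Fin.append (Matrix.vecMul (fun i => v (Fin.castAdd p i)) T)
      (e (g (fun i => v (Fin.castAdd p i)), fun i => v (Fin.natAdd n i))), ?_⟩
    rw [hJ'u]
    simp only [Fin.append_left, Fin.append_right]
    change Fin.append (Matrix.vecMul (Matrix.vecMul (fun i => v (Fin.castAdd p i)) T) J) _ = _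
    rw [Matrix.vecMul_vecMul]
    rfl
  choose ub hub using fun k : Fin c => hrows (Pi.single k 1)
  obtain ⟨⟨_, N₀, rfl⟩, hb⟩ := IsLocalization.exist_integer_multiples (Submonoid.powers a) Finset.univ
    (fun kj : Fin c × Fin (m + q) => ub kj.1 kj.2)
  choose ua hua using fun k j => hb (k, j) (Finset.mem_univ _)
  choose ul hul using fun k j => hsurj' (ua k j)
  let G : Fin c → MvPolynomial (Fin (n + q)) R := fun k => ∑ j, ul k j * f' j
  let uN : B := algebraMap A B (a ^ N₀)
  have huN : IsUnit uN := IsLocalization.map_units B (⟨a ^ N₀, N₀, rfl⟩ : Submonoid.powers a)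
  have hjG : ∀ k, jac φ' B (G k) = uN • ι (Pi.single k 1) := fun k => by
    rw [jac_smul_sum φ' B f' (ul k) hf'z, ← hub, ← Matrix.smul_vecMul]
    congr 1
    funext j
    rw [hul, hua k j]
    exact Algebra.smul_def _ _
  have hιsum : ∀ v : Fin c → B, ι v = ∑ k, v k • ι (Pi.single k 1) := fun v => by
    conv_lhs => rw [pi_eq_sum_univ' v]
    simp [map_sum, map_smul]
  -- each relation is a combination
  have htail : ∀ l, ∃ s k, φ' s = a ^ k ∧ s * f' l ∈ Ideal.span (Set.range G) ⊔ I' ^ 2 := by
    intro l
    let z : Fin (n + q) → B := jac φ' B (f' l)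
    have hz : Matrix.vecMul (fun i => z (Fin.castAdd q i)) E = (fun i => z (Fin.castAdd q i)) := by
      have hzu : z = Matrix.vecMul (Pi.single l 1) J' := by simp [z, J', Matrix.single_one_vecMul]
      rw [hzu, hJ'u]
      simp only [Fin.append_left]
      change Matrix.vecMul (Matrix.vecMul _ J) (T * J) = Matrix.vecMul _ J
      rw [Matrix.vecMul_vecMul, ← Matrix.mul_assoc, hJTJ]
    obtain ⟨iu, hiu⟩ := huN.exists_left_inv
    have hcomb : z = ∑ k, (π z k * iu) • jac φ' B (G k) := by
      conv_lhs => rw [← hιπ z hz, hιsum]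
      refine Finset.sum_congr rfl fun k _ => ?_
      rw [hjG, smul_smul, mul_assoc, hiu, mul_one]
    obtain ⟨⟨_, k₁, rfl⟩, hb'⟩ := IsLocalization.exist_integer_multiples (Submonoid.powers a) Finset.univ
      (fun k => π z k * iu)
    choose da hda using fun k => hb' k (Finset.mem_univ _)
    choose dl hdl using fun k => hsurj' (da k)
    obtain ⟨al, hal⟩ := hsurj' (a ^ k₁)
    have hGI : ∀ k, G k ∈ I' := fun k => Ideal.sum_mem _ fun j _ => Ideal.mul_mem_left _ _ (Ideal.subset_span ⟨j, rfl⟩)
    have hGz : ∀ k, φ' (G k) = 0 := fun k => by simp [G, hf'z]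
    let x := al * f' l - ∑ k, dl k * G k
    have hx : x ∈ I' := sub_mem (Ideal.mul_mem_left _ _ (Ideal.subset_span ⟨l, rfl⟩))
      (Ideal.sum_mem _ fun k _ => Ideal.mul_mem_left _ _ (hGI k))
    have hx0 : jac φ' B x = 0 := by
      simp only [x, jac_sub, jac_sum, jac_mul _ _ _ (hf'z _), jac_mul _ _ _ (hGz _)]
      rw [sub_eq_zero, hal, show jac φ' B (f' l) = z from rfl]
      conv_lhs => rw [hcomb, Finset.smul_sum]
      refine Finset.sum_congr rfl fun k _ => ?_
      rw [smul_smul, hdl, hda k]
      congr 1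
      exact (Algebra.smul_def _ _).symm
    obtain ⟨s, ⟨k₂, hk₂⟩, hsx⟩ := hA' x hx hx0
    refine ⟨s * al, k₂ + k₁, by rw [map_mul, hal, pow_add]; exact congrArg (· * a ^ k₁) hk₂.symm, ?_⟩
    rw [show s * al * f' l = s * ∑ k, dl k * G k + s * x by simp only [x]; ring]
    exact Submodule.add_mem_sup (Ideal.mul_mem_left _ _ (Ideal.sum_mem _ fun k _ =>
      Ideal.mul_mem_left _ _ (Ideal.subset_span ⟨k, rfl⟩))) hsx
  choose st kt hst hst' using htail
  let P : Smoothing.MarkedPresentation R A :=
    { n := n + q, m := c + (m + q), c := c, hcn := by omega, hcm := Nat.le_add_right _ _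
      rel := Fin.append G f', hom := φ', surj := hsurj'
      ker_eq := by
        rw [hker']
        refine le_antisymm (Ideal.span_mono ?_) (Ideal.span_le.2 ?_)
        · rintro _ ⟨j, rfl⟩; exact ⟨Fin.natAdd c j, by simp⟩
        · rintro _ ⟨j, rfl⟩
          induction j using Fin.addCases with
          | left k => rw [Fin.append_left]; exact Ideal.sum_mem _ fun j _ => Ideal.mul_mem_left _ _ (Ideal.subset_span ⟨j, rfl⟩)
          | right j => rw [Fin.append_right]; exact Ideal.subset_span ⟨j, rfl⟩ }
  -- minors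
  let Mb : Matrix (Fin c) (Fin (n + q)) B := Matrix.of fun k => jac φ' B (G k)
  obtain ⟨iu, hiu⟩ := huN.exists_left_inv
  let Lm : Matrix (Fin (n + q)) (Fin c) B := Matrix.of fun i k => iu * π (Pi.single i 1) k
  have hML : Mb * Lm = 1 := by
    ext k k'
    have h1 : π (uN • ι (Pi.single k 1)) = uN • Pi.single k 1 := by rw [map_smul, hπι]
    have h2 : π (jac φ' B (G k)) = ∑ i, jac φ' B (G k) i • π (Pi.single i 1) := by
      conv_lhs => rw [pi_eq_sum_univ' (jac φ' B (G k))]
      simp [map_sum, map_smul]
    rw [hjG, h1, ← hjG] at h2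
    have h3 := congrFun h2 k'
    simp only [Pi.smul_apply, smul_eq_mul, Finset.sum_apply] at h3
    simp only [Matrix.mul_apply, Mb, Lm, Matrix.of_apply]
    rw [show ∑ i, jac φ' B (G k) i * (iu * π (Pi.single i 1) k') = iu * ∑ i, jac φ' B (G k) i * π (Pi.single i 1) k' by
      rw [Finset.mul_sum]; exact Finset.sum_congr rfl fun i _ => by ring, ← h3, ← mul_assoc, hiu, one_mul,
      Pi.single_apply, Matrix.one_apply]
    exact if_congr eq_comm rfl rfl
  let minors : (Fin c → Fin (n + q)) → A := fun cols =>
    P.hom (Smoothing.jacobianMinor P.rel (Fin.castLE P.hcm) cols)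
  have hmin : ∀ cols, (Mb.submatrix id cols).det = algebraMap A B (minors cols) := fun cols => by
    simp only [minors]
    rw [Smoothing.jacobianMinor, AlgHom.map_det, RingHom.map_det]
    congr 1
    ext k i
    simp only [RingHom.mapMatrix_apply, AlgHom.mapMatrix_apply, Matrix.map_apply, Matrix.submatrix_apply, id,
      Matrix.of_apply, Mb, jac, P]
    rw [show Fin.castLE (Nat.le_add_right c (m + q)) k = Fin.castAdd (m + q) k from rfl, Fin.append_left]
  have htop : algebraMap A B 1 ∈ (Ideal.span (Set.range minors)).map (algebraMap A B) := by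
    rw [Ideal.map_span, ← Set.range_comp, map_one, show (algebraMap A B) ∘ minors = fun cols => (Mb.submatrix id cols).det from funext fun cols => (hmin cols).symm,
      span_minors_eq_top Mb Lm hML]
    trivial
  obtain ⟨_, ⟨k₀, rfl⟩, hk₀⟩ := (IsLocalization.algebraMap_mem_map_algebraMap_iff (Submonoid.powers a) B _ _).1 htop
  rw [mul_one] at hk₀
  refine ⟨k₀ + ∑ l, kt l, fun N hN => ⟨P, ?_, fun a' ha' j hj => ?_⟩⟩
  · rw [← Nat.sub_add_cancel (show k₀ ≤ N by omega), pow_add]
    exact Ideal.mul_mem_left _ _ hk₀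
  · obtain ⟨l, rfl⟩ : ∃ l, Fin.natAdd c l = j :=
      ⟨⟨(j : ℕ) - c, by have h1 : (j : ℕ) < c + (m + q) := j.2; change c ≤ (j : ℕ) at hj; omega⟩,
        Fin.ext (by change c ≤ (j : ℕ) at hj; simp; omega)⟩
    have hle : kt l ≤ N := le_trans (Finset.single_le_sum (fun _ _ => Nat.zero_le _) (Finset.mem_univ l)) (by omega)
    obtain ⟨r, hr⟩ := hsurj' (a ^ (N - kt l))
    have h1 : a' - r * st l ∈ I' := by
      rw [← hker', RingHom.mem_ker]
      change φ' (a' - r * st l) = 0
      rw [map_sub, map_mul, hr, hst, ← pow_add, Nat.sub_add_cancel hle]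
      exact sub_eq_zero.2 ha'
    rw [show P.rel (Fin.natAdd c l) = f' l from Fin.append_right G f' l,
      show a' * f' l = (a' - r * st l) * f' l + r * (st l * f' l) by ring]
    have hI2 : Ideal.span (Set.range P.rel) = I' := P.ker_eq.symm.trans hker'
    rw [hI2]
    refine add_mem (Ideal.mem_sup_right ?_) (SetLike.le_def.1 (sup_le_sup ?_ le_rfl) (Ideal.mul_mem_left _ r (hst' l)))
    · rw [pow_two]; exact Ideal.mul_mem_mul h1 (Ideal.subset_span ⟨l, rfl⟩)
    · refine Ideal.span_mono ?_
      rintro _ ⟨k, rfl⟩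
      exact ⟨Fin.castAdd (m + q) k, k.2, Fin.append_left G f' k⟩

end Groth.Agent.SmoothingLib
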