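import Groth.Agent.SmoothingLib.SymConormal
import Groth.Agent.SmoothingLib.StablyFreeConverse
import Mathlib.RingTheory.Smooth.Kaehler

/-!
# A retractable extension in which smooth elements have strictly standard powers
-/

universe u

open MvPolynomial KaehlerDifferential

namespace Groth.Agent.SmoothingLib

variable {R A : Type u} [CommRing R] [CommRing A] [Algebra R A] {n m : ℕ}

set_option maxHeartbeats 1000000 in
/-- Over a smooth localization the localized symmetric conormal algebra is formally smooth. -/
theorem formallySmooth_symConormal_loc (φ : MvPolynomial (Fin n) R →ₐ[R] A) (hφ : Function.Surjective φ)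
    (f : Fin m → MvPolynomial (Fin n) R)
    (hker : RingHom.ker φ.toRingHom = Ideal.span (Set.range f))
    (M : Submonoid A) (B C' : Type u) [CommRing B] [Algebra A B] [IsLocalization M B] [Algebra R B]
    [IsScalarTower R A B] [Algebra.FormallySmooth R B] [CommRing C'] [Algebra B C'] [Algebra A C']
    [IsScalarTower A B C'] [Algebra (SymConormal φ f) C'] [IsScalarTower A (SymConormal φ f) C']
    [IsLocalization (Algebra.algebraMapSubmonoid (SymConormal φ f) M) C'] :
    Algebra.FormallySmooth B C' := by
  classical
  obtain ⟨hA, ⟨T, hT⟩, -, -⟩ := conormal φ hφ f hker M B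
  let C := SymConormal φ f
  let J : Matrix (Fin m) (Fin n) B := Matrix.of fun j => jac φ B (f j)
  have hJTJ : J * T * J = J := funext fun l => hT l
  have hI : ∀ g ∈ Ideal.span (Set.range f), φ g = 0 := fun g hg => by
    have : g ∈ RingHom.ker φ.toRingHom := hker ▸ hg
    exact this
  have hfz : ∀ j, φ (f j) = 0 := fun j => hI _ (Ideal.subset_span ⟨j, rfl⟩)
  have hcJ : ∀ c ∈ syz φ f, Matrix.vecMul (fun j => algebraMap A B (c j)) J = 0 := by
    rintro c ⟨c', hc', hmem⟩
    have h1 := jac_eq_zero_of_mem_sq φ B hI hmem
    rw [jac_sum] at h1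
    simp only [jac_mul _ _ _ (hfz _), hc'] at h1
    funext i
    have h2 := congrFun h1 i
    rw [Finset.sum_apply] at h2
    exact h2
  let y : Fin m → C' := fun j => algebraMap C C' (symY φ f j)
  have hy : ∀ v : Fin m → B, Matrix.vecMul v J = 0 → ∑ j, algebraMap B C' (v j) * y j = 0 := by
    intro v hv
    obtain ⟨⟨b, hb⟩, hbd⟩ := IsLocalization.exist_integer_multiples M Finset.univ v
    choose c hc using fun j => hbd j (Finset.mem_univ j)
    choose c' hc' using fun j => hφ (c j)
    have h0 : jac φ B (∑ j, c' j * f j) = 0 := by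
      rw [jac_sum]
      simp only [jac_mul _ _ _ (hfz _), hc']
      funext i
      have h2 := congrFun hv i
      rw [Finset.sum_apply]
      simp only [Pi.smul_apply, smul_eq_mul, hc]
      simp only [Algebra.smul_def, mul_assoc, ← Finset.mul_sum]
      rw [show ∑ j, v j * jac φ B (f j) i = 0 from h2, mul_zero]
      rfl
    obtain ⟨s, hs, hsx⟩ := hA _ (Ideal.sum_mem _ fun j _ => Ideal.mul_mem_left _ _ (Ideal.subset_span ⟨j, rfl⟩)) h0
    have hsyz : (fun j => φ s * c j) ∈ syz φ f :=
      ⟨fun j => s * c' j, fun j => by rw [map_mul, hc'], by simpa [Finset.mul_sum, mul_assoc] using hsx⟩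
    have h1 : (Ideal.Quotient.mk (symIdeal φ f)) (∑ j, MvPolynomial.C (φ s * c j) * MvPolynomial.X j) = 0 :=
      Ideal.Quotient.eq_zero_iff_mem.2 (Ideal.subset_span ⟨_, hsyz, rfl⟩)
    have h2 := congrArg (algebraMap C C') h1
    rw [map_sum, map_sum, map_zero] at h2
    have hu : IsUnit (algebraMap B C' (algebraMap A B (φ s * b))) :=
      (IsLocalization.map_units B (⟨φ s * b, mul_mem hs hb⟩ : M)).map _
    refine hu.mul_right_eq_zero.1 ?_
    rw [← h2, Finset.mul_sum]
    refine Finset.sum_congr rfl fun j _ => ?_
    rw [← mul_assoc, ← map_mul, map_mul (Ideal.Quotient.mk (symIdeal φ f)), map_mul (algebraMap C C')]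
    refine congrArg₂ (· * ·) ?_ rfl
    rw [map_mul (algebraMap A B), mul_assoc, ← Algebra.smul_def b (v j)]
    change algebraMap B C' (_ * (b • v j)) = algebraMap C C' (algebraMap A C (φ s * c j))
    rw [← hc, ← map_mul, ← IsScalarTower.algebraMap_apply, ← IsScalarTower.algebraMap_apply]
  have hJT : (J * T - 1) * J = 0 := by rw [Matrix.sub_mul, Matrix.one_mul, hJTJ, sub_self]
  refine Algebra.FormallySmooth.of_comp_surjective fun T' _ _ I hI2 q => ?_
  choose η hη using fun j => Ideal.Quotient.mk_surjective (q (y j))
  letI : Algebra A T' := ((algebraMap B T').comp (algebraMap A B)).toAlgebra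
  haveI : IsScalarTower A B T' := IsScalarTower.of_algebraMap_eq fun _ => rfl
  obtain ⟨g, hg⟩ := exists_symLift φ f T' (fun l => ∑ j, algebraMap B T' ((J * T) l j) * η j) (fun c hc => by
    simp only [Finset.mul_sum, ← mul_assoc, IsScalarTower.algebraMap_apply A B T', ← map_mul]
    rw [Finset.sum_comm]
    refine Finset.sum_eq_zero fun j _ => ?_
    have h1 : Matrix.vecMul (fun l => algebraMap A B (c l)) (J * T) = 0 := by
      rw [← Matrix.vecMul_vecMul, hcJ c hc, Matrix.zero_vecMul]
    rw [← Finset.sum_mul, ← map_sum, show (∑ l, algebraMap A B (c l) * (J * T) l j) = 0 from congrFun h1 j,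
      map_zero, zero_mul])
  have hu : ∀ x : Algebra.algebraMapSubmonoid C M, IsUnit (g (x : C)) := by
    rintro ⟨_, b, hb, rfl⟩
    show IsUnit (g (algebraMap A C b))
    rw [g.commutes, IsScalarTower.algebraMap_apply A B T']
    exact (IsLocalization.map_units B (⟨b, hb⟩ : M)).map _
  let G : C' →+* T' := IsLocalization.lift (M := Algebra.algebraMapSubmonoid C M) (g := g.toRingHom) hu
  have hG : ∀ x, G (algebraMap C C' x) = g x := IsLocalization.lift_eq _
  have hGB : G.comp (algebraMap B C') = algebraMap B T' := IsLocalization.ringHom_ext M (RingHom.ext fun a => by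
    show G (algebraMap B C' (algebraMap A B a)) = algebraMap B T' (algebraMap A B a)
    rw [← IsScalarTower.algebraMap_apply, IsScalarTower.algebraMap_apply A C C', hG, g.commutes,
      IsScalarTower.algebraMap_apply A B T'])
  refine ⟨⟨G, fun b => RingHom.congr_fun hGB b⟩, AlgHom.ext fun x => ?_⟩
  refine RingHom.congr_fun (f := (Ideal.Quotient.mk I).comp G) (g := q.toRingHom) ?_ x
  refine IsLocalization.ringHom_ext (Algebra.algebraMapSubmonoid C M) ?_
  refine Ideal.Quotient.ringHom_ext (MvPolynomial.ringHom_ext (fun a => ?_) fun l => ?_)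
  · show Ideal.Quotient.mk I (G (algebraMap C C' (algebraMap A C a))) = q (algebraMap C C' (algebraMap A C a))
    rw [hG, g.commutes, ← IsScalarTower.algebraMap_apply A C C', IsScalarTower.algebraMap_apply A B C', q.commutes,
      IsScalarTower.algebraMap_apply A B T']
    rfl
  · show Ideal.Quotient.mk I (G (y l)) = q (y l)
    have h1 := congrArg q (hy (fun j => (J * T) l j - (1 : Matrix (Fin m) (Fin m) B) l j) (by
      change Matrix.vecMul ((J * T - 1 : Matrix (Fin m) (Fin m) B) l) J = 0
      exact congrFun hJT l))
    simp only [map_sub, sub_mul, Finset.sum_sub_distrib, map_sum, map_mul, q.commutes, map_zero, Matrix.one_apply,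
      apply_ite (algebraMap B (T' ⧸ I)), map_one, ite_mul, one_mul, zero_mul, Finset.sum_ite_eq, Finset.mem_univ,
      if_true, sub_eq_zero] at h1
    simp only [y, hG, hg, map_sum, map_mul]
    rw [← h1]
    exact Finset.sum_congr rfl fun j _ => congrArg₂ (· * ·) rfl (hη j)

/-- A retractable algebra in which high powers of smooth elements are strictly standard. -/
theorem exists_std_retract [IsNoetherianRing R] [Algebra.FinitePresentation R A] :
    ∃ (C : Type u) (_ : CommRing C) (_ : Algebra R C), Algebra.FinitePresentation R C ∧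
      ∃ (i : A →ₐ[R] C) (ρ : C →ₐ[R] A), (∀ a, ρ (i a) = a) ∧
        ∀ a : A, Algebra.Smooth R (Localization.Away a) →
          Algebra.Smooth R (Localization.Away (i a)) ∧
          ∃ e₀ : ℕ, ∀ k : ℕ, e₀ ≤ k → Smoothing.IsStrictlyStandard R C (i a ^ k) := by
  classical
  obtain ⟨n, φ, hφ, hfg⟩ := Algebra.FinitePresentation.out (R := R) (A := A)
  obtain ⟨m, f, hf⟩ := Submodule.fg_iff_exists_fin_generating_family.1 hfg
  let C := SymConormal φ f
  obtain ⟨ρ, -⟩ := exists_retraction φ f
  haveI : Algebra.FiniteType A C :=
    Algebra.FiniteType.of_surjective (Ideal.Quotient.mkₐ A _) (Ideal.Quotient.mkₐ_surjective A _)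
  haveI : Algebra.FiniteType R C := Algebra.FiniteType.trans (inferInstance : Algebra.FiniteType R A) inferInstance
  haveI : Algebra.FinitePresentation R C := Algebra.FinitePresentation.of_finiteType.1 inferInstance
  refine ⟨C, inferInstance, inferInstance, inferInstance, IsScalarTower.toAlgHom R A C, ρ.restrictScalars R,
    fun a => ρ.commutes a, fun a ha => ?_⟩
  let B := Localization.Away a
  let C' := Localization.Away (algebraMap A C a)
  let g : B →+* C' := IsLocalization.Away.map B C' (algebraMap A C) a
  letI : Algebra B C' := g.toAlgebra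
  have hg : ∀ x : A, g (algebraMap A B x) = algebraMap A C' x := fun x => by
    rw [IsScalarTower.algebraMap_apply A C C']
    exact IsLocalization.map_eq _ x
  haveI : IsScalarTower A B C' := IsScalarTower.of_algebraMap_eq fun x => (hg x).symm
  haveI : IsScalarTower R B C' := IsScalarTower.of_algebraMap_eq fun r => by
    rw [IsScalarTower.algebraMap_apply R A C', IsScalarTower.algebraMap_apply R A B]
    exact (hg _).symm
  haveI : IsLocalization (Algebra.algebraMapSubmonoid C (Submonoid.powers a)) C' := by
    rw [Algebra.algebraMapSubmonoid_powers]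
    exact (inferInstance : IsLocalization.Away (algebraMap A C a) C')
  haveI : Algebra.FormallySmooth R B := ha.formallySmooth
  obtain ⟨w, b, -, -⟩ := exists_basis_symConormal φ f hφ hf.symm (Submonoid.powers a) B C'
  haveI : Algebra.FormallySmooth B C' := formallySmooth_symConormal_loc φ hφ f hf.symm (Submonoid.powers a) B C'
  haveI : Algebra.FormallySmooth R C' := Algebra.FormallySmooth.comp R B C'
  haveI : Algebra.FinitePresentation C C' := IsLocalization.Away.finitePresentation (algebraMap A C a)
  haveI : Algebra.FinitePresentation R C' := Algebra.FinitePresentation.trans R C C'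
  haveI hs : Algebra.Smooth R C' := ⟨inferInstance, inferInstance⟩
  refine ⟨hs, ?_⟩
  exact exists_strictlyStandard_pow (algebraMap A C a) 0 n
    (LinearEquiv.prodUnique.trans b.equivFun)

end Groth.Agent.SmoothingLib
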