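import Groth.Agent.SmoothingLib.RelationAlg
import Groth.Agent.SmoothingLib.StdRetract
import Groth.Agent.SmoothingLib.RegularPowers
import Groth.Agent.SmoothingLib.Iterate
import Groth.Agent.SmoothingLib.IndNilpotent
import Groth.Agent.EGA41Lib.FieldFS
import Groth.Agent.FlatLoc6.Miracle

/-!
# Resolving at a regular point with separable residue field
-/

set_option linter.style.haveILetI false

universe u

open MvPolynomial
open scoped TensorProduct

namespace Groth.Agent.SmoothingLib.RegRes

/-- A separable field extension is ind-smooth. -/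
theorem indSmooth_field (k L : Type u) [Field k] [Field L] [Algebra k L] [Algebra.IsGeometricallyReduced k L] :
    Smoothing.IndSmooth k L := by
  intro A₀ _ _ hfp f
  let A := f.range
  haveI := hfp
  haveI : Algebra.FiniteType k A := Algebra.FiniteType.of_surjective f.rangeRestrict f.rangeRestrict_surjective
  haveI : Algebra.FinitePresentation k A := Algebra.FinitePresentation.of_finiteType.1 inferInstance
  let F := FractionRing A
  have hi : Function.Injective (A.val : A →+* L) := Subtype.val_injective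
  let σ : F →ₐ[k] L := ⟨IsFractionRing.lift hi, fun r => by
    show IsFractionRing.lift hi (algebraMap k F r) = _
    rw [IsScalarTower.algebraMap_apply k A F, IsFractionRing.lift_algebraMap]
    rfl⟩
  haveI : Algebra.IsGeometricallyReduced k F := Algebra.IsGeometricallyReduced.of_injective σ σ.injective
  haveI : Algebra.FormallySmooth k F := EGA41Lib.FieldFS.formallySmooth_of_isGeometricallyReduced k F
  haveI hbot : Algebra.IsSmoothAt k (⊥ : Ideal A) := by
    haveI : IsLocalization (⊥ : Ideal A).primeCompl F := by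
      have : (⊥ : Ideal A).primeCompl = nonZeroDivisors A := by ext x; simp [mem_nonZeroDivisors_iff_ne_zero]
      rw [this]; infer_instance
    exact Algebra.FormallySmooth.of_equiv
      ((IsLocalization.algEquiv (⊥ : Ideal A).primeCompl F (Localization.AtPrime (⊥ : Ideal A))).restrictScalars k)
  obtain ⟨s, hs, hsm⟩ := Algebra.IsSmoothAt.exists_notMem_smooth k (⊥ : Ideal A)
  have hu : IsUnit (A.val.toRingHom s) := isUnit_iff_ne_zero.2 fun h => hs (Ideal.mem_bot.2 (hi (h.trans (map_zero _).symm)))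
  refine ⟨Localization.Away s, inferInstance, inferInstance, hsm,
    (IsScalarTower.toAlgHom k A (Localization.Away s)).comp f.rangeRestrict,
    ⟨IsLocalization.Away.lift s hu, fun r => ?_⟩, AlgHom.ext fun a => ?_⟩
  · show IsLocalization.Away.lift s hu (algebraMap k (Localization.Away s) r) = _
    rw [IsScalarTower.algebraMap_apply k A (Localization.Away s), IsLocalization.Away.lift_eq]
    rfl
  · exact IsLocalization.Away.lift_eq s hu _

/-- The singular ideal of a smooth algebra is the unit ideal. -/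
theorem singularIdeal_eq_top {R B : Type u} [CommRing R] [CommRing B] [Algebra R B] [Algebra.Smooth R B] :
    Smoothing.singularIdeal R B = ⊤ := by
  rw [Smoothing.singularIdeal, Algebra.smoothLocus_eq_univ_iff.2 inferInstance, Set.compl_univ,
    PrimeSpectrum.vanishingIdeal_empty]

set_option maxHeartbeats 2000000 in
/-- The problem modulo high powers of a regular system of parameters. -/
theorem resolvable_mod {k Λ : Type u} [Field k] [CommRing Λ] [Algebra k Λ] [IsNoetherianRing Λ] {d M : ℕ} (hM : 0 < M)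
    [Algebra (MvPolynomial (Fin d) k) Λ] [IsScalarTower k (MvPolynomial (Fin d) k) Λ]
    (𝔮 : Ideal Λ) [𝔮.IsPrime] [IsRegularLocalRing (Localization.AtPrime 𝔮)]
    [Algebra.IsGeometricallyReduced k 𝔮.ResidueField]
    (hd : ringKrullDim (Localization.AtPrime 𝔮) = d)
    (hspan : Ideal.span (Set.range fun i : Fin d => algebraMap Λ (Localization.AtPrime 𝔮)
      (algebraMap (MvPolynomial (Fin d) k) Λ (X i))) = 𝔮.map (algebraMap Λ (Localization.AtPrime 𝔮)))
    {Cc : Type u} [CommRing Cc] [Algebra (MvPolynomial (Fin d) k) Cc] [Algebra.FinitePresentation (MvPolynomial (Fin d) k) Cc]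
    (h : Cc →ₐ[MvPolynomial (Fin d) k] Λ)
    (hminC : ∀ P : Ideal Λ, P.IsPrime → (Smoothing.singularIdeal (MvPolynomial (Fin d) k) Cc).map h ≤ P → P ≤ 𝔮 → 𝔮 ≤ P)
    (K : Ideal (MvPolynomial (Fin d) k))
    (hK : K = Ideal.span (Set.range fun i : Fin d => ((X i : MvPolynomial (Fin d) k) ^ M) ^ 8))
    (hK𝔮 : K.map (algebraMap (MvPolynomial (Fin d) k) Λ) ≤ 𝔮)
    (φK : (Cc ⧸ K.map (algebraMap (MvPolynomial (Fin d) k) Cc)) →ₐ[MvPolynomial (Fin d) k ⧸ K]
      (Λ ⧸ K.map (algebraMap (MvPolynomial (Fin d) k) Λ)))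
    (hφK : ∀ c : Cc, φK (Ideal.Quotient.mk _ c) = Ideal.Quotient.mk _ (h c)) :
    Smoothing.Resolvable (MvPolynomial (Fin d) k ⧸ K) φK
      (𝔮.map (Ideal.Quotient.mk (K.map (algebraMap (MvPolynomial (Fin d) k) Λ)))) := by
  classical
  let R := MvPolynomial (Fin d) k
  let L := Localization.AtPrime 𝔮
  let Ab := Cc ⧸ K.map (algebraMap R Cc)
  letI : CommRing Ab := Ideal.Quotient.commRing _
  let Λb := Λ ⧸ K.map (algebraMap R Λ)
  letI : CommRing Λb := Ideal.Quotient.commRing _
  haveI : Algebra.FiniteType (R ⧸ K) Ab := Algebra.FiniteType.of_restrictScalars_finiteType R (R ⧸ K) Ab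
  haveI : Algebra.FinitePresentation (R ⧸ K) Ab := Algebra.FinitePresentation.of_finiteType.1 inferInstance
  let qb := 𝔮.map (Ideal.Quotient.mk (K.map (algebraMap R Λ)))
  haveI hqb : qb.IsPrime := Ideal.map_isPrime_of_surjective Ideal.Quotient.mk_surjective (by rw [Ideal.mk_ker]; exact hK𝔮)
  by_cases hle : Smoothing.singRad (R ⧸ K) φK ≤ qb
  swap
  · exact ⟨Ab, inferInstance, inferInstance, inferInstance, AlgHom.id _ _, φK, AlgHom.comp_id _, le_rfl, hle⟩
  have hminb : qb ∈ (Smoothing.singRad (R ⧸ K) φK).minimalPrimes := by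
    refine ⟨⟨hqb, hle⟩, fun P hP hPq => ?_⟩
    haveI := hP.1
    have h1 : 𝔮 ≤ P.comap (Ideal.Quotient.mk _) := by
      refine hminC _ (Ideal.comap_isPrime _ _) ?_ (fun x hx => ?_)
      · rw [Ideal.map_le_iff_le_comap]
        intro x hx
        refine hP.2 (Ideal.le_radical ?_)
        have h2 : Ideal.Quotient.mk _ x ∈ Smoothing.singularIdeal (R ⧸ K) Ab :=
          singularIdeal_quotient K hx
        have h3 := Ideal.mem_map_of_mem φK h2
        rwa [hφK] at h3
      · have h2 := hPq hx
        rw [Ideal.mem_map_iff_of_surjective _ Ideal.Quotient.mk_surjective] at h2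
        obtain ⟨y, hy, hyx⟩ := h2
        rw [Ideal.Quotient.eq] at hyx
        have := sub_mem hy (hK𝔮 hyx)
        rwa [sub_sub_cancel] at this
    exact Ideal.map_le_iff_le_comap.2 h1
  -- the base is artinian local
  let I : Ideal R := Ideal.span (Set.range (X : Fin d → R))
  have hIker : I = RingHom.ker (constantCoeff : R →+* k) := by
    refine le_antisymm (Ideal.span_le.2 ?_) fun q hq => ?_
    · rintro _ ⟨i, rfl⟩; exact constantCoeff_X (R := k) _
    · have h1 : I = Ideal.span ((fun i => (X i : R)) '' Set.univ) := by rw [Set.image_univ]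
      rw [h1, mem_ideal_span_X_image]
      intro m hm
      by_contra hne
      push_neg at hne
      have : m = 0 := Finsupp.ext fun i => hne i trivial
      subst this
      exact (mem_support_iff.1 hm) hq
  haveI : I.IsMaximal := hIker ▸ RingHom.ker_isMaximal_of_surjective _ fun c => ⟨MvPolynomial.C c, constantCoeff_C _ c⟩
  have hKI : K ≤ I := hK.le.trans (Ideal.span_le.2 (by
    rintro _ ⟨i, rfl⟩
    exact Ideal.pow_mem_of_mem _ (Ideal.pow_mem_of_mem _ (Ideal.subset_span ⟨i, rfl⟩ : X i ∈ I) _ hM) _ (by omega)))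
  have hIrad : I ≤ K.radical := Ideal.span_le.2 (by
    rintro _ ⟨i, rfl⟩
    exact ⟨M * 8, by rw [pow_mul, hK]; exact Ideal.subset_span ⟨i, rfl⟩⟩)
  obtain ⟨N, hN⟩ := Ideal.exists_pow_le_of_le_radical_of_fg hIrad (Submodule.fg_span (Set.finite_range _))
  let Ib : Ideal (R ⧸ K) := I.map (Ideal.Quotient.mk K)
  have hIbnil : Ib ^ N = ⊥ := by
    rw [← Ideal.map_pow]
    exact (Ideal.map_eq_bot_iff_le_ker _).2 (hN.trans Ideal.mk_ker.ge)
  have hIbmax : ∀ P : Ideal (R ⧸ K), P.IsPrime → P = Ib := by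
    intro P hP
    haveI : Ib.IsMaximal := by
      refine (Ideal.map_eq_top_or_isMaximal_of_surjective _ Ideal.Quotient.mk_surjective ‹I.IsMaximal›).resolve_left fun h => ?_
      have := congrArg (Ideal.comap (Ideal.Quotient.mk K)) h
      rw [Ideal.comap_map_of_surjective _ Ideal.Quotient.mk_surjective, Ideal.comap_top, ← RingHom.ker_eq_comap_bot,
        Ideal.mk_ker, sup_eq_left.2 hKI] at this
      exact (inferInstance : I.IsMaximal).ne_top this
    exact ((inferInstance : Ib.IsMaximal).eq_of_le hP.ne_top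
      (hP.le_of_pow_le (n := N) (hIbnil ▸ bot_le))).symm
  -- the localization
  let Lq := L ⧸ K.map (algebraMap R L)
  letI : CommRing Lq := Ideal.Quotient.commRing _
  let gL : Λb →+* Lq := Ideal.Quotient.lift _ ((Ideal.Quotient.mk _).comp (algebraMap Λ L)) fun x hx => by
    refine Ideal.Quotient.eq_zero_iff_mem.2 ?_
    rw [IsScalarTower.algebraMap_eq R Λ L, ← Ideal.map_map]
    exact Ideal.mem_map_of_mem _ hx
  letI : Algebra Λb Lq := gL.toAlgebra
  haveI : IsScalarTower (R ⧸ K) Λb Lq := IsScalarTower.of_algebraMap_eq fun x => by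
    obtain ⟨x, rfl⟩ := Ideal.Quotient.mk_surjective x
    show Ideal.Quotient.mk _ (algebraMap R L x) = Ideal.Quotient.mk _ (algebraMap Λ L (algebraMap R Λ x))
    rw [← IsScalarTower.algebraMap_apply]
  haveI : IsLocalization.AtPrime Lq qb := by
    have h1 : IsLocalization (𝔮.primeCompl.map (Ideal.Quotient.mk (K.map (algebraMap R Λ)))) Lq :=
      IsLocalization.of_surjective 𝔮.primeCompl L _ Ideal.Quotient.mk_surjective (Ideal.Quotient.mk _)
        Ideal.Quotient.mk_surjective rfl (by
          rw [Ideal.mk_ker, Ideal.mk_ker, IsScalarTower.algebraMap_eq R Λ L, ← Ideal.map_map])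
    convert! h1 using 1
    ext z
    constructor
    · intro hz
      obtain ⟨z, rfl⟩ := Ideal.Quotient.mk_surjective z
      exact ⟨z, fun h => hz (Ideal.mem_map_of_mem _ h), rfl⟩
    · rintro ⟨z, hz, rfl⟩ h
      obtain ⟨y, hy, hyz⟩ := (Ideal.mem_map_iff_of_surjective _ Ideal.Quotient.mk_surjective).1 h
      rw [Ideal.Quotient.eq] at hyz
      have := sub_mem hy (hK𝔮 hyz)
      rw [sub_sub_cancel] at this
      exact hz this
  haveI : IsLocalization.AtPrime (R ⧸ K) (qb.comap (algebraMap (R ⧸ K) Λb)) :=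
    IsLocalization.self fun x hx => by
      by_contra hxu
      obtain ⟨m, hm, hxm⟩ := exists_max_ideal_of_mem_nonunits hxu
      refine hx ?_
      rw [show qb.comap (algebraMap (R ⧸ K) Λb) = m from
        (hIbmax _ (Ideal.comap_isPrime _ _)).trans (hIbmax m hm.isPrime).symm]
      exact hxm
  have hmax : I.map (algebraMap R L) = IsLocalRing.maximalIdeal L := by
    rw [← IsLocalization.AtPrime.map_eq_maximalIdeal 𝔮 L, ← hspan, Ideal.map_span, ← Set.range_comp]
    refine congrArg _ (congrArg Set.range (funext fun i => ?_))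
    show algebraMap R L (X i) = _
    rw [IsScalarTower.algebraMap_apply R Λ L]
  haveI hflat : Module.Flat (R ⧸ K) Lq := by
    refine flat_quotient_of_injective I K hKI ⟨N, hN⟩ ?_
    have hwr : RingTheory.Sequence.IsWeaklyRegular L (List.ofFn fun i => algebraMap R L (X i)) :=
      CAlgGlobalDim.isWeaklyRegular_of_generators d L _ List.length_ofFn
        ((CAlgGlobalDim.ofList_ofFn _).trans (by
          rw [← hmax, Ideal.map_span, ← Set.range_comp]; rfl)) (CAlgGlobalDim.spanFinrank_eq_of_dim L d hd).ge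
    have hwr' : RingTheory.Sequence.IsWeaklyRegular L (List.ofFn (X : Fin d → R)) := by
      rw [← RingTheory.Sequence.isWeaklyRegular_map_algebraMap_iff L, List.map_ofFn]
      exact hwr
    have h1 := FlatLoc6.rTensor_ofList_injective (List.ofFn (X : Fin d → R)) hwr'
    rwa [CAlgGlobalDim.ofList_ofFn] at h1
  have hdim : ringKrullDim Lq = 0 := by
    haveI : Nontrivial Lq := Ideal.Quotient.nontrivial_iff.2 (ne_top_of_le_ne_top
      (IsLocalRing.maximalIdeal.isMaximal L).ne_top ((Ideal.map_mono hKI).trans hmax.le))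
    haveI : Ring.KrullDimLE 0 Lq := Ring.KrullDimLE.mk₀ fun P hP => by
      have h1 : IsLocalRing.maximalIdeal L ≤ P.comap (Ideal.Quotient.mk _) := by
        rw [← hmax, Ideal.map_le_iff_le_comap]
        refine Ideal.span_le.2 ?_
        rintro _ ⟨i, rfl⟩
        refine hP.mem_of_pow_mem (M * 8) ?_
        rw [← map_pow, ← map_pow, pow_mul, Ideal.Quotient.eq_zero_iff_mem.2 (Ideal.mem_map_of_mem _
          (hK.ge (Ideal.subset_span ⟨i, rfl⟩) : (X i ^ M) ^ 8 ∈ K))]
        exact zero_mem _
      have h2 : P = (IsLocalRing.maximalIdeal L).map (Ideal.Quotient.mk _) := by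
        rw [(IsLocalRing.maximalIdeal.isMaximal L).eq_of_le (Ideal.comap_isPrime _ _).ne_top h1,
          Ideal.map_comap_of_surjective _ Ideal.Quotient.mk_surjective]
      rcases Ideal.map_eq_top_or_isMaximal_of_surjective (Ideal.Quotient.mk (K.map (algebraMap R L)))
        Ideal.Quotient.mk_surjective (IsLocalRing.maximalIdeal.isMaximal L) with h3 | h3
      · exact absurd (h2.trans h3) hP.ne_top
      · exact h2 ▸ h3
    exact ringKrullDimZero_iff_ringKrullDim_eq_zero.1 inferInstance
  have hind : Smoothing.IndSmooth (R ⧸ K) Lq := by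
    refine indSmooth_of_nilpotent Ib ⟨N, hIbnil⟩ ?_
    haveI : Ib.IsMaximal := by
      haveI : Nontrivial (R ⧸ K) := Ideal.Quotient.nontrivial_iff.2
        (ne_top_of_le_ne_top (inferInstance : I.IsMaximal).ne_top hKI)
      obtain ⟨m, hm⟩ := Ideal.exists_maximal (R ⧸ K)
      exact hIbmax m hm.isPrime ▸ hm
    have hekb : Function.Bijective (algebraMap k ((R ⧸ K) ⧸ Ib)) := by
      refine ⟨(algebraMap k ((R ⧸ K) ⧸ Ib)).injective, fun x => ?_⟩
      obtain ⟨x, rfl⟩ := Ideal.Quotient.mk_surjective x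
      obtain ⟨x, rfl⟩ := Ideal.Quotient.mk_surjective x
      refine ⟨constantCoeff x, ?_⟩
      show Ideal.Quotient.mk Ib (Ideal.Quotient.mk K (MvPolynomial.C (constantCoeff x))) = Ideal.Quotient.mk Ib (Ideal.Quotient.mk K x)
      rw [Ideal.Quotient.eq, ← map_sub]
      refine Ideal.mem_map_of_mem _ ?_
      rw [hIker, RingHom.mem_ker, map_sub, constantCoeff_C, sub_self]
    let ek := RingEquiv.ofBijective _ hekb
    let q₂ : L →+* Lq ⧸ Ib.map (algebraMap (R ⧸ K) Lq) := (Ideal.Quotient.mk _).comp (Ideal.Quotient.mk _)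
    have hq₂ : RingHom.ker q₂ = IsLocalRing.maximalIdeal L := by
      rw [← RingHom.comap_ker, Ideal.mk_ker, Ideal.map_map]
      have h1 : (algebraMap (R ⧸ K) Lq).comp (Ideal.Quotient.mk K) = (Ideal.Quotient.mk (K.map (algebraMap R L))).comp (algebraMap R L) := rfl
      rw [h1, ← Ideal.map_map, hmax, Ideal.comap_map_of_surjective _ Ideal.Quotient.mk_surjective,
        ← RingHom.ker_eq_comap_bot, Ideal.mk_ker, sup_eq_left]
      exact (Ideal.map_mono hKI).trans hmax.le
    let eL : 𝔮.ResidueField ≃+* Lq ⧸ Ib.map (algebraMap (R ⧸ K) Lq) :=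
      (Ideal.quotEquivOfEq hq₂.symm).trans
        (RingHom.quotientKerEquivOfSurjective (Ideal.Quotient.mk_surjective.comp Ideal.Quotient.mk_surjective : Function.Surjective q₂))
    refine indSmooth_congr ek eL (fun c => ?_) (indSmooth_field k 𝔮.ResidueField)
    show q₂ (algebraMap k L c) = Ideal.Quotient.mk _ (algebraMap (R ⧸ K) Lq (Ideal.Quotient.mk K (algebraMap k R c)))
    rw [IsScalarTower.algebraMap_apply k R L]
    rfl
  haveI : IsScalarTower (R ⧸ K) (R ⧸ K) Lq := ⟨fun a b c => mul_smul a b c⟩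
  let f₁ : (R ⧸ K) ⊗[R ⧸ K] Ab →ₐ[R ⧸ K] Lq := Algebra.TensorProduct.lift (Algebra.ofId (R ⧸ K) Lq)
    ((IsScalarTower.toAlgHom (R ⧸ K) Λb Lq).comp φK) (fun _ _ => Commute.all _ _)
  obtain ⟨B, _, _, hB, gB, hBL, hcomp⟩ := hind ((R ⧸ K) ⊗[R ⧸ K] Ab) inferInstance f₁
  haveI := hB
  haveI : IsLocalRing Lq := IsLocalization.AtPrime.isLocalRing Lq qb
  have hresL : Smoothing.Resolvable (R ⧸ K) (A := (R ⧸ K) ⊗[R ⧸ K] Ab) (Λ := Lq) f₁ (qb.map (algebraMap Λb Lq)) := by
    have htop : Smoothing.singRad (R ⧸ K) hBL = ⊤ := by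
      rw [Smoothing.singRad, singularIdeal_eq_top, Ideal.map_top, Ideal.radical_top]
    refine ⟨B, inferInstance, inferInstance, inferInstance, gB, hBL, hcomp, by rw [htop]; exact le_top, ?_⟩
    rw [htop, IsLocalization.AtPrime.map_eq_maximalIdeal qb Lq, top_le_iff]
    exact (IsLocalRing.maximalIdeal.isMaximal Lq).ne_top
  obtain ⟨C₁, _, _, hC₁, g₁, h₁, hgh₁, hnot₁⟩ := exists_descend_at_prime φK qb hresL
  refine resolvable_of_descend φK qb (fun x hx => ?_) C₁ g₁ h₁ hgh₁ hnot₁
  exact exists_pow_kill (Λq := Lq) qb hdim (hminb.1.2 (Ideal.le_radical (Ideal.mem_map_of_mem φK hx)))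

set_option maxHeartbeats 4000000 in
/-- The local problem at a regular point with separable residue field can be resolved. -/
theorem resolvable {k A Λ : Type u} [Field k] [CommRing A]
    [Algebra k A] [Algebra.FinitePresentation k A] [CommRing Λ] [Algebra k Λ] [IsNoetherianRing Λ]
    (φ : A →ₐ[k] Λ) (𝔮 : Ideal Λ) [𝔮.IsPrime] (hmin : 𝔮 ∈ (Smoothing.singRad k φ).minimalPrimes)
    [IsRegularLocalRing (Localization.AtPrime 𝔮)]
    [Algebra.IsGeometricallyReduced k 𝔮.ResidueField] : Smoothing.Resolvable k φ 𝔮 := by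
  classical
  haveI : IsNoetherianRing A := Algebra.FiniteType.isNoetherianRing k A
  obtain ⟨r, a, ha⟩ := Submodule.fg_iff_exists_fin_generating_family.1
    (IsNoetherian.noetherian (Smoothing.singularIdeal k A) : (Smoothing.singularIdeal k A).FG)
  have hamem : ∀ j, a j ∈ Smoothing.singularIdeal k A := fun j => ha ▸ Submodule.subset_span ⟨j, rfl⟩
  let L := Localization.AtPrime 𝔮
  -- a power of the prime lies in the singular ideal locally
  let I₀ := (Smoothing.singularIdeal k A).map φ
  have hI₀ : I₀ ≤ 𝔮 := Ideal.le_radical.trans hmin.1.2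
  have hrad : 𝔮.map (algebraMap Λ L) ≤ (I₀.map (algebraMap Λ L)).radical := by
    rw [Ideal.radical_eq_sInf, IsLocalization.AtPrime.map_eq_maximalIdeal 𝔮 L]
    refine le_sInf fun P hP => ?_
    obtain ⟨hIP, hPp⟩ := hP
    haveI := hPp
    have h1 : P.comap (algebraMap Λ L) ≤ 𝔮 := fun x hx => by
      by_contra hx'
      exact hPp.ne_top (Ideal.eq_top_of_isUnit_mem _ hx (IsLocalization.map_units L (⟨x, hx'⟩ : 𝔮.primeCompl)))
    have h2 : 𝔮 ≤ P.comap (algebraMap Λ L) := hmin.2 ⟨Ideal.comap_isPrime _ _,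
      ((Ideal.IsPrime.isRadical (Ideal.comap_isPrime _ _)).radical_le_iff).2 (Ideal.map_le_iff_le_comap.1 hIP)⟩ h1
    rw [← IsLocalization.AtPrime.map_eq_maximalIdeal 𝔮 L]
    exact Ideal.map_le_iff_le_comap.2 h2
  obtain ⟨n₀, hn₀⟩ := Ideal.exists_pow_le_of_le_radical_of_fg hrad
    (IsNoetherian.noetherian (𝔮.map (algebraMap Λ L)) : (𝔮.map (algebraMap Λ L)).FG)
  let n := n₀ + 1
  have hpow : (𝔮 ^ n).map (algebraMap Λ L) ≤ I₀.map (algebraMap Λ L) := by
    rw [Ideal.map_pow]; exact (Ideal.pow_le_pow_right (Nat.le_succ n₀)).trans hn₀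
  obtain ⟨d, hd⟩ : ∃ d : ℕ, ringKrullDim L = d :=
    ⟨_, (IsRegularLocalRing.spanFinrank_maximalIdeal (R := L)).symm⟩
  -- the universal algebra
  let R := MvPolynomial (Fin d) k
  let A' := PowerAlg n a d
  letI : Algebra R A' := (powerBase n a).toRingHom.toAlgebra
  haveI : IsScalarTower k R A' := IsScalarTower.of_algebraMap_eq fun c => ((powerBase n a).commutes c).symm
  haveI : Algebra.FinitePresentation A A' :=
    Algebra.FinitePresentation.quotient (Submodule.fg_span (Set.finite_range _))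
  haveI : Algebra.FinitePresentation k A' := Algebra.FinitePresentation.trans k A A'
  haveI : Algebra.FinitePresentation R A' :=
    Algebra.FinitePresentation.of_restrict_scalars_finitePresentation k R A'
  let α : Fin r → A' := fun j => algebraMap A A' (a j)
  have hα : ∀ j, Algebra.Smooth R (Localization.Away (α j)) := fun j => by
    haveI := smooth_away_of_mem_singularIdeal (hamem j)
    haveI : Algebra.FormallySmooth R (Localization.Away (α j)) := formallySmooth_powerAlg n a rfl j
    haveI : Algebra.FinitePresentation A' (Localization.Away (α j)) := IsLocalization.Away.finitePresentation (α j)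
    haveI : Algebra.FinitePresentation R (Localization.Away (α j)) := Algebra.FinitePresentation.trans R A' _
    exact ⟨inferInstance, inferInstance⟩
  let ξ : Fin d → A' := fun i => algebraMap R A' (X i)
  have hξ : ∀ i, Algebra.Smooth R (Localization.Away (ξ i)) := fun i => by
    refine smooth_away_of_mem_singularIdeal ?_
    refine (PrimeSpectrum.isRadical_vanishingIdeal _) ⟨n, ?_⟩
    have h1 : ξ i ^ n = ∑ j, α j * Ideal.Quotient.mk _ (X (Sum.inr (i, j))) := by
      have hrel : (Ideal.Quotient.mk (Ideal.span (Set.range (powerRel n a))) (powerRel n a i) : A') = 0 :=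
        Ideal.Quotient.eq_zero_iff_mem.2 (Ideal.subset_span ⟨i, rfl⟩)
      simp only [powerRel, map_sub, map_pow, map_sum, map_mul, sub_eq_zero] at hrel
      show (powerBase n a (X i) : A') ^ n = _
      rw [powerBase, aeval_X]
      exact hrel
    rw [h1]
    exact Ideal.sum_mem _ fun j _ => Ideal.mul_mem_right _ _ (mem_singularIdeal_of_smooth (hα j))
  obtain ⟨Cc, _, _, hC, ι, ρ, hρι, hstd'⟩ := exists_std_retract (R := R) (A := A')
  haveI := hC
  choose e₀ he₀ using fun i => (hstd' (ξ i) (hξ i)).2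
  let M := (∑ i, e₀ i) + 1
  have hMe : ∀ i, e₀ i ≤ M := fun i =>
    (Finset.single_le_sum (fun j _ => Nat.zero_le (e₀ j)) (Finset.mem_univ i)).trans (Nat.le_succ _)
  -- the parameters
  obtain ⟨π, hπspan, hπI, hπst⟩ := exists_stable_params_pow I₀ 𝔮 n (M * 8) d (Nat.succ_pos _) (by omega) hpow hd
  have hI₀span : I₀ = Ideal.span (Set.range fun j => φ (a j)) := by
    show (Smoothing.singularIdeal k A).map φ = _
    rw [← ha]
    show (Ideal.span (Set.range a)).map φ = _
    rw [Ideal.map_span, ← Set.range_comp]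
    rfl
  choose lam hlam using fun i => (Ideal.mem_span_range_iff_exists_fun).1 (hI₀span.le (hπI i))
  letI : Algebra R Λ := (aeval π : R →ₐ[k] Λ).toRingHom.toAlgebra
  haveI : IsScalarTower k R Λ := IsScalarTower.of_algebraMap_eq fun c => ((aeval π : R →ₐ[k] Λ).commutes c).symm
  have hX : ∀ i, algebraMap R Λ (X i) = π i := fun i => aeval_X π i
  let G₀ : MvPolynomial (Fin d ⊕ Fin d × Fin r) A →+* Λ :=
    eval₂Hom φ.toRingHom (Sum.elim π fun ij => lam ij.1 ij.2)
  let ψ₀ : A' →+* Λ := Ideal.Quotient.lift _ G₀ fun p hp => by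
    refine (Ideal.span_le.2 ?_ : _ ≤ RingHom.ker G₀) hp
    rintro _ ⟨i, rfl⟩
    show G₀ (powerRel n a i) = 0
    simp only [G₀, powerRel, map_sub, map_pow, map_sum, map_mul, eval₂Hom_X', eval₂Hom_C, Sum.elim_inl,
      Sum.elim_inr, sub_eq_zero, ← hlam i]
    exact Finset.sum_congr rfl fun j _ => mul_comm _ _
  have hψA : ∀ x, ψ₀ (algebraMap A A' x) = φ x := fun x => eval₂Hom_C _ _ _
  let ψ : A' →ₐ[R] Λ := ⟨ψ₀, fun p => by
    have : ψ₀.comp (algebraMap R A') = algebraMap R Λ := by
      refine MvPolynomial.ringHom_ext (fun c => ?_) fun i => ?_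
      · show ψ₀ (powerBase n a (MvPolynomial.C c)) = aeval π (MvPolynomial.C c)
        rw [MvPolynomial.algHom_C, MvPolynomial.algHom_C, IsScalarTower.algebraMap_apply k A A', hψA, φ.commutes]
      · show ψ₀ (powerBase n a (X i)) = algebraMap R Λ (X i)
        rw [powerBase, aeval_X, hX]
        show G₀ (X (Sum.inl i)) = _
        simp [G₀]
    exact RingHom.congr_fun this p⟩
  let h : Cc →ₐ[R] Λ := ψ.comp ρ
  have hhι : ∀ x, h (ι x) = ψ x := fun x => congrArg ψ (hρι x)
  let p : Fin d → R := fun i => X i ^ M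
  have hp : ∀ i, algebraMap R Λ (p i) = π i ^ M := fun i => by simp only [p, map_pow, hX]
  let K : Ideal R := Ideal.span (Set.range fun i => p i ^ 8)
  have hπq : ∀ i, π i ∈ 𝔮 := fun i => by
    rw [← IsLocalization.AtPrime.to_map_mem_maximal_iff L 𝔮, ← IsLocalization.AtPrime.map_eq_maximalIdeal 𝔮 L,
      ← hπspan]
    exact Ideal.subset_span ⟨i, rfl⟩
  have hK𝔮 : K.map (algebraMap R Λ) ≤ 𝔮 := by
    rw [Ideal.map_span, Ideal.span_le]
    rintro _ ⟨_, ⟨i, rfl⟩, rfl⟩
    rw [map_pow, hp, ← pow_mul]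
    exact Ideal.pow_mem_of_mem _ (hπq i) _ (by omega)
  let Ab := Cc ⧸ K.map (algebraMap R Cc)
  letI : CommRing Ab := Ideal.Quotient.commRing _
  let Λb := Λ ⧸ K.map (algebraMap R Λ)
  letI : CommRing Λb := Ideal.Quotient.commRing _
  let φb : Ab →ₐ[R] Λb := Ideal.Quotient.liftₐ _ ((Ideal.Quotient.mkₐ R _).comp h) fun x hx => by
    refine Ideal.Quotient.eq_zero_iff_mem.2 ?_
    have h1 := Ideal.mem_map_of_mem h.toRingHom hx
    rw [Ideal.map_map, show h.toRingHom.comp (algebraMap R Cc) = algebraMap R Λ from RingHom.ext h.commutes] at h1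
    exact h1
  let φK : Ab →ₐ[R ⧸ K] Λb := ⟨φb.toRingHom, fun x => by
    obtain ⟨x, rfl⟩ := Ideal.Quotient.mk_surjective x
    exact φb.commutes x⟩
  have hφK : ∀ c : Cc, φK (Ideal.Quotient.mk _ c) = Ideal.Quotient.mk _ (h c) := fun _ => rfl
  have hαh : ∀ j, φ (a j) ∈ (Smoothing.singularIdeal R Cc).map h := fun j => by
    have h1 : h (ι (α j)) = φ (a j) := (hhι _).trans (hψA _)
    rw [← h1]
    exact Ideal.mem_map_of_mem h (mem_singularIdeal_of_smooth (hstd' (α j) (hα j)).1)
  have hres : Smoothing.Resolvable (R ⧸ K) φK (𝔮.map (Ideal.Quotient.mk (K.map (algebraMap R Λ)))) := by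
    refine resolvable_mod (Nat.succ_pos _) 𝔮 hd (by convert hπspan using 4; exact congrArg _ (hX _)) h (fun P hP hle hPq => ?_) K rfl hK𝔮 φK hφK
    refine hmin.2 ⟨hP, (Ideal.IsPrime.isRadical hP).radical_le_iff.2 ?_⟩ hPq
    show I₀ ≤ _
    rw [hI₀span, Ideal.span_le]
    rintro _ ⟨j, rfl⟩
    exact hle (hαh j)
  -- assemble
  have hres' : Smoothing.Resolvable R h 𝔮 := by
    refine resolvable_of_resolvable_mod_pows h 𝔮 p (fun i => by rw [hp]; exact Ideal.pow_mem_of_mem _ (hπq i) _ (Nat.succ_pos _))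
      ?_ ?_ ?_ K rfl φK hφK hres
    · intro i x hx
      obtain ⟨x, rfl⟩ := Ideal.Quotient.mk_surjective x
      rw [← map_pow, ← map_mul, Ideal.Quotient.eq_zero_iff_mem] at hx
      rw [← map_mul, Ideal.Quotient.eq_zero_iff_mem]
      have hset : Ideal.span (Set.range fun j : {j : Fin d // (j : ℕ) < (i : ℕ)} => p j ^ 8) =
          Ideal.span ((fun j => (X j : R) ^ (M * 8)) '' {j : Fin d | (j : ℕ) < (i : ℕ)}) := by
        rw [Set.image_eq_range]
        simp only [p, ← pow_mul]
        rfl
      rw [hset] at hx ⊢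
      refine Ideal.mul_mem_left _ _ (mem_span_X_pow_of_X_pow_mul_mem _ _ (M * 2) i (fun h : (i : ℕ) < i => lt_irrefl _ h) x ?_)
      rwa [pow_mul]
    · intro i x hx
      obtain ⟨x, rfl⟩ := Ideal.Quotient.mk_surjective x
      rw [← map_pow, ← map_mul, Ideal.Quotient.eq_zero_iff_mem] at hx
      rw [← map_mul, Ideal.Quotient.eq_zero_iff_mem]
      simp only [hp, ← pow_mul] at hx ⊢
      have hst : ∀ (m : ℕ) y, π i ^ (m + 1) * y ∈ Ideal.span (Set.range fun j : {j : Fin d // (j : ℕ) < (i : ℕ)} => π j ^ (M * 8)) →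
          π i * y ∈ Ideal.span (Set.range fun j : {j : Fin d // (j : ℕ) < (i : ℕ)} => π j ^ (M * 8)) := by
        intro m
        induction m with
        | zero => intro y hy; rwa [pow_one] at hy
        | succ m ih =>
          intro y hy
          have h1 := ih (π i * y) (by rwa [← mul_assoc, ← pow_succ])
          have h2 := hπst i (Ideal.Quotient.mk _ y) (by
            rw [← map_pow, ← map_mul, Ideal.Quotient.eq_zero_iff_mem, pow_two, mul_assoc]; exact h1)
          rwa [← map_mul, Ideal.Quotient.eq_zero_iff_mem] at h2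
      have h3 := hst (M * 2 - 1) x (by rwa [show M * 2 - 1 + 1 = M * 2 by omega])
      rw [show M = (M - 1) + 1 by omega, pow_succ, mul_assoc]
      exact Ideal.mul_mem_left _ _ (by rwa [← show M = (M - 1) + 1 by omega])
    · intro i
      have h1 := he₀ i M (hMe i)
      rwa [show ι (ξ i) ^ M = algebraMap R Cc (p i) by rw [← map_pow, ← ι.commutes]; simp only [p, ξ, map_pow]] at h1
  obtain ⟨B, _, _, hB, g, h', hgh, hle, hnot⟩ := hres'
  haveI := hB
  letI : Algebra k B := ((algebraMap R B).comp (algebraMap k R)).toAlgebra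
  haveI : IsScalarTower k R B := IsScalarTower.of_algebraMap_eq fun _ => rfl
  haveI : Algebra.FinitePresentation k B := Algebra.FinitePresentation.trans k R B
  let gk : A →ₐ[k] B := ((g.comp ι).restrictScalars k).comp (IsScalarTower.toAlgHom k A A')
  let hk : B →ₐ[k] Λ := h'.restrictScalars k
  have hsing : Smoothing.singRad R h' ≤ Smoothing.singRad k hk := by
    refine Ideal.radical_mono (Ideal.map_le_iff_le_comap.2 fun b hb => Ideal.mem_comap.2 ?_)
    refine Ideal.mem_map_of_mem hk (mem_singularIdeal_of_smooth ?_)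
    haveI := smooth_away_of_mem_singularIdeal hb
    haveI : Algebra.Smooth k R := ⟨inferInstance, inferInstance⟩
    exact Algebra.Smooth.comp k R (Localization.Away b)
  refine ⟨B, inferInstance, inferInstance, inferInstance, gk, hk, AlgHom.ext fun x => ?_, ?_, fun hh => hnot (hsing.trans hh)⟩
  · show h' (g (ι (algebraMap A A' x))) = φ x
    rw [← AlgHom.comp_apply h' g, hgh, hhι]
    exact hψA x
  · refine le_trans ?_ hsing
    refine ((Ideal.radical_isRadical _).radical_le_iff).2 ?_
    show I₀ ≤ _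
    rw [hI₀span, Ideal.span_le]
    rintro _ ⟨j, rfl⟩
    exact hle (Ideal.le_radical (hαh j))

end Groth.Agent.SmoothingLib.RegRes
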