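import Groth.Agent.SmoothingLib.GeomFrameParams
import Groth.Agent.SmoothingLib.RegularResolve
import Groth.Agent.SmoothingLib.ArtinSub
import Groth.Agent.FlatLoc6.FiberComp
import Mathlib

/-!
# Ind-smooth artinian pieces at a point of a geometrically regular algebra
-/

set_option autoImplicit false
set_option linter.style.haveILetI false

universe u

open IsLocalRing TensorProduct

namespace Groth.Agent.SmoothingLib.GeomDiff

theorem exists_sum_of_mem_span_mul {A : Type*} [CommRing A] {r : ℕ} (a : Fin r → A) (I : Ideal A) {v : A}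
    (hv : v ∈ Ideal.span (Set.range a) * I) : ∃ c : Fin r → A, (∀ j, c j ∈ I) ∧ ∑ j, c j * a j = v := by
  refine Submodule.mul_induction_on hv (fun x hx y hy => ?_) ?_
  · obtain ⟨c, rfl⟩ := Ideal.mem_span_range_iff_exists_fun.1 hx
    exact ⟨fun j => c j * y, fun j => I.mul_mem_left _ hy, by rw [Finset.sum_mul]; exact Finset.sum_congr rfl fun j _ => by ring⟩
  · rintro x y ⟨c, hc, rfl⟩ ⟨c', hc', rfl⟩
    exact ⟨c + c', fun j => add_mem (hc j) (hc' j), by simp [add_mul, Finset.sum_add_distrib]⟩

variable (p : ℕ) [hp : Fact p.Prime]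

set_option maxHeartbeats 2000000 in
set_option synthInstance.maxHeartbeats 200000 in
include p hp in
/-- Modulo high powers of the parameters, finitely many elements lie in an ind-smooth subalgebra. -/
theorem exists_frame {k L : Type u} [Field k] [CharP k p] [CommRing L] [Algebra k L] [IsRegularLocalRing L]
    [CharP L p] (hL : CAlg.IsGeometricallyRegular k L) {d : ℕ} (hd : ringKrullDim L = d) {r : ℕ} (a : Fin r → L)
    (E : Finset L) (n N : ℕ) (hn : 0 < n) (hN : 0 < N) (hpow : maximalIdeal L ^ n ≤ Ideal.span (Set.range a)) :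
    ∃ (F : Frame k L d) (lam : Fin d → Fin r → L),
      (∀ i, F.f (F.x i) ^ n = ∑ j, lam i j * a j) ∧
      letI : Algebra F.Rp L := F.toL.toAlgebra
      letI : CommRing (F.Rp ⧸ F.J N) := Ideal.Quotient.commRing _
      letI : CommRing (L ⧸ (F.J N).map (algebraMap F.Rp L)) := Ideal.Quotient.commRing _
      ∃ S : Subalgebra (F.Rp ⧸ F.J N) (L ⧸ (F.J N).map (algebraMap F.Rp L)),
        (∀ e ∈ E, Ideal.Quotient.mk _ e ∈ S) ∧ (∀ i j, Ideal.Quotient.mk _ (lam i j) ∈ S) ∧
          Smoothing.IndSmooth (F.Rp ⧸ F.J N) S := by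
  classical
  let m := maximalIdeal L
  let Nb := d * N + 1 + n + 1
  let Lb := L ⧸ m ^ Nb
  haveI : Nontrivial Lb := Ideal.Quotient.nontrivial_iff.2
    (ne_top_of_le_ne_top (maximalIdeal.isMaximal L).ne_top (Ideal.pow_le_self (by omega)))
  haveI : IsLocalRing Lb := IsLocalRing.of_surjective' _ Ideal.Quotient.mk_surjective
  have hmb : maximalIdeal Lb = m.map (Ideal.Quotient.mk (m ^ Nb)) :=
    (IsLocalRing.eq_maximalIdeal ((Ideal.map_eq_top_or_isMaximal_of_surjective _ Ideal.Quotient.mk_surjective
      (maximalIdeal.isMaximal L)).resolve_left fun h => by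
        have := congrArg (Ideal.comap (Ideal.Quotient.mk (m ^ Nb))) h
        rw [Ideal.comap_map_of_surjective _ Ideal.Quotient.mk_surjective, Ideal.comap_top, ← RingHom.ker_eq_comap_bot,
          Ideal.mk_ker, sup_eq_left.2 (Ideal.pow_le_self (by omega))] at this
        exact (maximalIdeal.isMaximal L).ne_top this)).symm
  haveI : IsArtinianRing Lb := (isArtinianRing_iff_isNilpotent_maximalIdeal Lb).2
    ⟨Nb, by rw [hmb, ← Ideal.map_pow]; exact Ideal.map_quotient_self _⟩
  haveI : IsScalarTower k L (ResidueField Lb) := IsScalarTower.of_algebraMap_eq fun c => rfl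
  have hH : Module.Finite (ResidueField Lb) (Algebra.H1Cotangent k (ResidueField Lb)) :=
    finite_h1 p hL (residue_surjective.comp Ideal.Quotient.mk_surjective)
  obtain ⟨A, hAl, hE, hAart, hAflat, hAeft, hAm⟩ := ArtinSub.exists_subalgebra p hH
    ((E ∪ Finset.univ.image a).image (Ideal.Quotient.mk (m ^ Nb)))
  haveI := hAl; haveI := hAart; haveI := hAflat; haveI := hAeft
  haveI : IsLocalHom (algebraMap A Lb) := by
    refine ⟨fun x hx => ?_⟩
    by_contra h
    have h1 := Ideal.mem_map_of_mem (algebraMap A Lb) ((IsLocalRing.mem_maximalIdeal x).2 h)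
    rw [hAm] at h1
    exact h1 hx
  haveI hffl : Module.FaithfullyFlat A Lb := Module.FaithfullyFlat.of_flat_of_isLocalHom
  obtain ⟨F, ev, hev, hspanA, hz⟩ := exists_params p hL hd (Nb := Nb) (by omega) A hAm
  -- exact relations
  let a' : Fin r → A := fun j => ⟨Ideal.Quotient.mk _ (a j),
    hE (Finset.mem_image_of_mem _ (Finset.mem_union_right _ (Finset.mem_image_of_mem _ (Finset.mem_univ j))))⟩
  have hrel : ∀ i, ev (F.x i) ^ n ∈ Ideal.span (Set.range a') := fun i => by
    rw [← Ideal.comap_map_eq_self_of_faithfullyFlat (B := Lb) (Ideal.span (Set.range a')), Ideal.mem_comap,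
      map_pow, Ideal.map_span, ← Set.range_comp]
    show ((ev (F.x i) : A) : Lb) ^ n ∈ Ideal.span (Set.range fun j => Ideal.Quotient.mk (m ^ Nb) (a j))
    rw [hev, ← map_pow, show (Set.range fun j => Ideal.Quotient.mk (m ^ Nb) (a j)) =
      Ideal.Quotient.mk (m ^ Nb) '' Set.range a from Set.range_comp _ _, ← Ideal.map_span]
    exact Ideal.mem_map_of_mem _ (hpow (Ideal.pow_mem_pow (F.span_f ▸ Ideal.subset_span ⟨i, rfl⟩) n))
  choose μ hμ using fun i => Ideal.mem_span_range_iff_exists_fun.1 (hrel i)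
  choose l hl using fun i j => Ideal.Quotient.mk_surjective ((μ i j : A) : Lb)
  have herr : ∀ i, F.f (F.x i) ^ n - ∑ j, l i j * a j ∈ Ideal.span (Set.range a) * m ^ (d * N + 1) := fun i => by
    have h0 : F.f (F.x i) ^ n - ∑ j, l i j * a j ∈ m ^ Nb := ?_
    · refine Ideal.mul_mono hpow le_rfl ?_
      rw [← pow_add]
      exact Ideal.pow_le_pow_right (by omega) h0
    · rw [← Ideal.Quotient.eq, map_pow, ← hev, map_sum]
      have h1 := congrArg (fun v : A => (v : Lb)) (hμ i)
      simp only [Subalgebra.coe_pow, AddSubmonoidClass.coe_finsetSum, Subalgebra.coe_mul] at h1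
      rw [← h1]
      exact Finset.sum_congr rfl fun j _ => by rw [map_mul, hl]
  choose δ hδ hδs using fun i => exists_sum_of_mem_span_mul a _ (herr i)
  refine ⟨F, fun i j => l i j + δ i j, fun i => ?_, ?_⟩
  · simp only [add_mul, Finset.sum_add_distrib, hδs]; ring
  letI : Algebra F.Rp L := F.toL.toAlgebra
  let R0 := F.Rp ⧸ F.J N
  letI : CommRing R0 := Ideal.Quotient.commRing _
  let JL := (F.J N).map (algebraMap F.Rp L)
  let LN := L ⧸ JL
  letI : CommRing LN := Ideal.Quotient.commRing _
  have hJL : JL = Ideal.span (Set.range fun i => F.f (F.x i) ^ N) := by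
    show (F.J N).map F.toL = _
    rw [Ideal.map_span, ← Set.range_comp]
    refine congrArg _ (congrArg Set.range (funext fun i => ?_))
    show F.toL (algebraMap _ F.Rp (F.x i) ^ N) = _
    rw [map_pow, F.toL_algebraMap]
  have hmJ : m ^ (d * N + 1) ≤ JL := by
    show maximalIdeal L ^ (d * N + 1) ≤ JL
    rw [hJL, ← F.span_f]
    exact span_pow_le N _
  have hmNb : m ^ Nb ≤ JL := (Ideal.pow_le_pow_right (by omega)).trans hmJ
  let θ : Lb →+* LN := Ideal.Quotient.factor hmNb
  let θA : A →+* LN := θ.comp (algebraMap A Lb)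
  have hθ : ∀ v : L, θ (Ideal.Quotient.mk _ v) = Ideal.Quotient.mk JL v := fun v => Ideal.Quotient.factor_mk _ _
  have hθev : ∀ t, θA (ev t) = Ideal.Quotient.mk JL (F.f t) := fun t => by
    show θ ((ev t : A) : Lb) = _
    rw [hev, hθ]
  -- the local ring of the polynomials maps to the artinian algebra
  have hPev : ∀ t, t ∈ F.P ↔ ev t ∈ maximalIdeal A := fun t => by
    rw [Ideal.mem_comap]
    have h1 : Ideal.Quotient.mk (m ^ Nb) (F.f t) ∈ maximalIdeal Lb ↔ F.f t ∈ m := by
      rw [hmb, Ideal.mem_quotient_iff_mem (Ideal.pow_le_self (by omega))]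
    rw [← h1, ← hev]
    constructor
    · intro h
      by_contra hh
      exact h ((IsLocalRing.notMem_maximalIdeal.1 hh).map (algebraMap A Lb))
    · intro h
      exact hAm ▸ Ideal.mem_map_of_mem (algebraMap A Lb) h
  let evp : F.Rp →+* A := IsLocalization.lift (M := F.P.primeCompl) (g := ev.toRingHom) fun s => by
    by_contra h
    exact s.2 ((hPev _).2 ((IsLocalRing.mem_maximalIdeal _).2 h))
  have hevp : ∀ t, evp (algebraMap _ F.Rp t) = ev t := fun t => IsLocalization.lift_eq _ t
  letI : Algebra F.Rp A := evp.toAlgebra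
  have hcomm : θA.comp evp = (Ideal.Quotient.mk JL).comp (algebraMap F.Rp L) := by
    refine IsLocalization.ringHom_ext F.P.primeCompl (RingHom.ext fun t => ?_)
    show θA (evp (algebraMap _ F.Rp t)) = Ideal.Quotient.mk JL (F.toL (algebraMap _ F.Rp t))
    rw [hevp, F.toL_algebraMap, hθev]
  let JA := (F.J N).map (algebraMap F.Rp A)
  let AN := A ⧸ JA
  letI : CommRing AN := Ideal.Quotient.commRing _
  have hJA : JA.map θA = ⊥ := by
    rw [Ideal.map_map, show θA.comp (algebraMap F.Rp A) = (Ideal.Quotient.mk JL).comp (algebraMap F.Rp L) from hcomm,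
      ← Ideal.map_map]
    exact Ideal.map_quotient_self _
  let gN : AN →+* LN := Ideal.Quotient.lift JA θA fun v hv => by
    have := Ideal.mem_map_of_mem θA hv
    rwa [hJA, Ideal.mem_bot] at this
  letI : Algebra AN LN := gN.toAlgebra
  haveI : IsScalarTower R0 AN LN := IsScalarTower.of_algebraMap_eq fun v => by
    obtain ⟨v, rfl⟩ := Ideal.Quotient.mk_surjective v
    exact (RingHom.congr_fun hcomm v).symm
  -- faithful flatness
  have hkerθ : RingHom.ker θ = JA.map (algebraMap A Lb) := by
    rw [show RingHom.ker θ = JL.map (Ideal.Quotient.mk (m ^ Nb)) from Ideal.Quotient.factor_ker hmNb, hJL,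
      Ideal.map_span, ← Set.range_comp, Ideal.map_map, Ideal.map_span, ← Set.range_comp]
    refine congrArg _ (congrArg Set.range (funext fun i => ?_))
    show _ = ((evp (algebraMap _ F.Rp (F.x i) ^ N) : A) : Lb)
    rw [map_pow, hevp, Subalgebra.coe_pow, hev]
    exact map_pow _ _ _
  have hθs : Function.Surjective θ := Ideal.Quotient.factor_surjective _
  let eN : Lb ⧸ JA.map (algebraMap A Lb) ≃+* LN :=
    (Ideal.quotEquivOfEq hkerθ.symm).trans (RingHom.quotientKerEquivOfSurjective hθs)
  haveI : Module.Flat AN (Lb ⧸ JA.map (algebraMap A Lb)) := flat_quotient_map JA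
  haveI hANflat : Module.Flat AN LN := by
    refine Module.Flat.of_linearEquiv (M := Lb ⧸ JA.map (algebraMap A Lb))
      { eN.symm with map_smul' := fun c v => ?_ }
    obtain ⟨c, rfl⟩ := Ideal.Quotient.mk_surjective c
    show eN.symm (θA c * v) = (Ideal.Quotient.mk (JA.map (algebraMap A Lb)) (algebraMap A Lb c)) * eN.symm v
    rw [map_mul]
    congr 1
    rw [RingEquiv.symm_apply_eq]
    rfl
  haveI : Nontrivial LN := Ideal.Quotient.nontrivial_iff.2 (ne_top_of_le_ne_top (maximalIdeal.isMaximal L).ne_top (by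
    rw [show JL = _ from hJL, Ideal.span_le]
    rintro _ ⟨i, rfl⟩
    exact Ideal.pow_mem_of_mem _ (F.span_f ▸ Ideal.subset_span ⟨i, rfl⟩) _ hN))
  haveI : IsLocalRing LN := IsLocalRing.of_surjective' _ Ideal.Quotient.mk_surjective
  haveI : IsLocalHom θ := hθs.isLocalHom
  haveI : Nontrivial AN := gN.domain_nontrivial
  haveI : IsLocalRing AN := IsLocalRing.of_surjective' _ Ideal.Quotient.mk_surjective
  haveI : IsLocalHom (algebraMap AN LN) := ⟨fun v hv => by
    obtain ⟨v, rfl⟩ := Ideal.Quotient.mk_surjective v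
    exact ((isUnit_of_map_unit (algebraMap A Lb) v (isUnit_of_map_unit θ _ hv)).map (Ideal.Quotient.mk JA))⟩
  haveI : Module.FaithfullyFlat AN LN := Module.FaithfullyFlat.of_flat_of_isLocalHom
  have hgNinj : Function.Injective gN := FaithfulSMul.algebraMap_injective AN LN
  -- flatness over the base
  have hIpow : maximalIdeal F.Rp ^ (d * N + 1) ≤ F.J N := by
    rw [← F.span_x]; exact span_pow_le N _
  have hmaxL : (maximalIdeal F.Rp).map (algebraMap F.Rp L) = maximalIdeal L := by
    refine ((congrArg (Ideal.map (algebraMap F.Rp L)) F.span_x).symm.trans ?_).trans F.span_f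
    rw [Ideal.map_span, ← Set.range_comp]
    exact congrArg _ (congrArg Set.range (funext fun i => F.toL_algebraMap _))
  have hJle : F.J N ≤ maximalIdeal F.Rp := by
    rw [Ideal.span_le]
    rintro _ ⟨i, rfl⟩
    exact Ideal.pow_mem_of_mem _ (F.span_x ▸ Ideal.subset_span ⟨i, rfl⟩) _ hN
  haveI : Module.Flat R0 LN := by
    refine RegRes.flat_quotient_of_injective (maximalIdeal F.Rp) (F.J N) hJle ⟨_, hIpow⟩ ?_
    let v : Fin d → F.Rp := fun i => algebraMap _ F.Rp (F.x i)
    have hwr : RingTheory.Sequence.IsWeaklyRegular L (List.ofFn fun i => algebraMap F.Rp L (v i)) :=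
      CAlgGlobalDim.isWeaklyRegular_of_generators d L _ List.length_ofFn
        ((CAlgGlobalDim.ofList_ofFn _).trans (by
          rw [← hmaxL, ← F.span_x, Ideal.map_span, ← Set.range_comp]; rfl)) (CAlgGlobalDim.spanFinrank_eq_of_dim L d hd).ge
    have hwr' : RingTheory.Sequence.IsWeaklyRegular L (List.ofFn v) := by
      rw [← RingTheory.Sequence.isWeaklyRegular_map_algebraMap_iff L, List.map_ofFn]
      exact hwr
    have h1 := FlatLoc6.rTensor_ofList_injective (List.ofFn v) hwr'
    rwa [CAlgGlobalDim.ofList_ofFn, F.span_x] at h1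
  haveI : Module.Flat R0 AN := FlatLoc6.flat_left_of_faithfullyFlat R0 AN LN
  -- the closed fibre
  let Ib : Ideal R0 := (maximalIdeal F.Rp).map (Ideal.Quotient.mk _)
  have hIbnil : Ib ^ (d * N + 1) = ⊥ := by
    rw [← Ideal.map_pow]
    exact (Ideal.map_eq_bot_iff_le_ker _).2 (hIpow.trans Ideal.mk_ker.ge)
  have hind : Smoothing.IndSmooth R0 AN := by
    refine indSmooth_of_nilpotent Ib ⟨_, hIbnil⟩ ?_
    let κ := ResidueField F.Rp
    let K0 := ResidueField A
    haveI : IsLocalHom evp := by
      refine ⟨fun v hv => ?_⟩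
      obtain ⟨⟨t, s⟩, rfl⟩ := IsLocalization.mk'_surjective F.P.primeCompl v
      refine (IsLocalization.AtPrime.isUnit_mk'_iff F.Rp F.P t s).2 fun h => ?_
      have h1 := congrArg evp (IsLocalization.mk'_spec F.Rp t s)
      rw [map_mul, hevp, hevp] at h1
      exact ((IsLocalRing.mem_maximalIdeal _).1 ((hPev t).1 h)) (h1 ▸ hv.mul (by
        rw [← hevp]; exact (IsLocalization.map_units F.Rp s).map evp))
    letI : Algebra κ K0 := (ResidueField.map evp).toAlgebra
    let evR : MvPolynomial F.σ k →+* K0 := (residue A).comp ev.toRingHom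
    letI : Algebra (MvPolynomial F.σ k) K0 := evR.toAlgebra
    haveI : IsScalarTower (MvPolynomial F.σ k) κ K0 := IsScalarTower.of_algebraMap_eq fun t => by
      show residue A (ev t) = residue A (evp (algebraMap _ F.Rp t))
      rw [hevp]
    haveI : IsScalarTower k (MvPolynomial F.σ k) K0 := IsScalarTower.of_algebraMap_eq fun c => by
      show algebraMap k K0 c = residue A (ev (MvPolynomial.C c))
      rw [MvPolynomial.algHom_C]
      exact IsScalarTower.algebraMap_apply k A K0 c
    haveI : Algebra.EssFiniteType k K0 := Algebra.EssFiniteType.comp k A K0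
    haveI : Algebra.EssFiniteType (MvPolynomial F.σ k) K0 := Algebra.EssFiniteType.of_comp k _ _
    haveI : Algebra.EssFiniteType κ K0 := Algebra.EssFiniteType.of_comp (MvPolynomial F.σ k) κ K0
    haveI : Algebra.FormallyUnramified (MvPolynomial F.σ k) K0 := by
      refine ⟨subsingleton_of_forall_eq 0 fun v => ?_⟩
      obtain ⟨v, rfl⟩ := KaehlerDifferential.map_surjective k (MvPolynomial F.σ k) K0 v
      have hv : v ∈ Submodule.span K0 (Set.range fun t => KaehlerDifferential.D k K0 (residue A (ev t))) :=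
        hz.symm ▸ Submodule.mem_top
      induction hv using Submodule.span_induction with
      | mem x hx =>
        obtain ⟨t, rfl⟩ := hx
        rw [KaehlerDifferential.map_D, show residue A (ev t) = algebraMap (MvPolynomial F.σ k) K0 t from rfl]
        simp
      | zero => exact map_zero _
      | add x y _ _ hx hy => rw [map_add, hx, hy, add_zero]
      | smul c x _ hx => rw [map_smul, hx, smul_zero]
    haveI : Algebra.FormallyUnramified κ K0 := Algebra.FormallyUnramified.of_restrictScalars (MvPolynomial F.σ k) κ K0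
    haveI : Algebra.IsGeometricallyReduced κ K0 := isGeometricallyReduced_of_formallyUnramified κ K0
    let q₁ : F.Rp →+* R0 ⧸ Ib := (Ideal.Quotient.mk Ib).comp (Ideal.Quotient.mk _)
    have hq₁ : RingHom.ker q₁ = maximalIdeal F.Rp := by
      rw [← RingHom.comap_ker, Ideal.mk_ker, Ideal.comap_map_of_surjective _ Ideal.Quotient.mk_surjective,
        ← RingHom.ker_eq_comap_bot, Ideal.mk_ker, sup_eq_left.2 hJle]
    let ek : κ ≃+* R0 ⧸ Ib := (Ideal.quotEquivOfEq hq₁.symm).trans
      (RingHom.quotientKerEquivOfSurjective (Ideal.Quotient.mk_surjective.comp Ideal.Quotient.mk_surjective : Function.Surjective q₁))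
    let q₂ : A →+* AN ⧸ Ib.map (algebraMap R0 AN) := (Ideal.Quotient.mk _).comp (Ideal.Quotient.mk JA)
    have hq₂ : RingHom.ker q₂ = maximalIdeal A := by
      rw [← RingHom.comap_ker, Ideal.mk_ker, Ideal.map_map]
      have h1 : (algebraMap R0 AN).comp (Ideal.Quotient.mk (F.J N)) = (Ideal.Quotient.mk JA).comp (algebraMap F.Rp A) := rfl
      rw [h1, ← Ideal.map_map, Ideal.comap_map_of_surjective _ Ideal.Quotient.mk_surjective,
        ← RingHom.ker_eq_comap_bot, Ideal.mk_ker]
      have h2 : (maximalIdeal F.Rp).map (algebraMap F.Rp A) = maximalIdeal A := by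
        rw [← F.span_x, ← hspanA, Ideal.map_span, ← Set.range_comp]
        exact congrArg _ (congrArg Set.range (funext fun i => hevp _))
      rw [h2, sup_eq_left]
      exact (Ideal.map_mono hJle).trans h2.le
    let eK : K0 ≃+* AN ⧸ Ib.map (algebraMap R0 AN) := (Ideal.quotEquivOfEq hq₂.symm).trans
      (RingHom.quotientKerEquivOfSurjective (Ideal.Quotient.mk_surjective.comp Ideal.Quotient.mk_surjective : Function.Surjective q₂))
    refine indSmooth_congr ek eK (fun v => ?_) (RegRes.indSmooth_field κ K0)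
    obtain ⟨v, rfl⟩ := residue_surjective v
    rfl
  -- the subalgebra
  let S : Subalgebra R0 LN := (IsScalarTower.toAlgHom R0 AN LN).range
  have hmemS : ∀ (v : L) (hv : (Ideal.Quotient.mk (m ^ Nb) v) ∈ A), Ideal.Quotient.mk JL v ∈ S := fun v hv =>
    ⟨Ideal.Quotient.mk JA ⟨_, hv⟩, hθ v⟩
  let eS : AN ≃ₐ[R0] S := AlgEquiv.ofInjective (IsScalarTower.toAlgHom R0 AN LN) hgNinj
  refine ⟨S, fun e he => hmemS e (hE (Finset.mem_image_of_mem _ (Finset.mem_union_left _ he))), fun i j => ?_, ?_⟩
  · show Ideal.Quotient.mk JL (l i j + δ i j) ∈ S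
    rw [map_add, Ideal.Quotient.eq_zero_iff_mem.2 (hmJ (hδ i j)), add_zero]
    exact hmemS _ (by rw [hl]; exact (μ i j).2)
  · exact indSmooth_congr (RingEquiv.refl R0) eS.toRingEquiv (fun v => eS.commutes v) hind

end Groth.Agent.SmoothingLib.GeomDiff
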