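import Groth.Agent.SmoothingLib.GeomMod
import Groth.Agent.SmoothingLib.GeomFrame
import Groth.Agent.SmoothingLib.GeomFactor
import Groth.Agent.SmoothingLib.GeomBase
import Groth.Agent.S6829
import Mathlib

/-!
# Resolving at a point of a geometrically regular algebra in characteristic `p`
-/

set_option autoImplicit false
set_option linter.style.haveILetI false

universe u

open IsLocalRing MvPolynomial TensorProduct

namespace Groth.Agent.SmoothingLib.GeomDiff

open RegRes (PowerAlg powerRel powerBase formallySmooth_powerAlg)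

set_option maxHeartbeats 4000000 in
set_option synthInstance.maxHeartbeats 200000 in
/-- The local problem at a point of a geometrically regular algebra in characteristic `p` can be resolved. -/
theorem resolvable {k A Λ : Type u} [Field k] (p : ℕ) [Fact p.Prime] [CharP k p] [CommRing A] [Algebra k A]
    [Algebra.FinitePresentation k A] [CommRing Λ] [Algebra k Λ] [IsNoetherianRing Λ]
    (hreg : CAlg.IsGeometricallyRegular k Λ) (φ : A →ₐ[k] Λ) (𝔮 : Ideal Λ) [𝔮.IsPrime]
    (hmin : 𝔮 ∈ (Smoothing.singRad k φ).minimalPrimes) : Smoothing.Resolvable k φ 𝔮 := by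
  classical
  haveI : IsRegularRing Λ := by
    haveI := hreg k inferInstance
    exact IsRegularRing.of_ringEquiv (Algebra.TensorProduct.lid k Λ).toRingEquiv
  let L := Localization.AtPrime 𝔮
  haveI : IsRegularLocalRing L := IsRegularRing.isRegularLocalRing_localization 𝔮
  have hL : CAlg.IsGeometricallyRegular k L := isGeometricallyRegular_of_isLocalization hreg 𝔮.primeCompl L
  haveI : CharP L p := charP_of_injective_algebraMap (algebraMap k L).injective p
  haveI : IsNoetherianRing A := Algebra.FiniteType.isNoetherianRing k A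
  obtain ⟨r, a, ha⟩ := Submodule.fg_iff_exists_fin_generating_family.1
    (IsNoetherian.noetherian (Smoothing.singularIdeal k A) : (Smoothing.singularIdeal k A).FG)
  have hamem : ∀ j, a j ∈ Smoothing.singularIdeal k A := fun j => ha ▸ Submodule.subset_span ⟨j, rfl⟩
  let I₀ := (Smoothing.singularIdeal k A).map φ
  have hI₀span : I₀ = Ideal.span (Set.range fun j => φ (a j)) := by
    show (Smoothing.singularIdeal k A).map φ = _
    rw [← ha]
    show (Ideal.span (Set.range a)).map φ = _
    rw [Ideal.map_span, ← Set.range_comp]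
    rfl
  have hrad : 𝔮.map (algebraMap Λ L) ≤ (I₀.map (algebraMap Λ L)).radical := by
    rw [Ideal.radical_eq_sInf, IsLocalization.AtPrime.map_eq_maximalIdeal 𝔮 L]
    refine le_sInf fun P hP => ?_
    obtain ⟨hIP, hPp⟩ := hP
    haveI := hPp
    have h1 : P.comap (algebraMap Λ L) ≤ 𝔮 := fun x hx => by
      by_contra hx'
      exact hPp.ne_top (Ideal.eq_top_of_isUnit_mem _ hx (IsLocalization.map_units L (⟨x, hx'⟩ : 𝔮.primeCompl)))
    have h2 : 𝔮 ≤ P.comap (algebraMap Λ L) := hmin.2 ⟨Ideal.comap_isPrime _ _,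
      ((Ideal.IsPrime.isRadical (Ideal.comap_isPrime _ _)).radical_le_iff).2 (Ideal.map_le_iff_le_comap.1 hIP)⟩ h1
    rw [← IsLocalization.AtPrime.map_eq_maximalIdeal 𝔮 L]
    exact Ideal.map_le_iff_le_comap.2 h2
  obtain ⟨n₀, hn₀⟩ := Ideal.exists_pow_le_of_le_radical_of_fg hrad
    (IsNoetherian.noetherian (𝔮.map (algebraMap Λ L)) : (𝔮.map (algebraMap Λ L)).FG)
  let n := n₀ + 1
  have hpow : maximalIdeal L ^ n ≤ Ideal.span (Set.range fun j => algebraMap Λ L (φ (a j))) := by
    rw [← IsLocalization.AtPrime.map_eq_maximalIdeal 𝔮 L]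
    refine (Ideal.pow_le_pow_right (Nat.le_succ n₀)).trans (hn₀.trans ?_)
    rw [hI₀span, Ideal.map_span, ← Set.range_comp]
    rfl
  obtain ⟨d, hd⟩ : ∃ d : ℕ, ringKrullDim L = d :=
    ⟨_, (IsRegularLocalRing.spanFinrank_maximalIdeal (R := L)).symm⟩
  -- the universal algebra
  let R := MvPolynomial (Fin d) k
  let A' := PowerAlg n a d
  letI : Algebra R A' := (powerBase n a).toRingHom.toAlgebra
  haveI : IsScalarTower k R A' := IsScalarTower.of_algebraMap_eq fun c => ((powerBase n a).commutes c).symm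
  haveI : Algebra.FinitePresentation A A' :=
    Algebra.FinitePresentation.quotient (Submodule.fg_span (Set.finite_range _))
  haveI : Algebra.FinitePresentation k A' := Algebra.FinitePresentation.trans k A A'
  haveI : Algebra.FinitePresentation R A' :=
    Algebra.FinitePresentation.of_restrict_scalars_finitePresentation k R A'
  let α : Fin r → A' := fun j => algebraMap A A' (a j)
  have hα : ∀ j, Algebra.Smooth R (Localization.Away (α j)) := fun j => by
    haveI := smooth_away_of_mem_singularIdeal (hamem j)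
    haveI : Algebra.FormallySmooth R (Localization.Away (α j)) := formallySmooth_powerAlg n a rfl j
    haveI : Algebra.FinitePresentation A' (Localization.Away (α j)) := IsLocalization.Away.finitePresentation (α j)
    haveI : Algebra.FinitePresentation R (Localization.Away (α j)) := Algebra.FinitePresentation.trans R A' _
    exact ⟨inferInstance, inferInstance⟩
  let ξ : Fin d → A' := fun i => algebraMap R A' (X i)
  have hξ : ∀ i, Algebra.Smooth R (Localization.Away (ξ i)) := fun i => by
    refine smooth_away_of_mem_singularIdeal ?_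
    refine (PrimeSpectrum.isRadical_vanishingIdeal _) ⟨n, ?_⟩
    have h1 : ξ i ^ n = ∑ j, α j * Ideal.Quotient.mk _ (X (Sum.inr (i, j))) := by
      have hrel : (Ideal.Quotient.mk (Ideal.span (Set.range (powerRel n a))) (powerRel n a i) : A') = 0 :=
        Ideal.Quotient.eq_zero_iff_mem.2 (Ideal.subset_span ⟨i, rfl⟩)
      simp only [powerRel, map_sub, map_pow, map_sum, map_mul, sub_eq_zero] at hrel
      show (powerBase n a (X i) : A') ^ n = _
      rw [powerBase, aeval_X]
      exact hrel
    rw [h1]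
    exact Ideal.sum_mem _ fun j _ => Ideal.mul_mem_right _ _ (mem_singularIdeal_of_smooth (hα j))
  obtain ⟨Cc, _, _, hC, ι, ρ, hρι, hstd'⟩ := exists_std_retract (R := R) (A := A')
  haveI := hC
  choose e₀ he₀ using fun i => (hstd' (ξ i) (hξ i)).2
  let M := (∑ i, e₀ i) + 1
  have hMe : ∀ i, e₀ i ≤ M := fun i =>
    (Finset.single_le_sum (fun j _ => Nat.zero_le (e₀ j)) (Finset.mem_univ i)).trans (Nat.le_succ _)
  -- the frame
  let φL : A →ₐ[k] L := (IsScalarTower.toAlgHom k Λ L).comp φ
  obtain ⟨gens, hgens⟩ := (Algebra.FiniteType.out : (⊤ : Subalgebra k A).FG)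
  obtain ⟨F, lam, hlam, S, hSE, hSl, hSi⟩ := exists_frame p hL hd (fun j => φL (a j)) (gens.image φL) n (M * 8)
    (Nat.succ_pos _) (by omega) hpow
  -- the smooth base
  obtain ⟨R', _, _, hsm, δ, x, lamΛ, hrelΛ, hstR, hstΛ, hT, gs, u, hTloc, hTc, hgs, hxu, hlamΛ⟩ :=
    exists_base φ 𝔮 (n := n) (e := M * 8) (Nat.succ_pos _) (by omega) hd F a lam hlam
  haveI := hTloc
  haveI : IsNoetherianRing R' := Algebra.FiniteType.isNoetherianRing k R'
  letI : Algebra R' Λ := δ.toRingHom.toAlgebra
  haveI : IsScalarTower k R' Λ := IsScalarTower.of_algebraMap_eq fun c => (δ.commutes c).symm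
  letI : Algebra R R' := (aeval x : R →ₐ[k] R').toRingHom.toAlgebra
  haveI : IsScalarTower k R R' := IsScalarTower.of_algebraMap_eq fun c => ((aeval x : R →ₐ[k] R').commutes c).symm
  let π : Fin d → Λ := fun i => δ (x i)
  letI : Algebra R Λ := (aeval π : R →ₐ[k] Λ).toRingHom.toAlgebra
  haveI : IsScalarTower k R Λ := IsScalarTower.of_algebraMap_eq fun c => ((aeval π : R →ₐ[k] Λ).commutes c).symm
  haveI : IsScalarTower R R' Λ := IsScalarTower.of_algebraMap_eq fun v => by
    have h1 : δ.comp (aeval x) = aeval π := MvPolynomial.algHom_ext fun i => by simp [π]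
    exact (AlgHom.congr_fun h1 v).symm
  let G₀ : MvPolynomial (Fin d ⊕ Fin d × Fin r) A →+* Λ :=
    eval₂Hom φ.toRingHom (Sum.elim π fun ij => lamΛ ij.1 ij.2)
  let ψ₀ : A' →+* Λ := Ideal.Quotient.lift _ G₀ fun q hq => by
    refine (Ideal.span_le.2 ?_ : _ ≤ RingHom.ker G₀) hq
    rintro _ ⟨i, rfl⟩
    show G₀ (powerRel n a i) = 0
    simp only [G₀, powerRel, map_sub, map_pow, map_sum, map_mul, eval₂Hom_X', eval₂Hom_C, Sum.elim_inl,
      Sum.elim_inr, sub_eq_zero, π, hrelΛ i]
    exact Finset.sum_congr rfl fun j _ => mul_comm _ _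
  have hψA : ∀ y, ψ₀ (algebraMap A A' y) = φ y := fun y => eval₂Hom_C _ _ _
  let ψ : A' →ₐ[R] Λ := ⟨ψ₀, fun q => by
    have : ψ₀.comp (algebraMap R A') = algebraMap R Λ := by
      refine MvPolynomial.ringHom_ext (fun c => ?_) fun i => ?_
      · show ψ₀ (powerBase n a (MvPolynomial.C c)) = aeval π (MvPolynomial.C c)
        rw [MvPolynomial.algHom_C, MvPolynomial.algHom_C, IsScalarTower.algebraMap_apply k A A', hψA, φ.commutes]
      · show ψ₀ (powerBase n a (X i)) = aeval π (X i)
        rw [powerBase, aeval_X, aeval_X]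
        exact eval₂Hom_X' _ _ _
    exact RingHom.congr_fun this q⟩
  let h : Cc →ₐ[R] Λ := ψ.comp ρ
  let CT := R' ⊗[R] Cc
  haveI : Algebra.FinitePresentation R' CT := inferInstance
  let h' : CT →ₐ[R'] Λ := Algebra.TensorProduct.lift (Algebra.ofId R' Λ) h fun _ _ => Commute.all _ _
  let inc : A' → CT := fun y => (1 : R') ⊗ₜ[R] ι y
  have hinc : ∀ y, h' (inc y) = ψ y := fun y => by
    show Algebra.TensorProduct.lift _ _ _ ((1 : R') ⊗ₜ[R] ι y) = _
    rw [Algebra.TensorProduct.lift_tmul, map_one, one_mul]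
    exact congrArg ψ (hρι y)
  have hincR : ∀ v : R, inc (algebraMap R A' v) = algebraMap R' CT (algebraMap R R' v) := fun v => by
    show (Algebra.TensorProduct.includeRight : Cc →ₐ[R] CT) (ι (algebraMap R A' v)) = _
    rw [ι.commutes, AlgHom.commutes, ← IsScalarTower.algebraMap_apply]
  let q : Fin d → R' := fun i => x i ^ M
  have hq : ∀ i, algebraMap R' Λ (q i) = π i ^ M := fun i => map_pow δ (x i) M
  have hstdC : ∀ i, Smoothing.IsStrictlyStandard R' CT (algebraMap R' CT (q i)) := fun i => by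
    have h1 := (Groth.Agent.S6829.result (R' := R') (ι (ξ i) ^ M)).2 (he₀ i M (hMe i))
    have h2 : algebraMap R' CT (q i) = (1 : R') ⊗ₜ[R] (ι (ξ i) ^ M) := by
      rw [← map_pow ι, ← map_pow (algebraMap R A') (X i) M]
      show _ = inc (algebraMap R A' (X i ^ M))
      rw [hincR, map_pow (algebraMap R R'), show algebraMap R R' (X i) = x i from aeval_X x i]
    rwa [h2]
  have hsingC : ∀ y : A', Algebra.Smooth R (Localization.Away y) → inc y ∈ Smoothing.singularIdeal R' CT :=
    fun y hy => by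
      obtain ⟨e₁, he₁⟩ := (hstd' y hy).2
      have h1 := (Groth.Agent.S6829.result (R' := R') (ι y ^ (e₁ + 1))).2 (he₁ _ (Nat.le_succ _))
      refine (PrimeSpectrum.isRadical_vanishingIdeal _) ⟨e₁ + 1, ?_⟩
      show inc y ^ (e₁ + 1) ∈ Smoothing.singularIdeal R' CT
      rw [Algebra.TensorProduct.tmul_pow, one_pow]
      exact mem_singularIdeal_of_smooth (smooth_and_stablyFree _ h1).1
  have hαh : ∀ j, φ (a j) ∈ (Smoothing.singularIdeal R' CT).map h' := fun j => by
    have h1 : h' (inc (α j)) = φ (a j) := (hinc _).trans (hψA _)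
    rw [← h1]
    exact Ideal.mem_map_of_mem h' (hsingC _ (hα j))
  have hTf : ∀ i, hT (aeval gs (F.x i)) = F.f (F.x i) := fun i => by
    have h1 : hT.comp (aeval gs) = F.f := MvPolynomial.algHom_ext fun s => by
      rw [AlgHom.comp_apply, aeval_X]
      exact hgs s
    exact AlgHom.congr_fun h1 (F.x i)
  have hxq : ∀ i, π i ∈ 𝔮 := fun i => by
    rw [← IsLocalization.AtPrime.to_map_mem_maximal_iff L 𝔮, ← hTc, hxu, map_mul,
      hTf]
    exact Ideal.mul_mem_left _ _ (F.span_f.le (Ideal.subset_span (Set.mem_range_self i)))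
  have hspanπ : Ideal.span (Set.range fun i => algebraMap Λ L (π i)) = maximalIdeal L := by
    refine le_antisymm (Ideal.span_le.2 ?_) (F.span_f.symm.le.trans (Ideal.span_le.2 ?_))
    · rintro _ ⟨i, rfl⟩
      exact (IsLocalization.AtPrime.to_map_mem_maximal_iff L 𝔮 _).2 (hxq i)
    · rintro _ ⟨i, rfl⟩
      refine (Ideal.unit_mul_mem_iff_mem _ ((u i).isUnit.map hT)).1 ?_
      show _ * F.f (F.x i) ∈ _
      rw [← hTf, ← map_mul, ← hxu, hTc]
      exact Ideal.subset_span ⟨i, rfl⟩
  let K : Ideal R' := Ideal.span (Set.range fun i => q i ^ 8)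
  have hK𝔮 : K.map (algebraMap R' Λ) ≤ 𝔮 := by
    rw [Ideal.map_span, Ideal.span_le]
    rintro _ ⟨_, ⟨i, rfl⟩, rfl⟩
    rw [map_pow, hq, ← pow_mul]
    exact Ideal.pow_mem_of_mem _ (hxq i) _ (by omega)
  have hprim : ∀ P : Ideal Λ, P.IsPrime → K.map (algebraMap R' Λ) ≤ P → P ≤ 𝔮 → 𝔮 ≤ P := fun P hP hKP hPq => by
    have hπP : ∀ i, π i ∈ P := fun i => hP.mem_of_pow_mem (M * 8) (by
      have h1 := hKP (Ideal.mem_map_of_mem _ (Ideal.subset_span ⟨i, rfl⟩ : q i ^ 8 ∈ K))
      rwa [map_pow, hq, ← pow_mul] at h1)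
    intro z hz
    have h2 : algebraMap Λ L z ∈ P.map (algebraMap Λ L) := by
      have h3 : algebraMap Λ L z ∈ maximalIdeal L := (IsLocalization.AtPrime.to_map_mem_maximal_iff L 𝔮 _).2 hz
      rw [← hspanπ] at h3
      refine (Ideal.span_le.2 ?_) h3
      rintro _ ⟨i, rfl⟩
      exact Ideal.mem_map_of_mem _ (hπP i)
    obtain ⟨w, hw, hwz⟩ := (IsLocalization.algebraMap_mem_map_algebraMap_iff 𝔮.primeCompl L P z).1 h2
    exact (hP.mem_or_mem hwz).resolve_left fun hwP => hw (hPq hwP)
  let Ab := CT ⧸ K.map (algebraMap R' CT)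
  letI : CommRing Ab := Ideal.Quotient.commRing _
  let Λb := Λ ⧸ K.map (algebraMap R' Λ)
  letI : CommRing Λb := Ideal.Quotient.commRing _
  let φb : Ab →ₐ[R'] Λb := Ideal.Quotient.liftₐ _ ((Ideal.Quotient.mkₐ R' _).comp h') fun y hy => by
    refine Ideal.Quotient.eq_zero_iff_mem.2 ?_
    have h1 := Ideal.mem_map_of_mem h'.toRingHom hy
    rw [Ideal.map_map, show h'.toRingHom.comp (algebraMap R' CT) = algebraMap R' Λ from RingHom.ext h'.commutes] at h1
    exact h1
  let φK : Ab →ₐ[R' ⧸ K] Λb := ⟨φb.toRingHom, fun y => by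
    obtain ⟨y, rfl⟩ := Ideal.Quotient.mk_surjective y
    exact φb.commutes y⟩
  have hφK : ∀ c : CT, φK (Ideal.Quotient.mk _ c) = Ideal.Quotient.mk _ (h' c) := fun _ => rfl
  -- the factorization over the local ring
  let T := Localization.AtPrime (𝔮.comap δ.toRingHom)
  haveI : IsLocalization.AtPrime T (𝔮.comap (algebraMap R' Λ)) :=
    (inferInstance : IsLocalization.AtPrime T (𝔮.comap δ.toRingHom))
  have hKT : K.map (algebraMap R' T) = Ideal.span (Set.range fun i => ((u i : T) * aeval gs (F.x i)) ^ (M * 8)) := by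
    rw [Ideal.map_span, ← Set.range_comp]
    refine congrArg _ (congrArg Set.range (funext fun i => ?_))
    show algebraMap R' T ((x i ^ M) ^ 8) = _
    rw [← pow_mul, map_pow, hxu]
  have hTR : hT.toRingHom.comp (algebraMap R' T) = algebraMap R' L := RingHom.ext fun z =>
    (hTc z).trans (IsScalarTower.algebraMap_apply R' Λ L z).symm
  have hKL : K.map (algebraMap R' L) = (K.map (algebraMap R' T)).map hT.toRingHom := by
    rw [Ideal.map_map, hTR]
  obtain ⟨B, _, _, hBsm, γ, hB, hγR, hBT, hBC, hBl, hBr⟩ := exists_factor_mod F φL a gens hgens lam hlam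
    ⟨S, fun e he => hSE _ (Finset.mem_image_of_mem _ he), hSl, hSi⟩ hT gs hgs u (K.map (algebraMap R' T)) hKT
    (K.map (algebraMap R' L)) hKL
  haveI := hBsm
  let Tq := T ⧸ K.map (algebraMap R' T)
  letI : Algebra R' B := ((algebraMap Tq B).comp ((Ideal.Quotient.mk _).comp (algebraMap R' T))).toAlgebra
  letI : Algebra R B := ((algebraMap R' B).comp (algebraMap R R')).toAlgebra
  haveI : IsScalarTower R R' B := IsScalarTower.of_algebraMap_eq fun _ => rfl
  have hxT : ∀ v : R, aeval (fun i => (u i : T) * aeval gs (F.x i)) v = algebraMap R' T (aeval x v) := fun v => by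
    have h1 : (IsScalarTower.toAlgHom k R' T).comp (aeval x) = aeval fun i => (u i : T) * aeval gs (F.x i) :=
      MvPolynomial.algHom_ext fun i => by
        rw [AlgHom.comp_apply, aeval_X, aeval_X]
        exact hxu i
    exact (AlgHom.congr_fun h1 v).symm
  let gr : Cc →ₐ[R] B := ⟨γ.comp ρ.toRingHom, fun v => by
    show γ (ρ (algebraMap R Cc v)) = _
    rw [ρ.commutes]
    exact (hγR v).trans (by rw [hxT]; rfl)⟩
  let g : CT →ₐ[R'] B := Algebra.TensorProduct.lift (Algebra.ofId R' B) gr fun _ _ => Commute.all _ _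
  have hγψ : ∀ z : A', hB (γ z) = Ideal.Quotient.mk _ (algebraMap Λ L (ψ₀ z)) := by
    have : hB.comp γ = (Ideal.Quotient.mk _).comp ((algebraMap Λ L).comp ψ₀) := by
      refine Ideal.Quotient.ringHom_ext (MvPolynomial.ringHom_ext (fun c => ?_) fun t => ?_)
      · show hB (γ (Ideal.Quotient.mk _ (MvPolynomial.C c))) = Ideal.Quotient.mk _ (algebraMap Λ L (G₀ (MvPolynomial.C c)))
        rw [hBC, eval₂Hom_C]
        rfl
      · show hB (γ (Ideal.Quotient.mk _ (X t))) = Ideal.Quotient.mk _ (algebraMap Λ L (G₀ (X t)))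
        rw [eval₂Hom_X']
        rcases t with i | ⟨i, j⟩
        · rw [hBl]
          refine congrArg _ ?_
          show hT (u i) * F.f (F.x i) = algebraMap Λ L (δ (x i))
          rw [← hTc, hxu, map_mul]
          rw [hTf]
        · rw [hBr]
          exact congrArg _ (hlamΛ i j).symm
    exact RingHom.congr_fun this
  have hBg : ∀ c, hB (g c) = Ideal.Quotient.mk _ (algebraMap Λ L (h' c)) := fun c => by
    induction c using TensorProduct.induction_on with
    | zero => simp
    | add s t hs ht => simp only [map_add, hs, ht]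
    | tmul s t =>
      show hB (Algebra.TensorProduct.lift _ _ _ (s ⊗ₜ[R] t)) = _
      rw [Algebra.TensorProduct.lift_tmul, map_mul,
        show h' (s ⊗ₜ[R] t) = δ s * ψ₀ (ρ t) from Algebra.TensorProduct.lift_tmul _ _ _ s t, map_mul, map_mul]
      congr 1
      · show hB (algebraMap Tq B (Ideal.Quotient.mk _ (algebraMap R' T s))) = _
        rw [hBT, hTc]
      · exact hγψ _
  have hres : Smoothing.Resolvable (R' ⧸ K) φK (𝔮.map (Ideal.Quotient.mk (K.map (algebraMap R' Λ)))) :=
    resolvable_mod_of_factor 𝔮 h' (fun P hP hle hPq => hmin.2 ⟨hP, (Ideal.IsPrime.isRadical hP).radical_le_iff.2 (by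
      show I₀ ≤ P
      rw [hI₀span, Ideal.span_le]
      rintro _ ⟨j, rfl⟩
      exact hle (hαh j))⟩ hPq) K hK𝔮 hprim φK hφK hT.toRingHom hTc g.toRingHom hB g.commutes hBT hBg
  -- assemble
  have hres' : Smoothing.Resolvable R' h' 𝔮 := by
    refine resolvable_of_resolvable_mod_pows h' 𝔮 q (fun i => by rw [hq]; exact Ideal.pow_mem_of_mem _ (hxq i) _ (Nat.succ_pos _))
      ?_ ?_ hstdC K rfl φK hφK hres
    · intro i y hy
      obtain ⟨y, rfl⟩ := Ideal.Quotient.mk_surjective y
      rw [← map_pow, ← map_mul, Ideal.Quotient.eq_zero_iff_mem] at hy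
      rw [← map_mul, Ideal.Quotient.eq_zero_iff_mem]
      simp only [q, ← pow_mul] at hy ⊢
      exact stable_pow _ (x i) (hstR i) (Nat.succ_pos _) (by rwa [← pow_mul])
    · intro i y hy
      obtain ⟨y, rfl⟩ := Ideal.Quotient.mk_surjective y
      rw [← map_pow, ← map_mul, Ideal.Quotient.eq_zero_iff_mem] at hy
      rw [← map_mul, Ideal.Quotient.eq_zero_iff_mem]
      simp only [hq, ← pow_mul] at hy ⊢
      exact stable_pow _ (π i) (hstΛ i) (Nat.succ_pos _) (by rwa [← pow_mul])
  obtain ⟨B', _, _, hB', g', h'', hgh, hle, hnot⟩ := hres'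
  haveI := hB'
  letI : Algebra k B' := ((algebraMap R' B').comp (algebraMap k R')).toAlgebra
  haveI : IsScalarTower k R' B' := IsScalarTower.of_algebraMap_eq fun _ => rfl
  haveI : Algebra.FinitePresentation k B' := Algebra.FinitePresentation.trans k R' B'
  let incA : A →+* CT :=
    ((Algebra.TensorProduct.includeRight : Cc →ₐ[R] CT).toRingHom.comp ι.toRingHom).comp (algebraMap A A')
  let gk : A →ₐ[k] B' := ⟨g'.toRingHom.comp incA, fun c => by
    show g' (inc (algebraMap A A' (algebraMap k A c))) = _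
    rw [← IsScalarTower.algebraMap_apply k A A', IsScalarTower.algebraMap_apply k R A', hincR, AlgHom.commutes,
      ← IsScalarTower.algebraMap_apply k R R']
    rfl⟩
  let hk : B' →ₐ[k] Λ := h''.restrictScalars k
  have hsing : Smoothing.singRad R' h'' ≤ Smoothing.singRad k hk := by
    refine Ideal.radical_mono (Ideal.map_le_iff_le_comap.2 fun b hb => Ideal.mem_comap.2 ?_)
    refine Ideal.mem_map_of_mem hk (mem_singularIdeal_of_smooth ?_)
    haveI := smooth_away_of_mem_singularIdeal hb
    exact Algebra.Smooth.comp k R' (Localization.Away b)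
  refine ⟨B', inferInstance, inferInstance, inferInstance, gk, hk, AlgHom.ext fun y => ?_, ?_, fun hh => hnot (hsing.trans hh)⟩
  · show h'' (g' (inc (algebraMap A A' y))) = φ y
    rw [← AlgHom.comp_apply h'' g', hgh, hinc]
    exact hψA y
  · refine le_trans ?_ hsing
    refine ((Ideal.radical_isRadical _).radical_le_iff).2 ?_
    show I₀ ≤ _
    rw [hI₀span, Ideal.span_le]
    rintro _ ⟨j, rfl⟩
    exact hle (Ideal.le_radical (hαh j))

end Groth.Agent.SmoothingLib.GeomDiff
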