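import Groth.Agent.SmoothingLib.Lifting

/-!
# The lifting lemma
-/

universe u

open MvPolynomial

namespace Groth.Agent.SmoothingLib

/-- Near a smooth point the relations are generated by `c` of them up to the square of `π`. -/
theorem exists_local_data {R C : Type u} [CommRing R] [IsNoetherianRing R] (π : R) [CommRing C] [Algebra R C]
    [Algebra (R ⧸ Ideal.span {π ^ 2}) C] [IsScalarTower R (R ⧸ Ideal.span {π ^ 2}) C] {n m : ℕ}
    (φ : MvPolynomial (Fin n) R →ₐ[R] C) (hφ : Function.Surjective φ)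
    (f : Fin m → MvPolynomial (Fin n) R) (hker : RingHom.ker φ.toRingHom = Ideal.span (Set.range f))
    (q : Ideal C) [q.IsPrime] [Algebra.IsSmoothAt (R ⧸ Ideal.span {π ^ 2}) q] :
    ∃ (c : ℕ) (_ : c ≤ n) (rows : Fin c → Fin m) (cols : Fin c → Fin n) (u : MvPolynomial (Fin n) R)
      (a : Fin m → Fin c → MvPolynomial (Fin n) R) (bb : Fin m → MvPolynomial (Fin n) R),
      (∀ j, u * f j = ∑ k, a j k * f (rows k) + MvPolynomial.C (π ^ 2) * bb j) ∧
      φ (Smoothing.jacobianMinor f rows cols * u) ∉ q := by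
  classical
  let Rb := R ⧸ Ideal.span {π ^ 2}
  let μ : MvPolynomial (Fin n) R →+* MvPolynomial (Fin n) Rb := MvPolynomial.map (Ideal.Quotient.mk _)
  have hμ : Function.Surjective μ := MvPolynomial.map_surjective _ Ideal.Quotient.mk_surjective
  let φb : MvPolynomial (Fin n) Rb →ₐ[Rb] C := aeval fun i => φ (X i)
  have hφb : ∀ p, φb (μ p) = φ p := fun p => by
    simp only [φb, μ]
    rw [show (Ideal.Quotient.mk (Ideal.span {π ^ 2} : Ideal R)) = algebraMap R Rb from rfl, aeval_map_algebraMap]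
    have : aeval (fun i => φ (X i)) = φ := MvPolynomial.algHom_ext fun i => by simp
    rw [this]
  have hsurj : Function.Surjective φb := fun y => by
    obtain ⟨p, rfl⟩ := hφ y
    exact ⟨μ p, hφb p⟩
  let fb : Fin m → MvPolynomial (Fin n) Rb := μ ∘ f
  have hkerb : RingHom.ker φb.toRingHom = Ideal.span (Set.range fb) := by
    refine le_antisymm (fun y hy => ?_) (Ideal.span_le.2 ?_)
    · obtain ⟨p, rfl⟩ := hμ y
      have hp : p ∈ Ideal.span (Set.range f) := hker ▸ RingHom.mem_ker.2 ((hφb p).symm.trans hy)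
      have := Ideal.mem_map_of_mem μ hp
      rwa [Ideal.map_span, ← Set.range_comp] at this
    · rintro _ ⟨j, rfl⟩
      have : f j ∈ RingHom.ker φ.toRingHom := hker ▸ Ideal.subset_span ⟨j, rfl⟩
      exact (hφb (f j)).trans this
  obtain ⟨a₀, ha₀, c, rows, cols, a', ha', hkill⟩ := exists_elementary_data φb hsurj fb hkerb q
  have hcn : c ≤ n := by simpa using Fintype.card_le_of_embedding cols
  have hminor : φb (Smoothing.jacobianMinor fb rows cols) = φ (Smoothing.jacobianMinor f rows cols) := by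
    rw [← hφb]
    congr 1
    rw [Smoothing.jacobianMinor, Smoothing.jacobianMinor, RingHom.map_det]
    congr 1
    refine Matrix.ext fun j k => ?_
    simp [fb, μ, pderiv_map]
  obtain ⟨a₁, ha₁⟩ := hsurj a₀
  let qh := q.comap φb.toRingHom
  haveI : qh.IsPrime := Ideal.comap_isPrime φb.toRingHom q
  let L₀ := Localization.AtPrime qh
  letI : CommRing L₀ := OreLocalization.instCommRing
  let I := Ideal.span (Set.range fb)
  let Rw := Ideal.span (Set.range (fb ∘ rows))
  let J := I.map (algebraMap (MvPolynomial (Fin n) Rb) L₀)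
  let J' := Rw.map (algebraMap (MvPolynomial (Fin n) Rb) L₀)
  have hua : IsUnit (algebraMap (MvPolynomial (Fin n) Rb) L₀ a₁) :=
    IsLocalization.map_units L₀ (⟨a₁, fun hh => ha₀ (ha₁ ▸ hh)⟩ : qh.primeCompl)
  have hImax : J ≤ IsLocalRing.maximalIdeal L₀ := by
    rw [← IsLocalization.AtPrime.map_eq_maximalIdeal qh L₀]
    refine Ideal.map_mono ?_
    rw [show I = RingHom.ker φb.toRingHom from hkerb.symm]
    intro x hx
    change φb x ∈ q
    rw [show φb x = 0 from hx]; exact zero_mem q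
  have hle : J ≤ J' ⊔ IsLocalRing.maximalIdeal L₀ • J := by
    refine Ideal.map_le_iff_le_comap.2 (Ideal.span_le.2 ?_)
    rintro _ ⟨l, rfl⟩
    have h1 := Ideal.mem_map_of_mem (algebraMap (MvPolynomial (Fin n) Rb) L₀) (hkill a₁ ha₁ l)
    rw [Ideal.map_sup, map_mul, Ideal.map_pow] at h1
    obtain ⟨v, hv⟩ := hua
    rw [← hv] at h1
    have h2 := Ideal.mul_mem_left _ (v⁻¹ : L₀ˣ).1 h1
    rw [Units.inv_mul_cancel_left] at h2
    refine (sup_le_sup_left ?_ J' : J' ⊔ J ^ 2 ≤ _) h2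
    exact le_of_eq_of_le (sq J) (Ideal.mul_mono_left hImax)
  have hJ : J ≤ J' := Submodule.le_of_le_smul_of_le_jacobson_bot (N' := J) (N := J') (M := L₀) (R := L₀) (Ideal.FG.map (Submodule.fg_span (Set.finite_range fb) : I.FG) (algebraMap (MvPolynomial (Fin n) Rb) L₀) : J.FG)
    (IsLocalRing.maximalIdeal_le_jacobson _) hle
  have hex : ∀ l, ∃ u₀, u₀ ∉ qh ∧ u₀ * fb l ∈ Rw := fun l => by
    obtain ⟨⟨⟨x, hx⟩, ⟨s, hs⟩⟩, h⟩ := (IsLocalization.mem_map_algebraMap_iff qh.primeCompl L₀).1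
      (hJ (Ideal.mem_map_of_mem _ (Ideal.subset_span (Set.mem_range_self l) : fb l ∈ I)))
    change algebraMap _ L₀ (fb l) * algebraMap _ L₀ s = algebraMap _ L₀ x at h
    rw [← map_mul] at h
    obtain ⟨⟨t, ht⟩, h'⟩ := (IsLocalization.eq_iff_exists qh.primeCompl L₀).1 h
    refine ⟨t * s, fun hh => (Ideal.IsPrime.mem_or_mem inferInstance hh).elim ht hs, ?_⟩
    rw [mul_assoc, mul_comm s]
    change t * (fb l * s) = t * x at h'
    rw [h']
    exact Ideal.mul_mem_left _ _ hx
  choose u₀ hu₀ hu₀f using hex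
  obtain ⟨u, hu⟩ := hμ (∏ l, u₀ l)
  have hex2 : ∀ j, ∃ (a : Fin c → MvPolynomial (Fin n) R) (bb : MvPolynomial (Fin n) R),
      u * f j = ∑ k, a k * f (rows k) + MvPolynomial.C (π ^ 2) * bb := fun j => by
    have h1 : μ (u * f j) ∈ Rw := by
      rw [map_mul, hu, ← Finset.prod_erase_mul _ _ (Finset.mem_univ j), mul_assoc]
      exact Ideal.mul_mem_left _ _ (hu₀f j)
    obtain ⟨e, he⟩ := Ideal.mem_span_range_iff_exists_fun.1 h1
    choose a hae using fun k => hμ (e k)
    have h2 : u * f j - ∑ k, a k * f (rows k) ∈ RingHom.ker μ := by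
      rw [RingHom.mem_ker, map_sub, map_sum, ← he, sub_eq_zero]
      exact Finset.sum_congr rfl fun k _ => by rw [map_mul, hae]; rfl
    rw [MvPolynomial.ker_map, Ideal.mk_ker, Ideal.map_span, Set.image_singleton] at h2
    obtain ⟨bb, hbb⟩ := Ideal.mem_span_singleton'.1 h2
    exact ⟨a, bb, by rw [mul_comm (MvPolynomial.C (π ^ 2)), hbb]; ring⟩
  choose a bb hab using hex2
  refine ⟨c, hcn, rows, cols, u, a, bb, hab, fun hh => ?_⟩
  rw [map_mul] at hh
  refine (Ideal.IsPrime.mem_or_mem inferInstance hh).elim (fun h1 => ha₀ ?_) (fun h1 => ?_)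
  · rw [ha', hminor]
    exact Ideal.mul_mem_left _ _ h1
  · rw [← hφb, hu] at h1
    have h2 : (∏ l, u₀ l) ∈ qh := h1
    obtain ⟨l, -, hl⟩ := (Ideal.IsPrime.prod_mem_iff).1 h2
    exact hu₀ l hl

/-- The lifting lemma. -/
theorem exists_lifting {R Λ C : Type u} [CommRing R] [IsNoetherianRing R] [CommRing Λ]
    [Algebra R Λ] (π : R) (hR : ∀ r : R, π ^ 2 * r = 0 → π * r = 0)
    (hΛ : ∀ x : Λ, π ^ 2 • x = 0 → π • x = 0) [CommRing C] [Algebra R C]
    [Algebra (R ⧸ Ideal.span {π ^ 2}) C] [IsScalarTower R (R ⧸ Ideal.span {π ^ 2}) C]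
    [Algebra.FinitePresentation (R ⧸ Ideal.span {π ^ 2}) C]
    (g : C →ₐ[R] Λ ⧸ Ideal.span {algebraMap R Λ (π ^ 2)}) :
    ∃ (D : Type u) (_ : CommRing D) (_ : Algebra R D), Algebra.FinitePresentation R D ∧
      ∃ (δ : D →ₐ[R] Λ) (ψ : C →ₐ[R] D ⧸ Ideal.span {algebraMap R D π}),
        (∀ (c : C) (d : D) (l : Λ), Ideal.Quotient.mk (Ideal.span {algebraMap R D π}) d = ψ c →
          Ideal.Quotient.mk (Ideal.span {algebraMap R Λ (π ^ 2)}) l = g c →
            δ d - l ∈ Ideal.span {algebraMap R Λ π}) ∧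
        (∀ (Q : Ideal D) [Q.IsPrime], algebraMap R D π ∉ Q → Algebra.IsSmoothAt R Q) ∧
        (∀ (Q : Ideal (D ⧸ Ideal.span {algebraMap R D π})) [Q.IsPrime],
          Algebra.IsSmoothAt (R ⧸ Ideal.span {π ^ 2}) (Q.comap ψ) →
            Algebra.IsSmoothAt R (Q.comap (Ideal.Quotient.mk (Ideal.span {algebraMap R D π})))) := by
  classical
  haveI : Algebra.FiniteType (R ⧸ Ideal.span {π ^ 2}) C := inferInstance
  haveI : Algebra.FiniteType R C := Algebra.FiniteType.trans (S := R ⧸ Ideal.span {π ^ 2}) inferInstance inferInstance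
  obtain ⟨n, φ, hφ⟩ := Algebra.FiniteType.iff_quotient_mvPolynomial''.1 ‹Algebra.FiniteType R C›
  obtain ⟨m, f, hf⟩ := Submodule.fg_iff_exists_fin_generating_family.1
    (IsNoetherian.noetherian (RingHom.ker φ.toRingHom) : (RingHom.ker φ.toRingHom).FG)
  let P := MvPolynomial (Fin n) R
  let T : ((Fin m → P) × P) →ₗ[P] P :=
    (Fintype.linearCombination P f).comp (LinearMap.fst P _ _) - LinearMap.mulLeft P (MvPolynomial.C (π ^ 2)) ∘ₗ LinearMap.snd P _ _
  obtain ⟨r, v, hv⟩ := Submodule.fg_iff_exists_fin_generating_family.1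
    (IsNoetherian.noetherian (LinearMap.ker T) : (LinearMap.ker T).FG)
  have hT : ∀ x : (Fin m → P) × P, T x = ∑ j, x.1 j * f j - MvPolynomial.C (π ^ 2) * x.2 := fun x => by
    simp [T, Fintype.linearCombination_apply]
  let h : Fin r → Fin m → P := fun l => (v l).1
  let b : Fin r → P := fun l => (v l).2
  have hb : ∀ l, ∑ j, h l j * f j = MvPolynomial.C (π ^ 2) * b l := fun l => by
    have : v l ∈ LinearMap.ker T := hv ▸ Submodule.subset_span ⟨l, rfl⟩
    rwa [LinearMap.mem_ker, hT, sub_eq_zero] at this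
  let ID := Ideal.span (Set.range (liftRel π f h b))
  let D := MvPolynomial (Fin (n + m)) R ⧸ ID
  letI instD : CommRing D := Ideal.Quotient.commRing ID
  let mkD : MvPolynomial (Fin (n + m)) R →ₐ[R] D := Ideal.Quotient.mkₐ R ID
  have hgen : ∀ (h' : Fin m → P) (b' : P), ∑ j, h' j * f j = MvPolynomial.C (π ^ 2) * b' →
      (∑ j, rename (Fin.castAdd m) (h' j) * X (Fin.natAdd n j)) - MvPolynomial.C π * rename (Fin.castAdd m) b' ∈ ID := by
    intro h' b' hh'
    have : (h', b') ∈ Submodule.span P (Set.range v) := by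
      rw [hv, LinearMap.mem_ker, hT]; exact sub_eq_zero.2 hh'
    obtain ⟨e, he⟩ := (Submodule.mem_span_range_iff_exists_fun P).1 this
    have h1 : ∀ j, h' j = ∑ l, e l * h l j := fun j => by
      have := congrArg (fun x : (Fin m → P) × P => x.1 j) he
      simpa [Prod.fst_sum, Finset.sum_apply, h] using this.symm
    have h2 : b' = ∑ l, e l * b l := by
      have := congrArg Prod.snd he
      simpa [Prod.snd_sum, b] using this.symm
    have : (∑ j, rename (Fin.castAdd m) (h' j) * X (Fin.natAdd n j)) - MvPolynomial.C π * rename (Fin.castAdd m) b' =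
        ∑ l, rename (Fin.castAdd m) (e l) * liftRel π f h b (Sum.inr l) := by
      simp only [h1, h2, map_sum, map_mul, liftRel, Sum.elim_inr, mul_sub, Finset.mul_sum, Finset.sum_mul,
        Finset.sum_sub_distrib]
      rw [Finset.sum_comm]
      simp only [mul_assoc, mul_left_comm (MvPolynomial.C π)]
    rw [this]
    exact Ideal.sum_mem _ fun l _ => Ideal.mul_mem_left _ _ (Ideal.subset_span ⟨Sum.inr l, rfl⟩)
  have hD : Algebra.FinitePresentation R D :=
    Algebra.FinitePresentation.quotient (Submodule.fg_span (Set.finite_range _))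
  -- the map to `Λ`
  choose lam hlam using fun i => Ideal.Quotient.mk_surjective (g (φ (X i)))
  have hglam : ∀ p : P, g (φ p) = Ideal.Quotient.mk _ (aeval lam p) := fun p => by
    have : g.comp φ = (Ideal.Quotient.mkₐ R _).comp (aeval lam) := MvPolynomial.algHom_ext fun i => by
      simp [hlam]
    exact AlgHom.congr_fun this p
  have hfφ : ∀ j, φ (f j) = 0 := fun j => by
    have : f j ∈ RingHom.ker φ.toRingHom := hf ▸ Submodule.subset_span ⟨j, rfl⟩
    exact this
  have hμ : ∀ j, ∃ μ, μ * algebraMap R Λ (π ^ 2) = aeval lam (f j) := fun j =>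
    Ideal.mem_span_singleton'.1 (Ideal.Quotient.eq_zero_iff_mem.1 (by rw [← hglam, hfφ, map_zero]))
  choose μ hμ using hμ
  let δ₀ : MvPolynomial (Fin (n + m)) R →ₐ[R] Λ :=
    aeval (Fin.append lam fun j => algebraMap R Λ π * μ j)
  have hδe : ∀ p, δ₀ (rename (Fin.castAdd m) p) = aeval lam p := fun p => by
    have : δ₀.comp (rename (Fin.castAdd m)) = aeval lam := MvPolynomial.algHom_ext fun i => by simp [δ₀]
    exact AlgHom.congr_fun this p
  have hδz : ∀ j, δ₀ (X (Fin.natAdd n j)) = algebraMap R Λ π * μ j := fun j => by simp [δ₀]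
  have hδrel : ID ≤ RingHom.ker δ₀.toRingHom := Ideal.span_le.2 (by
    rintro _ ⟨j | l, rfl⟩
    · change δ₀ _ = 0
      simp only [liftRel, Sum.elim_inl, map_sub, map_mul, MvPolynomial.algHom_C, hδe, hδz]
      rw [← hμ, map_pow]; ring
    · change δ₀ _ = 0
      simp only [liftRel, Sum.elim_inr, map_sub, map_sum, map_mul, MvPolynomial.algHom_C, hδe, hδz]
      have h1 : π ^ 2 • ((∑ j, aeval lam (h l j) * μ j) - aeval lam (b l)) = 0 := by
        have := congrArg (aeval lam) (hb l)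
        simp only [map_sum, map_mul, ← hμ, MvPolynomial.algHom_C] at this
        rw [Algebra.smul_def, mul_sub, ← this, Finset.mul_sum, sub_eq_zero]
        exact Finset.sum_congr rfl fun j _ => by ring
      have h2 := hΛ _ h1
      rw [Algebra.smul_def, mul_sub, Finset.mul_sum] at h2
      rw [← h2]
      refine congrArg₂ (· - ·) (Finset.sum_congr rfl fun j _ => mul_left_comm _ _ _) rfl)
  let δ : D →ₐ[R] Λ := Ideal.Quotient.liftₐ ID δ₀ fun x hx => hδrel hx
  let mkb : D →ₐ[R] D ⧸ Ideal.span {algebraMap R D π} := Ideal.Quotient.mkₐ R _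
  let ψ₀ : P →ₐ[R] D ⧸ Ideal.span {algebraMap R D π} := (mkb.comp mkD).comp (rename (Fin.castAdd m))
  let ψ : C →ₐ[R] D ⧸ Ideal.span {algebraMap R D π} := AlgHom.liftOfSurjective φ hφ ψ₀ (by
    rw [← hf]
    refine Ideal.span_le.2 ?_
    rintro _ ⟨j, rfl⟩
    refine Ideal.Quotient.eq_zero_iff_mem.2 ?_
    have h1 : mkD (rename (Fin.castAdd m) (f j) - MvPolynomial.C π * X (Fin.natAdd n j)) = 0 :=
      Ideal.Quotient.eq_zero_iff_mem.2 (Ideal.subset_span ⟨Sum.inl j, rfl⟩)
    rw [map_sub, sub_eq_zero, map_mul, MvPolynomial.algHom_C] at h1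
    change mkD (rename (Fin.castAdd m) (f j)) ∈ _
    rw [h1]
    exact Ideal.mul_mem_right _ _ (Ideal.mem_span_singleton_self _))
  have hψ : ∀ p, ψ (φ p) = mkb (mkD (rename (Fin.castAdd m) p)) := fun p =>
    AlgHom.liftOfSurjective_apply φ hφ ψ₀ _ p
  refine ⟨D, instD, inferInstance, hD, δ, ψ, fun c d l hd hl => ?_, fun Q _ hQ => ?_, fun Q _ hsm => ?_⟩
  · obtain ⟨p, rfl⟩ := hφ c
    rw [hψ] at hd
    rw [hglam] at hl
    obtain ⟨y, hy⟩ := Ideal.mem_span_singleton'.1 (Ideal.Quotient.eq.1 hd)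
    obtain ⟨y', hy'⟩ := Ideal.mem_span_singleton'.1 (Ideal.Quotient.eq.1 hl)
    have h3 := congrArg δ hy
    rw [map_mul, AlgHom.commutes, map_sub, show δ (mkD (rename (Fin.castAdd m) p)) = aeval lam p from hδe p] at h3
    rw [map_pow] at hy'
    exact Ideal.mem_span_singleton'.2 ⟨δ y - y' * algebraMap R Λ π, by linear_combination h3 - hy'⟩
  · exact isSmoothAt_liftRel_of_not_mem π f h b hR hb Q hQ
  · haveI : (Q.comap ψ).IsPrime := Ideal.comap_isPrime ψ.toRingHom Q
    haveI := hsm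
    obtain ⟨c, hcn, rows, cols, u, a, bb, hu, hdu⟩ := exists_local_data π φ hφ f hf.symm (Q.comap ψ)
    refine isSmoothAt_liftRel_of_data π f h b hR hb hgen hcn rows cols u a bb hu
      (Q.comap (Ideal.Quotient.mk (Ideal.span {algebraMap R D π}))) ?_ ?_
    · rw [Ideal.mem_comap]
      rw [show Ideal.Quotient.mk (Ideal.span {algebraMap R D π}) (algebraMap R D π) = 0 from
        Ideal.Quotient.eq_zero_iff_mem.2 (Ideal.mem_span_singleton_self _)]
      exact zero_mem Q
    · intro hh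
      refine hdu ?_
      rw [Ideal.mem_comap, hψ]
      exact hh

end Groth.Agent.SmoothingLib
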