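import Groth.Prelude.Def_Smoothing
import Mathlib.RingTheory.Smooth.Basic
import Mathlib.RingTheory.Etale.Kaehler
import Mathlib.RingTheory.Kaehler.Polynomial
import Mathlib.LinearAlgebra.Matrix.Adjugate
import Mathlib.LinearAlgebra.Matrix.ToLin

/-!
# Strictly standard elements give smooth localizations with stably free differentials
-/

universe u

open MvPolynomial TensorProduct KaehlerDifferential

namespace Groth.Agent.SmoothingLib

/-- A matrix whose maximal minors generate the unit ideal is split. -/
theorem exists_left_inverse_vecMul {B : Type u} [CommRing B] {c n : ℕ} (M : Matrix (Fin c) (Fin n) B)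
    (coef : (Fin c → Fin n) → B) (h : ∑ cols, coef cols * (M.submatrix id cols).det = 1) :
    ∃ L : (Fin n → B) →ₗ[B] (Fin c → B), ∀ v, L (Matrix.vecMul v M) = v := by
  classical
  refine ⟨∑ cols, coef cols • ((M.submatrix id cols).adjugate.vecMulLinear ∘ₗ LinearMap.funLeft B B cols), fun v => ?_⟩
  simp only [LinearMap.coe_sum, Finset.sum_apply, LinearMap.smul_apply, LinearMap.comp_apply,
    Matrix.vecMulLinear_apply]
  have h1 : ∀ cols : Fin c → Fin n, LinearMap.funLeft B B cols (Matrix.vecMul v M) = Matrix.vecMul v (M.submatrix id cols) :=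
    fun cols => rfl
  simp only [h1, Matrix.vecMul_vecMul, Matrix.mul_adjugate, Matrix.vecMul_smul, Matrix.vecMul_one, smul_smul,
    ← Finset.sum_smul, h, one_smul]

theorem smooth_and_stablyFree {R A : Type u} [CommRing R] [CommRing A] [Algebra R A] (a : A)
    (ha : Smoothing.IsStrictlyStandard R A a) :
    Algebra.Smooth R (Localization.Away a) ∧
      ∃ p q : ℕ, Nonempty ((Ω[Localization.Away a⁄R] × (Fin p → Localization.Away a)) ≃ₗ[Localization.Away a]
        (Fin q → Localization.Away a)) := by
  classical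
  obtain ⟨P, hmin, hkill⟩ := ha
  obtain ⟨coef, hcoef⟩ := (Ideal.mem_span_range_iff_exists_fun).1 hmin
  obtain ⟨a', ha'⟩ := P.surj a
  let S := MvPolynomial (Fin P.n) R
  let S' := Localization.Away a'
  let B := Localization.Away a
  let ψ : S →ₐ[R] B := (IsScalarTower.toAlgHom R A B).comp P.hom
  have hau : IsUnit (algebraMap A B a) := IsLocalization.Away.algebraMap_isUnit a
  have hψu : IsUnit (ψ.toRingHom a') := by
    change IsUnit (algebraMap A B (P.hom a'))
    rw [ha']; exact hau
  let χ : S' →+* B := IsLocalization.Away.lift a' hψu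
  have hχ : ∀ f : S, χ (algebraMap S S' f) = algebraMap A B (P.hom f) := fun f =>
    IsLocalization.Away.lift_eq a' hψu f
  letI : Algebra S' B := χ.toAlgebra
  haveI : IsScalarTower R S' B := IsScalarTower.of_algebraMap_eq' (by
    refine RingHom.ext fun r => ?_
    change algebraMap R B r = χ (algebraMap R S' r)
    rw [IsScalarTower.algebraMap_apply R S S', hχ, P.hom.commutes, ← IsScalarTower.algebraMap_apply])
  have hsurj : Function.Surjective (algebraMap S' B) := fun b => by
    obtain ⟨k, x, hx⟩ := IsLocalization.Away.surj a b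
    obtain ⟨f, rfl⟩ := P.surj x
    obtain ⟨d, hd⟩ := ((IsLocalization.Away.algebraMap_isUnit (S := S') a').pow k).exists_right_inv
    refine ⟨algebraMap S S' f * d, ?_⟩
    have hd' := congrArg χ hd
    rw [map_mul, map_pow, hχ, ha', map_one] at hd'
    change χ (_ * d) = b
    rw [map_mul, hχ, ← hx, mul_assoc, hd', mul_one]
  -- the kernel is generated by the leading relations modulo its square
  let K := RingHom.ker (algebraMap S' B)
  have hr : ∀ j, algebraMap S S' (P.rel j) ∈ K := fun j => by
    have : P.hom (P.rel j) = 0 := by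
      have h1 : P.rel j ∈ RingHom.ker P.hom.toRingHom := P.ker_eq ▸ Ideal.subset_span ⟨j, rfl⟩
      exact h1
    change χ _ = 0
    rw [hχ, this, map_zero]
  let fl : Fin P.c → K := fun j => ⟨algebraMap S S' (P.rel (Fin.castLE P.hcm j)), hr _⟩
  have ha'u : IsUnit (algebraMap S S' a') := IsLocalization.Away.algebraMap_isUnit a'
  have hI : (Ideal.span (Set.range P.rel)).map (algebraMap S S') ≤ K := by
    rw [Ideal.map_le_iff_le_comap, Ideal.span_le]
    rintro _ ⟨j, rfl⟩; exact hr j
  have hKI : K ≤ (Ideal.span (Set.range P.rel)).map (algebraMap S S') := fun z hz => by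
    obtain ⟨k, f, hf⟩ := IsLocalization.Away.surj a' z
    have h1 : algebraMap A B (P.hom f) = 0 := by
      rw [← hχ, ← hf, map_mul, show χ z = 0 from hz, zero_mul]
    obtain ⟨⟨_, m, rfl⟩, hm⟩ := (IsLocalization.map_eq_zero_iff (Submonoid.powers a) B _).1 h1
    have h2 : a' ^ m * f ∈ Ideal.span (Set.range P.rel) := by
      rw [← P.ker_eq, RingHom.mem_ker]
      change P.hom (a' ^ m * f) = 0
      rw [map_mul, map_pow, ha']; exact hm
    have h3 := Ideal.mem_map_of_mem (algebraMap S S') h2
    rw [map_mul, map_pow, ← hf, mul_comm z, ← mul_assoc, ← pow_add] at h3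
    exact (Ideal.unit_mul_mem_iff_mem _ (ha'u.pow _)).1 h3
  have hK2 : K ≤ Ideal.span (Set.range fun j => (fl j : S')) ⊔ K ^ 2 := by
    refine hKI.trans ?_
    rw [Ideal.map_span, Ideal.span_le]
    rintro _ ⟨_, ⟨j, rfl⟩, rfl⟩
    by_cases hj : (j : ℕ) < P.c
    · exact Ideal.mem_sup_left (Ideal.subset_span ⟨⟨j, hj⟩, rfl⟩)
    · have h1 := Ideal.mem_map_of_mem (algebraMap S S') (hkill a' ha' j (not_lt.1 hj))
      rw [Ideal.map_sup, Ideal.map_pow, map_mul] at h1
      refine (Ideal.unit_mul_mem_iff_mem _ ha'u).1 ((sup_le_sup ?_ (Ideal.pow_right_mono hI 2)) h1)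
      rw [Ideal.map_span, Ideal.span_le]
      rintro _ ⟨_, ⟨i, hi, rfl⟩, rfl⟩
      exact Ideal.subset_span ⟨⟨i, hi⟩, rfl⟩
  let e : (Fin P.c → S') →ₗ[S'] K.Cotangent := Fintype.linearCombination S' fun j => K.toCotangent (fl j)
  have he : Function.Surjective e := by
    intro x
    obtain ⟨⟨z, hz⟩, rfl⟩ := Ideal.toCotangent_surjective K x
    obtain ⟨s, hs, t, ht, hst⟩ := Submodule.mem_sup.1 (hK2 hz)
    obtain ⟨v, hv⟩ := Ideal.mem_span_range_iff_exists_fun.1 hs
    refine ⟨v, ?_⟩
    rw [Fintype.linearCombination_apply]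
    simp only [← map_smul, ← map_sum]
    rw [Ideal.toCotangent_eq, pow_two, ← pow_two]
    have : ((∑ j, v j • fl j : K) : S') = s := by
      simp only [AddSubmonoidClass.coe_finsetSum, SetLike.val_smul, smul_eq_mul, hv]
    rw [this]
    change s - z ∈ K ^ 2
    rw [← hst, show s - (s + t) = -t by ring]
    exact neg_mem ht
  -- coordinates of the differentials
  haveI : Algebra.FormallyEtale S S' := Algebra.FormallyEtale.of_isLocalization (.powers a')
  let bΩ : Module.Basis (Fin P.n) S' Ω[S'⁄R] :=
    (Algebra.TensorProduct.basis S' (mvPolynomialBasis R (Fin P.n))).map (isBaseChange_of_formallyEtale R S S').equiv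
  let bB : Module.Basis (Fin P.n) B (B ⊗[S'] Ω[S'⁄R]) := Algebra.TensorProduct.basis B bΩ
  have hcoord : ∀ (f : S) i, bB.equivFun (1 ⊗ₜ D R S' (algebraMap S S' f)) i = algebraMap A B (P.hom (pderiv i f)) := by
    intro f i
    have h1 : D R S' (algebraMap S S' f) = (isBaseChange_of_formallyEtale R S S').equiv (1 ⊗ₜ D R S f) := by
      rw [IsBaseChange.equiv_tmul, one_smul, map_D]
    have h2 : bΩ.repr (D R S' (algebraMap S S' f)) i = algebraMap S S' (pderiv i f) := by
      rw [h1, Module.Basis.map_repr, LinearEquiv.trans_apply, LinearEquiv.symm_apply_apply,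
        Algebra.TensorProduct.basis_repr_tmul, one_smul, Finsupp.mapRange_apply, mvPolynomialBasis_repr_apply]
    rw [Module.Basis.equivFun_apply, Algebra.TensorProduct.basis_repr_tmul, one_smul, Finsupp.mapRange_apply, h2]
    exact hχ _
  let M : Matrix (Fin P.c) (Fin P.n) B :=
    Matrix.of fun j i => algebraMap A B (P.hom (pderiv i (P.rel (Fin.castLE P.hcm j))))
  obtain ⟨ia, hia⟩ := hau.exists_left_inv
  obtain ⟨L, hL⟩ := exists_left_inverse_vecMul M (fun cols => ia * algebraMap A B (coef cols)) (by
    refine Eq.trans ?_ ((congrArg (ia * ·) (congrArg (algebraMap A B) hcoef)).trans hia)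
    rw [map_sum, Finset.mul_sum]
    refine Finset.sum_congr rfl fun cols _ => ?_
    rw [map_mul, mul_assoc]
    congr 2
    rw [Smoothing.jacobianMinor, AlgHom.map_det, RingHom.map_det]
    rfl)
  -- the map `B^c → K/K²`
  let π : (Fin P.c → S') →ₗ[S'] (Fin P.c → B) := LinearMap.compLeft (Algebra.linearMap S' B) (Fin P.c)
  have hπ : Function.Surjective π := fun v => ⟨fun j => (hsurj (v j)).choose, funext fun j => (hsurj (v j)).choose_spec⟩
  have hπe : LinearMap.ker π ≤ LinearMap.ker e := fun v hv => by
    rw [LinearMap.mem_ker, Fintype.linearCombination_apply]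
    refine Finset.sum_eq_zero fun j _ => ?_
    rw [← map_smul, Ideal.toCotangent_eq_zero, pow_two]
    exact Ideal.mul_mem_mul (congrFun hv j) (fl j).2
  let ē : (Fin P.c → B) →ₗ[S'] K.Cotangent :=
    (LinearMap.ker π).liftQ e hπe ∘ₗ (π.quotKerEquivOfSurjective hπ).symm.toLinearMap
  have hē : ∀ v, ē (π v) = e v := fun v => by
    have : (π.quotKerEquivOfSurjective hπ).symm (π v) = Submodule.Quotient.mk v := by
      apply (π.quotKerEquivOfSurjective hπ).injective
      rw [LinearEquiv.apply_symm_apply]; rfl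
    simp [ē, this]
  let δ := kerCotangentToTensor R S' B
  have hδ : ∀ v, bB.equivFun (δ (e v)) = Matrix.vecMul (π v) M := by
    intro v
    rw [Fintype.linearCombination_apply, map_sum, map_sum]
    funext i
    rw [Finset.sum_apply, Matrix.vecMul, dotProduct]
    refine Finset.sum_congr rfl fun j _ => ?_
    rw [map_smul, kerCotangentToTensor_toCotangent, ← algebraMap_smul B (v j), map_smul, Pi.smul_apply, hcoord]
    rfl
  have hδ' : ∀ w, bB.equivFun (δ (ē w)) = Matrix.vecMul w M := fun w => by
    obtain ⟨v, rfl⟩ := hπ w; rw [hē, hδ]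
  refine ⟨?_, P.c, P.n, ?_⟩
  · haveI : Algebra.FormallySmooth R S' := .comp R S S'
    refine ⟨(Algebra.FormallySmooth.iff_split_injection (R := R) (P := S') hsurj).2
      ⟨ē ∘ₗ (L.restrictScalars S') ∘ₗ (bB.equivFun.toLinearMap.restrictScalars S'), ?_⟩, ?_⟩
    · refine LinearMap.ext fun x => ?_
      obtain ⟨v, rfl⟩ := he x
      change ē (L (bB.equivFun (δ (e v)))) = e v
      rw [hδ, hL, hē]
    · haveI : Algebra.FinitePresentation R A := Algebra.FinitePresentation.of_surjective P.surj
        ((congrArg Submodule.FG P.ker_eq).mpr (Submodule.fg_span (Set.finite_range _)))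
      haveI : Algebra.FinitePresentation A B := IsLocalization.Away.finitePresentation a
      exact Algebra.FinitePresentation.trans R A B
  · let g : (Fin P.n → B) →ₗ[B] Ω[B⁄R] := mapBaseChange R S' B ∘ₗ bB.equivFun.symm.toLinearMap
    have hg : Function.Surjective g := (mapBaseChange_surjective R S' B hsurj).comp bB.equivFun.symm.surjective
    have hex := exact_kerCotangentToTensor_mapBaseChange R S' B hsurj
    have hgJ : ∀ v, g (Matrix.vecMul v M) = 0 := fun v => by
      change mapBaseChange R S' B (bB.equivFun.symm _) = 0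
      rw [← hδ', LinearEquiv.symm_apply_apply]
      exact (hex _).2 ⟨_, rfl⟩
    refine ⟨(LinearEquiv.ofBijective (g.prod L) ⟨(injective_iff_map_eq_zero _).2 fun w hw => ?_, fun ⟨ω, v⟩ => ?_⟩).symm⟩
    · obtain ⟨h1, h2⟩ := Prod.ext_iff.1 hw
      obtain ⟨x, hx⟩ := (hex _).1 h1
      obtain ⟨v, rfl⟩ := he x
      have h3 : w = Matrix.vecMul (π v) M := by
        rw [← hδ]; change w = bB.equivFun (δ (e v))
        rw [show δ (e v) = bB.equivFun.symm w from hx, LinearEquiv.apply_symm_apply]
      change L w = 0 at h2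
      rw [h3, hL] at h2
      rw [h3, h2, Matrix.zero_vecMul]
    · obtain ⟨w, rfl⟩ := hg ω
      refine ⟨w - Matrix.vecMul (L w) M + Matrix.vecMul v M, Prod.ext ?_ ?_⟩
      · change g _ = g w
        rw [map_add, map_sub, hgJ, hgJ, sub_zero, add_zero]
      · change L _ = v
        rw [map_add, map_sub, hL, hL, sub_self, zero_add]

end Groth.Agent.SmoothingLib
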