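import Groth.Prelude.Def_Smoothing
import Mathlib.RingTheory.Smooth.Locus
import Mathlib.RingTheory.Localization.AtPrime.Basic
import Mathlib.RingTheory.KrullDimension.Zero
import Mathlib.RingTheory.TensorProduct.Basic
import Mathlib.RingTheory.Polynomial.Quotient

/-!
# Descending resolutions from the local ring at a prime
-/

universe u

open MvPolynomial TensorProduct

namespace Groth.Agent.SmoothingLib

/-- A point which lifts birationally to a smooth algebra over a localization of the base is smooth. -/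
theorem isSmoothAt_of_birational {R R' C L : Type u} [CommRing R] [CommRing R'] [Algebra R R']
    [Algebra.FormallyEtale R R'] [CommRing C] [Algebra R C] [CommRing L] [Algebra R' L] [Algebra R L]
    [IsScalarTower R R' L] [Algebra.FormallySmooth R' L] (ι : C →ₐ[R] L) (Q : Ideal L) [Q.IsPrime]
    (P : Ideal C) [P.IsPrime] (hP : ∀ x, x ∈ P ↔ ι x ∈ Q)
    (hker : ∀ x, ι x = 0 → ∃ w, w ∉ P ∧ w * x = 0)
    (hfrac : ∀ l, ∃ w, w ∉ P ∧ ∃ e, ι w * l = ι e) : Algebra.IsSmoothAt R P := by
  let M := Localization.AtPrime Q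
  letI : Algebra C M := ((algebraMap L M).comp ι.toRingHom).toAlgebra
  have hCM : ∀ x, algebraMap C M x = algebraMap L M (ι x) := fun x => rfl
  haveI : IsScalarTower R C M := IsScalarTower.of_algebraMap_eq fun r => by
    rw [hCM, ι.commutes, ← IsScalarTower.algebraMap_apply]
  have hnot : ∀ x, ι x ∉ Q → x ∉ P := fun x h hx => h ((hP x).1 hx)
  haveI : IsLocalization P.primeCompl M := by
    constructor
    constructor
    · rintro ⟨w, hw⟩
      exact IsLocalization.map_units M (⟨ι w, fun h => hw ((hP w).2 h)⟩ : Q.primeCompl)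
    · intro m
      obtain ⟨⟨l, ⟨d, hd⟩⟩, hld⟩ := IsLocalization.surj Q.primeCompl m
      obtain ⟨w, hw, e, he⟩ := hfrac l
      obtain ⟨w', hw', e', he'⟩ := hfrac d
      have he'P : w * e' ∉ P := hnot _ (by
        rw [map_mul, ← he']
        exact fun h => (Ideal.IsPrime.mem_or_mem ‹_› h).elim (fun h1 => hw ((hP w).2 h1)) fun h1 =>
          (Ideal.IsPrime.mem_or_mem ‹_› h1).elim (fun h2 => hw' ((hP w').2 h2)) hd)
      refine ⟨⟨w' * e, ⟨w * e', he'P⟩⟩, ?_⟩
      change m * algebraMap L M (ι (w * e')) = algebraMap L M (ι (w' * e))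
      simp only [map_mul, ← he, ← he']
      rw [← hld]
      ring
    · intro x y hxy
      rw [hCM, hCM] at hxy
      obtain ⟨⟨d, hd⟩, hdxy⟩ := (IsLocalization.eq_iff_exists Q.primeCompl M).1 hxy
      obtain ⟨w', hw', e', he'⟩ := hfrac d
      have h0 : ι (e' * (x - y)) = 0 := by
        change d * ι x = d * ι y at hdxy
        rw [map_mul, ← he', map_sub, mul_assoc, mul_sub, hdxy, sub_self, mul_zero]
      obtain ⟨w, hw, hwx⟩ := hker _ h0
      have he'P : e' ∉ P := hnot _ (by
        rw [← he']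
        exact fun h => (Ideal.IsPrime.mem_or_mem ‹_› h).elim (fun h1 => hw' ((hP w').2 h1)) hd)
      refine ⟨⟨w * e', fun h => (Ideal.IsPrime.mem_or_mem ‹_› h).elim hw he'P⟩, sub_eq_zero.1 ?_⟩
      change w * e' * x - w * e' * y = 0
      rw [← mul_sub, mul_assoc, hwx]
  haveI : Algebra.FormallyEtale L M := Algebra.FormallyEtale.of_isLocalization Q.primeCompl
  haveI : Algebra.FormallySmooth R L := Algebra.FormallySmooth.comp R R' L
  haveI : Algebra.FormallySmooth R M := Algebra.FormallySmooth.comp R L M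
  let e : Localization.AtPrime P ≃ₐ[C] M := IsLocalization.algEquiv P.primeCompl _ _
  exact Algebra.FormallySmooth.of_equiv (e.symm.restrictScalars R)

theorem mem_singularIdeal_of_smooth {R A : Type u} [CommRing R] [CommRing A] [Algebra R A]
    [Algebra.FinitePresentation R A] {a : A} (h : Algebra.Smooth R (Localization.Away a)) :
    a ∈ Smoothing.singularIdeal R A := by
  rw [Smoothing.singularIdeal, PrimeSpectrum.mem_vanishingIdeal]
  intro q hq
  by_contra ha
  exact hq (Algebra.basicOpen_subset_smoothLocus_iff_smooth.2 h (show q ∈ PrimeSpectrum.basicOpen a from ha))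

theorem smooth_away_of_mem_singularIdeal {R A : Type u} [CommRing R] [CommRing A] [Algebra R A]
    [Algebra.FinitePresentation R A] {a : A} (h : a ∈ Smoothing.singularIdeal R A) :
    Algebra.Smooth R (Localization.Away a) := by
  refine Algebra.basicOpen_subset_smoothLocus_iff_smooth.1 fun q hq => ?_
  by_contra hs
  exact hq ((PrimeSpectrum.mem_vanishingIdeal _ _).1 h q hs)

theorem not_singularIdeal_le {R A : Type u} [CommRing R] [CommRing A] [Algebra R A]
    [Algebra.FinitePresentation R A] (P : Ideal A) [P.IsPrime] [hP : Algebra.IsSmoothAt R P] :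
    ∃ a, a ∈ Smoothing.singularIdeal R A ∧ a ∉ P := by
  by_contra hne
  have hmem : (⟨P, ‹_›⟩ : PrimeSpectrum A) ∈ PrimeSpectrum.zeroLocus (Smoothing.singularIdeal R A : Set A) :=
    fun a ha => by
      by_contra h
      exact hne ⟨a, ha, h⟩
  rw [Smoothing.singularIdeal, PrimeSpectrum.zeroLocus_vanishingIdeal_eq_closure,
    ((Algebra.isOpen_smoothLocus (R := R) (A := A)).isClosed_compl).closure_eq] at hmem
  exact hmem hP

theorem exists_sum_smul {R R' C L : Type u} [CommRing R] [CommRing R'] [CommRing C] [CommRing L] [Algebra R C]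
    [Algebra R L] (ι : C →ₐ[R] L) (P : Ideal C) [P.IsPrime] {x y : L}
    (hx : ∃ w, w ∉ P ∧ ∃ e, ι w * x = ι e) (hy : ∃ w, w ∉ P ∧ ∃ e, ι w * y = ι e) :
    (∃ w, w ∉ P ∧ ∃ e, ι w * (x + y) = ι e) ∧ ∃ w, w ∉ P ∧ ∃ e, ι w * (x * y) = ι e := by
  obtain ⟨w, hw, e, he⟩ := hx
  obtain ⟨v, hv, f, hf⟩ := hy
  have hwv : w * v ∉ P := fun h => (Ideal.IsPrime.mem_or_mem ‹_› h).elim hw hv
  refine ⟨⟨w * v, hwv, v * e + w * f, ?_⟩, ⟨w * v, hwv, e * f, ?_⟩⟩
  · simp only [map_add, map_mul, ← he, ← hf]; ring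
  · simp only [map_mul, ← he, ← hf]; ring

theorem frac_polynomial {R C B : Type u} [CommRing R] [CommRing C] [CommRing B] [Algebra R C]
    [Algebra R (Polynomial B)] (ι : C →ₐ[R] Polynomial B) (P : Ideal C) [P.IsPrime]
    (hC : ∀ b, ∃ w, w ∉ P ∧ ∃ e, ι w * Polynomial.C b = ι e)
    (hX : ∃ w, w ∉ P ∧ ∃ e, ι w * Polynomial.X = ι e) (x : Polynomial B) :
    ∃ w, w ∉ P ∧ ∃ e, ι w * x = ι e := by
  induction x using Polynomial.induction_on' with
  | add p p' h1 h2 => exact (exists_sum_smul (R' := R) ι P h1 h2).1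
  | monomial d a =>
    rw [← Polynomial.C_mul_X_pow_eq_monomial]
    induction d with
    | zero => rw [pow_zero, mul_one]; exact hC a
    | succ d ih =>
      rw [pow_succ, ← mul_assoc]
      exact (exists_sum_smul (R' := R) ι P ih hX).2

theorem frac_generated {R C S B : Type u} [CommRing R] [CommRing C] [CommRing S] [CommRing B]
    [Algebra R C] [Algebra R (Polynomial (Polynomial B))] [Algebra S B]
    (ι : C →ₐ[R] Polynomial (Polynomial B)) (P : Ideal C) [P.IsPrime]
    {n : ℕ} (ρ : MvPolynomial (Fin n) S →ₐ[S] B) (hρ : Function.Surjective ρ)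
    (hc : ∀ c, ∃ w, w ∉ P ∧ ∃ e, ι w * Polynomial.C (Polynomial.C (algebraMap S B c)) = ι e)
    (hy : ∀ j, ∃ w, w ∉ P ∧ ∃ e, ι w * Polynomial.C (Polynomial.C (ρ (X j))) = ι e) (b : B) :
    ∃ w, w ∉ P ∧ ∃ e, ι w * Polynomial.C (Polynomial.C b) = ι e := by
  obtain ⟨p, rfl⟩ := hρ b
  induction p using MvPolynomial.induction_on with
  | C c => rw [MvPolynomial.algHom_C]; exact hc c
  | add p p' h1 h2 => rw [map_add, map_add, map_add]; exact (exists_sum_smul (R' := R) ι P h1 h2).1
  | mul_X p j h1 => rw [map_mul, map_mul, map_mul]; exact (exists_sum_smul (R' := R) ι P h1 (hy j)).2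

theorem frac_polynomial₂ {R C B : Type u} [CommRing R] [CommRing C] [CommRing B] [Algebra R C]
    [Algebra R (Polynomial (Polynomial B))] (ι : C →ₐ[R] Polynomial (Polynomial B)) (P : Ideal C) [P.IsPrime]
    (hC : ∀ b, ∃ w, w ∉ P ∧ ∃ e, ι w * Polynomial.C (Polynomial.C b) = ι e)
    (hX₁ : ∃ w, w ∉ P ∧ ∃ e, ι w * Polynomial.C Polynomial.X = ι e)
    (hX : ∃ w, w ∉ P ∧ ∃ e, ι w * Polynomial.X = ι e) (x : Polynomial (Polynomial B)) :
    ∃ w, w ∉ P ∧ ∃ e, ι w * x = ι e := by
  refine frac_polynomial ι P (fun p => ?_) hX x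
  induction p using Polynomial.induction_on' with
  | add p p' h1 h2 => rw [map_add]; exact (exists_sum_smul (R' := R) ι P h1 h2).1
  | monomial d a =>
    rw [← Polynomial.C_mul_X_pow_eq_monomial]
    induction d with
    | zero => rw [pow_zero, mul_one]; exact hC a
    | succ d ih =>
      rw [pow_succ, ← mul_assoc, map_mul]
      exact (exists_sum_smul (R' := R) ι P ih hX₁).2

theorem isSmoothAt_of_birational₂ {R R' C B : Type u} [CommRing R] [CommRing R'] [Algebra R R']
    [Algebra.FormallyEtale R R'] [CommRing C] [Algebra R C] [CommRing B]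
    [Algebra R' (Polynomial (Polynomial B))] [Algebra R (Polynomial (Polynomial B))]
    [IsScalarTower R R' (Polynomial (Polynomial B))] [Algebra.FormallySmooth R' (Polynomial (Polynomial B))]
    (ι : C →ₐ[R] Polynomial (Polynomial B)) (Q : Ideal (Polynomial (Polynomial B))) [Q.IsPrime]
    (P : Ideal C) [P.IsPrime] (hP : ∀ x, x ∈ P ↔ ι x ∈ Q)
    (hker : ∀ x, ι x = 0 → ∃ w, w ∉ P ∧ w * x = 0)
    (hfrac : ∀ l, ∃ w, w ∉ P ∧ ∃ e, ι w * l = ι e) : Algebra.IsSmoothAt R P :=
  isSmoothAt_of_birational (R' := R') ι Q P hP hker hfrac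

set_option maxHeartbeats 1000000 in
theorem exists_descend_at_prime {R A Λ Rₚ Λq : Type u} [CommRing R] [IsNoetherianRing R] [CommRing A]
    [Algebra R A] [Algebra.FinitePresentation R A] [CommRing Λ] [Algebra R Λ] (φ : A →ₐ[R] Λ)
    (𝔮 : Ideal Λ) [𝔮.IsPrime] [CommRing Rₚ] [Algebra R Rₚ]
    [IsLocalization.AtPrime Rₚ (𝔮.comap (algebraMap R Λ))]
    [CommRing Λq] [Algebra Λ Λq] [IsLocalization.AtPrime Λq 𝔮] [Algebra R Λq] [IsScalarTower R Λ Λq]
    [Algebra Rₚ Λq] [IsScalarTower R Rₚ Λq]
    (hres : Smoothing.Resolvable Rₚ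
      (Algebra.TensorProduct.lift (Algebra.ofId Rₚ Λq) ((IsScalarTower.toAlgHom R Λ Λq).comp φ)
        (fun _ _ => Commute.all _ _) : Rₚ ⊗[R] A →ₐ[Rₚ] Λq) (𝔮.map (algebraMap Λ Λq))) :
    ∃ (C : Type u) (_ : CommRing C) (_ : Algebra R C), Algebra.FinitePresentation R C ∧
      ∃ (g : A →ₐ[R] C) (h : C →ₐ[R] Λ), h.comp g = φ ∧
        ¬ (Smoothing.singularIdeal R C).map h ≤ 𝔮 := by
  classical
  obtain ⟨B', _, _, hB', g', h', hgh', -, hnot⟩ := hres
  let S := (𝔮.comap (algebraMap R Λ)).primeCompl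
  haveI : IsLocalRing Λq := IsLocalization.AtPrime.isLocalRing Λq 𝔮
  have hmax : 𝔮.map (algebraMap Λ Λq) = IsLocalRing.maximalIdeal Λq :=
    IsLocalization.AtPrime.map_eq_maximalIdeal 𝔮 Λq
  haveI := hB'
  obtain ⟨b, hb, hbu⟩ : ∃ b ∈ Smoothing.singularIdeal Rₚ B', IsUnit (h' b) := by
    by_contra hne
    refine hnot ?_
    rw [hmax, Smoothing.singRad]
    refine (IsLocalRing.maximalIdeal.isMaximal Λq).isPrime.radical_le_iff.2 (Ideal.map_le_iff_le_comap.2 fun x hx => ?_)
    exact fun hu => hne ⟨x, hx, hu⟩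
  haveI : Algebra.Smooth Rₚ (Localization.Away b) := smooth_away_of_mem_singularIdeal hb
  let B := Localization.Away b
  let hB : B →+* Λq := IsLocalization.Away.lift b (g := h'.toRingHom) hbu
  have hBb : ∀ x, hB (algebraMap B' B x) = h' x := IsLocalization.Away.lift_eq b (g := h'.toRingHom) hbu
  have hBr : ∀ r : Rₚ, hB (algebraMap Rₚ B r) = algebraMap Rₚ Λq r := fun r => by
    rw [IsScalarTower.algebraMap_apply Rₚ B' B, hBb, h'.commutes]
  -- generators
  obtain ⟨k, π, hπ, hπfg⟩ := Algebra.FinitePresentation.out (R := R) (A := A)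
  obtain ⟨l, r, hr⟩ := Submodule.fg_iff_exists_fin_generating_family.1 hπfg
  obtain ⟨n, ρ, hρ, -⟩ := Algebra.FinitePresentation.out (R := Rₚ) (A := B)
  obtain ⟨⟨σ, hσ⟩, hσl⟩ := IsLocalization.exist_integer_multiples 𝔮.primeCompl Finset.univ
    (fun j : Fin n => hB (ρ (X j)))
  choose lam hlam using fun j => hσl j (Finset.mem_univ j)
  letI : Algebra R B := Algebra.compHom B (algebraMap R Rₚ)
  haveI : IsScalarTower R Rₚ B := IsScalarTower.of_algebraMap_eq fun _ => rfl
  let gx : A → B := fun a => algebraMap B' B (g' ((1 : Rₚ) ⊗ₜ[R] a))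
  let gA : A →ₐ[R] B :=
    { ((algebraMap B' B).comp g'.toRingHom).comp
        (Algebra.TensorProduct.includeRight : A →ₐ[R] Rₚ ⊗[R] A).toRingHom with
      commutes' := fun s => by
        change algebraMap B' B (g' ((1 : Rₚ) ⊗ₜ[R] algebraMap R A s)) = algebraMap Rₚ B (algebraMap R Rₚ s)
        rw [← Algebra.TensorProduct.includeRight_apply, AlgHom.commutes,
          IsScalarTower.algebraMap_apply R Rₚ (Rₚ ⊗[R] A), g'.commutes, ← IsScalarTower.algebraMap_apply] }
  have hgA : ∀ a, hB (gA a) = algebraMap Λ Λq (φ a) := fun a => by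
    change hB (algebraMap B' B (g' ((1 : Rₚ) ⊗ₜ[R] a))) = _
    rw [hBb, ← AlgHom.comp_apply h' g', hgh']
    simp
  let gen : Fin k ⊕ Fin n ⊕ Unit → Polynomial B :=
    Sum.elim (fun i => Polynomial.C (gA (π (X i))))
      (Sum.elim (fun j => Polynomial.C (ρ (X j)) * Polynomial.X) (fun _ => Polynomial.X))
  let ev₁ : (MvPolynomial (Fin k ⊕ Fin n ⊕ Unit) R) →ₐ[R] Polynomial B := MvPolynomial.aeval gen
  let ev : (MvPolynomial (Fin k ⊕ Fin n ⊕ Unit) R) →ₐ[R] Λ := MvPolynomial.aeval (Sum.elim (fun i => φ (π (X i))) (Sum.elim lam fun _ => σ))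
  let hT : Polynomial B →+* Λq := Polynomial.eval₂RingHom hB (algebraMap Λ Λq σ)
  have hev₁X : ∀ v, ev₁ (X v) = gen v := fun v => MvPolynomial.aeval_X gen v
  have hevX : ∀ v, ev (X v) = Sum.elim (fun i => φ (π (X i))) (Sum.elim lam fun _ => σ) v :=
    fun v => MvPolynomial.aeval_X _ v
  have hcomp : ∀ p, hT (ev₁ p) = algebraMap Λ Λq (ev p) := fun p => by
    have : hT.comp ev₁.toRingHom = (algebraMap Λ Λq).comp ev.toRingHom := by
      refine MvPolynomial.ringHom_ext (fun s => ?_) (fun i => ?_)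
      · change hT (ev₁ (C s)) = algebraMap Λ Λq (ev (C s))
        rw [MvPolynomial.algHom_C, MvPolynomial.algHom_C, ← IsScalarTower.algebraMap_apply,
          IsScalarTower.algebraMap_apply R B (Polynomial B), Polynomial.algebraMap_eq,
          Polynomial.coe_eval₂RingHom, Polynomial.eval₂_C]
        change hB (algebraMap Rₚ B (algebraMap R Rₚ s)) = _
        rw [hBr, ← IsScalarTower.algebraMap_apply]
      · change hT (ev₁ (X i)) = algebraMap Λ Λq (ev (X i))
        rcases i with i | j | u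
        · rw [hev₁X, hevX]
          simp [gen, hT, hgA]
        · rw [hev₁X, hevX]
          simp only [gen, Sum.elim_inr, Sum.elim_inl, hT, Polynomial.coe_eval₂RingHom,
            Polynomial.eval₂_mul, Polynomial.eval₂_C, Polynomial.eval₂_X]
          rw [hlam j, Algebra.smul_def, mul_comm]
        · rw [hev₁X, hevX]
          simp [gen, hT]
    exact RingHom.congr_fun this p
  obtain ⟨N, q, hq⟩ := Submodule.fg_iff_exists_fin_generating_family.1
    (IsNoetherian.noetherian (RingHom.ker ev₁.toRingHom) : (RingHom.ker ev₁.toRingHom).FG)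
  have hqz : ∀ i, ev₁ (q i) = 0 := fun i => by
    have : q i ∈ RingHom.ker ev₁.toRingHom := hq ▸ Submodule.subset_span ⟨i, rfl⟩
    exact this
  have hkill : ∀ i, ∃ t ∈ 𝔮.primeCompl, t * ev (q i) = 0 := fun i => by
    obtain ⟨⟨t, ht⟩, h⟩ := (IsLocalization.map_eq_zero_iff 𝔮.primeCompl Λq (ev (q i))).1
      (by rw [← hcomp, hqz, map_zero])
    exact ⟨t, ht, h⟩
  choose t ht ht0 using hkill
  let τ : Λ := ∏ i, t i
  have hτ : τ ∈ 𝔮.primeCompl := prod_mem fun i _ => ht i
  have hτ0 : ∀ i, τ * ev (q i) = 0 := fun i => by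
    simp only [τ]
    rw [← Finset.prod_erase_mul _ _ (Finset.mem_univ i), mul_assoc, ht0, mul_zero]
  let incX : MvPolynomial (Fin k) R →ₐ[R] (MvPolynomial (Fin k ⊕ Fin n ⊕ Unit) R) := rename Sum.inl
  let rels : Fin l ⊕ Fin N → (Polynomial (MvPolynomial (Fin k ⊕ Fin n ⊕ Unit) R)) := Sum.elim (fun i => Polynomial.C (incX (r i))) (fun i => Polynomial.X * Polynomial.C (q i))
  let C' := (Polynomial (MvPolynomial (Fin k ⊕ Fin n ⊕ Unit) R)) ⧸ Ideal.span (Set.range rels)
  letI instC' : CommRing C' := Ideal.Quotient.commRing _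
  letI : Algebra R C' := Ideal.instAlgebraQuotient R _
  have hev₁x : ∀ p, ev₁ (incX p) = Polynomial.C (gA (π p)) := fun p => by
    have : ev₁.comp incX = ((IsScalarTower.toAlgHom R B (Polynomial B)).comp gA).comp π :=
      MvPolynomial.algHom_ext fun i => by
        change ev₁ (incX (X i)) = _
        rw [show incX (X i) = (X (Sum.inl i) : (MvPolynomial (Fin k ⊕ Fin n ⊕ Unit) R)) from MvPolynomial.rename_X _ _, hev₁X]
        rfl
    exact AlgHom.congr_fun this p
  have hevx : ∀ p, ev (incX p) = φ (π p) := fun p => by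
    have : ev.comp incX = φ.comp π := MvPolynomial.algHom_ext fun i => by
        change ev (incX (X i)) = _
        rw [show incX (X i) = (X (Sum.inl i) : (MvPolynomial (Fin k ⊕ Fin n ⊕ Unit) R)) from MvPolynomial.rename_X _ _, hevX]
        rfl
    exact AlgHom.congr_fun this p
  have hrz : ∀ i, π (r i) = 0 := fun i => by
    have : r i ∈ RingHom.ker π.toRingHom := hr ▸ Submodule.subset_span ⟨i, rfl⟩
    exact this
  let ιP : (Polynomial (MvPolynomial (Fin k ⊕ Fin n ⊕ Unit) R)) →ₐ[R] (Polynomial (Polynomial B)) := Polynomial.mapAlgHom ev₁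
  let hP : (Polynomial (MvPolynomial (Fin k ⊕ Fin n ⊕ Unit) R)) →ₐ[R] Λ :=
    { Polynomial.eval₂RingHom ev.toRingHom τ with
      commutes' := fun s => by
        change Polynomial.eval₂RingHom ev.toRingHom τ (algebraMap R (Polynomial (MvPolynomial (Fin k ⊕ Fin n ⊕ Unit) R)) s) = _
        rw [IsScalarTower.algebraMap_apply R (MvPolynomial (Fin k ⊕ Fin n ⊕ Unit) R) (Polynomial (MvPolynomial (Fin k ⊕ Fin n ⊕ Unit) R)), Polynomial.algebraMap_eq, Polynomial.coe_eval₂RingHom,
          Polynomial.eval₂_C]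
        exact ev.commutes s }
  have hrelι : Ideal.span (Set.range rels) ≤ RingHom.ker ιP.toRingHom := Ideal.span_le.2 (by
    rintro _ ⟨i | i, rfl⟩ <;> change ιP _ = 0
    · simp [rels, ιP, hev₁x, hrz, Polynomial.coe_mapAlgHom]
    · simp [rels, ιP, hqz, Polynomial.coe_mapAlgHom])
  have hrelh : Ideal.span (Set.range rels) ≤ RingHom.ker hP.toRingHom := Ideal.span_le.2 (by
    rintro _ ⟨i | i, rfl⟩
    · change Polynomial.eval₂RingHom ev.toRingHom τ (Polynomial.C (incX (r i))) = 0
      simp [hevx, hrz]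
    · change Polynomial.eval₂RingHom ev.toRingHom τ (Polynomial.X * Polynomial.C (q i)) = 0
      simp [hτ0, mul_comm _ τ])
  let ι : C' →ₐ[R] (Polynomial (Polynomial B)) := Ideal.Quotient.liftₐ _ ιP fun x hx => hrelι hx
  let h : C' →ₐ[R] Λ := Ideal.Quotient.liftₐ _ hP fun x hx => hrelh hx
  let πq : (Polynomial (MvPolynomial (Fin k ⊕ Fin n ⊕ Unit) R)) →ₐ[R] C' := Ideal.Quotient.mkₐ R _
  let g₀ : MvPolynomial (Fin k) R →ₐ[R] C' := πq.comp ((IsScalarTower.toAlgHom R (MvPolynomial (Fin k ⊕ Fin n ⊕ Unit) R) (Polynomial (MvPolynomial (Fin k ⊕ Fin n ⊕ Unit) R))).comp incX)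
  have hg₀ : ∀ p, π p = 0 → g₀ p = 0 := fun p hp => by
    have hp' : p ∈ Ideal.span (Set.range r) := (SetLike.ext_iff.1 hr p).2 hp
    have hle : Ideal.span (Set.range r) ≤ RingHom.ker g₀.toRingHom := Ideal.span_le.2 (by
      rintro _ ⟨i, rfl⟩
      exact Ideal.Quotient.eq_zero_iff_mem.2 (Ideal.subset_span ⟨Sum.inl i, rfl⟩))
    exact hle hp'
  let g : A →ₐ[R] C' := AlgHom.liftOfSurjective (C := C') π hπ g₀ fun p hp => RingHom.mem_ker.2 (hg₀ p (RingHom.mem_ker.1 hp))
  have hgφ : h.comp g = φ := AlgHom.ext fun a => by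
    obtain ⟨p, rfl⟩ := hπ a
    rw [AlgHom.comp_apply]
    refine Eq.trans (congrArg h (AlgHom.liftOfSurjective_apply π hπ _ _ p)) ?_
    change Polynomial.eval₂RingHom ev.toRingHom τ (Polynomial.C (incX p)) = _
    simp [hevx]
  haveI : Algebra.FinitePresentation R (Polynomial (MvPolynomial (Fin k ⊕ Fin n ⊕ Unit) R)) := inferInstance
  haveI hC : Algebra.FinitePresentation R C' :=
    Algebra.FinitePresentation.quotient (Submodule.fg_span (Set.finite_range rels))
  refine ⟨C', inferInstance, inferInstance, hC, g, h, hgφ, fun hle => ?_⟩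
  let P := 𝔮.comap h.toRingHom
  let hL : (Polynomial (Polynomial B)) →+* Λq := Polynomial.eval₂RingHom hT (algebraMap Λ Λq τ)
  let Q := (IsLocalRing.maximalIdeal Λq).comap hL
  have hιh : ∀ x, hL (ι x) = algebraMap Λ Λq (h x) := fun x => by
    obtain ⟨x, rfl⟩ := Ideal.Quotient.mk_surjective x
    have : hL.comp ιP.toRingHom = (algebraMap Λ Λq).comp hP.toRingHom := by
      refine Polynomial.ringHom_ext (fun s => ?_) ?_
      · change hL (ιP (Polynomial.C s)) = algebraMap Λ Λq (Polynomial.eval₂RingHom ev.toRingHom τ (Polynomial.C s))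
        simp [hL, ιP, hcomp]
      · change hL (ιP Polynomial.X) = algebraMap Λ Λq (Polynomial.eval₂RingHom ev.toRingHom τ Polynomial.X)
        simp [hL, ιP]
    exact RingHom.congr_fun this x
  have hPQ : ∀ x, x ∈ P ↔ ι x ∈ Q := fun x => by
    change h x ∈ 𝔮 ↔ hL (ι x) ∈ IsLocalRing.maximalIdeal Λq
    rw [hιh, IsLocalization.AtPrime.to_map_mem_maximal_iff Λq 𝔮]
  have hX : πq Polynomial.X ∉ P := fun hm => by
    change Polynomial.eval₂RingHom ev.toRingHom τ Polynomial.X ∈ 𝔮 at hm
    rw [Polynomial.coe_eval₂RingHom, Polynomial.eval₂_X] at hm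
    exact hτ hm
  have hker : ∀ x, ι x = 0 → ∃ w, w ∉ P ∧ w * x = 0 := fun x hx => by
    obtain ⟨x, rfl⟩ := Ideal.Quotient.mk_surjective x
    refine ⟨_, hX, ?_⟩
    change πq Polynomial.X * πq x = 0
    rw [← map_mul]
    refine Ideal.Quotient.eq_zero_iff_mem.2 ?_
    have hx' : x ∈ (RingHom.ker ev₁.toRingHom).map (Polynomial.C : (MvPolynomial (Fin k ⊕ Fin n ⊕ Unit) R) →+* (Polynomial (MvPolynomial (Fin k ⊕ Fin n ⊕ Unit) R))) := by
      rw [Ideal.mem_map_C_iff]
      intro i
      have := congrArg (fun p => Polynomial.coeff p i) (show ιP x = 0 from hx)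
      simp [ιP, Polynomial.coeff_map] at this
      exact this
    have hle' : (RingHom.ker ev₁.toRingHom).map (Polynomial.C : (MvPolynomial (Fin k ⊕ Fin n ⊕ Unit) R) →+* (Polynomial (MvPolynomial (Fin k ⊕ Fin n ⊕ Unit) R))) ≤ Ideal.span (Set.range fun i => Polynomial.C (q i)) := by
      rw [show RingHom.ker ev₁.toRingHom = Ideal.span (Set.range q) from hq.symm, Ideal.map_span, ← Set.range_comp]
      exact le_rfl
    obtain ⟨c, rfl⟩ := Ideal.mem_span_range_iff_exists_fun.1 (hle' hx')
    rw [Finset.mul_sum]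
    refine Ideal.sum_mem _ fun i _ => ?_
    rw [mul_left_comm]
    exact Ideal.mul_mem_left _ _ (Ideal.subset_span ⟨Sum.inr i, rfl⟩)
  -- the fractions
  have hok : ∀ e, ∃ w, w ∉ P ∧ ∃ e', ι w * ι e = ι e' := fun e =>
    ⟨1, fun h1 => (inferInstance : P.IsPrime).ne_top ((Ideal.eq_top_iff_one P).2 h1), e, by rw [map_one, one_mul]⟩
  have hconst : ∀ c : Rₚ, ∃ w, w ∉ P ∧ ∃ e, ι w * Polynomial.C (Polynomial.C (algebraMap Rₚ B c)) = ι e := fun c => by
    obtain ⟨⟨c₀, ⟨s, hs⟩⟩, hcs⟩ := IsLocalization.surj (𝔮.comap (algebraMap R Λ)).primeCompl c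
    refine ⟨algebraMap R C' s, fun hm => hs ?_, algebraMap R C' c₀, ?_⟩
    · change h (algebraMap R C' s) ∈ 𝔮 at hm
      rwa [h.commutes] at hm
    · have hι : ∀ x : R, algebraMap R (Polynomial (Polynomial B)) x = Polynomial.C (Polynomial.C (algebraMap Rₚ B (algebraMap R Rₚ x))) :=
        fun x => rfl
      rw [ι.commutes, ι.commutes, hι, hι, ← map_mul, ← map_mul, ← map_mul, mul_comm, hcs]
  have hιmk : ∀ x, ι (Ideal.Quotient.mk _ x) = ιP x := fun x => rfl
  have hvar : ∀ v, ι (πq (Polynomial.C (X v : (MvPolynomial (Fin k ⊕ Fin n ⊕ Unit) R)))) = Polynomial.C (gen v) := fun v => by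
    change ιP (Polynomial.C (X v : (MvPolynomial (Fin k ⊕ Fin n ⊕ Unit) R))) = _
    simp [ιP, ev₁]
  have hz : πq (Polynomial.C (X (Sum.inr (Sum.inr ())) : (MvPolynomial (Fin k ⊕ Fin n ⊕ Unit) R))) ∉ P := fun hm => by
    change Polynomial.eval₂RingHom ev.toRingHom τ (Polynomial.C (X (Sum.inr (Sum.inr ())) : (MvPolynomial (Fin k ⊕ Fin n ⊕ Unit) R))) ∈ 𝔮 at hm
    rw [Polynomial.coe_eval₂RingHom, Polynomial.eval₂_C] at hm
    change ev (X (Sum.inr (Sum.inr ()))) ∈ 𝔮 at hm
    rw [hevX] at hm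
    exact hσ hm
  have hy : ∀ j, ∃ w, w ∉ P ∧ ∃ e, ι w * Polynomial.C (Polynomial.C (ρ (X j))) = ι e := fun j =>
    ⟨_, hz, πq (Polynomial.C (X (Sum.inr (Sum.inl j)) : (MvPolynomial (Fin k ⊕ Fin n ⊕ Unit) R))), by
      rw [hvar, hvar, ← map_mul]; simp only [gen, Sum.elim_inr, Sum.elim_inl]; rw [mul_comm]⟩
  have hB0 : ∀ x : B, ∃ w, w ∉ P ∧ ∃ e, ι w * Polynomial.C (Polynomial.C x) = ι e :=
    frac_generated (C := C') ι P ρ hρ hconst hy
  have hfrac : ∀ x, ∃ w, w ∉ P ∧ ∃ e, ι w * x = ι e := by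
    refine frac_polynomial₂ (C := C') ι P hB0 ?_ ?_
    · have := hok (πq (Polynomial.C (X (Sum.inr (Sum.inr ())) : (MvPolynomial (Fin k ⊕ Fin n ⊕ Unit) R))))
      rwa [hvar] at this
    · have := hok (πq Polynomial.X)
      rwa [show ι (πq Polynomial.X) = (Polynomial.X : Polynomial (Polynomial B)) by change ιP Polynomial.X = _; simp [ιP]] at this
  haveI : Algebra.FormallyEtale R Rₚ := Algebra.FormallyEtale.of_isLocalization (𝔮.comap (algebraMap R Λ)).primeCompl
  haveI : Algebra.FormallySmooth Rₚ B := inferInstance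
  haveI : Algebra.FormallySmooth Rₚ (Polynomial B) := Algebra.FormallySmooth.comp Rₚ B (Polynomial B)
  haveI : Algebra.FormallySmooth Rₚ (Polynomial (Polynomial B)) := Algebra.FormallySmooth.comp Rₚ (Polynomial B) (Polynomial (Polynomial B))
  haveI : Algebra.IsSmoothAt R P := isSmoothAt_of_birational₂ (R' := Rₚ) (C := C') ι Q P hPQ hker hfrac
  obtain ⟨a, ha, haP⟩ := not_singularIdeal_le (R := R) P
  exact haP (hle (Ideal.mem_map_of_mem h ha))

set_option maxHeartbeats 1000000 in
theorem resolvable_of_descend {R A Λ : Type u} [CommRing R] [IsNoetherianRing R] [CommRing A]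
    [Algebra R A] [Algebra.FinitePresentation R A] [CommRing Λ] [Algebra R Λ] (φ : A →ₐ[R] Λ)
    (𝔮 : Ideal Λ) [𝔮.IsPrime]
    (hnil : ∀ x ∈ Smoothing.singularIdeal R A, ∃ (N : ℕ) (t : Λ), t ∉ 𝔮 ∧ t * φ x ^ N = 0)
    (C : Type u) [CommRing C] [Algebra R C] [Algebra.FinitePresentation R C] (g : A →ₐ[R] C) (h : C →ₐ[R] Λ)
    (hgh : h.comp g = φ) (hnot : ¬ (Smoothing.singularIdeal R C).map h ≤ 𝔮) :
    Smoothing.Resolvable R φ 𝔮 := by
  classical
  letI : Algebra A C := g.toRingHom.toAlgebra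
  haveI : IsScalarTower R A C := IsScalarTower.of_algebraMap_eq fun x => (g.commutes x).symm
  haveI : Algebra.FinitePresentation A C := Algebra.FinitePresentation.of_restrict_scalars_finitePresentation R A C
  obtain ⟨n, π, hπ, hπfg⟩ := Algebra.FinitePresentation.out (R := A) (A := C)
  obtain ⟨m, f, hf⟩ := Submodule.fg_iff_exists_fin_generating_family.1 hπfg
  haveI : IsNoetherianRing A := Algebra.FiniteType.isNoetherianRing R A
  obtain ⟨ra, a, ha⟩ := Submodule.fg_iff_exists_fin_generating_family.1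
    (IsNoetherian.noetherian (Smoothing.singularIdeal R A) : (Smoothing.singularIdeal R A).FG)
  have hamem : ∀ i, a i ∈ Smoothing.singularIdeal R A := fun i => ha ▸ Submodule.subset_span ⟨i, rfl⟩
  choose Ni ti hti hti0 using fun i => hnil (a i) (hamem i)
  let lam : Λ := ∏ i, ti i
  have hlam : lam ∉ 𝔮 := (𝔮.primeCompl.prod_mem (t := Finset.univ) fun i _ => hti i : lam ∈ 𝔮.primeCompl)
  have hlam0 : ∀ i, lam * φ (a i) ^ Ni i = 0 := fun i => by
    simp only [lam]
    rw [← Finset.prod_erase_mul _ _ (Finset.mem_univ i), mul_assoc, hti0, mul_zero]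
  let incY : MvPolynomial (Fin n) A →ₐ[A] (MvPolynomial (Fin n ⊕ Fin ra) A) := rename Sum.inl
  let rels : Fin m ⊕ Fin ra → (Polynomial (MvPolynomial (Fin n ⊕ Fin ra) A)) :=
    Sum.elim (fun l => Polynomial.X * Polynomial.C (incY (f l))) (fun i => Polynomial.X * Polynomial.C (X (Sum.inr i)))
  let D := (Polynomial (MvPolynomial (Fin n ⊕ Fin ra) A)) ⧸ Ideal.span (Set.range rels)
  letI instD : CommRing D := Ideal.Quotient.commRing _
  letI : Algebra A D := Ideal.instAlgebraQuotient A _
  letI : Algebra R D := Ideal.instAlgebraQuotient R _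
  let πq : (Polynomial (MvPolynomial (Fin n ⊕ Fin ra) A)) →ₐ[A] D := Ideal.Quotient.mkₐ A _
  letI : Algebra A Λ := φ.toRingHom.toAlgebra
  haveI : IsScalarTower R A Λ := IsScalarTower.of_algebraMap_eq fun x => (φ.commutes x).symm
  let hC : C →ₐ[A] Λ := { h.toRingHom with commutes' := fun x => AlgHom.congr_fun hgh x }
  let ev : (MvPolynomial (Fin n ⊕ Fin ra) A) →ₐ[A] Λ := aeval (Sum.elim (fun j => hC (π (X j))) fun i => φ (a i) ^ Ni i)
  let hP : (Polynomial (MvPolynomial (Fin n ⊕ Fin ra) A)) →+* Λ := Polynomial.eval₂RingHom ev.toRingHom lam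
  have hevY : ∀ p, ev (incY p) = hC (π p) := fun p => by
    have : ev.comp incY = hC.comp π := MvPolynomial.algHom_ext fun i => by simp [ev, incY]
    exact AlgHom.congr_fun this p
  have hfz : ∀ l, π (f l) = 0 := fun l => by
    have : f l ∈ RingHom.ker π.toRingHom := hf ▸ Submodule.subset_span ⟨l, rfl⟩
    exact this
  have hrelh : Ideal.span (Set.range rels) ≤ RingHom.ker hP := Ideal.span_le.2 (by
    rintro _ ⟨l | i, rfl⟩
    · change hP (Polynomial.X * Polynomial.C (incY (f l))) = 0
      simp [hP, hevY, hfz]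
    · change hP (Polynomial.X * Polynomial.C (X (Sum.inr i) : (MvPolynomial (Fin n ⊕ Fin ra) A))) = 0
      simp [hP, ev, hlam0, mul_comm _ lam])
  let hD : D →ₐ[R] Λ :=
    { Ideal.Quotient.lift _ hP (fun x hx => hrelh hx) with
      commutes' := fun x => by
        change hP (algebraMap R (Polynomial (MvPolynomial (Fin n ⊕ Fin ra) A)) x) = _
        rw [IsScalarTower.algebraMap_apply R A (Polynomial (MvPolynomial (Fin n ⊕ Fin ra) A)), IsScalarTower.algebraMap_apply A (MvPolynomial (Fin n ⊕ Fin ra) A) (Polynomial (MvPolynomial (Fin n ⊕ Fin ra) A)), Polynomial.algebraMap_eq]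
        simp only [hP, Polynomial.coe_eval₂RingHom, Polynomial.eval₂_C]
        change ev (algebraMap A (MvPolynomial (Fin n ⊕ Fin ra) A) (algebraMap R A x)) = _
        rw [ev.commutes, ← IsScalarTower.algebraMap_apply] }
  have hDA : ∀ x : A, hD (algebraMap A D x) = φ x := fun x => by
    rw [show algebraMap A D x = πq (algebraMap A _ x) from (πq.commutes x).symm]
    change hP (algebraMap A (Polynomial (MvPolynomial (Fin n ⊕ Fin ra) A)) x) = _
    rw [IsScalarTower.algebraMap_apply A (MvPolynomial (Fin n ⊕ Fin ra) A) (Polynomial (MvPolynomial (Fin n ⊕ Fin ra) A)), Polynomial.algebraMap_eq]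
    simp only [hP, Polynomial.coe_eval₂RingHom, Polynomial.eval₂_C]
    exact ev.commutes x
  haveI : Algebra.FinitePresentation A D :=
    Algebra.FinitePresentation.quotient (Submodule.fg_span (Set.finite_range rels))
  haveI : Algebra.FinitePresentation R D := Algebra.FinitePresentation.trans R A D
  refine ⟨D, inferInstance, inferInstance, inferInstance, IsScalarTower.toAlgHom R A D, hD,
    AlgHom.ext fun x => hDA x, ?_, ?_⟩
  · -- the old smooth locus
    have hmem : ∀ i, algebraMap A D (a i) * πq (Polynomial.C (X (Sum.inr i))) ∈ Smoothing.singularIdeal R D := by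
      intro i
      let u : (MvPolynomial (Fin n ⊕ Fin ra) A) := algebraMap A (MvPolynomial (Fin n ⊕ Fin ra) A) (a i) * X (Sum.inr i)
      let L := Localization.Away u
      haveI : Algebra.Smooth R (Localization.Away (a i)) := smooth_away_of_mem_singularIdeal (hamem i)
      have hu : IsUnit (algebraMap (MvPolynomial (Fin n ⊕ Fin ra) A) L u) := IsLocalization.Away.algebraMap_isUnit u
      have hua : IsUnit (algebraMap A L (a i)) := by
        rw [IsScalarTower.algebraMap_apply A (MvPolynomial (Fin n ⊕ Fin ra) A) L]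
        rw [map_mul, IsUnit.mul_iff] at hu
        exact hu.1
      letI : Algebra (Localization.Away (a i)) L := (IsLocalization.Away.lift (a i) hua).toAlgebra
      haveI : IsScalarTower A (Localization.Away (a i)) L := IsScalarTower.of_algebraMap_eq fun x =>
        (IsLocalization.Away.lift_eq (a i) hua x).symm
      haveI : IsScalarTower R (Localization.Away (a i)) L := IsScalarTower.of_algebraMap_eq fun x => by
        rw [IsScalarTower.algebraMap_apply R A (Localization.Away (a i)), ← IsScalarTower.algebraMap_apply A (Localization.Away (a i)) L,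
          ← IsScalarTower.algebraMap_apply R A L]
      haveI : Algebra.FormallyEtale (MvPolynomial (Fin n ⊕ Fin ra) A) L := Algebra.FormallyEtale.of_isLocalization (.powers u)
      haveI : Algebra.FormallySmooth A L := Algebra.FormallySmooth.comp A (MvPolynomial (Fin n ⊕ Fin ra) A) L
      haveI : Algebra.FormallyEtale A (Localization.Away (a i)) := Algebra.FormallyEtale.of_isLocalization (.powers (a i))
      haveI : Algebra.FormallySmooth (Localization.Away (a i)) L := Algebra.FormallySmooth.of_restrictScalars A (Localization.Away (a i)) L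
      haveI : Algebra.FormallySmooth R L := Algebra.FormallySmooth.comp R (Localization.Away (a i)) L
      haveI : Algebra.FinitePresentation (MvPolynomial (Fin n ⊕ Fin ra) A) L := IsLocalization.Away.finitePresentation u
      haveI : Algebra.FinitePresentation A L := Algebra.FinitePresentation.trans A (MvPolynomial (Fin n ⊕ Fin ra) A) L
      haveI : Algebra.FinitePresentation R L := Algebra.FinitePresentation.trans R A L
      haveI hLs : Algebra.Smooth R L := ⟨inferInstance, inferInstance⟩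
      let dl := algebraMap A D (a i) * πq (Polynomial.C (X (Sum.inr i)))
      let ψ₀ : (Polynomial (MvPolynomial (Fin n ⊕ Fin ra) A)) →+* L := (algebraMap (MvPolynomial (Fin n ⊕ Fin ra) A) L).comp (Polynomial.eval₂RingHom (RingHom.id (MvPolynomial (Fin n ⊕ Fin ra) A)) 0)
      have hψrel : Ideal.span (Set.range rels) ≤ RingHom.ker ψ₀ := Ideal.span_le.2 (by
        rintro _ ⟨l | j, rfl⟩ <;> simp [ψ₀, rels])
      let ψ : D →+* L := Ideal.Quotient.lift _ ψ₀ fun x hx => hψrel hx
      have hψC : ∀ s, ψ (πq (Polynomial.C s)) = algebraMap (MvPolynomial (Fin n ⊕ Fin ra) A) L s := fun s => by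
        change ψ₀ (Polynomial.C s) = _; simp [ψ₀]
      have hψu : ψ dl = algebraMap (MvPolynomial (Fin n ⊕ Fin ra) A) L u := by
        simp only [dl, u, map_mul]
        rw [hψC]
        congr 1
        exact hψC (algebraMap A (MvPolynomial (Fin n ⊕ Fin ra) A) (a i))
      letI : Algebra D L := ψ.toAlgebra
      haveI : IsScalarTower R D L := IsScalarTower.of_algebraMap_eq fun x => by
        change _ = ψ₀ (algebraMap R (Polynomial (MvPolynomial (Fin n ⊕ Fin ra) A)) x)
        rw [IsScalarTower.algebraMap_apply R (MvPolynomial (Fin n ⊕ Fin ra) A) (Polynomial (MvPolynomial (Fin n ⊕ Fin ra) A)), Polynomial.algebraMap_eq]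
        simp only [ψ₀, RingHom.comp_apply, Polynomial.coe_eval₂RingHom, Polynomial.eval₂_C, RingHom.id_apply]
        rw [← IsScalarTower.algebraMap_apply]
      haveI : IsLocalization.Away dl L := by
        refine IsLocalization.Away.mk dl ?_ (fun z => ?_) (fun x y hxy => ?_)
        · rw [RingHom.algebraMap_toAlgebra, hψu]; exact hu
        · obtain ⟨k, s, hs⟩ := IsLocalization.Away.surj u z
          exact ⟨k, πq (Polynomial.C s), by rw [RingHom.algebraMap_toAlgebra, hψu, hψC]; exact hs⟩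
        · obtain ⟨x, rfl⟩ := Ideal.Quotient.mk_surjective x
          obtain ⟨y, rfl⟩ := Ideal.Quotient.mk_surjective y
          have hxy' : algebraMap (MvPolynomial (Fin n ⊕ Fin ra) A) L (Polynomial.eval₂RingHom (RingHom.id (MvPolynomial (Fin n ⊕ Fin ra) A)) 0 x) =
              algebraMap (MvPolynomial (Fin n ⊕ Fin ra) A) L (Polynomial.eval₂RingHom (RingHom.id (MvPolynomial (Fin n ⊕ Fin ra) A)) 0 y) := hxy
          obtain ⟨⟨_, k, rfl⟩, hk⟩ := (IsLocalization.eq_iff_exists (Submonoid.powers u) L).1 hxy'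
          refine ⟨k + 1, sub_eq_zero.1 ?_⟩
          have hdl : dl = πq (Polynomial.C u) := by
            simp only [dl, u, map_mul]; rfl
          rw [← mul_sub, hdl, ← map_pow]
          refine (map_mul πq _ (x - y)).symm.trans (Ideal.Quotient.eq_zero_iff_mem.2 ?_)
          obtain ⟨w, hw⟩ : Polynomial.X ∣ Polynomial.C (u ^ k) * (x - y) := by
            rw [Polynomial.X_dvd_iff, Polynomial.coeff_C_mul, Polynomial.coeff_sub, mul_sub, sub_eq_zero]
            have hk' : u ^ k * Polynomial.eval₂RingHom (RingHom.id (MvPolynomial (Fin n ⊕ Fin ra) A)) 0 x = u ^ k * Polynomial.eval₂RingHom (RingHom.id (MvPolynomial (Fin n ⊕ Fin ra) A)) 0 y := hk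
            simpa [Polynomial.eval₂_at_zero] using hk'
          rw [← map_pow Polynomial.C, pow_succ, map_mul, mul_right_comm, hw, map_mul Polynomial.C,
            show Polynomial.X * w * (Polynomial.C (algebraMap A (MvPolynomial (Fin n ⊕ Fin ra) A) (a i)) * Polynomial.C (X (Sum.inr i))) =
              (w * Polynomial.C (algebraMap A (MvPolynomial (Fin n ⊕ Fin ra) A) (a i))) * (Polynomial.X * Polynomial.C (X (Sum.inr i) : (MvPolynomial (Fin n ⊕ Fin ra) A))) by ring]
          exact Ideal.mul_mem_left _ _ (Ideal.subset_span ⟨Sum.inr i, rfl⟩)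
      refine mem_singularIdeal_of_smooth ?_
      let e : Localization.Away dl ≃ₐ[D] L := IsLocalization.algEquiv (.powers dl) _ _
      exact Algebra.Smooth.of_equiv (e.symm.restrictScalars R)
    refine Ideal.radical_le_radical_iff.2 ?_
    rw [← show Ideal.span (Set.range a) = Smoothing.singularIdeal R A from ha, Ideal.map_span, Ideal.span_le]
    rintro _ ⟨_, ⟨i, rfl⟩, rfl⟩
    refine ⟨Ni i + 1, ?_⟩
    have := Ideal.mem_map_of_mem hD (hmem i)
    rw [map_mul, hDA, show hD (πq (Polynomial.C (X (Sum.inr i) : (MvPolynomial (Fin n ⊕ Fin ra) A)))) = φ (a i) ^ Ni i from by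
      change hP (Polynomial.C (X (Sum.inr i) : (MvPolynomial (Fin n ⊕ Fin ra) A))) = _; simp [hP, ev], ← pow_succ'] at this
    exact this
  · -- the point `𝔮`
    intro hle
    obtain ⟨c, hc, hcq⟩ : ∃ c ∈ Smoothing.singularIdeal R C, h c ∉ 𝔮 := by
      by_contra hne
      exact hnot (Ideal.map_le_iff_le_comap.2 fun x hx => by
        by_contra hxq
        exact hne ⟨x, hx, hxq⟩)
    haveI : Algebra.Smooth R (Localization.Away c) := smooth_away_of_mem_singularIdeal hc
    let Cc := Localization.Away c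
    let ev₁ : (MvPolynomial (Fin n ⊕ Fin ra) A) →ₐ[A] Cc := aeval (Sum.elim (fun j => algebraMap C Cc (π (X j))) fun _ => 0)
    let ιP : (Polynomial (MvPolynomial (Fin n ⊕ Fin ra) A)) →+* (Polynomial Cc) := Polynomial.mapRingHom ev₁.toRingHom
    have hev₁Y : ∀ p, ev₁ (incY p) = algebraMap C Cc (π p) := fun p => by
      have : ev₁.comp incY = (IsScalarTower.toAlgHom A C Cc).comp π :=
        MvPolynomial.algHom_ext fun i => by simp [ev₁, incY]
      exact AlgHom.congr_fun this p
    have hrelι : Ideal.span (Set.range rels) ≤ RingHom.ker ιP := Ideal.span_le.2 (by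
      rintro _ ⟨l | i, rfl⟩
      · change ιP (Polynomial.X * Polynomial.C (incY (f l))) = 0
        simp [ιP, hev₁Y, hfz]
      · change ιP (Polynomial.X * Polynomial.C (X (Sum.inr i) : (MvPolynomial (Fin n ⊕ Fin ra) A))) = 0
        simp [ιP, ev₁])
    let ι : D →ₐ[R] (Polynomial Cc) :=
      { Ideal.Quotient.lift _ ιP (fun x hx => hrelι hx) with
        commutes' := fun x => by
          change ιP (algebraMap R (Polynomial (MvPolynomial (Fin n ⊕ Fin ra) A)) x) = _
          rw [IsScalarTower.algebraMap_apply R A (Polynomial (MvPolynomial (Fin n ⊕ Fin ra) A)), IsScalarTower.algebraMap_apply A (MvPolynomial (Fin n ⊕ Fin ra) A) (Polynomial (MvPolynomial (Fin n ⊕ Fin ra) A)), Polynomial.algebraMap_eq,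
            IsScalarTower.algebraMap_apply R Cc (Polynomial Cc), Polynomial.algebraMap_eq]
          simp only [ιP, Polynomial.coe_mapRingHom, Polynomial.map_C]
          refine congrArg Polynomial.C ?_
          change ev₁ (algebraMap A (MvPolynomial (Fin n ⊕ Fin ra) A) (algebraMap R A x)) = _
          rw [ev₁.commutes, ← IsScalarTower.algebraMap_apply] }
    let Λq := Localization.AtPrime 𝔮
    have hcu : IsUnit (((algebraMap Λ Λq).comp h.toRingHom) c) :=
      IsLocalization.map_units Λq (⟨h c, hcq⟩ : 𝔮.primeCompl)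
    let hcc : Cc →+* Λq := IsLocalization.Away.lift c hcu
    have hcc' : ∀ x, hcc (algebraMap C Cc x) = algebraMap Λ Λq (h x) := IsLocalization.Away.lift_eq c hcu
    let hL : (Polynomial Cc) →+* Λq := Polynomial.eval₂RingHom hcc (algebraMap Λ Λq lam)
    obtain ⟨c', hc'⟩ := hπ c
    let w : D := πq (Polynomial.X * Polynomial.C (incY c'))
    let P := 𝔮.comap hD.toRingHom
    have hwP : w ∉ P := fun hm => by
      change hP (Polynomial.X * Polynomial.C (incY c')) ∈ 𝔮 at hm
      simp [hP, hevY, hc'] at hm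
      exact (Ideal.IsPrime.mem_or_mem ‹_› hm).elim hcq hlam
    let Q := (IsLocalRing.maximalIdeal Λq).comap hL
    -- primes match away from the multiples of `a i ^ N`
    have hιh : ∀ x, hL (ι x) = algebraMap Λ Λq (hD x) := fun x => by
      obtain ⟨x, rfl⟩ := Ideal.Quotient.mk_surjective x
      have : hL.comp ιP = (algebraMap Λ Λq).comp hP := by
        refine Polynomial.ringHom_ext (fun s => ?_) ?_
        · simp only [RingHom.comp_apply, hL, ιP, hP, Polynomial.coe_mapRingHom, Polynomial.map_C,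
            Polynomial.coe_eval₂RingHom, Polynomial.eval₂_C]
          have h2 : hcc.comp ev₁.toRingHom = (algebraMap Λ Λq).comp ev.toRingHom := by
            refine MvPolynomial.ringHom_ext (fun x => ?_) (fun v => ?_)
            · change hcc (ev₁ (MvPolynomial.C x)) = algebraMap Λ Λq (ev (MvPolynomial.C x))
              rw [MvPolynomial.algHom_C, MvPolynomial.algHom_C, IsScalarTower.algebraMap_apply A C Cc, hcc']
              exact congrArg _ (AlgHom.congr_fun hgh x)
            · change hcc (ev₁ (X v)) = algebraMap Λ Λq (ev (X v))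
              rcases v with j | i
              · simp only [ev₁, ev, aeval_X, Sum.elim_inl, hcc']
                rfl
              · simp only [ev₁, ev, aeval_X, Sum.elim_inr, map_zero]
                exact ((IsLocalization.map_eq_zero_iff 𝔮.primeCompl Λq _).2 ⟨⟨lam, hlam⟩, hlam0 i⟩).symm
          exact RingHom.congr_fun h2 s
        · simp [hL, ιP, hP]
      exact RingHom.congr_fun this x
    have hPQ : ∀ x, x ∈ P ↔ ι x ∈ Q := fun x => by
      change hD x ∈ 𝔮 ↔ hL (ι x) ∈ IsLocalRing.maximalIdeal Λq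
      rw [hιh, IsLocalization.AtPrime.to_map_mem_maximal_iff Λq 𝔮]
    have hpow : ∀ k, w ^ k ∉ P := fun k => (P.primeCompl.pow_mem (hwP : w ∈ P.primeCompl) k)
    have hker : ∀ x, ι x = 0 → ∃ w', w' ∉ P ∧ w' * x = 0 := fun x hx => by
      obtain ⟨x, rfl⟩ := Ideal.Quotient.mk_surjective x
      -- each coefficient dies in `C` after multiplying by a power of `c`
      have hcoef : ∀ d, ∃ k, π (c' ^ k * aeval (Sum.elim (fun j => X j) fun _ => 0) (x.coeff d)) = 0 := fun d => by
        let ζ : (MvPolynomial (Fin n ⊕ Fin ra) A) →ₐ[A] MvPolynomial (Fin n) A := aeval (Sum.elim (fun j => X j) fun _ => 0)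
        have h1 := congrArg (fun p => Polynomial.coeff p d) (show ιP x = 0 from hx)
        simp only [ιP, Polynomial.coe_mapRingHom, Polynomial.coeff_map, Polynomial.coeff_zero] at h1
        have h2 : ev₁ = ((IsScalarTower.toAlgHom A C Cc).comp π).comp ζ :=
          MvPolynomial.algHom_ext fun v => by rcases v with j | i <;> simp [ev₁, ζ]
        have h3 : algebraMap C Cc (π (ζ (x.coeff d))) = 0 := (AlgHom.congr_fun h2 _).symm.trans h1
        obtain ⟨⟨_, k, rfl⟩, hk⟩ := (IsLocalization.map_eq_zero_iff (Submonoid.powers c) Cc _).1 h3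
        refine ⟨k, ?_⟩
        rw [map_mul, map_pow, hc']
        exact hk
      choose kd hkd using hcoef
      let K := ∑ d ∈ x.support, kd d
      refine ⟨w ^ (K + 1), hpow _, ?_⟩
      change (πq _) ^ (K + 1) * πq x = 0
      rw [← map_pow, ← map_mul]
      refine Ideal.Quotient.eq_zero_iff_mem.2 ?_
      have hI0 : ∀ p : (MvPolynomial (Fin n ⊕ Fin ra) A), ∀ kk, π (c' ^ kk * aeval (Sum.elim (fun j => X j) fun _ => 0) p) = 0 →
          Polynomial.X * Polynomial.C (incY c' ^ kk * p) ∈ Ideal.span (Set.range rels) := by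
        intro p kk hp
        let ζ : (MvPolynomial (Fin n ⊕ Fin ra) A) →ₐ[A] MvPolynomial (Fin n) A := aeval (Sum.elim (fun j => X j) fun _ => 0)
        let JM := Ideal.span (Set.range fun i : Fin ra => (X (Sum.inr i) : (MvPolynomial (Fin n ⊕ Fin ra) A)))
        have hJM : p - incY (ζ p) ∈ JM := by
          rw [← Ideal.Quotient.eq]
          have : (Ideal.Quotient.mkₐ A JM).comp (incY.comp ζ) = Ideal.Quotient.mkₐ A JM :=
            MvPolynomial.algHom_ext fun v => by
              rcases v with j | i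
              · simp [incY, ζ]
              · simp only [AlgHom.comp_apply, ζ, aeval_X, Sum.elim_inr, map_zero]
                exact (Ideal.Quotient.eq_zero_iff_mem.2 (Ideal.subset_span (Set.mem_range_self i))).symm
          exact (AlgHom.congr_fun this p).symm
        have hsplit : incY c' ^ kk * p = incY (c' ^ kk * ζ p) + incY c' ^ kk * (p - incY (ζ p)) := by
          rw [map_mul, map_pow]; ring
        rw [hsplit, map_add, mul_add]
        refine add_mem ?_ ?_
        · have hmem : c' ^ kk * ζ p ∈ Ideal.span (Set.range f) := (SetLike.ext_iff.1 hf _).2 hp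
          have := Ideal.mem_map_of_mem ((Polynomial.C : (MvPolynomial (Fin n ⊕ Fin ra) A) →+* (Polynomial (MvPolynomial (Fin n ⊕ Fin ra) A))).comp incY.toRingHom) hmem
          rw [Ideal.map_span, ← Set.range_comp] at this
          have hle2 : ∀ y ∈ Ideal.span (Set.range fun l => Polynomial.C (incY (f l))),
              Polynomial.X * y ∈ Ideal.span (Set.range rels) := fun y hy => by
            obtain ⟨e, rfl⟩ := Ideal.mem_span_range_iff_exists_fun.1 hy
            rw [Finset.mul_sum]
            refine Ideal.sum_mem _ fun l _ => ?_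
            rw [mul_left_comm]
            exact Ideal.mul_mem_left _ _ (Ideal.subset_span ⟨Sum.inl l, rfl⟩)
          exact hle2 _ this
        · obtain ⟨e, he⟩ := Ideal.mem_span_range_iff_exists_fun.1 hJM
          rw [← he, Finset.mul_sum, map_sum, Finset.mul_sum]
          refine Ideal.sum_mem _ fun i _ => ?_
          rw [← mul_assoc (incY c' ^ kk), map_mul, mul_left_comm]
          exact Ideal.mul_mem_left _ _ (Ideal.subset_span ⟨Sum.inr i, rfl⟩)
      rw [x.as_sum_support_C_mul_X_pow, Finset.mul_sum]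
      refine Ideal.sum_mem _ fun d hd => ?_
      have hk : kd d ≤ K := Finset.single_le_sum (fun _ _ => Nat.zero_le _) hd
      rw [show (Polynomial.X * Polynomial.C (incY c')) ^ (K + 1) * (Polynomial.C (x.coeff d) * Polynomial.X ^ d) =
          (Polynomial.X ^ (K + d) * Polynomial.C (incY c') ^ (K - kd d + 1)) *
            (Polynomial.X * Polynomial.C (incY c' ^ kd d * x.coeff d)) by
        have hsplit : incY c' ^ (K + 1) = incY c' ^ (K - kd d + 1) * incY c' ^ kd d := by
          rw [← pow_add]; congr 1; omega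
        rw [mul_pow, ← map_pow Polynomial.C, hsplit]
        simp only [map_mul, map_pow]
        ring]
      exact Ideal.mul_mem_left _ _ (hI0 _ _ (hkd d))
    have hok : ∀ e, ∃ w', w' ∉ P ∧ ∃ e', ι w' * ι e = ι e' := fun e =>
      ⟨1, fun h1 => (inferInstance : P.IsPrime).ne_top ((Ideal.eq_top_iff_one P).2 h1), e, by rw [map_one, one_mul]⟩
    have hιX : ι (πq Polynomial.X) = (Polynomial.X : (Polynomial Cc)) := by
      change ιP Polynomial.X = _; simp [ιP]
    have hCc : ∀ x : Cc, ∃ w', w' ∉ P ∧ ∃ e, ι w' * Polynomial.C x = ι e := fun x => by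
      obtain ⟨k, s, hs⟩ := IsLocalization.Away.surj c x
      obtain ⟨s', rfl⟩ := hπ s
      refine ⟨w ^ k, hpow k, πq (Polynomial.X ^ k * Polynomial.C (incY s')), ?_⟩
      rw [map_pow]
      change ιP (Polynomial.X * Polynomial.C (incY c')) ^ k * Polynomial.C x = ιP (Polynomial.X ^ k * Polynomial.C (incY s'))
      simp only [ιP, Polynomial.coe_mapRingHom, Polynomial.map_mul, Polynomial.map_X, Polynomial.map_C, Polynomial.map_pow]
      change (Polynomial.X * Polynomial.C (ev₁ (incY c'))) ^ k * Polynomial.C x = Polynomial.X ^ k * Polynomial.C (ev₁ (incY s'))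
      rw [hev₁Y, hev₁Y, hc', mul_pow, mul_assoc, ← map_pow Polynomial.C, ← map_mul, mul_comm _ x, hs]
    have hfrac : ∀ x, ∃ w', w' ∉ P ∧ ∃ e, ι w' * x = ι e := fun x => by
      induction x using Polynomial.induction_on' with
      | add p p' h1 h2 => exact (exists_sum_smul (R' := R) ι P h1 h2).1
      | monomial d b =>
        rw [← Polynomial.C_mul_X_pow_eq_monomial]
        induction d with
        | zero => rw [pow_zero, mul_one]; exact hCc b
        | succ d ih =>
          rw [pow_succ, ← mul_assoc]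
          refine (exists_sum_smul (R' := R) ι P ih ?_).2
          rw [← hιX]; exact hok _
    haveI : Algebra.FormallySmooth R (Polynomial Cc) := Algebra.FormallySmooth.comp R Cc (Polynomial Cc)
    haveI : Algebra.IsSmoothAt R P := isSmoothAt_of_birational (R' := R) ι Q P hPQ hker hfrac
    obtain ⟨x, hx, hxP⟩ := not_singularIdeal_le (R := R) P
    exact hxP (hle (Ideal.le_radical (Ideal.mem_map_of_mem hD hx)))

theorem exists_pow_kill {Λ Λq : Type u} [CommRing Λ] (𝔮 : Ideal Λ) [𝔮.IsPrime] [CommRing Λq] [Algebra Λ Λq]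
    [IsLocalization.AtPrime Λq 𝔮] (hdim : ringKrullDim Λq = 0) {x : Λ} (hx : x ∈ 𝔮) :
    ∃ (N : ℕ) (t : Λ), t ∉ 𝔮 ∧ t * x ^ N = 0 := by
  haveI : IsLocalRing Λq := IsLocalization.AtPrime.isLocalRing Λq 𝔮
  haveI : Ring.KrullDimLE 0 Λq := Ring.krullDimLE_iff.2 hdim.le
  have h1 : algebraMap Λ Λq x ∈ nilradical Λq := by
    rw [nilradical_eq_sInf, Submodule.mem_sInf]
    intro p hp
    haveI : Ideal.IsPrime p := hp
    have hmax : Ideal.IsMaximal p := Ideal.IsPrime.isMaximal' this
    rw [IsLocalRing.eq_maximalIdeal hmax, IsLocalization.AtPrime.to_map_mem_maximal_iff Λq 𝔮]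
    exact hx
  obtain ⟨N, hN⟩ := h1
  rw [← map_pow] at hN
  obtain ⟨⟨t, ht⟩, htx⟩ := (IsLocalization.map_eq_zero_iff 𝔮.primeCompl Λq _).1 hN
  exact ⟨N, t, ht, htx⟩

end Groth.Agent.SmoothingLib
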