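import Groth.Prelude.Def_Smoothing
import Groth.Agent.SmoothingLib.StrictStd
import Groth.Agent.SmoothingLib.LocalResolve
import Mathlib.RingTheory.Smooth.Flat
import Mathlib.RingTheory.Flat.EquationalCriterion
import Mathlib.RingTheory.Nakayama

/-!
# Néron desingularization along a strictly standard element
-/

universe u

open MvPolynomial TensorProduct

namespace Groth.Agent.SmoothingLib

theorem exists_taylor {R P : Type u} {n : ℕ} [CommRing R] [CommRing P] [Algebra R P] (r : Fin n → R) (e : R)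
    (v : Fin n → P) (f : MvPolynomial (Fin n) R) :
    ∃ q : P, aeval (fun i => algebraMap R P (r i) + algebraMap R P e * v i) f =
      algebraMap R P (MvPolynomial.eval r f) +
        algebraMap R P e * ∑ i, algebraMap R P (MvPolynomial.eval r (pderiv i f)) * v i +
        algebraMap R P e ^ 2 * q := by
  classical
  induction f using MvPolynomial.induction_on with
  | C a => exact ⟨0, by simp⟩
  | add p p' h1 h2 =>
    obtain ⟨q, hq⟩ := h1
    obtain ⟨q', hq'⟩ := h2
    refine ⟨q + q', ?_⟩
    simp only [map_add, hq, hq', add_mul, Finset.sum_add_distrib]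
    ring
  | mul_X p j h1 =>
    obtain ⟨q, hq⟩ := h1
    refine ⟨q * (algebraMap R P (r j) + algebraMap R P e * v j) +
      (∑ i, algebraMap R P (MvPolynomial.eval r (pderiv i p)) * v i) * v j, ?_⟩
    have hd : ∑ i, algebraMap R P (MvPolynomial.eval r (pderiv i (p * X j))) * v i =
        (∑ i, algebraMap R P (MvPolynomial.eval r (pderiv i p)) * v i) * algebraMap R P (r j) +
          algebraMap R P (MvPolynomial.eval r p) * v j := by
      simp only [pderiv_mul, map_add, map_mul, MvPolynomial.eval_X, add_mul, Finset.sum_add_distrib]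
      congr 1
      · rw [Finset.sum_mul]
        exact Finset.sum_congr rfl fun i _ => by ring
      · simp [pderiv_X, Pi.single_apply, apply_ite, Finset.sum_ite_eq', mul_comm]
    rw [map_mul, hq, aeval_X, map_mul (MvPolynomial.eval r), MvPolynomial.eval_X, map_mul, hd]
    ring

/-- Torsion of a flat algebra comes from the base. -/
theorem ann_sq_of_flat {R S : Type u} [CommRing R] [CommRing S] [Algebra R S] [Module.Flat R S] (π r : R)
    (hr : ∀ x : R, π ^ 2 * x = 0 → π * (r * x) = 0) (y : S) (hy : algebraMap R S π ^ 2 * y = 0) :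
    algebraMap R S r * (algebraMap R S π * y) = 0 := by
  obtain ⟨k, a, z, hyz, ha⟩ := Module.Flat.isTrivialRelation_of_sum_smul_eq_zero (R := R) (M := S)
    (f := fun _ : Unit => π ^ 2) (x := fun _ => y) (by simpa [Algebra.smul_def] using hy)
  have hy' : y = _ := hyz ()
  rw [hy', Finset.mul_sum, Finset.mul_sum]
  refine Finset.sum_eq_zero fun j _ => ?_
  have h0 : π ^ 2 * a () j = 0 := by simpa using ha j
  rw [Algebra.smul_def, ← mul_assoc, ← mul_assoc, ← map_mul, ← map_mul, mul_assoc r, mul_left_comm, hr _ h0,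
    map_zero, zero_mul]

/-- The Nakayama step. -/
theorem eq_zero_of_cube {L : Type u} {ι : Type*} [CommRing L] [IsLocalRing L] [Finite ι] (p : L)
    (hp : p ∈ IsLocalRing.maximalIdeal L) (hann : ∀ y, p ^ 2 * y = 0 → p * y = 0) (g : ι → L)
    (hrel : ∀ j, p ^ 3 * g j ∈ Ideal.span {p ^ 4} * Ideal.span (Set.range g) ^ 2) (j : ι) : p * g j = 0 := by
  set G := Ideal.span (Set.range g) with hG
  let H := Ideal.span {p} * G
  have hH : H = Ideal.span (Set.range fun j => p * g j) := by
    simp only [H, hG, Ideal.span_mul_span', Set.singleton_mul, ← Set.range_comp]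
    rfl
  have hle : H ≤ IsLocalRing.maximalIdeal L • H := by
    rw [hH, Ideal.span_le]
    rintro _ ⟨j, rfl⟩
    obtain ⟨z, hz, hze⟩ := Ideal.mem_span_singleton_mul.1 (hrel j)
    have h3 : p ^ 3 * (g j - p * z) = 0 := by rw [mul_sub, ← hze]; ring
    have h2 : p ^ 2 * (g j - p * z) = 0 := by
      rw [pow_two, mul_assoc]
      refine hann _ ?_
      rw [← mul_assoc, ← pow_succ]
      exact h3
    have h1 := hann _ h2
    rw [mul_sub, sub_eq_zero] at h1
    rw [SetLike.mem_coe, ← hH, smul_eq_mul]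
    change p * g j ∈ _
    rw [h1]
    refine Ideal.mul_mono (le_trans Ideal.mul_le_left ?_) le_rfl (?_ : p * (p * z) ∈ (Ideal.span {p} * G) * H)
    · exact (Ideal.span_singleton_le_iff_mem _).2 hp
    have : Ideal.span {p} * G * H = Ideal.span {p * p} * G ^ 2 := by
      simp only [H]; rw [← Ideal.span_singleton_mul_span_singleton]; ring
    rw [this, ← mul_assoc]
    exact Ideal.mul_mem_mul (Ideal.mem_span_singleton_self _) hz
  have hbot : H = ⊥ := Submodule.eq_bot_of_le_smul_of_le_jacobson_bot _ H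
    (hH ▸ Submodule.fg_span (Set.finite_range _)) hle (IsLocalRing.maximalIdeal_le_jacobson _)
  exact (Submodule.mem_bot L).1 (hbot ▸ hH.symm ▸ Ideal.subset_span ⟨j, rfl⟩)

/-- Descending smoothness along a surjection which is an isomorphism at the prime. -/
theorem isSmoothAt_of_surjective {R S B : Type u} [CommRing R] [CommRing S] [CommRing B] [Algebra R S] [Algebra R B]
    (f : S →ₐ[R] B) (hf : Function.Surjective f) (q : Ideal B) [q.IsPrime]
    [hS : Algebra.IsSmoothAt R (q.comap f.toRingHom)]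
    (hker : ∀ s, f s = 0 → algebraMap S (Localization.AtPrime (q.comap f.toRingHom)) s = 0) :
    Algebra.IsSmoothAt R q := by
  let q' := q.comap f.toRingHom
  let L := Localization.AtPrime q'
  let ι₀ : S →ₐ[R] L := IsScalarTower.toAlgHom R S L
  let ι : B →ₐ[R] L := AlgHom.liftOfSurjective f hf ι₀ fun s hs => RingHom.mem_ker.2 (hker s (RingHom.mem_ker.1 hs))
  have hι : ∀ s, ι (f s) = algebraMap S L s := fun s => AlgHom.liftOfSurjective_apply f hf _ _ s
  refine isSmoothAt_of_birational (R' := R) ι (IsLocalRing.maximalIdeal L) q (fun x => ?_) (fun x hx => ?_)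
    fun l => ?_
  · obtain ⟨s, rfl⟩ := hf x
    rw [hι, IsLocalization.AtPrime.to_map_mem_maximal_iff L q']
    rfl
  · obtain ⟨s, rfl⟩ := hf x
    rw [hι] at hx
    obtain ⟨⟨w, hw⟩, hws⟩ := (IsLocalization.map_eq_zero_iff q'.primeCompl L s).1 hx
    exact ⟨f w, hw, by rw [← map_mul, hws, map_zero]⟩
  · obtain ⟨⟨s, ⟨w, hw⟩⟩, hsw⟩ := IsLocalization.surj q'.primeCompl l
    exact ⟨f w, hw, f s, by rw [hι, hι, mul_comm]; exact hsw⟩

open scoped Matrix in
theorem exists_pointData {R A : Type u} [CommRing R] [CommRing A] [Algebra R A] (π : R)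
    (Pr : Smoothing.MarkedPresentation R A)
    (hmin : algebraMap R A π ∈ Ideal.span (Set.range fun cols : Fin Pr.c → Fin Pr.n =>
        Pr.hom (Smoothing.jacobianMinor Pr.rel (Fin.castLE Pr.hcm) cols)))
    (ρ : A →ₐ[R] R ⧸ Ideal.span {π ^ 4}) (r : Fin Pr.n → R)
    (hr : ∀ i, Ideal.Quotient.mk (Ideal.span {π ^ 4}) (r i) = ρ (Pr.hom (X i))) :
    (∃ e : Fin Pr.m → R, ∀ j, MvPolynomial.eval r (Pr.rel j) = π ^ 4 * e j) ∧
    ∃ (Bm : Matrix (Fin Pr.n) (Fin Pr.c) R) (e₀ : R), ∀ (j k : Fin Pr.c),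
      ∑ i, MvPolynomial.eval r (pderiv i (Pr.rel (Fin.castLE Pr.hcm j))) * Bm i k =
        if j = k then π * (1 + π ^ 3 * e₀) else 0 := by
  classical
  let mk := Ideal.Quotient.mk (Ideal.span {π ^ 4} : Ideal R)
  have hev : ∀ p, mk (MvPolynomial.eval r p) = ρ (Pr.hom p) := fun p => by
    have : (Ideal.Quotient.mkₐ R (Ideal.span {π ^ 4} : Ideal R)).comp (MvPolynomial.aeval r) = ρ.comp Pr.hom :=
      MvPolynomial.algHom_ext fun i => by simp [hr]
    exact AlgHom.congr_fun this p
  refine ⟨?_, ?_⟩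
  · have : ∀ j, ∃ e, MvPolynomial.eval r (Pr.rel j) = π ^ 4 * e := fun j => by
      have h0 : Pr.hom (Pr.rel j) = 0 := by
        have : Pr.rel j ∈ RingHom.ker Pr.hom.toRingHom := Pr.ker_eq ▸ Ideal.subset_span ⟨j, rfl⟩
        exact this
      have h1 : mk (MvPolynomial.eval r (Pr.rel j)) = 0 := by rw [hev, h0, map_zero]
      exact Ideal.mem_span_singleton'.1 (Ideal.Quotient.eq_zero_iff_mem.1 h1) |>.imp fun e he => by rw [← he, mul_comm]
    choose e he using this
    exact ⟨e, he⟩
  · obtain ⟨coef, hcoef⟩ := Ideal.mem_span_range_iff_exists_fun.1 hmin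
    choose co hco using fun cols => Pr.surj (coef cols)
    let J : Matrix (Fin Pr.c) (Fin Pr.n) R := Matrix.of fun j i => MvPolynomial.eval r (pderiv i (Pr.rel (Fin.castLE Pr.hcm j)))
    let E : (Fin Pr.c → Fin Pr.n) → Matrix (Fin Pr.n) (Fin Pr.c) R := fun cols => Matrix.of fun i k => if cols k = i then 1 else 0
    have hJE : ∀ cols, J * E cols = J.submatrix id cols := fun cols => by
      ext j k
      simp [Matrix.mul_apply, E]
    have hdet : ∀ cols, (J.submatrix id cols).det =
        MvPolynomial.eval r (Smoothing.jacobianMinor Pr.rel (Fin.castLE Pr.hcm) cols) := fun cols => by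
      rw [Smoothing.jacobianMinor, RingHom.map_det]
      rfl
    let w : (Fin Pr.c → Fin Pr.n) → R := fun cols => MvPolynomial.eval r (co cols)
    have hw : ∃ e₀, ∑ cols, w cols * (J.submatrix id cols).det = π * (1 + π ^ 3 * e₀) := by
      have h1 : mk (∑ cols, w cols * (J.submatrix id cols).det) = mk π := by
        simp only [map_sum, map_mul, hdet, w, hev, hco]
        simp only [← map_mul, ← map_sum, hcoef]
        exact ρ.commutes π
      obtain ⟨e₀, he₀⟩ := Ideal.mem_span_singleton'.1 (Ideal.Quotient.eq.1 h1)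
      exact ⟨e₀, by linear_combination -he₀⟩
    obtain ⟨e₀, he₀⟩ := hw
    refine ⟨∑ cols, w cols • (E cols * (J.submatrix id cols).adjugate), e₀, fun j k => ?_⟩
    have : J * (∑ cols, w cols • (E cols * (J.submatrix id cols).adjugate)) =
        (π * (1 + π ^ 3 * e₀)) • (1 : Matrix (Fin Pr.c) (Fin Pr.c) R) := by
      simp only [Matrix.mul_sum, Matrix.mul_smul, ← Matrix.mul_assoc, hJE, Matrix.mul_adjugate, smul_smul,
        ← Finset.sum_smul, he₀]
    have h2 := congrFun (congrFun this j) k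
    rw [Matrix.mul_apply] at h2
    rw [Matrix.smul_apply, Matrix.one_apply, smul_eq_mul, mul_ite, mul_one, mul_zero] at h2
    exact h2

/-- The substituted coordinates. -/
noncomputable def subst {R : Type u} [CommRing R] {c n : ℕ} (π : R) (r : Fin n → R)
    (Bm : Matrix (Fin n) (Fin c) R) (i : Fin n) : MvPolynomial (Fin (c + n)) R :=
  C (r i) + C (π ^ 2) * ((∑ k, C (Bm i k) * X (Fin.castAdd n k)) + C π * X (Fin.natAdd c i))

theorem exists_relations {R : Type u} [CommRing R] {c n m : ℕ} (hcm : c ≤ m) (π : R) (r : Fin n → R)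
    (rel : Fin m → MvPolynomial (Fin n) R) (e : Fin m → R) (he : ∀ j, MvPolynomial.eval r (rel j) = π ^ 4 * e j)
    (Bm : Matrix (Fin n) (Fin c) R) (e₀ : R) (hBm : ∀ (j k : Fin c),
      ∑ i, MvPolynomial.eval r (pderiv i (rel (Fin.castLE hcm j))) * Bm i k =
        if j = k then π * (1 + π ^ 3 * e₀) else 0) :
    ∃ (h : Fin c → MvPolynomial (Fin (c + n)) R) (g : Fin m → MvPolynomial (Fin (c + n)) R),
      (∀ j, aeval (subst π r Bm) (rel j) = C (π ^ 2) * g j) ∧
      (∀ j, g (Fin.castLE hcm j) = C π * h j) ∧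
      (∀ j k, pderiv (Fin.castAdd n k) (h j) - (if j = k then 1 else 0) ∈ Ideal.span {C π}) ∧
      (∀ (Λ : Type u) [CommRing Λ] [Algebra R Λ] (ψ : MvPolynomial (Fin (c + n)) R →ₐ[R] Λ),
        (∀ k, ψ (X (Fin.castAdd n k)) = 0) →
        (∀ i, ψ (X (Fin.natAdd c i)) ∈ Ideal.span {algebraMap R Λ π}) →
          ∀ j, ψ (h j) ∈ Ideal.span {algebraMap R Λ π}) := by
  classical
  let v : Fin n → MvPolynomial (Fin (c + n)) R := fun i =>
    (∑ k, C (Bm i k) * X (Fin.castAdd n k)) + C π * X (Fin.natAdd c i)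
  have hsub : ∀ i, subst π r Bm i = algebraMap R (MvPolynomial (Fin (c + n)) R) (r i) +
      algebraMap R (MvPolynomial (Fin (c + n)) R) (π ^ 2) * v i := fun i => rfl
  choose q hq using fun j => exists_taylor r (π ^ 2) v (rel j)
  let J : Fin m → Fin n → R := fun j i => MvPolynomial.eval r (pderiv i (rel j))
  let g : Fin m → MvPolynomial (Fin (c + n)) R := fun j =>
    C (π ^ 2 * e j) + (∑ i, C (J j i) * v i) + C (π ^ 2) * q j
  let lt : Fin c → MvPolynomial (Fin (c + n)) R := fun j => ∑ i, C (J (Fin.castLE hcm j) i) * X (Fin.natAdd c i)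
  let h : Fin c → MvPolynomial (Fin (c + n)) R := fun j =>
    C (π * e (Fin.castLE hcm j)) + C (1 + π ^ 3 * e₀) * X (Fin.castAdd n j) + lt j + C π * q (Fin.castLE hcm j)
  refine ⟨h, g, fun j => ?_, fun j => ?_, fun j k => ?_, fun Λ _ _ ψ hψk hψi j => ?_⟩
  · rw [funext hsub, hq j, he j, MvPolynomial.algebraMap_eq]
    simp only [g, J, map_mul, map_pow]
    ring
  · have hlin : ∑ i, C (J (Fin.castLE hcm j) i) * v i =
        C π * (C (1 + π ^ 3 * e₀) * X (Fin.castAdd n j) + lt j) := by
      simp only [v, mul_add, Finset.mul_sum, Finset.sum_add_distrib, lt]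
      congr 1
      · rw [Finset.sum_comm]
        simp only [← mul_assoc, ← map_mul, ← Finset.sum_mul, ← map_sum, J, hBm]
        simp [apply_ite C, ite_mul, map_mul]
      · exact Finset.sum_congr rfl fun i _ => by ring
    simp only [g, h, hlin, map_mul, map_pow]
    ring
  · have hne : ∀ i, pderiv (Fin.castAdd n k) (X (Fin.natAdd c i) : MvPolynomial (Fin (c + n)) R) = 0 := fun i => by
      refine pderiv_X_of_ne fun h => ?_
      have h1 := congrArg Fin.val h
      simp at h1
      have := k.2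
      omega
    have hX : pderiv (Fin.castAdd n k) (X (Fin.castAdd n j) : MvPolynomial (Fin (c + n)) R) = if j = k then 1 else 0 := by
      rw [pderiv_X, Pi.single_apply]
      exact if_congr ⟨fun h => Fin.castAdd_injective c n h, fun h => h ▸ rfl⟩ rfl rfl
    refine Ideal.mem_span_singleton.2 ⟨C (π ^ 2 * e₀) * (if j = k then 1 else 0) + pderiv (Fin.castAdd n k) (q (Fin.castLE hcm j)), ?_⟩
    have hC : ∀ (a : R) (p : MvPolynomial (Fin (c + n)) R),
        pderiv (Fin.castAdd n k) (C a * p) = C a * pderiv (Fin.castAdd n k) p := fun a p => by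
      rw [pderiv_C_mul]
    simp only [h, lt, map_add (pderiv _), map_sum (pderiv _), hC, pderiv_C, hne, hX, mul_zero, Finset.sum_const_zero,
      zero_add, add_zero]
    simp only [map_add, map_mul, map_pow, map_one]
    ring
  · have hπ : ∀ y, ψ (C π) * y ∈ Ideal.span {algebraMap R Λ π} := fun y => by
      rw [MvPolynomial.algHom_C]; exact Ideal.mul_mem_right _ _ (Ideal.mem_span_singleton_self _)
    simp only [h, lt, map_add, map_sum, map_mul, hψk, mul_zero, add_zero]
    refine add_mem (add_mem (hπ _) (Ideal.sum_mem _ fun i _ => Ideal.mul_mem_left _ _ (hψi i))) (hπ _)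

theorem isSmoothAt_desingularized {R : Type u} [CommRing R] [IsNoetherianRing R] {N c m : ℕ} (hcN : c ≤ N)
    (hcm : c ≤ m) (π r : R) (hr : ∀ x : R, π ^ 2 * x = 0 → π * (r * x) = 0)
    (h : Fin c → MvPolynomial (Fin N) R) (g : Fin m → MvPolynomial (Fin N) R)
    (hlead : ∀ j, g (Fin.castLE hcm j) = C π * h j)
    (hd : ∀ j k, pderiv (Fin.castLE hcN k) (h j) - (if j = k then 1 else 0) ∈ Ideal.span {C π})
    (hkill : ∀ j : Fin m, c ≤ (j : ℕ) → C π * (C (π ^ 2) * g j) ∈
      Ideal.span ((fun j => C (π ^ 2) * g j) '' {j' : Fin m | (j' : ℕ) < c}) ⊔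
        Ideal.span (Set.range fun j => C (π ^ 2) * g j) ^ 2)
    (q : Ideal (MvPolynomial (Fin N) R ⧸ Ideal.span (Set.range (Sum.elim h fun j => C (π ^ 2) * g j)))) [q.IsPrime]
    (hπq : algebraMap R _ π ∈ q) (hrq : algebraMap R _ r ∉ q) :
    Algebra.IsSmoothAt R q := by
  classical
  let IS := Ideal.span (Set.range h)
  let IB := Ideal.span (Set.range (Sum.elim h fun j => C (π ^ 2) * g j))
  have hle : IS ≤ IB := Ideal.span_mono (by rintro _ ⟨j, rfl⟩; exact ⟨Sum.inl j, rfl⟩)
  let S := MvPolynomial (Fin N) R ⧸ IS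
  let f : S →ₐ[R] MvPolynomial (Fin N) R ⧸ IB := Ideal.Quotient.factorₐ R hle
  have hf : Function.Surjective f := Ideal.Quotient.factor_surjective hle
  let q' := q.comap f.toRingHom
  let mkS : MvPolynomial (Fin N) R →ₐ[R] S := Ideal.Quotient.mkₐ R IS
  let d := Smoothing.jacobianMinor h id (Fin.castLE hcN)
  let Pr : Smoothing.MarkedPresentation R S :=
    { n := N, m := c, c := c, hcn := hcN, hcm := le_rfl, rel := h, hom := mkS
      surj := Ideal.Quotient.mk_surjective, ker_eq := Ideal.mk_ker }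
  have hstd : Smoothing.IsStrictlyStandard R S (mkS d) := by
    refine ⟨Pr, Ideal.subset_span ⟨Fin.castLE hcN, ?_⟩, fun a' _ j hj => absurd j.2 (not_lt.2 hj)⟩
    change mkS (Smoothing.jacobianMinor h (Fin.castLE le_rfl) (Fin.castLE hcN)) = mkS d
    congr 2
  haveI : Algebra.FinitePresentation R S :=
    Algebra.FinitePresentation.quotient (Submodule.fg_span (Set.finite_range h))
  haveI hsm : Algebra.Smooth R (Localization.Away (mkS d)) := (smooth_and_stablyFree _ hstd).1
  have hπS : algebraMap R S π ∈ q' := by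
    change f (algebraMap R S π) ∈ q
    rw [f.commutes]; exact hπq
  have hrS : algebraMap R S r ∉ q' := fun hh => hrq (by
    change f (algebraMap R S r) ∈ q at hh
    rwa [f.commutes] at hh)
  have hdq : mkS d ∉ q' := fun hh => by
    letI : CommRing (S ⧸ q') := Ideal.Quotient.commRing q'
    let κ : MvPolynomial (Fin N) R →+* S ⧸ q' := (Ideal.Quotient.mk q').comp mkS.toRingHom
    have hκπ : κ (C π) = 0 := Ideal.Quotient.eq_zero_iff_mem.2 (by
      change mkS (algebraMap R _ π) ∈ q'
      rw [mkS.commutes]; exact hπS)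
    have hκd : κ d = 1 := by
      change κ (Matrix.det (Matrix.of fun j k : Fin c => pderiv (Fin.castLE hcN k) (h (id j)))) = 1
      refine (RingHom.map_det κ _).trans ?_
      refine Eq.trans (congrArg Matrix.det ?_) Matrix.det_one
      ext j k
      obtain ⟨y, hy⟩ := Ideal.mem_span_singleton'.1 (hd j k)
      have := congrArg κ hy
      rw [map_mul, hκπ, mul_zero, map_sub, eq_comm, sub_eq_zero] at this
      rw [RingHom.mapMatrix_apply, Matrix.map_apply, Matrix.of_apply, id, this, apply_ite κ, map_one, map_zero,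
        Matrix.one_apply]
    rw [show κ d = Ideal.Quotient.mk q' (mkS d) from rfl, Ideal.Quotient.eq_zero_iff_mem.2 hh] at hκd
    exact Ideal.IsPrime.ne_top (inferInstance : q'.IsPrime) ((Ideal.eq_top_iff_one q').2
      (Ideal.Quotient.eq_zero_iff_mem.1 ((map_one _).trans hκd.symm)))
  haveI : Algebra.IsSmoothAt R q' :=
    Algebra.basicOpen_subset_smoothLocus_iff_smooth.2 hsm
      (show (⟨q', inferInstance⟩ : PrimeSpectrum S) ∈ PrimeSpectrum.basicOpen (mkS d) from hdq)
  let L := Localization.AtPrime q'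
  let p := algebraMap R L π
  have hp : p ∈ IsLocalRing.maximalIdeal L := by
    simp only [p]
    rw [IsScalarTower.algebraMap_apply R S L, IsLocalization.AtPrime.to_map_mem_maximal_iff L q']
    exact hπS
  have hann : ∀ y, p ^ 2 * y = 0 → p * y = 0 := fun y hy => by
    obtain ⟨⟨s, ⟨w, hw⟩⟩, hsw⟩ := IsLocalization.surj q'.primeCompl y
    change y * algebraMap S L w = algebraMap S L s at hsw
    have h1 : algebraMap S L (algebraMap R S π ^ 2 * s) = 0 := by
      simp only [map_mul, map_pow]
      rw [← IsScalarTower.algebraMap_apply, ← hsw, ← mul_assoc]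
      change p ^ 2 * y * _ = 0
      rw [hy, zero_mul]
    obtain ⟨⟨u, hu⟩, hus⟩ := (IsLocalization.map_eq_zero_iff q'.primeCompl L _).1 h1
    change u * (algebraMap R S π ^ 2 * s) = 0 at hus
    have h2 := ann_sq_of_flat (S := Localization.Away (mkS d)) π r hr (algebraMap S _ (u * s)) (by
      rw [IsScalarTower.algebraMap_apply R S (Localization.Away (mkS d)), ← map_pow, ← map_mul, mul_left_comm, hus, map_zero])
    rw [IsScalarTower.algebraMap_apply R S (Localization.Away (mkS d)) r,
      IsScalarTower.algebraMap_apply R S (Localization.Away (mkS d)) π, ← map_mul, ← map_mul] at h2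
    obtain ⟨⟨_, k, rfl⟩, hk⟩ := (IsLocalization.map_eq_zero_iff (Submonoid.powers (mkS d)) _ _).1 h2
    have hunit : IsUnit (algebraMap S L (mkS d ^ k * algebraMap R S r * u * w)) :=
      IsLocalization.map_units L (⟨_, q'.primeCompl.mul_mem (q'.primeCompl.mul_mem
        (q'.primeCompl.mul_mem (q'.primeCompl.pow_mem hdq k) hrS) hu) hw⟩ : q'.primeCompl)
    refine hunit.mul_left_cancel ?_
    rw [mul_zero, show algebraMap S L (mkS d ^ k * algebraMap R S r * u * w) * (p * y) =
      algebraMap S L (mkS d ^ k * algebraMap R S r * u) * p * (y * algebraMap S L w) by rw [map_mul]; ring, hsw]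
    simp only [p]
    rw [IsScalarTower.algebraMap_apply R S L, ← map_mul, ← map_mul, ← map_zero (algebraMap S L)]
    refine congrArg _ ?_
    calc mkS d ^ k * algebraMap R S r * u * algebraMap R S π * s
        = mkS d ^ k * (algebraMap R S r * (algebraMap R S π * (u * s))) := by ring
      _ = 0 := hk
  let ψ : MvPolynomial (Fin N) R →ₐ[R] L := (IsScalarTower.toAlgHom R S L).comp mkS
  have hψh : ∀ j, ψ (h j) = 0 := fun j => by
    change algebraMap S L (mkS (h j)) = 0
    rw [show mkS (h j) = 0 from Ideal.Quotient.eq_zero_iff_mem.2 (Ideal.subset_span ⟨j, rfl⟩), map_zero]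
  have hψC : ∀ x, ψ (C x) = algebraMap R L x := fun x => MvPolynomial.algHom_C _ _
  let G := Ideal.span (Set.range fun j => ψ (g j))
  have hrel : ∀ j, p ^ 3 * ψ (g j) ∈ Ideal.span {p ^ 4} * G ^ 2 := fun j => by
    rcases Nat.lt_or_ge (j : ℕ) c with hj | hj
    · rw [show j = Fin.castLE hcm ⟨j, hj⟩ from Fin.ext rfl, hlead, map_mul, hψh, mul_zero, mul_zero]
      exact zero_mem _
    · have h1 := Ideal.mem_map_of_mem ψ (hkill j hj)
      rw [Ideal.map_sup, Ideal.map_pow, Ideal.map_span, Ideal.map_span, ← Set.image_comp, ← Set.range_comp,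
        map_mul, map_mul, hψC, hψC] at h1
      simp only [map_pow, ← mul_assoc, ← pow_succ'] at h1
      refine (sup_le ?_ ?_ : _ ≤ Ideal.span {p ^ 4} * G ^ 2) h1
      · rw [Ideal.span_le]
        rintro _ ⟨j', hj', rfl⟩
        simp only [Function.comp_apply]
        rw [show j' = Fin.castLE hcm ⟨j', hj'⟩ from Fin.ext rfl, hlead, map_mul, map_mul, hψh, mul_zero, mul_zero]
        exact zero_mem _
      · refine le_of_le_of_eq (Ideal.pow_right_mono (J := Ideal.span {p ^ 2} * G) ?_ 2) ?_
        · rw [Ideal.span_le]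
          rintro _ ⟨j', rfl⟩
          simp only [Function.comp_apply, map_mul, hψC, map_pow]
          exact Ideal.mul_mem_mul (Ideal.mem_span_singleton_self _) (Ideal.subset_span ⟨j', rfl⟩)
        · rw [mul_pow, Ideal.span_singleton_pow, ← pow_mul]
  have hzero := eq_zero_of_cube p hp hann (fun j => ψ (g j)) hrel
  refine isSmoothAt_of_surjective f hf q fun s hs => ?_
  obtain ⟨s, rfl⟩ := Ideal.Quotient.mk_surjective s
  have hs' : s ∈ IB := Ideal.Quotient.eq_zero_iff_mem.1 hs
  have hker : IB ≤ RingHom.ker ψ.toRingHom := Ideal.span_le.2 (by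
    rintro _ ⟨j | j, rfl⟩
    · exact hψh j
    · change ψ (C (π ^ 2) * g j) = 0
      rw [map_mul, hψC]
      simp only [pow_two, map_mul, mul_assoc]
      change p * (p * _) = 0
      rw [hzero j, mul_zero])
  exact hker hs'

theorem smooth_away_desingularized {R A : Type u} [CommRing R] [CommRing A] [Algebra R A] {c n m : ℕ}
    (hcm : c ≤ m) (π : R) (rel : Fin m → MvPolynomial (Fin n) R) (hom : MvPolynomial (Fin n) R →ₐ[R] A)
    (surj : Function.Surjective hom) (ker_eq : RingHom.ker hom.toRingHom = Ideal.span (Set.range rel))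
    [hA : Algebra.Smooth R (Localization.Away (algebraMap R A π))]
    (r : Fin n → R) (Bm : Matrix (Fin n) (Fin c) R) (h : Fin c → MvPolynomial (Fin (c + n)) R)
    (g : Fin m → MvPolynomial (Fin (c + n)) R)
    (hF : ∀ j, aeval (subst π r Bm) (rel j) = C (π ^ 2) * g j)
    (hlead : ∀ j, g (Fin.castLE hcm j) = C π * h j) :
    Algebra.Smooth R (Localization.Away (algebraMap R
      (MvPolynomial (Fin (c + n)) R ⧸ Ideal.span (Set.range (Sum.elim h fun j => C (π ^ 2) * g j))) π)) := by
  classical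
  let IB := Ideal.span (Set.range (Sum.elim h fun j => C (π ^ 2) * g j))
  let B := MvPolynomial (Fin (c + n)) R ⧸ IB
  let mkB : MvPolynomial (Fin (c + n)) R →ₐ[R] B := Ideal.Quotient.mkₐ R IB
  let Bp := Localization.Away (algebraMap R B π)
  let Ap := Localization.Away (algebraMap R A π)
  have hu : IsUnit (algebraMap R Ap π) := by
    rw [IsScalarTower.algebraMap_apply R A Ap]; exact IsLocalization.Away.algebraMap_isUnit _
  obtain ⟨u, hu'⟩ := hu.exists_left_inv
  let ap : MvPolynomial (Fin n) R →ₐ[R] Ap := (IsScalarTower.toAlgHom R A Ap).comp hom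
  let Cx : Ap →ₐ[R] MvPolynomial (Fin c) Ap := IsScalarTower.toAlgHom R Ap _
  let z : Fin n → MvPolynomial (Fin c) Ap := fun i =>
    C u ^ 3 * (C (ap (X i)) - C (algebraMap R Ap (r i)) -
      C (algebraMap R Ap (π ^ 2)) * ∑ k, C (algebraMap R Ap (Bm i k)) * X k)
  let ι₀ : MvPolynomial (Fin (c + n)) R →ₐ[R] MvPolynomial (Fin c) Ap := aeval (Fin.append (fun k => X k) z)
  have hCu : C u * C (algebraMap R Ap π) = (1 : MvPolynomial (Fin c) Ap) := by rw [← map_mul, hu', map_one]
  have hsub : ∀ i, ι₀ (subst π r Bm i) = C (ap (X i)) := fun i => by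
    simp only [subst, ι₀, map_add, map_mul, map_sum, MvPolynomial.aeval_C, MvPolynomial.aeval_X, Fin.append_left,
      Fin.append_right, MvPolynomial.algebraMap_apply, map_pow, z]
    linear_combination (C (ap (X i)) - C (algebraMap R Ap (r i)) -
      C (algebraMap R Ap π) ^ 2 * ∑ k, C (algebraMap R Ap (Bm i k)) * X k) *
        (C u ^ 2 * C (algebraMap R Ap π) ^ 2 + C u * C (algebraMap R Ap π) + 1) * hCu
  have hcomp : ι₀.comp (aeval (subst π r Bm)) = Cx.comp ap :=
    MvPolynomial.algHom_ext fun i => by simp [hsub, Cx]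
  have hrel0 : ∀ j, hom (rel j) = 0 := fun j => by
    have : rel j ∈ RingHom.ker hom.toRingHom := ker_eq ▸ Ideal.subset_span ⟨j, rfl⟩
    exact this
  have hF0 : ∀ j, ι₀ (C (π ^ 2) * g j) = 0 := fun j => by
    rw [← hF]
    refine (AlgHom.congr_fun hcomp (rel j)).trans ?_
    simp [ap, hrel0, Cx]
  have hπL : IsUnit (algebraMap R (MvPolynomial (Fin c) Ap) π) := by
    rw [IsScalarTower.algebraMap_apply R Ap (MvPolynomial (Fin c) Ap)]; exact hu.map _
  have hh0 : ∀ j, ι₀ (h j) = 0 := fun j => by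
    have := hF0 (Fin.castLE hcm j)
    rw [hlead, ← mul_assoc, map_mul, ← map_mul C, ← pow_succ, MvPolynomial.algHom_C] at this
    refine (((hπL.pow (2 + 1)))).mul_right_eq_zero.1 ?_
    rw [← map_pow]; exact this
  let ι₁ : B →ₐ[R] MvPolynomial (Fin c) Ap := Ideal.Quotient.liftₐ IB ι₀ (fun x hx => by
    have hle : IB ≤ RingHom.ker ι₀.toRingHom := Ideal.span_le.2 (by
      rintro _ ⟨j | j, rfl⟩
      · exact hh0 j
      · exact hF0 j)
    exact hle hx)
  have huι : IsUnit (ι₁.toRingHom (algebraMap R B π)) := by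
    change IsUnit (ι₁ (algebraMap R B π)); rw [ι₁.commutes]; exact hπL
  let ι : Bp →ₐ[R] MvPolynomial (Fin c) Ap :=
    { IsLocalization.Away.lift (algebraMap R B π) (g := ι₁.toRingHom) huι with
      commutes' := fun x => by
        change IsLocalization.Away.lift _ _ (algebraMap R Bp x) = _
        rw [IsScalarTower.algebraMap_apply R B Bp, IsLocalization.Away.lift_eq]
        exact ι₁.commutes x }
  have hι : ∀ b, ι (algebraMap B Bp b) = ι₁ b := fun b => IsLocalization.Away.lift_eq (S := Bp) (algebraMap R B π) huι b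
  -- the inverse
  let α₀ : MvPolynomial (Fin n) R →ₐ[R] Bp := aeval fun i => algebraMap B Bp (mkB (subst π r Bm i))
  have hα₀ : ∀ p, α₀ p = algebraMap B Bp (mkB (aeval (subst π r Bm) p)) := fun p => by
    have : α₀ = ((IsScalarTower.toAlgHom R B Bp).comp mkB).comp (aeval (subst π r Bm)) :=
      MvPolynomial.algHom_ext fun i => by simp [α₀]
    exact AlgHom.congr_fun this p
  let α : A →ₐ[R] Bp := AlgHom.liftOfSurjective hom surj α₀ (by
    rw [ker_eq, Ideal.span_le]
    rintro _ ⟨j, rfl⟩
    change α₀ (rel j) = 0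
    rw [hα₀, hF, show mkB (C (π ^ 2) * g j) = 0 from Ideal.Quotient.eq_zero_iff_mem.2 (Ideal.subset_span ⟨Sum.inr j, rfl⟩),
      map_zero])
  have hα : ∀ p, α (hom p) = α₀ p := fun p => AlgHom.liftOfSurjective_apply hom surj _ _ p
  have huα : IsUnit (α.toRingHom (algebraMap R A π)) := by
    change IsUnit (α (algebraMap R A π))
    rw [α.commutes, IsScalarTower.algebraMap_apply R B Bp]
    exact IsLocalization.Away.algebraMap_isUnit _
  let αp : Ap →ₐ[R] Bp :=
    { IsLocalization.Away.lift (algebraMap R A π) (g := α.toRingHom) huα with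
      commutes' := fun x => by
        change IsLocalization.Away.lift _ _ (algebraMap R Ap x) = _
        rw [IsScalarTower.algebraMap_apply R A Ap, IsLocalization.Away.lift_eq]
        exact α.commutes x }
  have hαp : ∀ a, αp (algebraMap A Ap a) = α a := fun a => IsLocalization.Away.lift_eq (S := Ap) (algebraMap R A π) huα a
  let σ : MvPolynomial (Fin c) Ap →ₐ[R] Bp :=
    { eval₂Hom αp.toRingHom (fun k => algebraMap B Bp (mkB (X (Fin.castAdd n k)))) with
      commutes' := fun x => by
        change eval₂Hom αp.toRingHom _ (algebraMap R (MvPolynomial (Fin c) Ap) x) = _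
        rw [MvPolynomial.algebraMap_apply, eval₂Hom_C]
        exact αp.commutes x }
  have hσC : ∀ a, σ (C a) = αp a := fun a => eval₂Hom_C _ _ a
  have hσX : ∀ k, σ (X k) = algebraMap B Bp (mkB (X (Fin.castAdd n k))) := fun k => eval₂Hom_X' _ _ k
  have hπB : IsUnit (algebraMap R Bp π) := by
    rw [IsScalarTower.algebraMap_apply R B Bp]; exact IsLocalization.Away.algebraMap_isUnit _
  have hσι : σ.comp ι₀ = (IsScalarTower.toAlgHom R B Bp).comp mkB := by
    refine MvPolynomial.algHom_ext fun a => ?_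
    induction a using Fin.addCases with
    | left k => simp [ι₀, hσX]
    | right i =>
      have hσu : σ (C u) * algebraMap R Bp π = 1 := by rw [hσC, ← αp.commutes π, ← map_mul, hu', map_one]
      have hx : αp (ap (X i)) = algebraMap B Bp (mkB (subst π r Bm i)) := by
        change αp (algebraMap A Ap (hom (X i))) = _
        rw [hαp, hα]; simp [α₀]
      simp only [AlgHom.comp_apply, ι₀, MvPolynomial.aeval_X, Fin.append_right, z, map_mul, map_pow, map_sub,
        map_sum, hσX, hx, hσC (ap _), hσC (algebraMap R Ap _), αp.commutes, IsScalarTower.coe_toAlgHom']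
      simp only [subst, map_add, map_mul, map_sum, map_pow, MvPolynomial.algHom_C, ← IsScalarTower.algebraMap_apply]
      linear_combination (algebraMap B Bp (mkB (X (Fin.natAdd c i)))) *
        (σ (C u) ^ 2 * algebraMap R Bp π ^ 2 + σ (C u) * algebraMap R Bp π + 1) * hσu
  have h1 : ι.comp σ = AlgHom.id R _ := by
    have hC : ι.comp αp = Cx := by
      refine IsLocalization.algHom_ext (Submonoid.powers (algebraMap R A π)) (AlgHom.ext fun a => ?_)
      obtain ⟨p, rfl⟩ := surj a
      change ι (αp (algebraMap A Ap (hom p))) = Cx (algebraMap A Ap (hom p))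
      rw [hαp, hα, hα₀, hι]
      exact AlgHom.congr_fun hcomp p
    refine AlgHom.coe_ringHom_injective (MvPolynomial.ringHom_ext (fun a => ?_) (fun k => ?_))
    · change ι (σ (C a)) = C a
      rw [hσC]
      exact AlgHom.congr_fun hC a
    · change ι (σ (X k)) = X k
      rw [hσX, hι]
      change ι₀ (X _) = _
      simp [ι₀]
  have h2 : σ.comp ι = AlgHom.id R _ := by
    refine IsLocalization.algHom_ext (Submonoid.powers (algebraMap R B π)) (AlgHom.ext fun b => ?_)
    obtain ⟨p, rfl⟩ := Ideal.Quotient.mk_surjective b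
    change σ (ι (algebraMap B Bp (mkB p))) = algebraMap B Bp (mkB p)
    rw [hι]
    exact AlgHom.congr_fun hσι p
  haveI : Algebra.Smooth Ap (MvPolynomial (Fin c) Ap) := ⟨inferInstance, inferInstance⟩
  haveI : Algebra.Smooth R (MvPolynomial (Fin c) Ap) := Algebra.Smooth.comp R Ap _
  exact Algebra.Smooth.of_equiv (AlgEquiv.ofAlgHom σ ι h2 h1)

/-- Néron desingularization of a strictly standard element. -/
theorem exists_desingularization {R Λ A : Type u} [CommRing R] [IsNoetherianRing R] [CommRing Λ]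
    [Algebra R Λ] (π : R) (hΛ : ∀ x : Λ, π ^ 2 • x = 0 → π • x = 0) [CommRing A] [Algebra R A]
    (φ : A →ₐ[R] Λ) (hπ : Smoothing.IsStrictlyStandard R A (algebraMap R A π))
    (ρ : A →ₐ[R] R ⧸ Ideal.span {π ^ 4})
    (hρ : ∀ (a : A) (r : R), Ideal.Quotient.mk (Ideal.span {π ^ 4}) r = ρ a →
      algebraMap R Λ r - φ a ∈ Ideal.span {algebraMap R Λ (π ^ 4)}) :
    ∃ (B : Type u) (_ : CommRing B) (_ : Algebra R B), Algebra.FinitePresentation R B ∧
      ∃ (α : A →ₐ[R] B) (β : B →ₐ[R] Λ), β.comp α = φ ∧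
        ∀ r : R, (∀ x : R, π ^ 2 * x = 0 → π * (r * x) = 0) →
          algebraMap R B r ∈ Smoothing.singularIdeal R B := by
  classical
  obtain ⟨hA, -⟩ := smooth_and_stablyFree _ hπ
  obtain ⟨Pr, hmin, hkill⟩ := hπ
  choose r hr using fun i => Ideal.Quotient.mk_surjective (ρ (Pr.hom (X i)))
  obtain ⟨⟨e, he⟩, Bm, e₀, hBm⟩ := exists_pointData π Pr hmin ρ r hr
  obtain ⟨h, g, hF, hlead, hd, hψ⟩ := exists_relations Pr.hcm π r Pr.rel e he Bm e₀ hBm
  let IB := Ideal.span (Set.range (Sum.elim h fun j => C (π ^ 2) * g j))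
  let B := MvPolynomial (Fin (Pr.c + Pr.n)) R ⧸ IB
  have hB : Algebra.FinitePresentation R B :=
    Algebra.FinitePresentation.quotient (Submodule.fg_span (Set.finite_range _))
  let mkB : MvPolynomial (Fin (Pr.c + Pr.n)) R →ₐ[R] B := Ideal.Quotient.mkₐ R IB
  let sub : MvPolynomial (Fin Pr.n) R →ₐ[R] MvPolynomial (Fin (Pr.c + Pr.n)) R := aeval (subst π r Bm)
  let α : A →ₐ[R] B := AlgHom.liftOfSurjective Pr.hom Pr.surj (mkB.comp sub) (by
    rw [Pr.ker_eq, Ideal.span_le]
    rintro _ ⟨j, rfl⟩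
    change mkB (sub (Pr.rel j)) = 0
    exact Ideal.Quotient.eq_zero_iff_mem.2 ((hF j).symm ▸ Ideal.subset_span ⟨Sum.inr j, rfl⟩))
  -- the map to `Λ`
  have hμ : ∀ i, ∃ μ, algebraMap R Λ (π ^ 4) * μ = φ (Pr.hom (X i)) - algebraMap R Λ (r i) := fun i => by
    obtain ⟨μ, hμ⟩ := Ideal.mem_span_singleton'.1 (hρ _ _ (hr i))
    exact ⟨-μ, by linear_combination -hμ⟩
  choose μ hμ using hμ
  let β₀ : MvPolynomial (Fin (Pr.c + Pr.n)) R →ₐ[R] Λ :=
    aeval (Fin.append (fun _ => 0) fun i => algebraMap R Λ π * μ i)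
  have hβsub : β₀.comp sub = φ.comp Pr.hom := MvPolynomial.algHom_ext fun i => by
    simp [sub, β₀, subst]
    have := hμ i
    simp only [map_pow] at this
    linear_combination this
  have hrel0 : ∀ j, Pr.hom (Pr.rel j) = 0 := fun j => by
    have : Pr.rel j ∈ RingHom.ker Pr.hom.toRingHom := Pr.ker_eq ▸ Ideal.subset_span ⟨j, rfl⟩
    exact this
  have hβF : ∀ j, β₀ (C (π ^ 2) * g j) = 0 := fun j => by
    rw [← hF]
    refine (AlgHom.congr_fun hβsub (Pr.rel j)).trans ?_
    simp [hrel0]
  have hβh : ∀ j, β₀ (h j) = 0 := fun j => by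
    obtain ⟨h', hh'⟩ := Ideal.mem_span_singleton'.1
      (hψ Λ β₀ (fun k => by simp [β₀]) (fun i => by
        simp only [β₀, MvPolynomial.aeval_X, Fin.append_right]
        exact Ideal.mul_mem_right _ _ (Ideal.mem_span_singleton_self _)) j)
    have h4 : π ^ 2 • (π ^ 2 • h') = 0 := by
      have := hβF (Fin.castLE Pr.hcm j)
      rw [hlead, ← mul_assoc, map_mul, ← map_mul C, MvPolynomial.algHom_C, ← hh'] at this
      rw [Algebra.smul_def, Algebra.smul_def]
      simp only [map_pow, map_mul] at this ⊢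
      linear_combination this
    have h3 : π • (π ^ 2 • h') = 0 := hΛ _ h4
    have h2 : π ^ 2 • (π • h') = 0 := by rwa [smul_comm]
    have h1 : π • (π • h') = 0 := hΛ _ h2
    have h0 : π • h' = 0 := hΛ _ (by rwa [pow_two, mul_smul])
    rw [← hh', mul_comm, ← Algebra.smul_def, h0]
  let β : B →ₐ[R] Λ := Ideal.Quotient.liftₐ IB β₀ (fun x hx => by
    have hle : IB ≤ RingHom.ker β₀.toRingHom := Ideal.span_le.2 (by
      rintro _ ⟨j | j, rfl⟩
      · exact hβh j
      · exact hβF j)
    exact hle hx)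
  refine ⟨B, inferInstance, inferInstance, hB, α, β, AlgHom.ext fun a => ?_, fun s hs => ?_⟩
  · obtain ⟨p, rfl⟩ := Pr.surj a
    rw [AlgHom.comp_apply]
    refine Eq.trans (congrArg β (AlgHom.liftOfSurjective_apply Pr.hom Pr.surj _ _ p)) ?_
    exact AlgHom.congr_fun hβsub p
  · rw [Smoothing.singularIdeal, PrimeSpectrum.mem_vanishingIdeal]
    intro q hq
    by_contra hsq
    refine hq ?_
    by_cases hπq : algebraMap R B π ∈ q.asIdeal
    · refine isSmoothAt_desingularized (Nat.le_add_right _ _) Pr.hcm π s hs h g hlead hd (fun j hj => ?_)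
        q.asIdeal hπq hsq
      have := Ideal.mem_map_of_mem sub (hkill (C π) (MvPolynomial.algHom_C _ _) j hj)
      rw [map_mul, Ideal.map_sup, Ideal.map_pow, Ideal.map_span, Ideal.map_span, ← Set.image_comp,
        ← Set.range_comp, show (⇑sub ∘ Pr.rel) = fun j => C (π ^ 2) * g j from funext hF, hF] at this
      rwa [show sub (C π) = C π from by simp [sub, MvPolynomial.algebraMap_eq]] at this
    · exact Algebra.basicOpen_subset_smoothLocus_iff_smooth.2
        (smooth_away_desingularized Pr.hcm π Pr.rel Pr.hom Pr.surj Pr.ker_eq r Bm h g hF hlead)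
        (show q ∈ PrimeSpectrum.basicOpen (algebraMap R B π) from hπq)

end Groth.Agent.SmoothingLib
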