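import Mathlib.RingTheory.Kaehler.Basic
import Mathlib.RingTheory.Smooth.Basic
import Mathlib.Algebra.TrivSqZeroExt.Basic
import Mathlib.Data.Matrix.Mul
import Mathlib.LinearAlgebra.Basis.Basic
import Mathlib.LinearAlgebra.StdBasis
import Mathlib.Algebra.Algebra.Tower

/-!
# The symmetric algebra of the conormal module has free differentials
-/

universe u

open KaehlerDifferential TrivSqZeroExt

namespace Groth.Agent.SmoothingLib

set_option maxHeartbeats 1000000 in
theorem basis_differentials {R B C : Type u} [CommRing R] [CommRing B] [CommRing C] [Algebra R B]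
    [Algebra R C] [Algebra B C] [IsScalarTower R B C] {n : ℕ} (x : Fin n → B)
    (hspan : Submodule.span B (Set.range fun i => D R B (x i)) = ⊤)
    (E : Matrix (Fin n) (Fin n) B) (hE : E * E = E)
    (hEdx : ∀ i, ∑ k, E i k • D R B (x k) = 0)
    (hker : ∀ w : Fin n → B, ∑ i, w i • D R B (x i) = 0 → Matrix.vecMul w (1 - E) = 0)
    (z : Fin n → C) (hz : ∀ i, z i = ∑ k, algebraMap B C (E i k) * z k)
    (hgen : Algebra.adjoin B (Set.range z) = ⊤)
    (huni : ∀ (T : Type u) [CommRing T] [Algebra B T] (ζ : Fin n → T),
      (∀ i, ζ i = ∑ k, algebraMap B T (E i k) * ζ k) → ∃ h : C →ₐ[B] T, ∀ i, h (z i) = ζ i) :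
    ∃ b : Module.Basis (Fin n) C Ω[C⁄R], ∀ i j,
      b.repr (D R C (algebraMap B C (x i) + z i)) j - (if i = j then 1 else 0) ∈ Ideal.span (Set.range z) := by
  classical
  let g : (Fin n → B) →ₗ[B] Ω[B⁄R] := Fintype.linearCombination B fun i => D R B (x i)
  have hg : Function.Surjective g := fun y => by
    obtain ⟨w, hw⟩ := (Submodule.mem_span_range_iff_exists_fun B).1 (hspan ▸ Submodule.mem_top : y ∈ _)
    exact ⟨w, (Fintype.linearCombination_apply B _ _).trans hw⟩
  let L₀ : (Fin n → B) →ₗ[B] (Fin n → C) :=
    (LinearMap.compLeft (Algebra.linearMap B C) (Fin n)) ∘ₗ (1 - E).vecMulLinear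
  have hgL : LinearMap.ker g ≤ LinearMap.ker L₀ := fun w hw => by
    rw [LinearMap.mem_ker, Fintype.linearCombination_apply] at hw
    change (fun j => algebraMap B C (Matrix.vecMul w (1 - E) j)) = 0
    rw [hker w hw]; funext j; exact map_zero _
  let L : Ω[B⁄R] →ₗ[B] (Fin n → C) :=
    (LinearMap.ker g).liftQ L₀ hgL ∘ₗ (g.quotKerEquivOfSurjective hg).symm.toLinearMap
  have hLg : ∀ w, L (g w) = L₀ w := fun w => by
    have : (g.quotKerEquivOfSurjective hg).symm (g w) = Submodule.Quotient.mk w := by
      apply (g.quotKerEquivOfSurjective hg).injective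
      rw [LinearEquiv.apply_symm_apply]; rfl
    simp [L, this]
  let δ : Derivation R B (Fin n → C) := L.compDer (D R B)
  have hδx : ∀ i j, δ (x i) j = algebraMap B C ((1 : Matrix (Fin n) (Fin n) B) i j - E i j) := fun i j => by
    have : g (Pi.single i 1) = D R B (x i) := by simp [g, Fintype.linearCombination_apply_single]
    change L (D R B (x i)) j = _
    rw [← this, hLg]
    change algebraMap B C (Matrix.vecMul (Pi.single i 1) (1 - E) j) = _
    simp
  have key : ∀ {M : Type u} [AddCommGroup M] [Module C M] [Module B M] [Module R M] [IsScalarTower B C M]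
      (d : Derivation R B M) (i : Fin n),
      ∑ k, algebraMap B C (E i k) • ∑ l, z l • d (E k l) = 0 := by
    intro M _ _ _ _ _ d i
    have h1 : ∀ l, d (E i l) = ∑ k, (algebraMap B C (E i k) • d (E k l) + algebraMap B C (E k l) • d (E i k)) := by
      intro l
      conv_lhs => rw [← hE, Matrix.mul_apply, map_sum]
      simp only [Derivation.leibniz, algebraMap_smul]
    have h2 : ∑ l, z l • d (E i l) = (∑ k, algebraMap B C (E i k) • ∑ l, z l • d (E k l)) + ∑ l, z l • d (E i l) := by
      conv_lhs => enter [2, l]; rw [h1, Finset.sum_add_distrib, smul_add]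
      rw [Finset.sum_add_distrib]
      congr 1
      · simp only [Finset.smul_sum]
        rw [Finset.sum_comm]
        exact Finset.sum_congr rfl fun k _ => Finset.sum_congr rfl fun l _ => smul_comm _ _ _
      · simp only [Finset.smul_sum, smul_smul]
        rw [Finset.sum_comm]
        refine Finset.sum_congr rfl fun k _ => ?_
        rw [← Finset.sum_smul, hz k]
        exact congrArg (· • d (E i k)) (Finset.sum_congr rfl fun l _ => mul_comm _ _)
    exact add_eq_right.1 h2.symm
  let s : Fin n → (Fin n → C) := fun i => (∑ k, z k • δ (E i k)) + fun j => algebraMap B C (E i j)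
  have hs : ∀ i, ∑ k, algebraMap B C (E i k) • s k + ∑ k, z k • δ (E i k) = s i := fun i => by
    simp only [s, smul_add, Finset.sum_add_distrib, key δ i, zero_add]
    rw [add_comm]
    congr 1
    funext j
    simp only [Finset.sum_apply, Pi.smul_apply, smul_eq_mul, ← map_mul, ← map_sum]
    exact congrArg _ (by conv_rhs => rw [← hE]
                         rfl)
  let h0 : B →+* (TrivSqZeroExt C (Fin n → C)) :=
    { toFun := fun b => inl (algebraMap B C b) + inr (δ b)
      map_one' := TrivSqZeroExt.ext (by simp) (by simp)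
      map_mul' := fun a b => TrivSqZeroExt.ext (by simp) (by
        simp [Derivation.leibniz, algebraMap_smul]
        try ring)
      map_zero' := TrivSqZeroExt.ext (by simp) (by simp)
      map_add' := fun a b => TrivSqZeroExt.ext (by simp) (by simp [add_comm, add_left_comm]) }
  letI : Algebra B (TrivSqZeroExt C (Fin n → C)) := h0.toAlgebra
  let ζ : Fin n → (TrivSqZeroExt C (Fin n → C)) := fun i => inl (z i) + inr (s i)
  obtain ⟨h, hh⟩ := huni (TrivSqZeroExt C (Fin n → C)) ζ (fun i => by
    refine TrivSqZeroExt.ext ?_ ?_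
    · simp [ζ, fst_sum, RingHom.algebraMap_toAlgebra, h0]
      exact hz i
    · simp [ζ, snd_sum, RingHom.algebraMap_toAlgebra, h0, Finset.sum_add_distrib]
      simpa only [algebraMap_smul] using (hs i).symm)
  have hfst : ∀ c, (h c).fst = c := by
    let p : C →ₐ[B] C := AlgHom.mk ((fstHom C C (Fin n → C)).toRingHom.comp h.toRingHom) (fun b => by
      change (h (algebraMap B C b)).fst = algebraMap B C b
      rw [h.commutes]
      simp [RingHom.algebraMap_toAlgebra, h0])
    have hp : p = AlgHom.id B C := AlgHom.ext_of_adjoin_eq_top hgen (by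
      rintro _ ⟨i, rfl⟩
      change (h (z i)).fst = z i
      simp [hh, ζ])
    exact fun c => AlgHom.congr_fun hp c
  have hR : ∀ r : R, (h (algebraMap R C r)).snd = 0 := fun r => by
    rw [IsScalarTower.algebraMap_apply R B C, h.commutes]
    simp [RingHom.algebraMap_toAlgebra, h0]
  let ψ₀ : Derivation R C (Fin n → C) := Derivation.mk'
    { toFun := fun c => (h c).snd
      map_add' := fun a b => by simp
      map_smul' := fun r c => by
        change (h (r • c)).snd = r • (h c).snd
        rw [Algebra.smul_def, map_mul, snd_mul, hfst, hfst, hR]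
        simp [algebraMap_smul] }
    (fun a b => by
      change (h (a * b)).snd = a • (h b).snd + b • (h a).snd
      rw [map_mul, snd_mul, hfst, hfst, op_smul_eq_smul])
  let ψ := ψ₀.liftKaehlerDifferential
  have hψB : ∀ b : B, ψ (D R C (algebraMap B C b)) = δ b := fun b => by
    rw [Derivation.liftKaehlerDifferential_comp_D]
    change (h (algebraMap B C b)).snd = _
    rw [h.commutes]
    simp [RingHom.algebraMap_toAlgebra, h0]
  have hψz : ∀ i, ψ (D R C (z i)) = s i := fun i => by
    rw [Derivation.liftKaehlerDifferential_comp_D]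
    change (h (z i)).snd = _
    simp [hh, ζ]
  let bv : Fin n → Ω[C⁄R] := fun i => D R C (algebraMap B C (x i)) + D R C (z i) -
    ∑ k, z k • D R C (algebraMap B C (E i k))
  have hψb : ∀ i, ψ (bv i) = Pi.single i 1 := fun i => by
    simp only [bv, map_sub, map_add, map_sum, map_smul, hψB, hψz, s]
    funext j
    simp [hδx, Finset.sum_apply, Pi.single_apply, Matrix.one_apply, eq_comm]
  have hli : LinearIndependent C bv := LinearIndependent.of_comp ψ (by
    rw [show (ψ : Ω[C⁄R] → Fin n → C) ∘ bv = fun i => Pi.single i 1 from funext hψb]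
    rw [show (fun i => Pi.single i 1 : Fin n → Fin n → C) = ⇑(Pi.basisFun C (Fin n)) from
      funext fun i => (Pi.basisFun_apply C (Fin n) i).symm]
    exact (Pi.basisFun C (Fin n)).linearIndependent)
  let N := Submodule.span C (Set.range bv)
  let dB : Derivation R B Ω[C⁄R] := (KaehlerDifferential.map R R B C).compDer (D R B)
  have hdB : ∀ b, dB b = D R C (algebraMap B C b) := fun b => map_D R R B C b
  let dx : Fin n → Ω[C⁄R] := fun i => D R C (algebraMap B C (x i))
  have hEdx' : ∀ i, ∑ k, algebraMap B C (E i k) • dx k = 0 := fun i => by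
    have := congrArg (KaehlerDifferential.map R R B C) (hEdx i)
    simp only [map_sum, map_smul, map_D, map_zero] at this
    simpa [algebraMap_smul] using this
  have hdz : ∀ i, D R C (z i) = ∑ k, algebraMap B C (E i k) • D R C (z k) + ∑ k, z k • D R C (algebraMap B C (E i k)) := fun i => by
    conv_lhs => rw [hz i]
    rw [map_sum, ← Finset.sum_add_distrib]
    exact Finset.sum_congr rfl fun k _ => Derivation.leibniz _ _ _
  have hkey : ∀ i, ∑ k, algebraMap B C (E i k) • ∑ l, z l • D R C (algebraMap B C (E k l)) = 0 := fun i => by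
    have := key dB i
    simpa only [hdB] using this
  have hEb : ∀ i, ∑ k, algebraMap B C (E i k) • bv k = ∑ k, algebraMap B C (E i k) • D R C (z k) := fun i => by
    simp only [bv, smul_sub, smul_add, Finset.sum_sub_distrib, Finset.sum_add_distrib]
    rw [hkey, hEdx', zero_add, sub_zero]
  have hEbN : ∀ i, ∑ k, algebraMap B C (E i k) • bv k ∈ N := fun i =>
    Submodule.sum_mem _ fun k _ => Submodule.smul_mem _ _ (Submodule.subset_span ⟨k, rfl⟩)
  have hdxN : ∀ i, dx i ∈ N := fun i => by
    have : dx i = bv i - ∑ k, algebraMap B C (E i k) • bv k := by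
      rw [hEb]
      simp only [bv, dx]
      conv_rhs => rw [hdz i]
      abel
    exact this ▸ sub_mem (Submodule.subset_span ⟨i, rfl⟩) (hEbN i)
  have hDB : ∀ b : B, D R C (algebraMap B C b) ∈ N := fun b => by
    obtain ⟨w, hw⟩ := hg (D R B b)
    rw [← map_D R R B C, ← hw, Fintype.linearCombination_apply, map_sum]
    refine Submodule.sum_mem _ fun i _ => ?_
    rw [map_smul, map_D, ← algebraMap_smul C (w i)]
    exact Submodule.smul_mem _ _ (hdxN i)
  have hdzN : ∀ i, D R C (z i) ∈ N := fun i => by
    rw [hdz, ← hEb]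
    exact add_mem (hEbN i) (Submodule.sum_mem _ fun k _ => Submodule.smul_mem _ _ (hDB _))
  have htop : ⊤ ≤ N := by
    rw [← span_range_derivation R C, Submodule.span_le]
    rintro _ ⟨c, rfl⟩
    have hc : c ∈ Algebra.adjoin B (Set.range z) := hgen ▸ Algebra.mem_top
    induction hc using Algebra.adjoin_induction with
    | mem y hy => obtain ⟨i, rfl⟩ := hy; exact hdzN i
    | algebraMap b => exact hDB b
    | add a b _ _ ha hb => rw [map_add]; exact add_mem ha hb
    | mul a b _ _ ha hb => rw [Derivation.leibniz]; exact add_mem (N.smul_mem _ hb) (N.smul_mem _ ha)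
  refine ⟨Module.Basis.mk hli htop, fun i j => ?_⟩
  have hrepr : ∀ y, ⇑((Module.Basis.mk hli htop).repr y) = ψ y := fun y => by
    conv_rhs => rw [← (Module.Basis.mk hli htop).sum_repr y]
    funext j
    simp [hψb, Finset.sum_apply, Pi.single_apply]
  rw [hrepr, map_add, map_add, hψB, hψz]
  have hmem : ∀ k, z k * δ (E i k) j ∈ Ideal.span (Set.range z) := fun k =>
    Ideal.mul_mem_right _ _ (Ideal.subset_span ⟨k, rfl⟩)
  convert Submodule.sum_mem _ (fun k (_ : k ∈ Finset.univ) => hmem k) using 1
  simp [s, hδx, Finset.sum_apply, Matrix.one_apply]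

end Groth.Agent.SmoothingLib
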