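import Groth.Agent.SmoothingLib.Conormal
import Groth.Agent.SmoothingLib.KaehlerFree
import Mathlib.RingTheory.FinitePresentation

/-!
# The symmetric algebra on the conormal module of a presentation
-/

universe u

open MvPolynomial KaehlerDifferential

namespace Groth.Agent.SmoothingLib

variable {R A : Type u} [CommRing R] [CommRing A] [Algebra R A] {n m : ℕ}

/-- Syzygies of the classes of the relations in the conormal module. -/
def syz (φ : MvPolynomial (Fin n) R →ₐ[R] A) (f : Fin m → MvPolynomial (Fin n) R) : Set (Fin m → A) :=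
  {c | ∃ c' : Fin m → MvPolynomial (Fin n) R, (∀ j, φ (c' j) = c j) ∧
    ∑ j, c' j * f j ∈ Ideal.span (Set.range f) ^ 2}

/-- The linear forms defining the symmetric algebra of the conormal module. -/
noncomputable def symIdeal (φ : MvPolynomial (Fin n) R →ₐ[R] A) (f : Fin m → MvPolynomial (Fin n) R) :
    Ideal (MvPolynomial (Fin m) A) :=
  Ideal.span ((fun c : Fin m → A => ∑ j, MvPolynomial.C (c j) * MvPolynomial.X j) '' syz φ f)

/-- The symmetric algebra of the conormal module. -/
abbrev SymConormal (φ : MvPolynomial (Fin n) R →ₐ[R] A) (f : Fin m → MvPolynomial (Fin n) R) : Type u :=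
  MvPolynomial (Fin m) A ⧸ symIdeal φ f

/-- The tautological elements. -/
noncomputable def symY (φ : MvPolynomial (Fin n) R →ₐ[R] A) (f : Fin m → MvPolynomial (Fin n) R) (j : Fin m) :
    SymConormal φ f :=
  Ideal.Quotient.mk _ (MvPolynomial.X j)

theorem jac_eq_zero_of_mem_sq (φ : MvPolynomial (Fin n) R →ₐ[R] A) (B : Type u) [CommRing B] [Algebra A B]
    {I : Ideal (MvPolynomial (Fin n) R)} (hI : ∀ g ∈ I, φ g = 0) {x : MvPolynomial (Fin n) R} (hx : x ∈ I ^ 2) :
    jac φ B x = 0 := by
  rw [pow_two] at hx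
  exact Submodule.mul_induction_on (C := fun x => jac φ B x = 0) hx
    (fun g hg h hh => by rw [jac_mul _ _ _ (hI h hh), hI g hg, map_zero, zero_smul])
    (fun a b ha hb => by rw [jac_add, ha, hb, add_zero])

variable (φ : MvPolynomial (Fin n) R →ₐ[R] A) (f : Fin m → MvPolynomial (Fin n) R)

/-- The universal property. -/
theorem exists_symLift (T : Type u) [CommRing T] [Algebra A T] (η : Fin m → T)
    (h : ∀ c ∈ syz φ f, ∑ j, algebraMap A T (c j) * η j = 0) :
    ∃ g : SymConormal φ f →ₐ[A] T, ∀ j, g (symY φ f j) = η j := by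
  refine ⟨Ideal.Quotient.liftₐ _ (MvPolynomial.aeval η) fun x hx => ?_, fun j => ?_⟩
  · have hle : symIdeal φ f ≤ RingHom.ker (MvPolynomial.aeval η : MvPolynomial (Fin m) A →ₐ[A] T) := by
      rw [symIdeal, Ideal.span_le]
      rintro _ ⟨c, hc, rfl⟩
      simp only [SetLike.mem_coe, RingHom.mem_ker, map_sum, map_mul, aeval_C, aeval_X]
      exact h c hc
    exact hle hx
  · exact MvPolynomial.aeval_X η j

theorem adjoin_symY : Algebra.adjoin A (Set.range (symY φ f)) = ⊤ := by
  rw [show symY φ f = Ideal.Quotient.mkₐ A (symIdeal φ f) ∘ MvPolynomial.X from rfl, Set.range_comp,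
    Algebra.adjoin_image, MvPolynomial.adjoin_range_X, Algebra.map_top, AlgHom.range_eq_top]
  exact Ideal.Quotient.mkₐ_surjective A _

theorem exists_retraction : ∃ ρ : SymConormal φ f →ₐ[A] A, ∀ j, ρ (symY φ f j) = 0 :=
  exists_symLift φ f A 0 fun c _ => by simp

/-- Over a formally smooth localization the differentials of the symmetric algebra of the conormal
module are free. -/
theorem exists_basis_symConormal (hφ : Function.Surjective φ)
    (hker : RingHom.ker φ.toRingHom = Ideal.span (Set.range f))
    (M : Submonoid A) (B C' : Type u) [CommRing B] [Algebra A B] [IsLocalization M B] [Algebra R B]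
    [IsScalarTower R A B] [Algebra.FormallySmooth R B] [CommRing C'] [Algebra R C'] [Algebra B C']
    [IsScalarTower R B C'] [Algebra A C'] [IsScalarTower A B C'] [Algebra (SymConormal φ f) C']
    [IsScalarTower A (SymConormal φ f) C']
    [IsLocalization (Algebra.algebraMapSubmonoid (SymConormal φ f) M) C'] :
    ∃ (w : Fin n → C') (b : Module.Basis (Fin n) C' Ω[C'⁄R]),
      (∀ i, w i ∈ Ideal.span (Set.range fun j => algebraMap (SymConormal φ f) C' (symY φ f j))) ∧
      ∀ i j, b.repr (D R C' (algebraMap A C' (φ (X i)) + w i)) j - (if i = j then 1 else 0) ∈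
        Ideal.span (Set.range fun j => algebraMap (SymConormal φ f) C' (symY φ f j)) := by
  classical
  obtain ⟨hA, ⟨T, hT⟩, hspan, hrel⟩ := conormal φ hφ f hker M B
  let C := SymConormal φ f
  let J : Matrix (Fin m) (Fin n) B := Matrix.of fun j => jac φ B (f j)
  have hJTJ : J * T * J = J := by
    refine funext fun l => ?_
    exact hT l
  let E := T * J
  have hE : E * E = E := by
    change T * J * (T * J) = T * J
    rw [Matrix.mul_assoc, ← Matrix.mul_assoc J, hJTJ]
  have hJE : J * (1 - E) = 0 := by
    change J * (1 - T * J) = 0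
    rw [Matrix.mul_sub, Matrix.mul_one, ← Matrix.mul_assoc, hJTJ, sub_self]
  let y : Fin m → C' := fun j => algebraMap C C' (symY φ f j)
  let z : Fin n → C' := fun i => ∑ l, algebraMap B C' (T i l) * y l
  have hI : ∀ g ∈ Ideal.span (Set.range f), φ g = 0 := fun g hg => by
    have : g ∈ RingHom.ker φ.toRingHom := hker ▸ hg
    exact this
  have hfz : ∀ j, φ (f j) = 0 := fun j => hI _ (Ideal.subset_span ⟨j, rfl⟩)
  -- syzygies are killed by the Jacobian matrix
  have hcJ : ∀ c ∈ syz φ f, Matrix.vecMul (fun j => algebraMap A B (c j)) J = 0 := by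
    rintro c ⟨c', hc', hmem⟩
    have h1 := jac_eq_zero_of_mem_sq φ B hI hmem
    rw [jac_sum] at h1
    simp only [jac_mul _ _ _ (hfz _), hc'] at h1
    funext i
    have h2 := congrFun h1 i
    rw [Finset.sum_apply] at h2
    exact h2
  -- conversely
  have hy : ∀ v : Fin m → B, Matrix.vecMul v J = 0 → ∑ j, algebraMap B C' (v j) * y j = 0 := by
    intro v hv
    obtain ⟨⟨b, hb⟩, hbd⟩ := IsLocalization.exist_integer_multiples M Finset.univ v
    choose c hc using fun j => hbd j (Finset.mem_univ j)
    choose c' hc' using fun j => hφ (c j)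
    have h0 : jac φ B (∑ j, c' j * f j) = 0 := by
      rw [jac_sum]
      simp only [jac_mul _ _ _ (hfz _), hc']
      funext i
      have h2 := congrFun hv i
      rw [Finset.sum_apply]
      simp only [Pi.smul_apply, smul_eq_mul, hc]
      simp only [Algebra.smul_def, mul_assoc, ← Finset.mul_sum]
      rw [show ∑ j, v j * jac φ B (f j) i = 0 from h2, mul_zero]
      rfl
    obtain ⟨s, hs, hsx⟩ := hA _ (Ideal.sum_mem _ fun j _ => Ideal.mul_mem_left _ _ (Ideal.subset_span ⟨j, rfl⟩)) h0
    have hsyz : (fun j => φ s * c j) ∈ syz φ f :=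
      ⟨fun j => s * c' j, fun j => by rw [map_mul, hc'], by simpa [Finset.mul_sum, mul_assoc] using hsx⟩
    have h1 : (Ideal.Quotient.mk (symIdeal φ f)) (∑ j, MvPolynomial.C (φ s * c j) * MvPolynomial.X j) = 0 :=
      Ideal.Quotient.eq_zero_iff_mem.2 (Ideal.subset_span ⟨_, hsyz, rfl⟩)
    have h2 := congrArg (algebraMap C C') h1
    rw [map_sum, map_sum, map_zero] at h2
    have hu : IsUnit (algebraMap B C' (algebraMap A B (φ s * b))) :=
      (IsLocalization.map_units B (⟨φ s * b, mul_mem hs hb⟩ : M)).map _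
    refine hu.mul_right_eq_zero.1 ?_
    rw [← h2, Finset.mul_sum]
    refine Finset.sum_congr rfl fun j _ => ?_
    rw [← mul_assoc, ← map_mul, map_mul (Ideal.Quotient.mk (symIdeal φ f)), map_mul (algebraMap C C')]
    refine congrArg₂ (· * ·) ?_ rfl
    rw [map_mul (algebraMap A B), mul_assoc, ← Algebra.smul_def b (v j)]
    change algebraMap B C' (_ * (b • v j)) = algebraMap C C' (algebraMap A C (φ s * c j))
    rw [← hc, ← map_mul, ← IsScalarTower.algebraMap_apply, ← IsScalarTower.algebraMap_apply]
  have hyJz : ∀ l, y l = ∑ i, algebraMap B C' (J l i) * z i := by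
    intro l
    have h1 := hy (fun j => (J * T) l j - (1 : Matrix (Fin m) (Fin m) B) l j) (by
      change Matrix.vecMul ((J * T - 1 : Matrix (Fin m) (Fin m) B) l) J = 0
      have : (J * T - 1) * J = 0 := by rw [Matrix.sub_mul, Matrix.one_mul, hJTJ, sub_self]
      exact congrFun this l)
    simp only [map_sub, sub_mul, Finset.sum_sub_distrib, sub_eq_zero, Matrix.one_apply, apply_ite (algebraMap B C'),
      map_one, map_zero, ite_mul, one_mul, zero_mul, Finset.sum_ite_eq, Finset.mem_univ, if_true] at h1
    rw [← h1]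
    simp only [z, Finset.mul_sum, Matrix.mul_apply, map_sum, Finset.sum_mul, map_mul, ← mul_assoc]
    exact Finset.sum_comm
  have hz : ∀ i, z i = ∑ k, algebraMap B C' (E i k) * z k := by
    intro i
    change ∑ l, algebraMap B C' (T i l) * y l = _
    simp only [fun l => hyJz l, Finset.mul_sum, E, Matrix.mul_apply, map_sum, map_mul, Finset.sum_mul, mul_assoc]
    exact Finset.sum_comm
  have hgen : Algebra.adjoin B (Set.range z) = ⊤ := by
    refine top_unique fun c' _ => ?_
    obtain ⟨⟨c, ⟨s, hs⟩⟩, hcs⟩ := IsLocalization.surj (Algebra.algebraMapSubmonoid C M) c'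
    obtain ⟨b, hb, rfl⟩ := hs
    have hyz : ∀ j, y j ∈ Algebra.adjoin B (Set.range z) := fun j => by
      rw [hyJz]
      exact sum_mem fun i _ => mul_mem (Subalgebra.algebraMap_mem _ _) (Algebra.subset_adjoin ⟨i, rfl⟩)
    have hC : algebraMap C C' c ∈ Algebra.adjoin B (Set.range z) := by
      clear hcs
      have hc : c ∈ Algebra.adjoin A (Set.range (symY φ f)) := adjoin_symY φ f ▸ Algebra.mem_top
      induction hc using Algebra.adjoin_induction with
      | mem x hx => obtain ⟨j, rfl⟩ := hx; exact hyz j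
      | algebraMap a =>
        rw [← IsScalarTower.algebraMap_apply A C C', IsScalarTower.algebraMap_apply A B C']
        exact Subalgebra.algebraMap_mem _ _
      | add a b _ _ ha hb => rw [map_add]; exact add_mem ha hb
      | mul a b _ _ ha hb => rw [map_mul]; exact mul_mem ha hb
    obtain ⟨d, hd⟩ := (IsLocalization.map_units B (⟨b, hb⟩ : M)).exists_right_inv
    have hd' := congrArg (algebraMap B C') hd
    rw [map_mul, map_one, ← IsScalarTower.algebraMap_apply, IsScalarTower.algebraMap_apply A C C'] at hd'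
    have : c' = algebraMap C C' c * algebraMap B C' d := by
      rw [← hcs, mul_assoc]
      exact ((congrArg (c' * ·) hd').trans (mul_one c')).symm
    exact this ▸ mul_mem hC (Subalgebra.algebraMap_mem _ _)
  have huni : ∀ (T' : Type u) [CommRing T'] [Algebra B T'] (ζ : Fin n → T'),
      (∀ i, ζ i = ∑ k, algebraMap B T' (E i k) * ζ k) → ∃ h : C' →ₐ[B] T', ∀ i, h (z i) = ζ i := by
    intro T' _ _ ζ hζ
    letI : Algebra A T' := Algebra.compHom T' (algebraMap A B)
    haveI : IsScalarTower A B T' := IsScalarTower.of_algebraMap_eq fun _ => rfl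
    let η : Fin m → T' := fun l => ∑ i, algebraMap B T' (J l i) * ζ i
    obtain ⟨g, hg⟩ := exists_symLift φ f T' η (fun c hc => by
      simp only [η, Finset.mul_sum, ← mul_assoc, IsScalarTower.algebraMap_apply A B T', ← map_mul]
      rw [Finset.sum_comm]
      refine Finset.sum_eq_zero fun i _ => ?_
      rw [← Finset.sum_mul, ← map_sum]
      have := congrFun (hcJ c hc) i
      rw [show (∑ j, algebraMap A B (c j) * J j i) = 0 from this, map_zero, zero_mul])
    have hunit : ∀ s : Algebra.algebraMapSubmonoid C M, IsUnit (g.toRingHom s) := by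
      rintro ⟨_, b, hb, rfl⟩
      change IsUnit (g (algebraMap A C b))
      rw [g.commutes, IsScalarTower.algebraMap_apply A B T']
      exact (IsLocalization.map_units B (⟨b, hb⟩ : M)).map _
    let h₀ : C' →+* T' := IsLocalization.lift hunit
    have hBc : h₀.comp (algebraMap B C') = algebraMap B T' := IsLocalization.ringHom_ext M (by
      ext a
      simp only [RingHom.comp_apply, ← IsScalarTower.algebraMap_apply]
      rw [IsScalarTower.algebraMap_apply A C C', IsLocalization.lift_eq]
      exact g.commutes a)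
    refine ⟨AlgHom.mk h₀ (fun b => RingHom.congr_fun hBc b), fun i => ?_⟩
    change h₀ (∑ l, algebraMap B C' (T i l) * algebraMap C C' (symY φ f l)) = _
    simp only [map_sum, map_mul, ← RingHom.comp_apply h₀ (algebraMap B C'), hBc, h₀, IsLocalization.lift_eq]
    simp only [AlgHom.toRingHom_eq_coe, RingHom.coe_coe, hg, η, Finset.mul_sum, ← mul_assoc, ← map_mul]
    rw [Finset.sum_comm, hζ i]
    refine Finset.sum_congr rfl fun k _ => ?_
    rw [← Finset.sum_mul, ← map_sum]
    rfl
  obtain ⟨bas, hbas⟩ := basis_differentials (R := R) (B := B) (fun i => algebraMap A B (φ (X i))) hspan E hE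
    (fun i => (hrel _).2 ⟨T i, rfl⟩) (fun w hw => by
      obtain ⟨u, rfl⟩ := (hrel w).1 hw
      rw [Matrix.vecMul_vecMul, hJE, Matrix.vecMul_zero]) z hz hgen huni
  have hzy : ∀ i, z i ∈ Ideal.span (Set.range y) := fun i =>
    Ideal.sum_mem _ fun l _ => Ideal.mul_mem_left _ _ (Ideal.subset_span ⟨l, rfl⟩)
  refine ⟨z, bas, hzy, fun i j => ?_⟩
  rw [IsScalarTower.algebraMap_apply A B C']
  exact Ideal.span_le.2 (by rintro _ ⟨k, rfl⟩; exact hzy k) (hbas i j)

end Groth.Agent.SmoothingLib
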