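import Groth.Agent.SmoothingLib.Desingularize
import Groth.Agent.SmoothingLib.LocalStandard
import Mathlib.RingTheory.Polynomial.Basic

/-!
# Lifting an algebra over a square-zero thickening
-/

universe u

open MvPolynomial

namespace Groth.Agent.SmoothingLib

variable {R : Type u} [CommRing R]

/-- A Jacobian criterion, with the torsion consequence. -/
theorem smoothAt_of_det {N c : ℕ} (hcN : c ≤ N) (π : R) (hR : ∀ r : R, π ^ 2 * r = 0 → π * r = 0)
    (rel : Fin c → MvPolynomial (Fin N) R) (cols : Fin c → Fin N)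
    (q : Ideal (MvPolynomial (Fin N) R ⧸ Ideal.span (Set.range rel))) [q.IsPrime]
    (hd : Ideal.Quotient.mk (Ideal.span (Set.range rel)) (Smoothing.jacobianMinor rel id cols) ∉ q) :
    Algebra.IsSmoothAt R q ∧ ∀ y : Localization.AtPrime q,
      algebraMap R (Localization.AtPrime q) π ^ 2 * y = 0 → algebraMap R (Localization.AtPrime q) π * y = 0 := by
  let S := MvPolynomial (Fin N) R ⧸ Ideal.span (Set.range rel)
  let mkS : MvPolynomial (Fin N) R →ₐ[R] S := Ideal.Quotient.mkₐ R _
  let d := mkS (Smoothing.jacobianMinor rel id cols)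
  haveI : Algebra.FinitePresentation R S :=
    Algebra.FinitePresentation.quotient (Submodule.fg_span (Set.finite_range rel))
  let Pr : Smoothing.MarkedPresentation R S :=
    { n := N, m := c, c := c, hcn := hcN, hcm := le_rfl, rel := rel, hom := mkS
      surj := Ideal.Quotient.mk_surjective, ker_eq := Ideal.mk_ker }
  have hstd : Smoothing.IsStrictlyStandard R S d := by
    refine ⟨Pr, Ideal.subset_span ⟨cols, ?_⟩, fun a' _ j hj => absurd j.2 (not_lt.2 hj)⟩
    change mkS (Smoothing.jacobianMinor rel (Fin.castLE le_rfl) cols) = mkS (Smoothing.jacobianMinor rel id cols)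
    congr 2
  haveI hsm : Algebra.Smooth R (Localization.Away d) := (smooth_and_stablyFree _ hstd).1
  refine ⟨Algebra.basicOpen_subset_smoothLocus_iff_smooth.2 hsm
    (show (⟨q, inferInstance⟩ : PrimeSpectrum S) ∈ PrimeSpectrum.basicOpen d from hd), fun y hy => ?_⟩
  let L := Localization.AtPrime q
  obtain ⟨⟨s, ⟨w, hw⟩⟩, hsw⟩ := IsLocalization.surj q.primeCompl y
  change y * algebraMap S L w = algebraMap S L s at hsw
  have h1 : algebraMap S L (algebraMap R S π ^ 2 * s) = 0 := by
    simp only [map_mul, map_pow]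
    rw [← IsScalarTower.algebraMap_apply, ← hsw, ← mul_assoc, hy, zero_mul]
  obtain ⟨⟨u, hu⟩, hus⟩ := (IsLocalization.map_eq_zero_iff q.primeCompl L _).1 h1
  change u * (algebraMap R S π ^ 2 * s) = 0 at hus
  have h2 := ann_sq_of_flat (S := Localization.Away d) π 1 (fun x hx => by rw [one_mul]; exact hR x hx)
    (algebraMap S _ (u * s)) (by
    rw [IsScalarTower.algebraMap_apply R S (Localization.Away d), ← map_pow, ← map_mul, mul_left_comm, hus, map_zero])
  rw [map_one, one_mul, IsScalarTower.algebraMap_apply R S (Localization.Away d) π, ← map_mul] at h2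
  obtain ⟨⟨_, k, rfl⟩, hk⟩ := (IsLocalization.map_eq_zero_iff (Submonoid.powers d) _ _).1 h2
  change d ^ k * (algebraMap R S π * (u * s)) = 0 at hk
  have hunit : IsUnit (algebraMap S L (d ^ k * u * w)) :=
    IsLocalization.map_units L (⟨_, q.primeCompl.mul_mem (q.primeCompl.mul_mem (q.primeCompl.pow_mem hd k) hu) hw⟩ : q.primeCompl)
  refine hunit.mul_left_cancel ?_
  rw [mul_zero, show algebraMap S L (d ^ k * u * w) * (algebraMap R L π * y) =
    algebraMap S L (d ^ k * u) * algebraMap R L π * (y * algebraMap S L w) by rw [map_mul]; ring, hsw,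
    IsScalarTower.algebraMap_apply R S L, ← map_mul, ← map_mul, ← map_zero (algebraMap S L)]
  refine congrArg _ ?_
  calc d ^ k * u * algebraMap R S π * s = d ^ k * (algebraMap R S π * (u * s)) := by ring
    _ = 0 := hk

section Data

variable {n m r : ℕ} (π : R) (f : Fin m → MvPolynomial (Fin n) R) (h : Fin r → Fin m → MvPolynomial (Fin n) R)
  (b : Fin r → MvPolynomial (Fin n) R)

/-- Relations of the lifted algebra. -/
noncomputable def liftRel : Fin m ⊕ Fin r → MvPolynomial (Fin (n + m)) R :=
  Sum.elim (fun j => rename (Fin.castAdd m) (f j) - C π * X (Fin.natAdd n j))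
    fun l => (∑ j, rename (Fin.castAdd m) (h l j) * X (Fin.natAdd n j)) - C π * rename (Fin.castAdd m) (b l)

theorem isSmoothAt_liftRel_of_not_mem (hR : ∀ x : R, π ^ 2 * x = 0 → π * x = 0)
    (hb : ∀ l, ∑ j, h l j * f j = C (π ^ 2) * b l)
    (Q : Ideal (MvPolynomial (Fin (n + m)) R ⧸ Ideal.span (Set.range (liftRel π f h b)))) [Q.IsPrime]
    (hπ : algebraMap R _ π ∉ Q) : Algebra.IsSmoothAt R Q := by
  classical
  let F : Fin m → MvPolynomial (Fin (n + m)) R := fun j => liftRel π f h b (Sum.inl j)
  have hle : Ideal.span (Set.range F) ≤ Ideal.span (Set.range (liftRel π f h b)) :=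
    Ideal.span_mono (by rintro _ ⟨j, rfl⟩; exact ⟨Sum.inl j, rfl⟩)
  let S := MvPolynomial (Fin (n + m)) R ⧸ Ideal.span (Set.range F)
  let mkS : MvPolynomial (Fin (n + m)) R →ₐ[R] S := Ideal.Quotient.mkₐ R _
  let ψ : S →ₐ[R] MvPolynomial (Fin (n + m)) R ⧸ Ideal.span (Set.range (liftRel π f h b)) :=
    Ideal.Quotient.factorₐ R hle
  let q := Q.comap ψ.toRingHom
  have hdet : Smoothing.jacobianMinor F id (Fin.natAdd n) = C ((-π) ^ m) := by
    have hM : (Matrix.of fun j k : Fin m => pderiv (Fin.natAdd n k) (F (id j))) =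
        Matrix.diagonal fun _ => C (-π) := by
      refine Matrix.ext fun j k => ?_
      have hX : pderiv (Fin.natAdd n k) (rename (Fin.castAdd m) (f j)) = 0 := by
        refine pderiv_eq_zero_of_notMem_vars fun hk => ?_
        obtain ⟨i, -, hi⟩ := Finset.mem_image.1 (vars_rename _ _ hk)
        have h1 := congrArg Fin.val hi
        simp at h1
        have := i.2
        omega
      simp only [Matrix.of_apply, id, F, liftRel, Sum.elim_inl, map_sub, hX, pderiv_C_mul, pderiv_X,
        Pi.single_apply, Matrix.diagonal_apply, zero_sub, map_neg]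
      by_cases hjk : j = k <;> simp [hjk, MvPolynomial.smul_eq_C_mul, eq_comm]
    rw [Smoothing.jacobianMinor, hM, Matrix.det_diagonal, Finset.prod_const, Finset.card_fin, map_pow]
  have hπq : algebraMap R S π ∉ q := fun hh => hπ (by
    change ψ (algebraMap R S π) ∈ Q at hh
    rwa [ψ.commutes] at hh)
  obtain ⟨hsm, -⟩ := smoothAt_of_det (Nat.le_add_left m n) π hR F (Fin.natAdd n) q (fun hh => hπq (by
    rw [hdet] at hh
    change mkS (C ((-π) ^ m)) ∈ q at hh
    rw [MvPolynomial.algHom_C, map_pow, map_neg] at hh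
    exact (q.neg_mem_iff).1 (Ideal.IsPrime.mem_of_pow_mem inferInstance _ hh)))
  refine isSmoothAt_of_surjective ψ (Ideal.Quotient.factor_surjective hle) Q fun s hs => ?_
  obtain ⟨s, rfl⟩ := Ideal.Quotient.mk_surjective s
  let θ : MvPolynomial (Fin (n + m)) R →ₐ[R] Localization.AtPrime q := (IsScalarTower.toAlgHom R S _).comp mkS
  have hθF : ∀ j, θ (F j) = 0 := fun j => by
    change algebraMap S _ (mkS (F j)) = 0
    rw [show mkS (F j) = 0 from Ideal.Quotient.eq_zero_iff_mem.2 (Ideal.subset_span ⟨j, rfl⟩), map_zero]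
  have hker : Ideal.span (Set.range (liftRel π f h b)) ≤ RingHom.ker θ.toRingHom := Ideal.span_le.2 (by
    rintro _ ⟨j | l, rfl⟩
    · exact hθF j
    · change θ (liftRel π f h b (Sum.inr l)) = 0
      have hu : IsUnit (algebraMap R (Localization.AtPrime q) π) := by
        rw [IsScalarTower.algebraMap_apply R S (Localization.AtPrime q)]
        exact IsLocalization.map_units _ (⟨_, hπq⟩ : q.primeCompl)
      refine hu.mul_right_eq_zero.1 ?_
      rw [← MvPolynomial.algHom_C θ, ← map_mul]
      have hz : ∀ j, θ (C π * X (Fin.natAdd n j)) = θ (rename (Fin.castAdd m) (f j)) := fun j => by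
        have := hθF j
        simp only [F, liftRel, Sum.elim_inl, map_sub, sub_eq_zero] at this
        exact this.symm
      simp only [liftRel, Sum.elim_inr, mul_sub, Finset.mul_sum, map_sub, map_sum, mul_left_comm (C π) (rename _ _),
        map_mul θ (rename _ _), hz]
      rw [sub_eq_zero]
      simp only [← map_mul θ, ← map_sum θ]
      refine congrArg θ ?_
      simp only [← map_mul (rename (Fin.castAdd m)), ← map_sum (rename (Fin.castAdd m)), hb]
      simp only [map_mul, rename_C, map_pow]
      ring)
  exact hker (Ideal.Quotient.eq_zero_iff_mem.1 hs)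

theorem pderiv_rename_of_notMem {σ τ : Type*} [DecidableEq τ] (e : σ → τ) (i : τ) (hi : i ∉ Set.range e)
    (p : MvPolynomial σ R) : pderiv i (rename e p) = 0 := by
  classical
  refine pderiv_eq_zero_of_notMem_vars fun hk => ?_
  obtain ⟨j, -, hj⟩ := Finset.mem_image.1 (vars_rename _ _ hk)
  exact hi ⟨j, hj⟩

/-- Auxiliary relations at a point over `π`. -/
noncomputable def auxRel {c : ℕ} (rows : Fin c → Fin m) (u : MvPolynomial (Fin n) R)
    (a : Fin m → Fin c → MvPolynomial (Fin n) R) (bb : Fin m → MvPolynomial (Fin n) R) :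
    Fin (c + m) → MvPolynomial (Fin (n + m + c)) R :=
  Fin.append
    (fun k => rename (Fin.castAdd c ∘ Fin.castAdd m) (f (rows k)) - C π * X (Fin.natAdd (n + m) k))
    (fun j => rename (Fin.castAdd c ∘ Fin.castAdd m) u * X (Fin.castAdd c (Fin.natAdd n j)) -
      (∑ k, rename (Fin.castAdd c ∘ Fin.castAdd m) (a j k) * X (Fin.natAdd (n + m) k)) -
      C π * rename (Fin.castAdd c ∘ Fin.castAdd m) (bb j))

theorem jacobianMinor_auxRel {c : ℕ} (rows : Fin c → Fin m) (cols : Fin c → Fin n) (u : MvPolynomial (Fin n) R)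
    (a : Fin m → Fin c → MvPolynomial (Fin n) R) (bb : Fin m → MvPolynomial (Fin n) R) :
    Smoothing.jacobianMinor (auxRel π f rows u a bb) id
      (Fin.append (Fin.castAdd c ∘ Fin.castAdd m ∘ cols) (Fin.castAdd c ∘ Fin.natAdd n)) =
      rename (Fin.castAdd c ∘ Fin.castAdd m) (Smoothing.jacobianMinor f rows cols * u ^ m) := by
  classical
  set e : Fin n → Fin (n + m + c) := Fin.castAdd c ∘ Fin.castAdd m with he
  have hinj : Function.Injective e := (Fin.castAdd_injective _ _).comp (Fin.castAdd_injective _ _)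
  have hw : ∀ k, Fin.natAdd (n + m) k ∉ Set.range e := by
    rintro k ⟨i, hi⟩
    have h1 := congrArg Fin.val hi
    simp [he] at h1; omega
  have hz : ∀ j, Fin.castAdd c (Fin.natAdd n j) ∉ Set.range e := by
    rintro j ⟨i, hi⟩
    have h1 := congrArg Fin.val hi
    simp [he] at h1; omega
  have hwx : ∀ i k, pderiv (e i) (X (Fin.natAdd (n + m) k) : MvPolynomial (Fin (n + m + c)) R) = 0 := fun i k =>
    pderiv_X_of_ne fun h => hw k ⟨i, h.symm⟩
  have hzw : ∀ j k, pderiv (Fin.castAdd c (Fin.natAdd n j)) (X (Fin.natAdd (n + m) k) : MvPolynomial (Fin (n + m + c)) R) = 0 := fun j k =>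
    pderiv_X_of_ne fun h => by
      have h1 := congrArg Fin.val h
      have := j.2
      simp at h1; omega
  set M : Matrix (Fin c ⊕ Fin m) (Fin c ⊕ Fin m) (MvPolynomial (Fin (n + m + c)) R) :=
    Matrix.fromBlocks ((Matrix.of fun j k : Fin c => pderiv (cols k) (f (rows j))).map (rename e)) 0
      (Matrix.of fun (j : Fin m) (k : Fin c) => pderiv (e (cols k)) (auxRel π f rows u a bb (Fin.natAdd c j)))
      (Matrix.diagonal fun _ => rename e u) with hMdef
  have hM : (Matrix.of fun j k : Fin (c + m) => pderiv
      (Fin.append (Fin.castAdd c ∘ Fin.castAdd m ∘ cols) (Fin.castAdd c ∘ Fin.natAdd n) k)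
      (auxRel π f rows u a bb (id j))) = M.submatrix finSumFinEquiv.symm finSumFinEquiv.symm := by
    refine Matrix.ext fun j k => ?_
    induction j using Fin.addCases with
    | left j =>
      induction k using Fin.addCases with
      | left k =>
        simp only [Matrix.of_apply, id, Fin.append_left, Matrix.submatrix_apply, finSumFinEquiv_symm_apply_castAdd,
          hMdef, Matrix.fromBlocks_apply₁₁, Matrix.map_apply, auxRel, ← he]
        change pderiv (e (cols k)) _ = _
        simp [pderiv_rename hinj, hwx, pderiv_C_mul]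
      | right k =>
        simp only [Matrix.of_apply, id, Fin.append_left, Fin.append_right, Matrix.submatrix_apply,
          finSumFinEquiv_symm_apply_castAdd, finSumFinEquiv_symm_apply_natAdd, hMdef, Matrix.fromBlocks_apply₁₂,
          auxRel, ← he, Function.comp_apply, Matrix.zero_apply]
        simp [pderiv_rename_of_notMem _ _ (hz k), hzw, pderiv_C_mul]
    | right j =>
      induction k using Fin.addCases with
      | left k =>
        simp only [Matrix.of_apply, id, Fin.append_left, Matrix.submatrix_apply, finSumFinEquiv_symm_apply_castAdd,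
          finSumFinEquiv_symm_apply_natAdd, hMdef, Matrix.fromBlocks_apply₂₁]
        rfl
      | right k =>
        simp only [Matrix.of_apply, id, Fin.append_right, Matrix.submatrix_apply,
          finSumFinEquiv_symm_apply_natAdd, hMdef, Matrix.fromBlocks_apply₂₂, auxRel, ← he, Function.comp_apply,
          map_sub, map_sum, pderiv_mul, pderiv_rename_of_notMem _ _ (hz k), hzw, pderiv_C, mul_zero, zero_mul,
          add_zero, zero_add, Finset.sum_const_zero, sub_zero, pderiv_X, Pi.single_apply, Matrix.diagonal_apply]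
        by_cases hjk : j = k
        · simp [hjk]
        · have : ¬ Fin.castAdd c (Fin.natAdd n j) = Fin.castAdd c (Fin.natAdd n k) := fun h => hjk
            ((Fin.natAdd_injective _ _) (Fin.castAdd_injective _ _ h))
          simp [hjk, this]
  rw [Smoothing.jacobianMinor, hM, Matrix.det_submatrix_equiv_self, hMdef, Matrix.det_fromBlocks_zero₁₂,
    Matrix.det_diagonal, Finset.prod_const, Finset.card_fin, map_mul, map_pow, Smoothing.jacobianMinor, AlgHom.map_det]
  rfl

theorem isSmoothAt_liftRel_of_data (hR : ∀ x : R, π ^ 2 * x = 0 → π * x = 0)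
    (hb : ∀ l, ∑ j, h l j * f j = C (π ^ 2) * b l)
    (hgen : ∀ (h' : Fin m → MvPolynomial (Fin n) R) (b' : MvPolynomial (Fin n) R),
      ∑ j, h' j * f j = C (π ^ 2) * b' →
      (∑ j, rename (Fin.castAdd m) (h' j) * X (Fin.natAdd n j)) - C π * rename (Fin.castAdd m) b' ∈
        Ideal.span (Set.range (liftRel π f h b)))
    {c : ℕ} (hcn : c ≤ n) (rows : Fin c → Fin m) (cols : Fin c → Fin n) (u : MvPolynomial (Fin n) R)
    (a : Fin m → Fin c → MvPolynomial (Fin n) R) (bb : Fin m → MvPolynomial (Fin n) R)
    (hu : ∀ j, u * f j = ∑ k, a j k * f (rows k) + C (π ^ 2) * bb j)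
    (Q : Ideal (MvPolynomial (Fin (n + m)) R ⧸ Ideal.span (Set.range (liftRel π f h b)))) [Q.IsPrime]
    (hπ : algebraMap R _ π ∈ Q)
    (hdu : Ideal.Quotient.mk (Ideal.span (Set.range (liftRel π f h b)))
      (rename (Fin.castAdd m) (Smoothing.jacobianMinor f rows cols * u)) ∉ Q) :
    Algebra.IsSmoothAt R Q := by
  classical
  let ID := Ideal.span (Set.range (liftRel π f h b))
  let D := MvPolynomial (Fin (n + m)) R ⧸ ID
  let mkD : MvPolynomial (Fin (n + m)) R →ₐ[R] D := Ideal.Quotient.mkₐ R ID
  let IS := Ideal.span (Set.range (auxRel π f rows u a bb))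
  let S := MvPolynomial (Fin (n + m + c)) R ⧸ IS
  let mkS : MvPolynomial (Fin (n + m + c)) R →ₐ[R] S := Ideal.Quotient.mkₐ R IS
  let e : Fin n → Fin (n + m + c) := Fin.castAdd c ∘ Fin.castAdd m
  let τ : MvPolynomial (Fin (n + m + c)) R →ₐ[R] MvPolynomial (Fin (n + m)) R :=
    aeval (Fin.append (fun i => X i) fun k => X (Fin.natAdd n (rows k)))
  have hτe : ∀ p, τ (rename e p) = rename (Fin.castAdd m) p := fun p => by
    have : τ.comp (rename e) = rename (Fin.castAdd m) := MvPolynomial.algHom_ext fun i => by simp [τ, e]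
    exact AlgHom.congr_fun this p
  have hτz : ∀ j, τ (X (Fin.castAdd c (Fin.natAdd n j))) = X (Fin.natAdd n j) := fun j => by simp [τ]
  have hτw : ∀ k, τ (X (Fin.natAdd (n + m) k)) = X (Fin.natAdd n (rows k)) := fun k => by simp [τ]
  have hτrel : IS ≤ RingHom.ker (mkD.comp τ).toRingHom := Ideal.span_le.2 (by
    rintro _ ⟨i, rfl⟩
    refine Ideal.Quotient.eq_zero_iff_mem.2 ?_
    change τ (auxRel π f rows u a bb i) ∈ ID
    induction i using Fin.addCases with
    | left k =>
      simp only [auxRel, Fin.append_left, map_sub, map_mul, MvPolynomial.algHom_C, MvPolynomial.algebraMap_eq]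
      rw [hτe, hτw]
      exact Ideal.subset_span ⟨Sum.inl (rows k), rfl⟩
    | right j =>
      let h' : Fin m → MvPolynomial (Fin n) R := fun i =>
        (if i = j then u else 0) - ∑ k, if rows k = i then a j k else 0
      have hh' : ∑ i, h' i * f i = C (π ^ 2) * bb j := by
        simp only [h', sub_mul, Finset.sum_sub_distrib, ite_mul, zero_mul, Finset.sum_ite_eq', Finset.mem_univ,
          if_true, Finset.sum_mul]
        rw [Finset.sum_comm]
        simp only [Finset.sum_ite_eq, Finset.mem_univ, if_true]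
        rw [hu j]; ring
      convert hgen h' (bb j) hh' using 1
      simp only [auxRel, Fin.append_right, map_sub, map_sum, map_mul, MvPolynomial.algHom_C, MvPolynomial.algebraMap_eq]
      simp only [show ∀ p, τ (rename (Fin.castAdd c ∘ Fin.castAdd m) p) = rename (Fin.castAdd m) p from hτe, hτz, hτw]
      congr 1
      simp only [h', map_sub, map_sum, apply_ite (rename (Fin.castAdd m)), map_zero, sub_mul, Finset.sum_sub_distrib,
        ite_mul, zero_mul, Finset.sum_ite_eq', Finset.mem_univ, if_true, Finset.sum_mul]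
      rw [Finset.sum_comm]
      simp [Finset.sum_ite_eq])
  let ψ : S →ₐ[R] D := Ideal.Quotient.liftₐ IS (mkD.comp τ) fun x hx => hτrel hx
  have hψ : Function.Surjective ψ := fun y => by
    obtain ⟨p, rfl⟩ := Ideal.Quotient.mk_surjective y
    refine ⟨mkS (rename (Fin.castAdd c) p), ?_⟩
    change mkD (τ (rename (Fin.castAdd c) p)) = mkD p
    have : τ.comp (rename (Fin.castAdd c)) = AlgHom.id R _ := MvPolynomial.algHom_ext fun i => by simp [τ]
    exact congrArg mkD (AlgHom.congr_fun this p)
  let q := Q.comap ψ.toRingHom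
  have hψe : ∀ p, ψ (mkS (rename e p)) = mkD (rename (Fin.castAdd m) p) := fun p => congrArg mkD (hτe p)
  have hd : mkS (rename e (Smoothing.jacobianMinor f rows cols)) ∉ q := fun hh => hdu (by
    change mkD (rename (Fin.castAdd m) _) ∈ Q
    rw [map_mul, map_mul, ← hψe]
    exact Ideal.mul_mem_right _ _ hh)
  have huq : mkS (rename e u) ∉ q := fun hh => hdu (by
    change mkD (rename (Fin.castAdd m) _) ∈ Q
    rw [map_mul, map_mul, ← hψe u]
    exact Ideal.mul_mem_left _ _ hh)
  obtain ⟨hsm, hann⟩ := smoothAt_of_det (by omega : c + m ≤ n + m + c) π hR (auxRel π f rows u a bb)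
    (Fin.append (Fin.castAdd c ∘ Fin.castAdd m ∘ cols) (Fin.castAdd c ∘ Fin.natAdd n)) q (fun hh => by
      rw [jacobianMinor_auxRel] at hh
      change mkS (rename e _) ∈ q at hh
      rw [map_mul, map_pow, map_mul, map_pow] at hh
      exact (Ideal.IsPrime.mem_or_mem inferInstance hh).elim hd fun hh => huq (Ideal.IsPrime.mem_of_pow_mem inferInstance _ hh))
  letI instS : CommRing S := Ideal.Quotient.commRing IS
  haveI : q.IsPrime := Ideal.comap_isPrime ψ.toRingHom Q
  let L := Localization.AtPrime q
  letI instL : CommRing L := OreLocalization.instCommRing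
  let θ : MvPolynomial (Fin (n + m + c)) R →ₐ[R] L := (IsScalarTower.toAlgHom R S L).comp mkS
  have hθrel : ∀ i, θ (auxRel π f rows u a bb i) = 0 := fun i => by
    change algebraMap S L (mkS _) = 0
    rw [show mkS (auxRel π f rows u a bb i) = 0 from Ideal.Quotient.eq_zero_iff_mem.2 (Ideal.subset_span ⟨i, rfl⟩), map_zero]
  let η : MvPolynomial (Fin n) R →ₐ[R] L := θ.comp (rename e)
  let Z : Fin m → L := fun j => θ (X (Fin.castAdd c (Fin.natAdd n j)))
  let W : Fin c → L := fun k => θ (X (Fin.natAdd (n + m) k))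
  let p := algebraMap R L π
  have hηC : ∀ x, η (C x) = algebraMap R L x := fun x => MvPolynomial.algHom_C _ _
  have hw : ∀ k, η (f (rows k)) = p * W k := fun k => by
    have := hθrel (Fin.castAdd m k)
    simp only [auxRel, Fin.append_left, map_sub, map_mul, MvPolynomial.algHom_C, sub_eq_zero] at this
    exact this
  have hzE : ∀ j, η u * Z j = ∑ k, η (a j k) * W k + p * η (bb j) := fun j => by
    have := hθrel (Fin.natAdd c j)
    simp only [auxRel, Fin.append_right, map_sub, map_sum, map_mul, MvPolynomial.algHom_C] at this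
    linear_combination (norm := skip) this
    simp only [η, Z, W, p, AlgHom.comp_apply, e]
    ring
  have huu : IsUnit (η u) := IsLocalization.map_units L (⟨_, huq⟩ : q.primeCompl)
  have hdd : IsUnit (η (Smoothing.jacobianMinor f rows cols)) := IsLocalization.map_units L (⟨_, hd⟩ : q.primeCompl)
  have hf : ∀ j, η (f j) = p * Z j := fun j => by
    refine huu.mul_left_cancel ?_
    rw [← map_mul, hu, mul_left_comm, hzE]
    simp only [map_add, map_sum, map_mul, hw, hηC, map_pow, mul_add, Finset.mul_sum]
    refine congrArg₂ (· + ·) (Finset.sum_congr rfl fun k _ => mul_left_comm _ _ _) (by simp only [p]; ring)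
  -- the main vanishing
  have key : ∀ (A : Fin c → MvPolynomial (Fin n) R) (B : MvPolynomial (Fin n) R),
      ∑ k, A k * f (rows k) + C (π ^ 2) * B = 0 → ∑ k, η (A k) * W k + p * η B = 0 := by
    intro A B hAB
    set y := ∑ k, η (A k) * W k + p * η B with hy
    have hpy : p * y = 0 := by
      have := congrArg η hAB
      simp only [map_add, map_sum, map_mul, hw, map_zero, hηC, map_pow] at this
      rw [hy, mul_add, Finset.mul_sum, ← this]
      refine congrArg₂ (· + ·) (Finset.sum_congr rfl fun k _ => mul_left_comm _ _ _) (by simp only [p]; ring)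
    -- `A` is divisible by `π`
    let I := Ideal.span {p}
    let κ : MvPolynomial (Fin n) R →+* L ⧸ I := (Ideal.Quotient.mk I).comp η.toRingHom
    let M : Matrix (Fin c) (Fin c) (L ⧸ I) := (Matrix.of fun j k : Fin c => pderiv (cols k) (f (rows j))).map κ
    have hκπ : ∀ x, κ (C (π ^ 2) * x) = 0 := fun x => Ideal.Quotient.eq_zero_iff_mem.2 (by
      change η (C (π ^ 2) * x) ∈ I
      rw [map_mul, hηC, map_pow, pow_two, mul_assoc]
      exact Ideal.mul_mem_right _ _ (Ideal.mem_span_singleton_self _))
    have hκf : ∀ k, κ (f (rows k)) = 0 := fun k => Ideal.Quotient.eq_zero_iff_mem.2 (by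
      change η (f (rows k)) ∈ I
      rw [hw]; exact Ideal.mul_mem_right _ _ (Ideal.mem_span_singleton_self _))
    have hvec : Matrix.vecMul (fun k => κ (A k)) M = 0 := by
      funext i
      have h1 := congrArg (fun x => κ (pderiv (cols i) x)) hAB
      simp only [map_add, map_sum, pderiv_mul, pderiv_C, zero_mul, zero_add, map_zero, hκπ, add_zero,
        map_mul κ (pderiv _ _), hκf, mul_zero] at h1
      simp only [Matrix.vecMul, dotProduct, M, Matrix.map_apply, Matrix.of_apply, Pi.zero_apply, ← map_mul]
      exact h1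
    have hMdet : IsUnit M.det := by
      have : M.det = κ (Smoothing.jacobianMinor f rows cols) := by
        rw [Smoothing.jacobianMinor, RingHom.map_det]; rfl
      rw [this]
      exact hdd.map (Ideal.Quotient.mk I)
    have hA : ∀ k, η (A k) ∈ I := fun k => by
      have h2 := congrArg (fun v => Matrix.vecMul v M.adjugate) hvec
      simp only [Matrix.vecMul_vecMul, Matrix.mul_adjugate, Matrix.zero_vecMul, Matrix.vecMul_smul,
        Matrix.vecMul_one] at h2
      exact Ideal.Quotient.eq_zero_iff_mem.1 (hMdet.mul_right_eq_zero.1 (congrFun h2 k))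
    have hyI : y ∈ I := add_mem (Ideal.sum_mem _ fun k _ => Ideal.mul_mem_right _ _ (hA k))
      (Ideal.mul_mem_right _ _ (Ideal.mem_span_singleton_self _))
    obtain ⟨w, hw'⟩ := Ideal.mem_span_singleton'.1 hyI
    rw [← hw', mul_comm w] at hpy ⊢
    exact hann w (by rw [pow_two, mul_assoc]; exact hpy)
  refine isSmoothAt_of_surjective ψ hψ Q fun s hs => ?_
  obtain ⟨s, rfl⟩ := Ideal.Quotient.mk_surjective s
  change θ s = 0
  -- `θ` factors through `D`
  let θ' : MvPolynomial (Fin (n + m)) R →ₐ[R] L := θ.comp (rename (Fin.castAdd c))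
  have hθ'e : ∀ x, θ' (rename (Fin.castAdd m) x) = η x := fun x => by simp [θ', η, e, rename_rename]
  have hθ'z : ∀ j, θ' (X (Fin.natAdd n j)) = Z j := fun j => by simp [θ', Z]
  have hID : ID ≤ RingHom.ker θ'.toRingHom := Ideal.span_le.2 (by
    rintro _ ⟨j | l, rfl⟩
    · change θ' _ = 0
      simp only [liftRel, Sum.elim_inl, map_sub, map_mul, MvPolynomial.algHom_C, hθ'e, hθ'z, hf]
      exact sub_self _
    · change θ' _ = 0
      simp only [liftRel, Sum.elim_inr, map_sub, map_mul, map_sum, MvPolynomial.algHom_C, hθ'e, hθ'z]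
      refine huu.mul_right_eq_zero.1 ?_
      have h1 := key (fun k => ∑ j, h l j * a j k) ((∑ j, h l j * bb j) - u * b l) (by
        calc ∑ k, (∑ j, h l j * a j k) * f (rows k) + C (π ^ 2) * ((∑ j, h l j * bb j) - u * b l)
            = ∑ j, h l j * (∑ k, a j k * f (rows k) + C (π ^ 2) * bb j) - u * (C (π ^ 2) * b l) := by
              simp only [mul_add, Finset.sum_add_distrib, Finset.mul_sum, Finset.sum_mul, mul_sub]
              rw [Finset.sum_comm]
              simp only [mul_assoc, mul_left_comm (C (π ^ 2) : MvPolynomial (Fin n) R)]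
              ring
          _ = 0 := by
              rw [← hb l, Finset.mul_sum, ← Finset.sum_sub_distrib]
              exact Finset.sum_eq_zero fun j _ => by rw [← hu]; ring)
      refine Eq.trans ?_ h1
      rw [mul_sub, Finset.mul_sum]
      simp only [mul_left_comm (η u), hzE]
      simp only [map_sum, map_mul, map_sub, mul_add, Finset.sum_add_distrib, Finset.mul_sum, Finset.sum_mul, mul_sub]
      rw [Finset.sum_comm]
      simp only [mul_assoc, p, mul_left_comm (algebraMap R L π)]
      ring)
  have hsτ : θ s = θ' (τ s) := by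
    have : θ = θ'.comp τ := MvPolynomial.algHom_ext fun i => by
      induction i using Fin.addCases with
      | left i => simp [θ', τ]
      | right k =>
        change W k = θ' (τ (X (Fin.natAdd (n + m) k)))
        rw [hτw, hθ'z]
        -- `w_k = z_(rows k)`
        have h1 := key (fun k' => a (rows k) k' - if k' = k then u else 0) (bb (rows k)) (by
          simp only [sub_mul, Finset.sum_sub_distrib, ite_mul, zero_mul, Finset.sum_ite_eq', Finset.mem_univ, if_true]
          linear_combination -(hu (rows k)))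
        simp only [map_sub, apply_ite η, map_zero, sub_mul, Finset.sum_sub_distrib, ite_mul, zero_mul,
          Finset.sum_ite_eq', Finset.mem_univ, if_true] at h1
        refine huu.mul_left_cancel ?_
        rw [hzE (rows k)]
        linear_combination -h1
    exact AlgHom.congr_fun this s
  rw [hsτ]
  exact hID (Ideal.Quotient.eq_zero_iff_mem.1 hs)

end Data

end Groth.Agent.SmoothingLib
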