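import Groth.Agent.SmoothingLib.LocalStandard
import Groth.Agent.SmoothingLib.Lifting
import Groth.Agent.GeomReg.Basic
import Mathlib.RingTheory.Finiteness.Prod

/-!
# Smoothness at a special point from freeness of the differentials along a discrete valuation ring
-/

set_option linter.style.haveILetI false

universe u

open MvPolynomial TensorProduct

namespace Groth.Agent.SmoothingLib

variable {R A : Type u} [CommRing R] [CommRing A] [Algebra R A] {n m : ℕ}

/-- If `Λ ⊗ Ω` is free, the span of the Jacobian rows is a direct summand. -/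
theorem exists_retraction_jac (φ : MvPolynomial (Fin n) R →ₐ[R] A) (hφ : Function.Surjective φ)
    (f : Fin m → MvPolynomial (Fin n) R) (hker : RingHom.ker φ.toRingHom = Ideal.span (Set.range f))
    (Λ : Type u) [CommRing Λ] [Algebra A Λ] [Algebra R Λ] [IsScalarTower R A Λ]
    [Module.Free Λ (Λ ⊗[A] Ω[A⁄R])] :
    ∃ r : (Fin n → Λ) →ₗ[Λ] Submodule.span Λ (Set.range fun l => jac φ Λ (f l)),
      ∀ x : Submodule.span Λ (Set.range fun l => jac φ Λ (f l)), r x.1 = x := by
  classical
  let N := Submodule.span Λ (Set.range fun l => jac φ Λ (f l))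
  have hfz : ∀ j, φ (f j) = 0 := fun j => by
    have : f j ∈ RingHom.ker φ.toRingHom := hker ▸ Ideal.subset_span ⟨j, rfl⟩
    exact this
  have hI : ∀ x, φ x = 0 → jac φ Λ x ∈ N := fun x hx => by
    obtain ⟨w, rfl⟩ := Ideal.mem_span_range_iff_exists_fun.1 (hker.le (hx : x ∈ RingHom.ker φ.toRingHom))
    rw [jac_sum]
    refine Submodule.sum_mem _ fun j _ => ?_
    rw [jac_mul φ Λ _ (hfz j)]
    exact Submodule.smul_mem _ _ (Submodule.subset_span ⟨j, rfl⟩)
  let Θ : (Fin n → Λ) →ₗ[Λ] Λ ⊗[A] Ω[A⁄R] :=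
    Fintype.linearCombination Λ fun i => (1 : Λ) ⊗ₜ[A] KaehlerDifferential.D R A (φ (X i))
  have hΘ : ∀ x, Θ (jac φ Λ x) = (1 : Λ) ⊗ₜ[A] KaehlerDifferential.D R A (φ x) := fun x => by
    induction x using MvPolynomial.induction_on with
    | C a =>
      rw [show jac φ Λ (C a) = 0 from funext fun i => by simp [jac], map_zero, MvPolynomial.algHom_C,
        Derivation.map_algebraMap, TensorProduct.tmul_zero]
    | add p q hp hq => rw [jac_add, map_add, hp, hq, map_add, map_add, TensorProduct.tmul_add]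
    | mul_X p i hp =>
      have h1 : jac φ Λ (p * X i) = algebraMap A Λ (φ (X i)) • jac φ Λ p + algebraMap A Λ (φ p) • Pi.single i 1 := by
        funext j
        rcases eq_or_ne j i with rfl | hji
        · simp [jac, pderiv_mul, mul_comm, Algebra.smul_def]; try ring
        · simp [jac, pderiv_mul, pderiv_X_of_ne hji.symm, hji, mul_comm, Algebra.smul_def]
      rw [h1, map_add, map_smul, map_smul, hp, Fintype.linearCombination_apply_single, one_smul, map_mul φ,
        Derivation.leibniz, TensorProduct.tmul_add, TensorProduct.tmul_smul, TensorProduct.tmul_smul,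
        IsScalarTower.algebraMap_smul, IsScalarTower.algebraMap_smul, add_comm]
  have hker' : ∀ v, Θ v = 0 → v ∈ N := by
    let d : A → (Fin n → Λ) ⧸ N := fun a => N.mkQ (jac φ Λ (Function.surjInv hφ a))
    have hd : ∀ x, d (φ x) = N.mkQ (jac φ Λ x) := fun x => by
      show N.mkQ _ = N.mkQ _
      rw [Submodule.mkQ_apply, Submodule.mkQ_apply, Submodule.Quotient.eq, ← jac_sub]
      exact hI _ (by rw [map_sub, Function.surjInv_eq hφ, sub_self])
    let D : Derivation R A ((Fin n → Λ) ⧸ N) := Derivation.mk'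
      { toFun := d
        map_add' := fun a b => by
          obtain ⟨a, rfl⟩ := hφ a; obtain ⟨b, rfl⟩ := hφ b
          rw [← map_add φ, hd, hd, hd, jac_add, map_add]
        map_smul' := fun s a => by
          obtain ⟨a, rfl⟩ := hφ a
          rw [← map_smul φ, hd, hd, RingHom.id_apply, ← LinearMap.map_smul_of_tower]
          congr 1
          funext i
          show algebraMap A Λ (φ (pderiv i (s • a))) = s • algebraMap A Λ (φ (pderiv i a))
          rw [Derivation.map_smul, map_smul, ← IsScalarTower.coe_toAlgHom' R A Λ, map_smul] }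
      fun a b => by
        obtain ⟨a, rfl⟩ := hφ a; obtain ⟨b, rfl⟩ := hφ b
        show d (φ a * φ b) = φ a • d (φ b) + φ b • d (φ a)
        rw [← map_mul φ, hd, hd, hd, ← LinearMap.map_smul_of_tower, ← LinearMap.map_smul_of_tower, ← map_add]
        congr 1
        funext i
        simp only [jac, pderiv_mul, map_add, map_mul, Pi.add_apply, Pi.smul_apply, Algebra.smul_def]
        show _ = algebraMap A Λ (φ a) * algebraMap A Λ (φ (pderiv i b)) +
          algebraMap A Λ (φ b) * algebraMap A Λ (φ (pderiv i a))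
        ring
    let Φ : Λ ⊗[A] Ω[A⁄R] →ₗ[Λ] (Fin n → Λ) ⧸ N := D.liftKaehlerDifferential.liftBaseChange Λ
    have hΦ : Φ.comp Θ = N.mkQ := by
      refine LinearMap.pi_ext fun i x => ?_
      rw [LinearMap.comp_apply, Fintype.linearCombination_apply_single, map_smul, LinearMap.liftBaseChange_tmul,
        one_smul, Derivation.liftKaehlerDifferential_comp_D]
      show x • d (φ (X i)) = _
      rw [hd, ← map_smul]
      congr 1
      funext j
      rcases eq_or_ne j i with rfl | hji
      · simp [jac]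
      · simp [jac, pderiv_X_of_ne hji.symm, hji]
    intro v hv
    have h1 := LinearMap.congr_fun hΦ v
    rw [LinearMap.comp_apply, hv, map_zero, Submodule.mkQ_apply, eq_comm, Submodule.Quotient.mk_eq_zero] at h1
    exact h1
  have hΘN : ∀ v ∈ N, Θ v = 0 := fun v hv => by
    refine (Submodule.span_le (p := LinearMap.ker Θ)).2 ?_ hv
    rintro _ ⟨l, rfl⟩
    show Θ _ = 0
    rw [hΘ, hfz, map_zero, TensorProduct.tmul_zero]
  have hsurj : Function.Surjective Θ := by
    intro z
    induction z using TensorProduct.induction_on with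
    | zero => exact ⟨0, map_zero _⟩
    | tmul a ω =>
      suffices h : ∃ v, Θ v = (1 : Λ) ⊗ₜ[A] ω by
        obtain ⟨v, hv⟩ := h
        exact ⟨a • v, by rw [map_smul, hv, TensorProduct.smul_tmul', smul_eq_mul, mul_one]⟩
      have hω : ω ∈ Submodule.span A (Set.range (KaehlerDifferential.D R A)) :=
        (KaehlerDifferential.span_range_derivation R A).symm ▸ Submodule.mem_top
      induction hω using Submodule.span_induction with
      | mem x hx => obtain ⟨b, rfl⟩ := hx; obtain ⟨b, rfl⟩ := hφ b; exact ⟨_, hΘ b⟩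
      | zero => exact ⟨0, by rw [map_zero, TensorProduct.tmul_zero]⟩
      | add x y _ _ hx hy =>
        obtain ⟨v, hv⟩ := hx; obtain ⟨w, hw⟩ := hy
        exact ⟨v + w, by rw [map_add, hv, hw, TensorProduct.tmul_add]⟩
      | smul b x _ hx =>
        obtain ⟨v, hv⟩ := hx
        exact ⟨algebraMap A Λ b • v, by rw [map_smul, hv, TensorProduct.tmul_smul, IsScalarTower.algebraMap_smul]⟩
    | add x y hx hy =>
      obtain ⟨v, hv⟩ := hx; obtain ⟨w, hw⟩ := hy
      exact ⟨v + w, by rw [map_add, hv, hw]⟩
  obtain ⟨s, hs⟩ := Module.projective_lifting_property Θ LinearMap.id hsurj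
  refine ⟨LinearMap.codRestrict N (LinearMap.id - s.comp Θ) fun v => hker' _ ?_, fun x => Subtype.ext ?_⟩
  · have h1 := LinearMap.congr_fun hs (Θ v)
    rw [LinearMap.comp_apply, LinearMap.id_apply] at h1
    rw [LinearMap.sub_apply, LinearMap.id_apply, LinearMap.comp_apply, map_sub, h1, sub_self]
  · show (x : Fin n → Λ) - s (Θ x) = x
    rw [hΘN _ x.2, map_zero, sub_zero]

set_option maxHeartbeats 1000000 in
/-- Smooth at the generic point with free differentials along a discrete valuation ring implies smooth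
at the special point. -/
theorem isSmoothAt_special {R Λ A : Type u} [CommRing R] [IsDomain R] [IsDiscreteValuationRing R]
    [CommRing Λ] [IsDomain Λ] [IsDiscreteValuationRing Λ] [Algebra R Λ]
    [CommRing A] [Algebra R A] [Algebra.FiniteType R A] [Algebra A Λ] [IsScalarTower R A Λ]
    [(RingHom.ker (algebraMap A Λ)).IsPrime]
    (hq : Algebra.IsSmoothAt R (RingHom.ker (algebraMap A Λ)))
    [Module.Free Λ (Λ ⊗[A] Ω[A⁄R])] :
    Algebra.IsSmoothAt R ((IsLocalRing.maximalIdeal Λ).comap (algebraMap A Λ)) := by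
  classical
  obtain ⟨n, φ, hφ⟩ := Algebra.FiniteType.iff_quotient_mvPolynomial''.1 (inferInstance : Algebra.FiniteType R A)
  obtain ⟨m, f, hf⟩ := Submodule.fg_iff_exists_fin_generating_family.1
    (IsNoetherian.noetherian (RingHom.ker φ.toRingHom) : (RingHom.ker φ.toRingHom).FG)
  have hker : RingHom.ker φ.toRingHom = Ideal.span (Set.range f) := hf.symm
  have hfz : ∀ j, φ (f j) = 0 := fun j => hf.le (Ideal.subset_span ⟨j, rfl⟩)
  let N := Submodule.span Λ (Set.range fun l => jac φ Λ (f l))
  obtain ⟨r, hr⟩ := exists_retraction_jac φ hφ f hker Λ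
  haveI : Module.Free Λ N := Module.free_of_finite_type_torsion_free'
  haveI : Module.Finite Λ N := Module.Finite.of_surjective r fun x => ⟨x, hr x⟩
  let c := Module.finrank Λ N
  let bv := Module.finBasis Λ N
  let κ := IsLocalRing.ResidueField Λ
  let res : (Fin n → Λ) → (Fin n → κ) := fun v i => IsLocalRing.residue Λ (v i)
  have hres_smul : ∀ (a : Λ) v, res (a • v) = IsLocalRing.residue Λ a • res v := fun a v => funext fun i => map_mul _ _ _
  have hres_add : ∀ v w, res (v + w) = res v + res w := fun v w => funext fun i => map_add _ _ _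
  have hli : LinearIndependent κ (fun k => res (bv k : Fin n → Λ)) := by
    rw [Fintype.linearIndependent_iff]
    intro g hg k
    choose g' hg' using fun k => IsLocalRing.residue_surjective (R := Λ) (g k)
    let v : Fin n → Λ := ∑ k, g' k • (bv k : Fin n → Λ)
    have hv : ∀ i, v i ∈ IsLocalRing.maximalIdeal Λ := fun i => by
      rw [← IsLocalRing.residue_eq_zero_iff]
      have := congrFun hg i
      simp only [Finset.sum_apply, Pi.smul_apply, smul_eq_mul, Pi.zero_apply, res] at this
      simp only [v, Finset.sum_apply, Pi.smul_apply, smul_eq_mul, map_sum, map_mul, hg']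
      exact this
    have h1 : g' k = bv.repr (r v) k := by
      rw [map_sum]
      simp only [map_smul, hr, bv.repr_sum_self]
    rw [← hg' k, IsLocalRing.residue_eq_zero_iff, h1]
    have h2 : r v = ∑ i, v i • r (Pi.single i 1) := by
      conv_lhs => rw [pi_eq_sum_univ' v]
      rw [map_sum]
      exact Finset.sum_congr rfl fun i _ => map_smul r _ _
    rw [h2]
    simp only [map_sum, map_smul, Finsupp.coe_finsetSum, Finset.sum_apply, Finsupp.smul_apply, smul_eq_mul]
    exact Ideal.sum_mem _ fun i _ => Ideal.mul_mem_right _ _ (hv i)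
  have hspan : Submodule.span κ (Set.range fun l => res (jac φ Λ (f l))) =
      Submodule.span κ (Set.range fun k => res (bv k : Fin n → Λ)) := by
    refine le_antisymm (Submodule.span_le.2 ?_) (Submodule.span_le.2 ?_)
    · rintro _ ⟨l, rfl⟩
      obtain ⟨w, hw⟩ : ∃ w : Fin c → Λ, jac φ Λ (f l) = ∑ k, w k • (bv k : Fin n → Λ) := by
        refine ⟨fun k => bv.repr ⟨_, Submodule.subset_span ⟨l, rfl⟩⟩ k, ?_⟩
        have := congrArg (Subtype.val : N → _) (bv.sum_repr ⟨_, Submodule.subset_span ⟨l, rfl⟩⟩)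
        rw [Submodule.coe_sum] at this
        exact this.symm
      show res (jac φ Λ (f l)) ∈ _
      rw [hw, show res (∑ k, w k • (bv k : Fin n → Λ)) = ∑ k, IsLocalRing.residue Λ (w k) • res (bv k : Fin n → Λ) from
        funext fun i => by simp [res, Finset.sum_apply]]
      exact Submodule.sum_mem _ fun k _ => Submodule.smul_mem _ _ (Submodule.subset_span ⟨k, rfl⟩)
    · rintro _ ⟨k, rfl⟩
      obtain ⟨w, hw⟩ := (Submodule.mem_span_range_iff_exists_fun Λ).1 (bv k).2
      show res (bv k : Fin n → Λ) ∈ _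
      rw [← hw, show res (∑ l, w l • jac φ Λ (f l)) = ∑ l, IsLocalRing.residue Λ (w l) • res (jac φ Λ (f l)) from
        funext fun i => by simp [res, Finset.sum_apply]]
      exact Submodule.sum_mem _ fun k _ => Submodule.smul_mem _ _ (Submodule.subset_span ⟨k, rfl⟩)
  obtain ⟨ι, a, ha, hasp, hali⟩ := exists_linearIndependent' κ (fun l => res (jac φ Λ (f l)))
  haveI : Fintype ι := Fintype.ofInjective a ha
  have hι : Fintype.card ι = c := by
    rw [← finrank_span_eq_card hali, hasp, hspan, finrank_span_eq_card hli, Fintype.card_fin]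
  let e := (Fintype.equivFinOfCardEq hι).symm
  let g : Fin c → MvPolynomial (Fin n) R := fun k => f (a (e k))
  let Mg : Matrix (Fin c) (Fin n) Λ := Matrix.of fun k => jac φ Λ (g k)
  have hMg : LinearIndependent κ (Mg.map (IsLocalRing.residue Λ)).row := hali.comp e e.injective
  obtain ⟨cols, hcols⟩ := exists_minor_ne_zero _ hMg
  let ψ : MvPolynomial (Fin n) R →+* Λ := (algebraMap A Λ).comp φ.toRingHom
  have hD : IsUnit (Mg.submatrix id cols).det := by
    by_contra hu
    refine hcols ?_
    rw [Matrix.submatrix_map, ← RingHom.mapMatrix_apply, ← RingHom.map_det, IsLocalRing.residue_eq_zero_iff]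
    exact hu
  -- projection to the chosen columns is injective on `N`
  let pr : N →ₗ[Λ] (Fin c → Λ) := (LinearMap.funLeft Λ Λ cols).comp N.subtype
  have hprs : Function.Surjective pr := by
    intro y
    obtain ⟨x, hx⟩ : ∃ x, Matrix.vecMul x (Mg.submatrix id cols) = y := by
      refine ⟨Matrix.vecMul y (Mg.submatrix id cols)⁻¹, ?_⟩
      rw [Matrix.vecMul_vecMul, Matrix.nonsing_inv_mul _ hD, Matrix.vecMul_one]
    refine ⟨∑ k, x k • ⟨jac φ Λ (g k), Submodule.subset_span ⟨_, rfl⟩⟩, ?_⟩
    rw [← hx, map_sum]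
    funext i
    simp [pr, Matrix.vecMul, dotProduct, Mg, Finset.sum_apply, LinearMap.funLeft]
  have hpri : Function.Injective pr := by
    intro x y hxy
    apply bv.equivFun.injective
    refine OrzechProperty.injective_of_surjective_endomorphism (pr.comp bv.equivFun.symm.toLinearMap)
      (hprs.comp bv.equivFun.symm.surjective) ?_
    simp [hxy]
  -- at the generic point the chosen relations generate
  let q := RingHom.ker (algebraMap A Λ)
  obtain ⟨a₀, ha₀, c', rows, cols', a', hfac, hel⟩ := exists_elementary_data φ hφ f hker q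
  obtain ⟨a₁, ha₁⟩ := hφ a₀
  let Q := q.comap φ.toRingHom
  let PQ := Localization.AtPrime Q
  have hψQ : ∀ x, x ∈ Q ↔ ψ x = 0 := fun x => Iff.rfl
  let Rw : Matrix (Fin c') (Fin n) Λ := Matrix.of fun k => jac φ Λ (f (rows k))
  have hminor' : (Rw.submatrix id cols').det = ψ (Smoothing.jacobianMinor f rows cols') := by
    rw [Smoothing.jacobianMinor, RingHom.map_det]
    rfl
  have hdet' : (Rw.submatrix id cols').det ≠ 0 := fun h0 => ha₀ (by
    show algebraMap A Λ a₀ = 0
    rw [hfac, map_mul, show algebraMap A Λ (φ (Smoothing.jacobianMinor f rows cols')) = 0 by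
      rw [hminor'] at h0; exact h0, mul_zero])
  have hc' : c' ≤ c := by
    have hli' : LinearIndependent Λ fun k => (⟨jac φ Λ (f (rows k)), Submodule.subset_span ⟨_, rfl⟩⟩ : N) := by
      rw [Fintype.linearIndependent_iff]
      intro w hw
      have h1 : Matrix.vecMul w (Rw.submatrix id cols') = 0 := by
        funext i
        have := congrFun (congrArg (Subtype.val : N → _) hw) (cols' i)
        simpa [Submodule.coe_sum, Matrix.vecMul, dotProduct, Rw, Finset.sum_apply] using this
      exact congrFun (Matrix.eq_zero_of_vecMul_eq_zero hdet' h1)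
    have := hli'.fintype_card_le_finrank
    rwa [Fintype.card_fin] at this
  let IQ := (Ideal.span (Set.range f)).map (algebraMap _ PQ)
  let JQ := (Ideal.span (Set.range (f ∘ rows))).map (algebraMap _ PQ)
  have hfQ : ∀ l, f l ∈ Q := fun l => by rw [hψQ]; show algebraMap A Λ (φ (f l)) = 0; rw [hfz, map_zero]
  have hIJ : IQ ≤ JQ := by
    have h1 : IQ ≤ JQ ⊔ IQ ^ 2 := by
      show Ideal.map _ (Ideal.span (Set.range f)) ≤ _
      rw [Ideal.map_span, Ideal.span_le]
      rintro _ ⟨_, ⟨l, rfl⟩, rfl⟩
      have h2 := Ideal.mem_map_of_mem (algebraMap _ PQ) (hel a₁ ha₁ l)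
      rw [Ideal.map_sup, Ideal.map_pow, map_mul] at h2
      refine (Ideal.unit_mul_mem_iff_mem _ ?_).1 h2
      exact IsLocalization.map_units PQ (⟨a₁, fun h => ha₀ (by rw [← ha₁]; exact h)⟩ : Q.primeCompl)
    refine Submodule.le_of_le_smul_of_le_jacobson_bot (Ideal.FG.map (Submodule.fg_span (Set.finite_range f) :
      (Ideal.span (Set.range f)).FG) (algebraMap _ PQ)) ?_ (le_trans h1 (le_of_eq (by rw [pow_two, smul_eq_mul])))
    rw [IsLocalRing.jacobson_eq_maximalIdeal ⊥ bot_ne_top, Ideal.map_le_iff_le_comap, Ideal.span_le]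
    rintro _ ⟨l, rfl⟩
    exact (IsLocalization.AtPrime.to_map_mem_maximal_iff PQ Q _).2 (hfQ l)
  have hgC : ∀ i, ∃ (t : MvPolynomial (Fin n) R) (C₀ : Fin c' → MvPolynomial (Fin n) R),
      t ∉ Q ∧ t * g i = ∑ k, C₀ k * f (rows k) := fun i => by
    obtain ⟨t, ht, htx⟩ := (IsLocalization.algebraMap_mem_map_algebraMap_iff Q.primeCompl PQ _ (g i)).1
      (hIJ (Ideal.mem_map_of_mem _ (Ideal.subset_span ⟨_, rfl⟩)))
    obtain ⟨C₀, hC₀⟩ := Ideal.mem_span_range_iff_exists_fun.1 htx
    exact ⟨t, C₀, ht, hC₀.symm⟩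
  choose t C₀ ht hC₀ using hgC
  have hjac : ∀ i, ψ (t i) • jac φ Λ (g i) = ∑ k, ψ (C₀ i k) • jac φ Λ (f (rows k)) := fun i => by
    show algebraMap A Λ (φ (t i)) • _ = ∑ k, algebraMap A Λ (φ (C₀ i k)) • _
    rw [← jac_mul φ Λ _ (hfz _), hC₀, jac_sum]
    exact Finset.sum_congr rfl fun k _ => jac_mul φ Λ _ (hfz _)
  let Cm : Matrix (Fin c) (Fin c') Λ := Matrix.of fun i k => ψ (C₀ i k)
  have hmat : Matrix.diagonal (fun i => ψ (t i)) * Mg.submatrix id cols = Cm * Rw.submatrix id cols := by
    ext i j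
    rw [Matrix.diagonal_mul, Matrix.mul_apply]
    have := congrFun (hjac i) (cols j)
    simp only [Pi.smul_apply, smul_eq_mul, Finset.sum_apply] at this
    exact this
  have hlhs : (Matrix.diagonal (fun i => ψ (t i)) * Mg.submatrix id cols).det ≠ 0 := by
    rw [Matrix.det_mul, Matrix.det_diagonal]
    exact mul_ne_zero (Finset.prod_ne_zero_iff.2 fun i _ h => ht i ((hψQ _).2 h)) hD.ne_zero
  have hcc : c' = c := by
    refine le_antisymm hc' ?_
    by_contra hlt
    push Not at hlt
    obtain ⟨y, hy, hy0⟩ : ∃ y : Fin c → Λ, y ≠ 0 ∧ Matrix.vecMul y Cm = 0 := by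
      have : ¬ LinearIndependent Λ Cm.row := fun h => by
        have := h.fintype_card_le_finrank
        rw [Fintype.card_fin, Module.finrank_fintype_fun_eq_card, Fintype.card_fin] at this
        omega
      rw [Fintype.linearIndependent_iff] at this
      push Not at this
      obtain ⟨y, hy, i, hi⟩ := this
      exact ⟨y, fun h => hi (congrFun h i), by rw [← hy]; funext j; simp [Matrix.vecMul, dotProduct, Matrix.row]⟩
    refine hy (Matrix.eq_zero_of_vecMul_eq_zero hlhs ?_)
    rw [hmat, ← Matrix.vecMul_vecMul, hy0, Matrix.zero_vecMul]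
  obtain ⟨_, rfl⟩ : ∃ x : Unit, c' = c := ⟨(), hcc⟩
  have hCdet : (Matrix.of C₀).det ∉ Q := fun h => hlhs (by
    rw [hmat, Matrix.det_mul, show Cm = ψ.mapMatrix (Matrix.of C₀) from rfl, ← RingHom.map_det,
      (hψQ _).1 h, zero_mul])
  have hrg : ∀ x ∈ Ideal.span (Set.range f), ∃ w ∉ Q, w * x ∈ Ideal.span (Set.range g) := by
    intro x hx
    refine (IsLocalization.algebraMap_mem_map_algebraMap_iff Q.primeCompl PQ _ x).1 ?_
    have h1 := hIJ (Ideal.mem_map_of_mem (algebraMap _ PQ) hx)
    refine SetLike.le_def.1 ?_ h1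
    show Ideal.map _ (Ideal.span (Set.range (f ∘ rows))) ≤ _
    rw [Ideal.map_le_iff_le_comap, Ideal.span_le]
    rintro _ ⟨k, rfl⟩
    simp only [Function.comp_apply, SetLike.mem_coe, Ideal.mem_comap]
    refine (Ideal.unit_mul_mem_iff_mem _ (IsLocalization.map_units PQ (⟨_, hCdet⟩ : Q.primeCompl))).1 ?_
    rw [← map_mul]
    refine Ideal.mem_map_of_mem _ ?_
    have h2 := congrArg (fun v => Matrix.mulVec (Matrix.of C₀).adjugate v k)
      (funext hC₀ : (fun i => t i * g i) = Matrix.mulVec (Matrix.of C₀) fun k => f (rows k))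
    simp only [Matrix.mulVec_mulVec, Matrix.adjugate_mul, Matrix.smul_mulVec, Matrix.one_mulVec, Pi.smul_apply,
      smul_eq_mul] at h2
    show (Matrix.of C₀).det * f (rows k) ∈ _
    rw [← h2]
    show ∑ i, _ * (t i * g i) ∈ _
    exact Ideal.sum_mem _ fun i _ => Ideal.mul_mem_left _ _ (Ideal.mul_mem_left _ _ (Ideal.subset_span ⟨i, rfl⟩))
  -- the standard smooth algebra
  let S := MvPolynomial (Fin n) R ⧸ Ideal.span (Set.range g)
  let mkS : MvPolynomial (Fin n) R →ₐ[R] S := Ideal.Quotient.mkₐ R _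
  let π : S →ₐ[R] A := Ideal.Quotient.liftₐ _ φ fun x hx =>
    (Ideal.span_le (I := RingHom.ker φ.toRingHom)).2 (by rintro _ ⟨i, rfl⟩; exact hfz _) hx
  have hπs : Function.Surjective π := fun y => by
    obtain ⟨x, rfl⟩ := hφ y; exact ⟨mkS x, rfl⟩
  let p := (IsLocalRing.maximalIdeal Λ).comap (algebraMap A Λ)
  let pS := p.comap π.toRingHom
  have hcn : c ≤ n := by simpa using Fintype.card_le_of_embedding cols
  have hDS : mkS (Smoothing.jacobianMinor g id cols) ∉ pS := by
    show ψ (Smoothing.jacobianMinor g id cols) ∉ IsLocalRing.maximalIdeal Λ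
    rw [Smoothing.jacobianMinor, RingHom.map_det]
    exact IsLocalRing.notMem_maximalIdeal.2 hD
  have hsm := (smoothAt_of_det hcn (0 : R) (fun _ _ => zero_mul _) g cols pS hDS).1
  haveI : IsDomain (Localization.AtPrime pS) := by
    haveI := hsm
    haveI : Algebra.FinitePresentation R S :=
      Algebra.FinitePresentation.quotient (Submodule.fg_span (Set.finite_range g))
    haveI : IsPrincipalIdealRing R := inferInstance
    obtain ⟨s, hs, hsS⟩ := Algebra.IsSmoothAt.exists_notMem_smooth R pS
    haveI := hsS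
    haveI : IsRegularRing (Localization.Away s) := GeomReg.isRegularRing_of_smooth R _
    haveI : IsNoetherianRing S := inferInstance
    haveI := GeomReg.isRegularLocalRing_of_away s (Localization.Away s) pS hs
    exact RegLoc6.isDomain_of_isRegularLocalRing (Localization.AtPrime pS)
  refine isSmoothAt_of_surjective π hπs p fun s hs => ?_
  obtain ⟨x, rfl⟩ := Ideal.Quotient.mk_surjective s
  obtain ⟨w, hw, hwx⟩ := hrg x (hker.le (hs : φ x = 0))
  have h0 : algebraMap S (Localization.AtPrime pS) (mkS w) * algebraMap S _ (mkS x) = 0 := by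
    rw [← map_mul, ← map_mul, show mkS (w * x) = 0 from Ideal.Quotient.eq_zero_iff_mem.2 hwx, map_zero]
  refine (mul_eq_zero.1 h0).resolve_left fun h1 => ?_
  obtain ⟨⟨v, hv⟩, hvw⟩ := (IsLocalization.map_eq_zero_iff pS.primeCompl _ _).1 h1
  obtain ⟨v, rfl⟩ := Ideal.Quotient.mk_surjective v
  have h2 : algebraMap A Λ (φ v) * ψ w = 0 := by
    show algebraMap A Λ (φ v) * algebraMap A Λ (φ w) = 0
    rw [← map_mul, ← map_mul, show φ (v * w) = π (Ideal.Quotient.mk _ v * mkS w) from rfl]
    have hvw' : Ideal.Quotient.mk _ v * mkS w = 0 := hvw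
    rw [hvw', map_zero, map_zero]
  refine (mul_eq_zero.1 h2).elim (fun h => hv ?_) (fun h => hw ((hψQ _).2 h))
  show algebraMap A Λ (φ v) ∈ IsLocalRing.maximalIdeal Λ
  rw [h]; exact zero_mem _

end Groth.Agent.SmoothingLib
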