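import Groth.Agent.SmoothingLib.NeronPoint
import Groth.Agent.SmoothingLib.SmoothPoint
import Mathlib.RingTheory.Flat.TorsionFree

/-!
# Néron desingularisation
-/

set_option linter.style.haveILetI false

universe u

open MvPolynomial TensorProduct

namespace Groth.Agent.SmoothingLib.Neron

open IsLocalRing

variable {R Λ : Type u} [CommRing R] [CommRing Λ] [IsDomain Λ] [IsDiscreteValuationRing Λ] [Algebra R Λ]

/-- A determinant of valuation at most `v` made of differentials of relations and of further vectors. -/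
def HasMinor (R : Type u) [CommRing R] [Algebra R Λ] {σ : Type} [Fintype σ] [DecidableEq σ] (μ : σ → Λ) (v : ℕ) : Prop :=
  ∃ (S : Finset σ) (f : σ → MvPolynomial σ R) (V : Matrix σ σ Λ), (∀ i ∈ S, aeval μ (f i) = 0) ∧
    (∀ i ∈ S, V i = jp μ (f i)) ∧ V.det ∉ maximalIdeal Λ ^ (v + 1) ∧
    ∀ p : MvPolynomial σ R, aeval μ p = 0 → ∃ a : Λ, a ≠ 0 ∧ a • jp μ p ∈ Submodule.span Λ (V '' (S : Set σ))

/-- The given elements lie in a subalgebra of finite type which is smooth at the closed point. -/
def Resolved (R : Type u) [CommRing R] [Algebra R Λ] (s : Set Λ) : Prop :=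
  ∃ (m : ℕ) (μ : Fin m → Λ), s ⊆ Algebra.adjoin R (Set.range μ) ∧
    Algebra.IsSmoothAt R ((maximalIdeal Λ).comap (algebraMap (Algebra.adjoin R (Set.range μ)) Λ))

theorem jp_rename {σ τ : Type*} (e : σ ≃ τ) (μ : σ → Λ) (p : MvPolynomial σ R) :
    jp (μ ∘ e.symm) (rename e p) = jp μ p ∘ e.symm := by
  funext k
  obtain ⟨l, rfl⟩ := e.surjective k
  show aeval (μ ∘ e.symm) (pderiv (e l) (rename e p)) = aeval μ (pderiv (e.symm (e l)) p)
  rw [pderiv_rename e.injective, aeval_rename, Equiv.symm_apply_apply]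
  congr 2
  funext x
  simp

/-- The data does not depend on the names of the variables. -/
theorem hasMinor_equiv {σ τ : Type} [Fintype σ] [DecidableEq σ] [Fintype τ] [DecidableEq τ] (e : σ ≃ τ)
    {μ : σ → Λ} {v : ℕ} (h : HasMinor R μ v) : HasMinor R (μ ∘ e.symm) v := by
  obtain ⟨S, f, V, hz, hrow, hdet, hrank⟩ := h
  refine ⟨S.map e.toEmbedding, fun k => rename e (f (e.symm k)), V.submatrix e.symm e.symm, fun k hk => ?_,
    fun k hk => ?_, ?_, fun p hp => ?_⟩
  · obtain ⟨i, hi, rfl⟩ := Finset.mem_map.1 hk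
    rw [aeval_rename]
    simp only [Equiv.coe_toEmbedding, Equiv.symm_apply_apply, Function.comp_def]
    exact hz i hi
  · obtain ⟨i, hi, rfl⟩ := Finset.mem_map.1 hk
    rw [jp_rename]
    funext l
    simp [hrow i hi]
  · rw [Matrix.det_submatrix_equiv_self]; exact hdet
  · obtain ⟨a, ha, hap⟩ := hrank (rename e.symm p) (by rwa [aeval_rename])
    refine ⟨a, ha, ?_⟩
    have h1 := Submodule.mem_map_of_mem (f := LinearMap.funLeft Λ Λ e.symm) hap
    rw [Submodule.map_span] at h1
    have h2 : jp (μ ∘ e.symm) p = LinearMap.funLeft Λ Λ e.symm (jp μ (rename e.symm p)) := by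
      have := jp_rename e μ (rename e.symm p)
      rw [rename_rename, show e ∘ e.symm = id from funext e.apply_symm_apply, rename_id_apply] at this
      exact this
    rw [h2, ← map_smul]
    refine Submodule.span_mono ?_ h1
    rintro _ ⟨_, ⟨i, hi, rfl⟩, rfl⟩
    exact ⟨e i, Finset.mem_coe.2 (Finset.mem_map.2 ⟨i, hi, rfl⟩), by funext l; simp [LinearMap.funLeft]⟩

/-- Initial data exist. -/
theorem exists_hasMinor {n : ℕ} (μ : Fin n → Λ) : ∃ v, HasMinor R μ v := by
  classical
  let L := FractionRing Λ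
  let E : (Fin n → Λ) →ₗ[Λ] (Fin n → L) := LinearMap.compLeft (Algebra.linearMap Λ L) (Fin n)
  have hE : Function.Injective E := fun x y h => funext fun l => IsFractionRing.injective Λ L (congrFun h l)
  let Rel := {p : MvPolynomial (Fin n) R // aeval μ p = 0}
  let w : Rel → (Fin n → L) := fun p => E (jp μ p.1)
  obtain ⟨κ, a, ha, hsp, hli⟩ := exists_linearIndependent' L w
  haveI := hli.finite
  haveI : Fintype κ := Fintype.ofFinite κ
  obtain ⟨s, M, hM, hMs⟩ := exists_completion _ hli
  choose d hd using fun k => IsLocalization.exist_integer_multiples (nonZeroDivisors Λ) Finset.univ (M k)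
  choose z hz using fun k l => hd k l (Finset.mem_univ l)
  let S : Finset (Fin n) := Finset.univ.map s
  let f : Fin n → MvPolynomial (Fin n) R := fun k => if h : ∃ i, s i = k then (a h.choose).1 else 0
  have hf : ∀ i, f (s i) = (a i).1 := fun i => by
    have h : ∃ j, s j = s i := ⟨i, rfl⟩
    show dite _ _ _ = _
    rw [dif_pos h, s.injective h.choose_spec]
  let V : Matrix (Fin n) (Fin n) Λ := Matrix.of fun k => if k ∈ S then jp μ (f k) else z k
  let D : Fin n → L := fun k => if k ∈ S then 1 else algebraMap Λ L (d k)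
  have hmap : (algebraMap Λ L).mapMatrix V = Matrix.diagonal D * M := by
    ext k l
    rw [Matrix.diagonal_mul]
    show algebraMap Λ L (V k l) = _
    by_cases h : k ∈ S
    · obtain ⟨i, -, rfl⟩ := Finset.mem_map.1 h
      simp only [V, D, Matrix.of_apply, if_pos h, one_mul, hf, hMs]
      rfl
    · simp only [V, D, Matrix.of_apply, if_neg h, hz]
      rw [Algebra.smul_def]
  have hV : V.det ≠ 0 := by
    intro h0
    have h1 := congrArg (algebraMap Λ L) h0
    rw [RingHom.map_det, hmap, Matrix.det_mul, Matrix.det_diagonal, map_zero, mul_eq_zero] at h1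
    refine h1.elim (fun h => ?_) hM
    obtain ⟨k, -, hk⟩ := Finset.prod_eq_zero_iff.1 h
    by_cases hkS : k ∈ S
    · simp [D, hkS] at hk
    · simp only [D, if_neg hkS, map_eq_zero_iff _ (IsFractionRing.injective Λ L)] at hk
      exact nonZeroDivisors.ne_zero (d k).2 hk
  obtain ⟨ϖ, hϖ⟩ := IsDiscreteValuationRing.exists_irreducible Λ
  obtain ⟨v, u, hu⟩ := IsDiscreteValuationRing.eq_unit_mul_pow_irreducible hV hϖ
  refine ⟨v, S, f, V, fun i hi => ?_, fun i hi => show (if i ∈ S then jp μ (f i) else z i) = _ from if_pos hi, fun h => ?_, fun p hp => ?_⟩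
  · obtain ⟨j, -, rfl⟩ := Finset.mem_map.1 hi
    rw [hf]; exact (a j).2
  · rw [Irreducible.maximalIdeal_eq hϖ, Ideal.span_singleton_pow, Ideal.mem_span_singleton, hu,
      Units.dvd_mul_left, pow_dvd_pow_iff hϖ.ne_zero hϖ.not_isUnit] at h
    omega
  · have h1 : E (jp μ p) ∈ Submodule.span L (Set.range (w ∘ a)) := hsp ▸ Submodule.subset_span ⟨⟨p, hp⟩, rfl⟩
    obtain ⟨c, hc⟩ := (Submodule.mem_span_range_iff_exists_fun L).1 h1
    obtain ⟨⟨b, hb⟩, hbd⟩ := IsLocalization.exist_integer_multiples (nonZeroDivisors Λ) Finset.univ c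
    choose y hy using fun i => hbd i (Finset.mem_univ i)
    refine ⟨b, nonZeroDivisors.ne_zero hb, ?_⟩
    have h2 : b • jp μ p = ∑ i, y i • jp μ (a i).1 := hE (by
      rw [map_smul, ← hc, map_sum, Finset.smul_sum]
      refine Finset.sum_congr rfl fun i _ => ?_
      rw [map_smul, ← smul_assoc]
      funext l
      show (b • c i) * _ = y i • _
      rw [Algebra.smul_def (y i), hy i]
      rfl)
    rw [h2]
    refine Submodule.sum_mem _ fun i _ => Submodule.smul_mem _ _ (Submodule.subset_span ⟨s i, ?_, ?_⟩)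
    · simp [S]
    · show (if s i ∈ S then jp μ (f (s i)) else z (s i)) = _
      rw [if_pos (Finset.mem_map_of_mem _ (Finset.mem_univ i)), hf]

set_option maxHeartbeats 2000000 in
/-- Independent residues of the differentials of the relations give smoothness at the closed point. -/
theorem isSmoothAt_of_independent [IsDomain R] [IsDiscreteValuationRing R] [NoZeroSMulDivisors R Λ]
    (he : (maximalIdeal R).map (algebraMap R Λ) = maximalIdeal Λ)
    (hgen : ∀ A : Subalgebra R Λ, A.FG → ∀ [(RingHom.ker (algebraMap A Λ)).IsPrime],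
      Algebra.IsSmoothAt R (RingHom.ker (algebraMap A Λ)))
    {n : ℕ} (μ : Fin n → Λ) (S : Finset (Fin n)) (f : Fin n → MvPolynomial (Fin n) R)
    (hz : ∀ i ∈ S, aeval μ (f i) = 0)
    (hrank : ∀ p : MvPolynomial (Fin n) R, aeval μ p = 0 →
      ∃ a : Λ, a ≠ 0 ∧ a • jp μ p ∈ Submodule.span Λ ((fun i => jp μ (f i)) '' (S : Set (Fin n))))
    (hli : LinearIndependent (ResidueField Λ) fun (i : S) l => residue Λ (jp μ (f i) l)) :
    Algebra.IsSmoothAt R ((maximalIdeal Λ).comap (algebraMap (Algebra.adjoin R (Set.range μ)) Λ)) := by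
  classical
  obtain ⟨s, B, hB, hBs⟩ := exists_completion_residue (fun (i : S) => jp μ (f i)) hli
  let A := Algebra.adjoin R (Set.range μ)
  let φ : MvPolynomial (Fin n) R →ₐ[R] A := aeval fun i => ⟨μ i, Algebra.subset_adjoin ⟨i, rfl⟩⟩
  have hφ : ∀ p, (φ p : Λ) = aeval μ p := fun p => by
    show A.val (φ p) = _
    rw [← AlgHom.comp_apply, comp_aeval]
    rfl
  have hφs : Function.Surjective φ := fun a => by
    obtain ⟨a, ha⟩ := a
    obtain ⟨p, hp⟩ : a ∈ (aeval μ).range := by rw [← Algebra.adjoin_range_eq_range_aeval R μ]; exact ha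
    exact ⟨p, Subtype.ext ((hφ p).trans hp)⟩
  let Cc := {k : Fin n // k ∉ Set.range s}
  let ψ : (Fin n → Λ) →ₗ[Λ] (Cc → Λ) := LinearMap.funLeft Λ Λ Subtype.val ∘ₗ B⁻¹.vecMulLinear
  have hψB : ∀ k (j : Cc), ψ (B k) j = if k = j.1 then 1 else 0 := fun k j => by
    have h1 : Matrix.vecMul (B k) B⁻¹ = (1 : Matrix (Fin n) (Fin n) Λ) k := by
      rw [← Matrix.mul_nonsing_inv B hB]; rfl
    show Matrix.vecMul (B k) B⁻¹ j.1 = _
    rw [h1, Matrix.one_apply]
  have hψJ : ∀ i ∈ S, ψ (jp μ (f i)) = 0 := fun i hi => funext fun j => by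
    rw [← hBs ⟨i, hi⟩, hψB, if_neg (fun h : s ⟨i, hi⟩ = j.1 => j.2 ⟨_, h⟩)]
    rfl
  have hψp : ∀ p, aeval μ p = 0 → ψ (jp μ p) = 0 := fun p hp => by
    obtain ⟨a, ha, hap⟩ := hrank p hp
    have h1 : a • ψ (jp μ p) = 0 := by
      rw [← map_smul]
      refine Submodule.span_induction (p := fun x _ => ψ x = 0) ?_ (map_zero _) (fun x y _ _ hx hy => by
        rw [map_add, hx, hy, add_zero]) (fun c x _ hx => by rw [map_smul, hx, smul_zero]) hap
      rintro _ ⟨i, hi, rfl⟩
      exact hψJ i hi
    funext j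
    exact (mul_eq_zero.1 (congrFun h1 j)).resolve_left ha
  choose q hq using hφs
  have hlift : ∀ (p : MvPolynomial (Fin n) R), ψ (jp μ (q (φ p))) = ψ (jp μ p) := fun p => by
    rw [← sub_eq_zero, ← map_sub, ← jp_sub]
    refine hψp _ ?_
    rw [map_sub, ← hφ, ← hφ, hq, sub_self]
  let δ : Derivation R A (Cc → Λ) := Derivation.mk'
    { toFun := fun a => ψ (jp μ (q a))
      map_add' := fun a b => by
        conv_lhs => rw [← hq a, ← hq b, ← map_add, hlift, jp_add, map_add]
      map_smul' := fun r a => by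
        show ψ (jp μ (q (r • a))) = r • ψ (jp μ (q a))
        conv_lhs => rw [← hq a, ← map_smul, hlift, smul_eq_C_mul, jp_C_mul, map_smul, algebraMap_smul] }
    (fun a b => by
      show ψ (jp μ (q (a * b))) = a • ψ (jp μ (q b)) + b • ψ (jp μ (q a))
      conv_lhs => rw [← hq a, ← hq b, ← map_mul, hlift, jp_mul, map_add, map_smul, map_smul, ← hφ, ← hφ, hq, hq]
      rfl)
  let Ψ : Λ ⊗[A] Ω[A⁄R] →ₗ[Λ] (Cc → Λ) := δ.liftKaehlerDifferential.liftBaseChange Λ
  let X' : Fin n → Λ ⊗[A] Ω[A⁄R] := fun l => 1 ⊗ₜ KaehlerDifferential.D R A (φ (X l))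
  let G : (Fin n → Λ) →ₗ[Λ] Λ ⊗[A] Ω[A⁄R] := Fintype.linearCombination Λ X'
  have hG : ∀ p, G (jp μ p) = 1 ⊗ₜ KaehlerDifferential.D R A (φ p) := by
    intro p
    induction p using MvPolynomial.induction_on with
    | C r => rw [MvPolynomial.algHom_C, Derivation.map_algebraMap, tmul_zero,
        show jp μ (C r) = 0 from funext fun l => by simp [jp], map_zero]
    | add a b ha hb => rw [jp_add, map_add, ha, hb, map_add, map_add, tmul_add]
    | mul_X a l ha =>
      rw [jp_mul, map_add, map_smul, map_smul, ha, map_mul, Derivation.leibniz, tmul_add]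
      have h1 : G (jp μ (X l : MvPolynomial (Fin n) R)) = X' l := by
        rw [show jp μ (X l : MvPolynomial (Fin n) R) = Pi.single l 1 from funext fun k => by
          simp [jp, pderiv_X, Pi.single_apply, eq_comm, apply_ite]]
        simp [G, Fintype.linearCombination_apply_single]
      rw [h1, smul_tmul', smul_tmul', ← hφ, ← hφ, ← TensorProduct.smul_tmul, ← TensorProduct.smul_tmul]
      simp [X', Algebra.smul_def]
  have hΨG : ∀ w, Ψ (G w) = ψ w := by
    intro w
    have h1 : ∀ l, Ψ (X' l) = ψ (Pi.single l 1) := fun l => by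
      show δ.liftKaehlerDifferential.liftBaseChange Λ (1 ⊗ₜ _) = _
      rw [LinearMap.liftBaseChange_one_tmul, Derivation.liftKaehlerDifferential_comp_D]
      show ψ (jp μ (q (φ (X l)))) = _
      rw [hlift]
      congr 1
      funext k
      simp [jp, pderiv_X, Pi.single_apply, eq_comm, apply_ite]
    conv_rhs => rw [pi_eq_sum_univ' w]
    simp only [G, Fintype.linearCombination_apply, map_sum, map_smul, h1]
  let Φ : (Cc → Λ) →ₗ[Λ] Λ ⊗[A] Ω[A⁄R] := Fintype.linearCombination Λ fun j : Cc => G (B j.1)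
  have hΦψ : ∀ w, Φ (ψ w) = G w := by
    intro w
    have h1 : w = ∑ k, Matrix.vecMul w B⁻¹ k • B k := by
      have h4 : Matrix.vecMul (Matrix.vecMul w B⁻¹) B = w := by
        rw [Matrix.vecMul_vecMul, Matrix.nonsing_inv_mul B hB, Matrix.vecMul_one]
      conv_lhs => rw [← h4]
      funext l
      simp [Matrix.vecMul, dotProduct, Finset.sum_apply]
    conv_rhs => rw [h1, map_sum, ← Finset.sum_filter_add_sum_filter_not Finset.univ (fun k => k ∈ Set.range s)]
    rw [Finset.sum_eq_zero (fun k hk => by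
      obtain ⟨i, rfl⟩ := (Finset.mem_filter.1 hk).2
      rw [map_smul, hBs, hG, show φ (f i.1) = 0 from Subtype.ext ((hφ _).trans (hz _ i.2)), map_zero, tmul_zero,
        smul_zero]), zero_add, Finset.sum_subtype _ (p := fun k => k ∉ Set.range s) (fun k => by simp)]
    simp only [Φ, Fintype.linearCombination_apply, map_smul]
    rfl
  have hsurj : ∀ y, Φ (Ψ y) = y := by
    intro y
    induction y using TensorProduct.induction_on with
    | zero => simp
    | add a b ha hb => rw [map_add, map_add, ha, hb]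
    | tmul c x =>
      rw [show c ⊗ₜ[A] x = c • (1 ⊗ₜ[A] x) by rw [smul_tmul', smul_eq_mul, mul_one], map_smul, map_smul]
      congr 1
      have hx : x ∈ Submodule.span A (Set.range (KaehlerDifferential.D R A)) := by
        rw [KaehlerDifferential.span_range_derivation]; trivial
      induction hx using Submodule.span_induction with
      | mem x hx =>
        obtain ⟨a, rfl⟩ := hx
        rw [← hq a, ← hG, hΨG, hΦψ]
      | zero => simp
      | add a b _ _ ha hb => rw [tmul_add, map_add, map_add, ha, hb]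
      | smul a x _ hx => rw [tmul_smul, LinearMap.map_smul_of_tower, LinearMap.map_smul_of_tower]; exact congrArg (a • ·) hx
  have hinj : ∀ w, Ψ (Φ w) = w := by
    intro w
    rw [show Φ w = ∑ j, w j • G (B j.1) from Fintype.linearCombination_apply Λ _ _, map_sum]
    funext j
    simp [map_smul, hΨG, Finset.sum_apply, hψB, Subtype.val_inj]
    exact (Finset.sum_ite_eq' Finset.univ j w).trans (if_pos (Finset.mem_univ j))
  haveI hfree : Module.Free Λ (Λ ⊗[A] Ω[A⁄R]) :=
    Module.Free.of_equiv (LinearEquiv.ofLinear Φ Ψ (LinearMap.ext hsurj) (LinearMap.ext hinj))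
  have hfg : A.FG := Subalgebra.fg_def.2 ⟨Set.range μ, Set.finite_range μ, rfl⟩
  haveI : Algebra.FiniteType R A := ⟨(Subalgebra.fg_top A).2 hfg⟩
  haveI : Module.IsTorsionFree R A := Subtype.val_injective.moduleIsTorsionFree A.val.toLinearMap (fun _ _ => rfl)
  haveI : Module.Flat R A := inferInstance
  haveI : (RingHom.ker (algebraMap A Λ)).IsPrime := RingHom.ker_isPrime _
  exact isSmoothAt_special (hgen A hfg)

set_option maxHeartbeats 2000000 in
/-- Néron's blow-up decreases the valuation of the minor. -/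
theorem exists_blowup [IsDomain R] [IsDiscreteValuationRing R] [IsLocalHom (algebraMap R Λ)]
    (hsep : Algebra.IsGeometricallyReduced (ResidueField R) (ResidueField Λ))
    (π : R) (hπ : maximalIdeal R = Ideal.span {π}) (hϖ : maximalIdeal Λ = Ideal.span {algebraMap R Λ π})
    {n : ℕ} (lam : Fin n → Λ) (v : ℕ) (S : Finset (Fin n)) (f : Fin n → MvPolynomial (Fin n) R)
    (V : Matrix (Fin n) (Fin n) Λ) (hz : ∀ i ∈ S, aeval lam (f i) = 0) (hrow : ∀ i ∈ S, V i = jp lam (f i))
    (hdet : V.det ∉ maximalIdeal Λ ^ (v + 1))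
    (hrank : ∀ p : MvPolynomial (Fin n) R, aeval lam p = 0 →
      ∃ a : Λ, a ≠ 0 ∧ a • jp lam p ∈ Submodule.span Λ (V '' (S : Set (Fin n))))
    (i₀ : Fin n) (hi₀ : i₀ ∈ S) (hrow₀ : ∀ l, V i₀ l ∈ maximalIdeal Λ) :
    0 < v ∧ ∃ (e : ℕ) (μ : Fin n ⊕ Fin e → Λ), (∀ l, μ (Sum.inl l) = lam l) ∧ HasMinor R μ (v - 1) := by
  classical
  let ϖ := algebraMap R Λ π
  have hmem : ∀ (x : Λ) (k : ℕ), x ∈ maximalIdeal Λ ^ k ↔ ϖ ^ k ∣ x := fun x k => by
    rw [hϖ, Ideal.span_singleton_pow, Ideal.mem_span_singleton]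
  have hmem1 : ∀ x, x ∈ maximalIdeal Λ ↔ ϖ ∣ x := fun x => by rw [hϖ, Ideal.mem_span_singleton]
  have hϖ0 : ϖ ≠ 0 := fun h => IsDiscreteValuationRing.not_a_field Λ (by
    rw [hϖ]; exact Ideal.span_singleton_eq_bot.2 h)
  have hv : 0 < v := by
    refine Nat.pos_of_ne_zero fun h => hdet ?_
    subst h
    rw [zero_add, pow_one]
    refine (residue_eq_zero_iff _).1 ?_
    rw [RingHom.map_det]
    exact Matrix.det_eq_zero_of_row_eq_zero i₀ fun l => (residue_eq_zero_iff _).2 (hrow₀ l)
  refine ⟨hv, ?_⟩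
  obtain ⟨e, h, hhm, hli, hgen1, hgen2⟩ := exists_point_params hsep π hπ lam
  choose y hy using fun j => (hmem1 _).1 (hhm j)
  let μ : Fin n ⊕ Fin e → Λ := Sum.elim lam y
  let ι : MvPolynomial (Fin n) R →ₐ[R] MvPolynomial (Fin n ⊕ Fin e) R := rename Sum.inl
  let g : Fin e → MvPolynomial (Fin n ⊕ Fin e) R := fun j => C π * X (Sum.inr j) - ι (h j)
  let G := Ideal.span (Set.range g)
  have hι : ∀ p, aeval μ (ι p) = aeval lam p := fun p => aeval_rename _ _ _
  have hg0 : ∀ j, aeval μ (g j) = 0 := fun j => by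
    simp only [g, map_sub, map_mul, aeval_C, aeval_X, hι, hy, μ, Sum.elim_inr, sub_self, ϖ]
  have hG0 : ∀ z ∈ G, aeval μ z = 0 := fun z hz => by
    refine (Ideal.span_le.2 ?_ : G ≤ RingHom.ker (aeval μ).toRingHom) hz
    rintro _ ⟨j, rfl⟩
    exact hg0 j
  let Ext : (Fin n → Λ) →ₗ[Λ] (Fin n ⊕ Fin e → Λ) :=
    { toFun := fun x => Sum.elim x 0
      map_add' := fun x y => by funext l; cases l <;> simp
      map_smul' := fun c x => by funext l; cases l <;> simp }
  have hjι : ∀ p, jp μ (ι p) = Ext (jp lam p) := fun p => by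
    funext l
    cases l with
    | inl l =>
      show aeval μ (pderiv (Sum.inl l) (rename Sum.inl p)) = aeval lam (pderiv l p)
      rw [pderiv_rename Sum.inl_injective]; exact hι _
    | inr j =>
      show aeval μ (pderiv (Sum.inr j) (rename Sum.inl p)) = 0
      rw [pderiv_rename_of_notMem _ _ (by simp), map_zero]
  let gr : Fin e → (Fin n ⊕ Fin e → Λ) := fun j => jp μ (g j)
  have hgr : ∀ j, gr j = ϖ • Pi.single (Sum.inr j) 1 - Ext (jp lam (h j)) := fun j => by
    show jp μ (C π * X (Sum.inr j) - ι (h j)) = _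
    rw [jp_sub, jp_C_mul, hjι]
    congr 2
    funext l
    simp [jp, pderiv_X, Pi.single_apply, eq_comm, apply_ite]
  have hGjp : ∀ z ∈ G, ∃ c : Fin e → Λ, jp μ z = ∑ j, c j • gr j := fun z hz => by
    obtain ⟨a, rfl⟩ := Ideal.mem_span_range_iff_exists_fun.1 hz
    exact ⟨fun j => aeval μ (a j), by rw [jp_sum]; exact Finset.sum_congr rfl fun j _ => jp_mul_of_zero μ _ (hg0 j)⟩
  have hpow : ∀ (k : ℕ) z, z ∈ Ideal.span (Set.range h) ^ k → ∃ z', C π ^ k * z' - ι z ∈ G := by
    intro k z hz
    have h1 : (Ideal.span (Set.range h)).map ι.toRingHom ≤ Ideal.span {C π} ⊔ G := by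
      rw [Ideal.map_span, Ideal.span_le]
      rintro _ ⟨_, ⟨j, rfl⟩, rfl⟩
      rw [show ι.toRingHom (h j) = C π * X (Sum.inr j) - g j by simp [g]]
      exact sub_mem (Ideal.mem_sup_left (Ideal.mul_mem_right _ _ (Ideal.mem_span_singleton_self _)))
        (Ideal.mem_sup_right (Ideal.subset_span ⟨j, rfl⟩))
    have h2 : ∀ k : ℕ, (Ideal.span {C π} ⊔ G) ^ k ≤ Ideal.span {C π ^ k} ⊔ G := fun k => by
      induction k with
      | zero => simp
      | succ k ih =>
        rw [pow_succ]
        refine (Ideal.mul_mono_left ih).trans (Ideal.mul_le.2 fun a ha b hb => ?_)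
        obtain ⟨a₁, ha₁, a₂, ha₂, rfl⟩ := Submodule.mem_sup.1 ha
        obtain ⟨b₁, hb₁, b₂, hb₂, rfl⟩ := Submodule.mem_sup.1 hb
        rw [show (a₁ + a₂) * (b₁ + b₂) = a₁ * b₁ + (a₂ * (b₁ + b₂) + a₁ * b₂) by ring, pow_succ,
          ← Ideal.span_singleton_mul_span_singleton]
        exact Submodule.add_mem_sup (Ideal.mul_mem_mul ha₁ hb₁) (add_mem (G.mul_mem_right _ ha₂) (G.mul_mem_left _ hb₂))
    have h3 := h2 k (Ideal.pow_right_mono h1 k (by rw [← Ideal.map_pow]; exact Ideal.mem_map_of_mem _ hz))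
    obtain ⟨w₁, hw₁, w₂, hw₂, hw⟩ := Submodule.mem_sup.1 h3
    obtain ⟨z', rfl⟩ := Ideal.mem_span_singleton'.1 hw₁
    refine ⟨z', ?_⟩
    rw [show C π ^ k * z' - ι z = -w₂ by show _ - ι.toRingHom z = _; rw [← hw]; ring]
    exact G.neg_mem hw₂
  have hlift1 : ∀ p, aeval lam p = 0 →
      ∃ t, aeval lam t ∉ maximalIdeal Λ ∧ ∃ f', C π ^ 1 * f' - ι (t * p) ∈ G := by
    intro p hp
    obtain ⟨t, ht, htp⟩ := hgen1 p (hp ▸ zero_mem _)
    obtain ⟨z, hz', w₀, hw₀, hsum⟩ := Submodule.mem_sup.1 htp
    obtain ⟨w, rfl⟩ := Ideal.mem_span_singleton'.1 hw₀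
    obtain ⟨z', hz''⟩ := hpow 1 z (by rwa [pow_one])
    refine ⟨t, ht, z' + ι w, ?_⟩
    rw [← hsum, map_add, map_mul, show ι (C π) = C π from rename_C _ _]
    convert! hz'' using 1
    ring
  have hlift2 : ∀ p, aeval lam p = 0 → (∀ l, jp lam p l ∈ maximalIdeal Λ) →
      ∃ t, aeval lam t ∉ maximalIdeal Λ ∧ ∃ f', C π ^ 2 * f' - ι (t * p) ∈ G := by
    intro p hp hjp
    obtain ⟨t, ht, htp⟩ := hgen2 p (hp ▸ zero_mem _) hjp
    obtain ⟨z, hz', w₀, hw₀, hsum⟩ := Submodule.mem_sup.1 htp
    obtain ⟨w, rfl⟩ := Ideal.mem_span_singleton'.1 hw₀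
    obtain ⟨z', hz''⟩ := hpow 2 z hz'
    have h1 := hG0 _ hz''
    rw [map_sub, map_mul, map_pow, aeval_C, hι, sub_eq_zero] at h1
    have h2 := congrArg (aeval lam) hsum
    rw [map_add, map_mul, map_mul, hp, mul_zero, aeval_C, ← h1] at h2
    have hwm : aeval lam w ∈ maximalIdeal Λ := (hmem1 _).2 ⟨-aeval μ z', mul_left_cancel₀ hϖ0 (by
      show algebraMap R Λ π * _ = algebraMap R Λ π * (algebraMap R Λ π * _)
      linear_combination h2)⟩
    obtain ⟨t', ht', htw⟩ := hgen1 w hwm
    obtain ⟨z₁, hz₁, w₁, hw₁, hsum₁⟩ := Submodule.mem_sup.1 htw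
    obtain ⟨w₂, rfl⟩ := Ideal.mem_span_singleton'.1 hw₁
    obtain ⟨z₁', hz₁'⟩ := hpow 1 z₁ (by rwa [pow_one])
    refine ⟨t' * t, fun hm => ?_, ι t' * z' + z₁' + ι w₂, ?_⟩
    · rw [map_mul] at hm
      exact ((maximalIdeal.isMaximal Λ).isPrime.mem_or_mem hm).elim ht' ht
    · have h3 : t' * t * p = t' * z + C π * z₁ + C π * C π * w₂ := by
        linear_combination (-t') * hsum - C π * hsum₁
      rw [h3]
      have h4 := add_mem (G.mul_mem_left (ι t') hz'') (G.mul_mem_left (C π) hz₁')
      convert! h4 using 1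
      simp only [map_add, map_mul, show ι (C π) = C π from rename_C _ _]
      ring
  -- the lifted relations
  let k₀ : Fin n → ℕ := fun i => if i = i₀ then 2 else 1
  have hdata : ∀ i, ∃ (t : Λ) (f' : MvPolynomial (Fin n ⊕ Fin e) R) (c : Fin e → Λ), IsUnit t ∧
      (i ∈ S → aeval μ f' = 0 ∧ ϖ ^ k₀ i • jp μ f' + ∑ j, c j • gr j = t • Ext (V i)) := by
    intro i
    by_cases hi : i ∈ S
    · obtain ⟨t, ht, f', hf'⟩ : ∃ t, aeval lam t ∉ maximalIdeal Λ ∧ ∃ f', C π ^ k₀ i * f' - ι (t * f i) ∈ G := by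
        by_cases h0 : i = i₀
        · subst h0
          simp only [k₀, if_pos]
          exact hlift2 _ (hz i hi) (fun l => hrow i hi ▸ hrow₀ l)
        · simp only [k₀, if_neg h0]
          exact hlift1 _ (hz i hi)
      obtain ⟨c, hc⟩ := hGjp _ hf'
      refine ⟨aeval lam t, f', -c, not_not.1 fun hn => ht ((mem_maximalIdeal _).2 hn), fun _ => ⟨?_, ?_⟩⟩
      · have h1 := hG0 _ hf'
        rw [map_sub, map_mul, map_pow, aeval_C, hι, map_mul, hz i hi, mul_zero, sub_zero] at h1
        exact (mul_eq_zero.1 h1).resolve_left (pow_ne_zero _ hϖ0)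
      · rw [jp_sub, hjι, jp_mul_of_zero lam _ (hz i hi), map_smul, ← hrow i hi, ← map_pow, jp_C_mul, map_pow] at hc
        simp only [Pi.neg_apply, neg_smul, Finset.sum_neg_distrib, ← hc]
        abel
    · exact ⟨1, 0, 0, isUnit_one, fun h => absurd h hi⟩
  choose t f' c htu hdata using hdata
  obtain ⟨s, B, hB, hBs⟩ := exists_completion_residue (fun j => jp lam (h j)) hli
  obtain ⟨τ, V₁, hτ, hV₁S, hV₁, hdet₁⟩ := exists_replace B V hB S _ hdet
  let P : Fin n → Prop := fun i => i ∉ S ∧ ∃ j, s j = τ i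
  let top : Fin n → (Fin n ⊕ Fin e → Λ) := fun i =>
    if i ∈ S then jp μ (f' i) else if h : ∃ j, s j = τ i then Pi.single (Sum.inr h.choose) 1 else Ext (V₁ i)
  let N : Matrix (Fin n ⊕ Fin e) (Fin n ⊕ Fin e) Λ := Matrix.of (Sum.elim top gr)
  let K : Fin n → ℕ := fun i => if i ∈ S then k₀ i else if P i then 1 else 0
  let T : Fin n → Λ := fun i => if i ∈ S then t i else 1
  let Cm : Fin n → Fin e → Λ := fun i =>
    if i ∈ S then c i else if h : ∃ j, s j = τ i then -Pi.single h.choose 1 else 0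
  have hkey : ∀ i, ϖ ^ K i • top i + ∑ j, Cm i j • gr j = T i • Ext (V₁ i) := by
    intro i
    by_cases hi : i ∈ S
    · simp only [K, top, Cm, T, if_pos hi, hV₁S i hi]
      exact (hdata i hi).2
    · by_cases hj : ∃ j, s j = τ i
      · simp only [K, top, Cm, T, P, if_neg hi, dif_pos hj, if_pos (And.intro hi hj), pow_one, one_smul]
        rw [Finset.sum_eq_single hj.choose (fun j _ hne => by simp [hne]) (fun h => absurd (Finset.mem_univ _) h)]
        rw [hV₁ i hi, show B (τ i) = jp lam (h hj.choose) from (congrArg B hj.choose_spec.symm).trans (hBs _), hgr]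
        simp
      · simp [K, top, Cm, T, P, if_neg hi, dif_neg hj, hj]
  let Mr : Matrix (Fin n ⊕ Fin e) (Fin n ⊕ Fin e) Λ :=
    Matrix.fromBlocks (Matrix.diagonal fun i => ϖ ^ K i) (Matrix.of Cm) 0 1
  let W : Matrix (Fin n ⊕ Fin e) (Fin n ⊕ Fin e) Λ :=
    Matrix.fromBlocks (Matrix.diagonal T * V₁) 0 (-Matrix.of fun j => jp lam (h j)) (Matrix.diagonal fun _ => ϖ)
  have hMN : Mr * N = W := by
    ext x l
    rw [Matrix.mul_apply, Fintype.sum_sum_type]
    cases x with
    | inl i =>
      have := congrFun (hkey i) l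
      simp only [Pi.add_apply, Pi.smul_apply, Finset.sum_apply, smul_eq_mul] at this
      simp only [Mr, N, Matrix.fromBlocks_apply₁₁, Matrix.fromBlocks_apply₁₂, Matrix.of_apply, Sum.elim_inl,
        Sum.elim_inr, Matrix.diagonal_apply, ite_mul, zero_mul, Finset.sum_ite_eq, Finset.mem_univ, if_true]
      rw [this]
      cases l <;> simp [W, Ext, Matrix.diagonal_mul]
    | inr j =>
      simp only [Mr, N, Matrix.fromBlocks_apply₂₁, Matrix.fromBlocks_apply₂₂, Matrix.zero_apply, zero_mul,
        Finset.sum_const_zero, zero_add, Matrix.one_apply, ite_mul, one_mul, Finset.sum_ite_eq, Finset.mem_univ,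
        if_true, Matrix.of_apply, Sum.elim_inr, hgr]
      cases l with
      | inl l => simp [W, Ext]
      | inr j' => simp [W, Ext, Pi.single_apply, Matrix.diagonal_apply, eq_comm]
  have hdeteq : ϖ ^ (∑ i, K i) * N.det = (∏ i, T i) * V₁.det * ϖ ^ e := by
    have := congrArg Matrix.det hMN
    rw [Matrix.det_mul, Matrix.det_fromBlocks_zero₂₁, Matrix.det_fromBlocks_zero₁₂, Matrix.det_mul,
      Matrix.det_diagonal, Matrix.det_diagonal, Matrix.det_diagonal, Matrix.det_one, mul_one,
      Finset.prod_pow_eq_pow_sum] at this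
    simpa using this
  have hTu : IsUnit (∏ i, T i) := IsUnit.prod_iff.2 fun i _ => by
    by_cases hi : i ∈ S
    · simp [T, hi, htu]
    · simp [T, hi]
  have hK : e + 1 ≤ ∑ i, K i := by
    let U : Finset (Fin n) := Finset.univ.filter fun i => i ∉ S ∧ ¬ ∃ j, s j = τ i
    have hU : U.card + e ≤ n := by
      have h1 : U.card ≤ (Finset.univ \ Finset.univ.map s).card :=
        Finset.card_le_card_of_injOn τ (fun i hi => by simpa [U] using (Finset.mem_filter.1 hi).2.2)
          (hτ.mono fun i hi => Finset.mem_compl.2 (Finset.mem_filter.1 hi).2.1)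
      rw [Finset.card_sdiff, Finset.inter_univ, Finset.card_map, Finset.card_univ, Finset.card_univ, Fintype.card_fin,
        Fintype.card_fin] at h1
      have := Fintype.card_le_of_embedding s
      simp only [Fintype.card_fin] at this
      omega
    have h2 : ∑ i, (K i + if i ∈ U then 1 else 0) = ∑ i, (1 + if i = i₀ then 1 else 0) :=
      Finset.sum_congr rfl fun i _ => by
        by_cases hi : i ∈ S
        · by_cases h0 : i = i₀
          · subst h0; simp [K, k₀, U, hi]
          · simp [K, k₀, U, hi, h0]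
        · have h0 : i ≠ i₀ := fun h => hi (h ▸ hi₀)
          by_cases hj : ∃ j, s j = τ i <;> simp [K, U, P, hi, hj, h0]
    simp [Finset.sum_add_distrib] at h2
    omega
  refine ⟨e, μ, fun l => rfl, S.map ⟨Sum.inl, Sum.inl_injective⟩ ∪ Finset.univ.map ⟨Sum.inr, Sum.inr_injective⟩,
    Sum.elim f' g, N, fun x hx => ?_, fun x hx => ?_, fun hm => ?_, fun p hp => ?_⟩
  · rcases x with i | j
    · exact (hdata i (by simpa using hx)).1
    · exact hg0 j
  · rcases x with i | j
    · show top i = _
      simp only [top, if_pos (show i ∈ S by simpa using hx)]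
      rfl
    · rfl
  · refine hdet₁ ?_
    rw [hmem] at hm ⊢
    obtain ⟨q, hq⟩ := hm
    rw [show v - 1 + 1 = v by omega] at hq
    have h1 : ϖ ^ (e + (v + 1)) ∣ (∏ i, T i) * V₁.det * ϖ ^ e := by
      rw [← hdeteq, hq, ← mul_assoc, ← pow_add]
      exact Dvd.dvd.mul_right (pow_dvd_pow _ (by omega)) _
    rw [pow_add, mul_comm _ (ϖ ^ e), mul_dvd_mul_iff_left (pow_ne_zero _ hϖ0), hTu.dvd_mul_left] at h1
    exact h1
  · let M := Submodule.span Λ (N '' ((S.map ⟨Sum.inl, Sum.inl_injective⟩ ∪
      Finset.univ.map ⟨Sum.inr, Sum.inr_injective⟩ : Finset (Fin n ⊕ Fin e)) : Set (Fin n ⊕ Fin e)))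
    show ∃ a : Λ, a ≠ 0 ∧ a • jp μ p ∈ M
    have hgrM : ∀ c : Fin e → Λ, ∑ j, c j • gr j ∈ M := fun c =>
      Submodule.sum_mem _ fun j _ => M.smul_mem _ (Submodule.subset_span ⟨Sum.inr j, by simp, rfl⟩)
    have hVM : ∀ x ∈ Submodule.span Λ (V '' (S : Set (Fin n))), Ext x ∈ M := by
      intro x hx
      refine (Submodule.span_le.2 ?_ : Submodule.span Λ (V '' (S : Set (Fin n))) ≤ M.comap Ext) hx
      rintro _ ⟨i, hi, rfl⟩
      have hi : i ∈ S := hi
      show Ext (V i) ∈ M
      have h1 := hkey i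
      simp only [T, if_pos hi, hV₁S i hi] at h1
      rw [← Submodule.smul_mem_iff_of_isUnit M (htu i), ← h1]
      exact add_mem (M.smul_mem _ (Submodule.subset_span ⟨Sum.inl i, by simp [hi], rfl⟩)) (hgrM _)
    obtain ⟨m, p₀, hp₀⟩ : ∃ (m : ℕ) (p₀ : MvPolynomial (Fin n) R), C π ^ m * p - ι p₀ ∈ G := by
      clear hp
      induction p using MvPolynomial.induction_on with
      | C r => exact ⟨0, C r, by simp [ι, rename_C]⟩
      | add x y hx' hy' =>
        obtain ⟨m, a, ha⟩ := hx'
        obtain ⟨m', b, hb⟩ := hy'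
        refine ⟨m + m', C π ^ m' * a + C π ^ m * b, ?_⟩
        convert! add_mem (Ideal.mul_mem_left _ (C π ^ m') ha) (Ideal.mul_mem_left _ (C π ^ m) hb) using 1
        simp only [map_add, map_mul, map_pow, ι, rename_C]
        ring
      | mul_X x i hx' =>
        obtain ⟨m, a, ha⟩ := hx'
        cases i with
        | inl i =>
          refine ⟨m, a * X i, ?_⟩
          convert! Ideal.mul_mem_right (X (Sum.inl i)) _ ha using 1
          simp only [map_mul, ι, rename_X]
          ring
        | inr j =>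
          refine ⟨m + 1, a * h j, ?_⟩
          convert! add_mem (Ideal.mul_mem_right (C π * X (Sum.inr j)) _ ha) (Ideal.mul_mem_left _ (ι a)
            (Ideal.subset_span ⟨j, rfl⟩ : g j ∈ G)) using 1
          simp only [g, map_mul, pow_succ]
          ring
    have hp₀0 : aeval lam p₀ = 0 := by
      have h1 := hG0 _ hp₀
      rw [map_sub, map_mul, hp, mul_zero, hι, zero_sub, neg_eq_zero] at h1
      exact h1
    obtain ⟨a, ha, hap⟩ := hrank p₀ hp₀0
    obtain ⟨cg, hcg⟩ := hGjp _ hp₀
    refine ⟨a * ϖ ^ m, mul_ne_zero ha (pow_ne_zero _ hϖ0), ?_⟩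
    rw [jp_sub, hjι, ← map_pow, jp_C_mul, map_pow, sub_eq_iff_eq_add] at hcg
    rw [mul_smul, hcg, smul_add, ← map_smul]
    exact add_mem (M.smul_mem _ (hgrM cg)) (hVM _ hap)

/-- Finitely many elements lie in a subalgebra of finite type smooth at the closed point. -/
theorem resolved [IsDomain R] [IsDiscreteValuationRing R] [NoZeroSMulDivisors R Λ] [IsLocalHom (algebraMap R Λ)]
    (he : (maximalIdeal R).map (algebraMap R Λ) = maximalIdeal Λ)
    (hsep : Algebra.IsGeometricallyReduced (ResidueField R) (ResidueField Λ))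
    (hgen : ∀ A : Subalgebra R Λ, A.FG → ∀ [(RingHom.ker (algebraMap A Λ)).IsPrime],
      Algebra.IsSmoothAt R (RingHom.ker (algebraMap A Λ))) :
    ∀ (v : ℕ) {n : ℕ} (lam : Fin n → Λ), HasMinor R lam v → Resolved R (Set.range lam) := by
  obtain ⟨π, hπ'⟩ := IsDiscreteValuationRing.exists_irreducible R
  have hπ : maximalIdeal R = Ideal.span {π} := Irreducible.maximalIdeal_eq hπ'
  have hϖ : maximalIdeal Λ = Ideal.span {algebraMap R Λ π} := by
    rw [← he, hπ, Ideal.map_span, Set.image_singleton]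
  intro v
  induction v using Nat.strong_induction_on with
  | _ v ih =>
    intro n lam ⟨S, f, V, hz, hrow, hdet, hrank⟩
    classical
    let eS := (Fintype.equivFin S).symm
    rcases residue_dichotomy lam (fun i => f (eS i)) with hli | ⟨a, i₁, ha, hal⟩
    · refine ⟨n, lam, Algebra.subset_adjoin, isSmoothAt_of_independent he hgen lam S f hz ?_ ?_⟩
      · rw [← Set.EqOn.image_eq (fun i hi => hrow i hi : Set.EqOn V (fun i => jp lam (f i)) (S : Set (Fin n)))]
        exact hrank
      · have h1 := hli.comp eS.symm eS.symm.injective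
        simpa [Function.comp_def] using h1
    · let i₀ : Fin n := (eS i₁).1
      let a' : Fin n → MvPolynomial (Fin n) R := fun k => if hk : k ∈ S then a (eS.symm ⟨k, hk⟩) else 0
      let f₁ := ∑ k, a' k * f k
      let V' := V.updateRow i₀ (∑ k, aeval lam (a' k) • V k)
      have ha' : ∀ k, k ∉ S → a' k = 0 := fun k hk => dif_neg hk
      have hterm : ∀ k, jp lam (a' k * f k) = aeval lam (a' k) • V k := fun k => by
        by_cases hk : k ∈ S
        · rw [jp_mul_of_zero lam _ (hz k hk), hrow k hk]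
        · simp [ha' k hk, jp_zero]
      have hf₁ : jp lam f₁ = ∑ k, aeval lam (a' k) • V k := by
        rw [jp_sum]; exact Finset.sum_congr rfl fun k _ => hterm k
      have hi₀ : i₀ ∈ S := (eS i₁).2
      have hunit : IsUnit (aeval lam (a' i₀)) := by
        refine not_not.1 fun hn => ha ?_
        simp only [a', i₀, dif_pos hi₀, Subtype.coe_eta, Equiv.symm_apply_apply] at hn
        exact (mem_maximalIdeal _).2 hn
      obtain ⟨hv, e, μ, hμ, hm⟩ := exists_blowup hsep π hπ hϖ lam v S (Function.update f i₀ f₁) V'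
        (fun i hi => by
          by_cases h : i = i₀
          · subst h
            simp only [Function.update_self, f₁, map_sum, map_mul]
            refine Finset.sum_eq_zero fun k _ => ?_
            by_cases hk : k ∈ S
            · rw [hz k hk, mul_zero]
            · simp [ha' k hk]
          · rw [Function.update_of_ne h]; exact hz i hi)
        (fun i hi => by
          by_cases h : i = i₀
          · subst h
            simp only [V', Matrix.updateRow_self, Function.update_self, hf₁]
          · simp only [V', Matrix.updateRow_ne h, Function.update_of_ne h]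
            exact hrow i hi)
        (by
          simp only [V', Matrix.det_updateRow_sum, smul_eq_mul]
          rwa [Ideal.unit_mul_mem_iff_mem _ hunit])
        (fun p hp => by
          obtain ⟨b, hb, hbp⟩ := hrank p hp
          refine ⟨b, hb, (Submodule.span_le.2 ?_) hbp⟩
          rintro _ ⟨k, hk, rfl⟩
          by_cases h : k = i₀
          · subst h
            rw [SetLike.mem_coe, ← Submodule.smul_mem_iff_of_isUnit _ hunit]
            have h1 : aeval lam (a' i₀) • V i₀ = V' i₀ - ∑ k ∈ Finset.univ.erase i₀, aeval lam (a' k) • V k := by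
              simp only [V', Matrix.updateRow_self]
              rw [← Finset.add_sum_erase _ _ (Finset.mem_univ i₀)]
              abel
            rw [h1]
            refine sub_mem (Submodule.subset_span ⟨i₀, hi₀, rfl⟩) (Submodule.sum_mem _ fun k hk' => ?_)
            by_cases hkS : k ∈ S
            · refine Submodule.smul_mem _ _ (Submodule.subset_span ⟨k, hkS, ?_⟩)
              simp only [V', Matrix.updateRow_ne (Finset.ne_of_mem_erase hk')]
            · simp [ha' k hkS]
          · exact Submodule.subset_span ⟨k, hk, by simp only [V', Matrix.updateRow_ne h]⟩)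
        i₀ hi₀ (fun l => by
          have h1 : (∑ k, aeval lam (a' k) • V k) = ∑ i, aeval lam (a i) • jp lam (f (eS i)) := by
            rw [← Finset.sum_subset (Finset.subset_univ S) (fun k _ hk => by simp [ha' k hk]), ← Finset.sum_coe_sort,
              ← eS.sum_comp]
            refine Finset.sum_congr rfl fun i _ => ?_
            simp only [a', dif_pos (eS i).2, Subtype.coe_eta, Equiv.symm_apply_apply, hrow _ (eS i).2]
          simp only [V', Matrix.updateRow_self, h1]
          exact hal l)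
      obtain ⟨m, ν, hν, hsm⟩ := ih (v - 1) (by omega) (μ ∘ finSumFinEquiv.symm) (hasMinor_equiv finSumFinEquiv hm)
      refine ⟨m, ν, ?_, hsm⟩
      rintro _ ⟨l, rfl⟩
      exact hν ⟨finSumFinEquiv (Sum.inl l), by simp [hμ]⟩

/-- An extension of discrete valuation rings of index one with separable residue and fraction field extensions is
ind-smooth. -/
theorem indSmooth {R Λ : Type u} (K L : Type u) [CommRing R] [IsDomain R] [IsDiscreteValuationRing R]
    [CommRing Λ] [IsDomain Λ] [IsDiscreteValuationRing Λ] [Algebra R Λ]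
    [NoZeroSMulDivisors R Λ] [IsLocalHom (algebraMap R Λ)]
    (he : (maximalIdeal R).map (algebraMap R Λ) = maximalIdeal Λ)
    [Algebra.IsGeometricallyReduced (ResidueField R) (ResidueField Λ)]
    [Field K] [Algebra R K] [IsFractionRing R K] [Field L] [Algebra Λ L] [IsFractionRing Λ L]
    [Algebra K L] [Algebra R L] [IsScalarTower R K L] [IsScalarTower R Λ L]
    [Algebra.IsGeometricallyReduced K L] : Smoothing.IndSmooth R Λ := by
  have hgen : ∀ A : Subalgebra R Λ, A.FG → ∀ [(RingHom.ker (algebraMap A Λ)).IsPrime],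
      Algebra.IsSmoothAt R (RingHom.ker (algebraMap A Λ)) := by
    intro A _ _
    let p := RingHom.ker (algebraMap A Λ)
    have hp : p = ⊥ := (RingHom.injective_iff_ker_eq_bot _).1 Subtype.val_injective
    let F := Localization.AtPrime p
    haveI : IsFractionRing A F := by
      show IsLocalization (nonZeroDivisors A) F
      have : nonZeroDivisors A = p.primeCompl := by
        ext x
        simp [mem_nonZeroDivisors_iff_ne_zero, hp]
      rw [this]
      infer_instance
    letI : Field F := IsFractionRing.toField A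
    have hRF : Function.Injective (algebraMap R F) := by
      rw [IsScalarTower.algebraMap_eq R A F]
      exact (IsFractionRing.injective A F).comp fun x y h =>
        FaithfulSMul.algebraMap_injective R Λ (congrArg Subtype.val h)
    letI : Algebra K F := (IsFractionRing.lift hRF : K →+* F).toAlgebra
    haveI : IsScalarTower R K F := IsScalarTower.of_algebraMap_eq fun r => (IsFractionRing.lift_algebraMap hRF r).symm
    have hAL : Function.Injective ((algebraMap Λ L).comp A.val.toRingHom) :=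
      (IsFractionRing.injective Λ L).comp Subtype.val_injective
    let σ : F →+* L := IsFractionRing.lift hAL
    have hσ : σ.comp (algebraMap K F) = algebraMap K L := IsLocalization.ringHom_ext (nonZeroDivisors R)
      (RingHom.ext fun r => by
        show σ (algebraMap K F (algebraMap R K r)) = algebraMap K L (algebraMap R K r)
        rw [← IsScalarTower.algebraMap_apply, ← IsScalarTower.algebraMap_apply, IsScalarTower.algebraMap_apply R A F,
          IsFractionRing.lift_algebraMap, IsScalarTower.algebraMap_apply R Λ L]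
        rfl)
    haveI : Algebra.IsGeometricallyReduced K F :=
      Algebra.IsGeometricallyReduced.of_injective (⟨σ, fun r => RingHom.congr_fun hσ r⟩ : F →ₐ[K] L) σ.injective
    haveI : Algebra.FormallySmooth K F := EGA41Lib.FieldFS.formallySmooth_of_isGeometricallyReduced K F
    haveI : Algebra.FormallyEtale R K := Algebra.FormallyEtale.of_isLocalization (nonZeroDivisors R)
    show Algebra.FormallySmooth R F
    exact Algebra.FormallySmooth.comp R K F
  intro A₀ _ _ hfp f
  obtain ⟨n, φ, hφ⟩ := Algebra.FiniteType.iff_quotient_mvPolynomial''.1 (inferInstance : Algebra.FiniteType R A₀)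
  obtain ⟨v, hv⟩ := exists_hasMinor (R := R) fun i => f (φ (X i))
  obtain ⟨m, μ, hμ, hsm⟩ := resolved he ‹_› hgen v _ hv
  let A := Algebra.adjoin R (Set.range μ)
  have hfA : ∀ a, f a ∈ A := fun a => by
    obtain ⟨p, rfl⟩ := hφ a
    have h1 : f (φ p) ∈ (f.comp φ).range := ⟨p, rfl⟩
    rw [show f.comp φ = aeval fun i => f (φ (X i)) from algHom_ext fun i => by simp, ← Algebra.adjoin_range_eq_range_aeval] at h1
    exact Algebra.adjoin_le hμ h1
  have hfg : A.FG := Subalgebra.fg_def.2 ⟨Set.range μ, Set.finite_range μ, rfl⟩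
  haveI : Algebra.FiniteType R A := ⟨(Subalgebra.fg_top A).2 hfg⟩
  haveI : Algebra.FinitePresentation R A := Algebra.FinitePresentation.of_finiteType.1 ‹_›
  haveI := hsm
  obtain ⟨s, hs, hsmooth⟩ := Algebra.IsSmoothAt.exists_notMem_smooth R ((maximalIdeal Λ).comap (algebraMap A Λ))
  have hu : IsUnit (A.val.toRingHom s) := not_not.1 fun hn => hs ((mem_maximalIdeal _).2 hn)
  refine ⟨Localization.Away s, inferInstance, inferInstance, hsmooth,
    (IsScalarTower.toAlgHom R A (Localization.Away s)).comp (f.codRestrict A hfA),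
    ⟨IsLocalization.Away.lift s hu, fun r => ?_⟩, AlgHom.ext fun a => ?_⟩
  · show IsLocalization.Away.lift s hu (algebraMap R (Localization.Away s) r) = _
    rw [IsScalarTower.algebraMap_apply R A (Localization.Away s), IsLocalization.Away.lift_eq]
    rfl
  · exact IsLocalization.Away.lift_eq s hu _

end Groth.Agent.SmoothingLib.Neron
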