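import Groth.Agent.SmoothingLib.LocalStandard
import Groth.Agent.SmoothingLib.Lifting
import Groth.Agent.EGA41Lib.FieldFS
import Groth.Prelude.Def_BlowUp2
import Mathlib.RingTheory.Smooth.Flat

/-!
# Néron's blow-up of a smooth point of the closed fibre stays smooth
-/

set_option linter.style.haveILetI false

universe u

open MvPolynomial

namespace Groth.Agent.SmoothingLib.Neron

/-- Over a residue field, elements whose differentials span generate a prime at its generic point. -/
theorem exists_mul_mem_span {R : Type u} [CommRing R] (π : R) {k : Type u} [Field k] [Algebra R k]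
    (hk : Function.Surjective (algebraMap R k)) (hkπ : RingHom.ker (algebraMap R k) = Ideal.span {π})
    {n s e : ℕ} (h : Fin s → MvPolynomial (Fin n) R) (g : Fin e → MvPolynomial (Fin n) R)
    (Q : Ideal (MvPolynomial (Fin n) R)) [Q.IsPrime] (hQ : Ideal.span (Set.range h) = Q) (hg : ∀ i, g i ∈ Q)
    (hπQ : C π ∈ Q) {D K : Type u} [CommRing D] [IsDomain D] [Algebra k D] [Field K] [Algebra D K] [IsFractionRing D K]
    [Algebra k K] [IsScalarTower k D K] [Algebra.FormallySmooth k K]
    (φk : MvPolynomial (Fin n) k →ₐ[k] D) (hφk : Function.Surjective φk)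
    (hkerQ : ∀ x, φk (MvPolynomial.map (algebraMap R k) x) = 0 ↔ x ∈ Q)
    (hspan : ∀ j, (fun i => algebraMap D K (φk (MvPolynomial.map (algebraMap R k) (pderiv i (h j))))) ∈
      Submodule.span K (Set.range fun a => fun i => algebraMap D K (φk (MvPolynomial.map (algebraMap R k) (pderiv i (g a))))))
    {x : MvPolynomial (Fin n) R} (hx : x ∈ Q) :
    ∃ t ∉ Q, t * x ∈ Ideal.span (Set.range g) ⊔ Ideal.span {C π} := by
  classical
  let μ : MvPolynomial (Fin n) R →+* MvPolynomial (Fin n) k := MvPolynomial.map (algebraMap R k)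
  have hμ : Function.Surjective μ := MvPolynomial.map_surjective _ hk
  have hkμ : RingHom.ker μ = Ideal.span {C π} := by
    show RingHom.ker (MvPolynomial.map (algebraMap R k)) = _
    rw [MvPolynomial.ker_map, hkπ, Ideal.map_span, Set.image_singleton]
  let fk : Fin s → MvPolynomial (Fin n) k := fun j => μ (h j)
  have hker : RingHom.ker φk.toRingHom = Ideal.span (Set.range fk) := by
    refine le_antisymm (fun y hy => ?_) (Ideal.span_le.2 ?_)
    · obtain ⟨y, rfl⟩ := hμ y
      have h1 := Ideal.mem_map_of_mem μ (hQ.symm.le ((hkerQ y).1 hy))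
      rwa [Ideal.map_span, ← Set.range_comp] at h1
    · rintro _ ⟨j, rfl⟩
      exact (hkerQ _).2 (hQ.le (Ideal.subset_span ⟨j, rfl⟩))
  obtain ⟨hA, -⟩ := conormal φk hφk fk hker (nonZeroDivisors D) K
  let J : MvPolynomial (Fin n) R → (Fin n → K) := fun y => jac φk K (μ y)
  have hJ : ∀ y, J y = fun i => algebraMap D K (φk (μ (pderiv i y))) := fun y => funext fun i => by
    show algebraMap D K (φk (pderiv i (μ y))) = _
    rw [pderiv_map]
  let P₀ := Localization.AtPrime Q
  let J₀ := (Ideal.span (Set.range g) ⊔ Ideal.span {C π}).map (algebraMap _ P₀)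
  have hkey : ∀ j, ∃ t ∉ Q, t * h j ∈ (Ideal.span (Set.range g) ⊔ Ideal.span {C π}) ⊔ Q ^ 2 := by
    intro j
    obtain ⟨w, hw⟩ := (Submodule.mem_span_range_iff_exists_fun K).1 (hspan j)
    obtain ⟨⟨b, hb⟩, hbd⟩ := IsLocalization.exist_integer_multiples (nonZeroDivisors D) Finset.univ w
    choose y hy using fun a => hbd a (Finset.mem_univ a)
    obtain ⟨b₀, rfl⟩ := (hφk.comp hμ) b
    choose y₀ hy₀ using fun a => (hφk.comp hμ) (y a)
    let v := b₀ * h j - ∑ a, y₀ a * g a
    have hhj : h j ∈ Q := hQ.le (Ideal.subset_span ⟨j, rfl⟩)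
    have hv : μ v ∈ Ideal.span (Set.range fk) := by
      rw [← hker]
      exact (hkerQ v).2 (sub_mem (Q.mul_mem_left _ hhj) (Q.sum_mem fun a _ => Q.mul_mem_left _ (hg a)))
    have hzero : jac φk K (μ v) = 0 := by
      simp only [v, map_sub, map_sum, map_mul, jac_sub, jac_sum]
      rw [jac_mul φk K _ ((hkerQ _).2 hhj), Finset.sum_congr rfl fun a _ => jac_mul φk K (μ (y₀ a)) ((hkerQ _).2 (hg a)),
        sub_eq_zero]
      show algebraMap D K (φk (μ b₀)) • J (h j) = ∑ a, algebraMap D K (φk (μ (y₀ a))) • J (g a)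
      simp only [hJ]
      rw [← hw, Finset.smul_sum]
      refine Finset.sum_congr rfl fun a _ => ?_
      rw [smul_smul, show φk (μ (y₀ a)) = y a from hy₀ a, hy a]
      congr 1
      exact (Algebra.smul_def _ _).symm
    obtain ⟨t, ht, htv⟩ := hA (μ v) hv hzero
    obtain ⟨t, rfl⟩ := hμ t
    have htQ : t ∉ Q := fun h => nonZeroDivisors.ne_zero ht ((hkerQ t).2 h)
    have hbQ : b₀ ∉ Q := fun h => nonZeroDivisors.ne_zero hb ((hkerQ b₀).2 h)
    refine ⟨t * b₀, fun h => (Ideal.IsPrime.mem_or_mem ‹_› h).elim htQ hbQ, ?_⟩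
    have h2 : μ (t * v) ∈ (Q ^ 2).map μ := by
      rw [Ideal.map_pow, ← hQ, Ideal.map_span, ← Set.range_comp, map_mul]
      exact htv
    obtain ⟨z, hz, hzv⟩ := (Ideal.mem_map_iff_of_surjective μ hμ).1 h2
    rw [show t * b₀ * h j = (∑ a, t * y₀ a * g a + (t * v - z)) + z by
      simp only [v, mul_sub, Finset.mul_sum, mul_assoc]; ring]
    refine Submodule.add_mem_sup (add_mem (Ideal.mem_sup_left (Ideal.sum_mem _ fun a _ =>
      Ideal.mul_mem_left _ _ (Ideal.subset_span ⟨a, rfl⟩))) (Ideal.mem_sup_right ?_)) hz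
    rw [← hkμ, RingHom.mem_ker, map_sub, hzv, sub_self]
  have hle : Q.map (algebraMap _ P₀) ≤ J₀ := by
    have h1 : Q.map (algebraMap _ P₀) ≤ J₀ ⊔ Q.map (algebraMap _ P₀) ^ 2 := by
      refine le_trans (Ideal.map_mono hQ.ge) ?_
      rw [Ideal.map_span, Ideal.span_le]
      rintro _ ⟨_, ⟨j, rfl⟩, rfl⟩
      obtain ⟨t, ht, htj⟩ := hkey j
      have h2 := Ideal.mem_map_of_mem (algebraMap _ P₀) htj
      rw [Ideal.map_sup, Ideal.map_pow, map_mul] at h2
      exact (Ideal.unit_mul_mem_iff_mem _ (IsLocalization.map_units P₀ (⟨t, ht⟩ : Q.primeCompl))).1 h2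
    refine Submodule.le_of_le_smul_of_le_jacobson_bot (Ideal.FG.map (hQ ▸ Submodule.fg_span (Set.finite_range h) : Q.FG) _)
      ?_ (le_trans h1 (le_of_eq (by rw [pow_two, smul_eq_mul])))
    rw [IsLocalRing.jacobson_eq_maximalIdeal ⊥ bot_ne_top, Ideal.map_le_iff_le_comap]
    exact fun y hy => (IsLocalization.AtPrime.to_map_mem_maximal_iff P₀ Q _).2 hy
  obtain ⟨t, ht, htx⟩ := (IsLocalization.algebraMap_mem_map_algebraMap_iff Q.primeCompl P₀ _ x).1
    (hle (Ideal.mem_map_of_mem _ hx))
  exact ⟨t, ht, htx⟩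

set_option maxHeartbeats 3000000 in
/-- Néron's blow-up of a smooth point of the closed fibre is smooth at the new point. -/
theorem isSmoothAt_blowup {R Λ A : Type u} [CommRing R] [IsDomain R]
    [IsDiscreteValuationRing R] [CommRing Λ] [IsDomain Λ] [IsDiscreteValuationRing Λ] [Algebra R Λ]
    [IsLocalHom (algebraMap R Λ)]
    (hsep : Algebra.IsGeometricallyReduced (IsLocalRing.ResidueField R) (IsLocalRing.ResidueField Λ))
    [CommRing A] [Algebra R A] [Module.Flat R A] [Algebra.FiniteType R A] [Algebra A Λ] [IsScalarTower R A Λ]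
    (π : R) (hπ : IsLocalRing.maximalIdeal R = Ideal.span {π})
    (hsm : Algebra.IsSmoothAt R ((IsLocalRing.maximalIdeal Λ).comap (algebraMap A Λ)))
    (φ' : BlowUp.affineAlgebra A ((IsLocalRing.maximalIdeal Λ).comap (algebraMap A Λ)) (algebraMap R A π) →ₐ[A] Λ) :
    Algebra.IsSmoothAt R ((IsLocalRing.maximalIdeal Λ).comap φ'.toRingHom) := by
  classical
  let p := (IsLocalRing.maximalIdeal Λ).comap (algebraMap A Λ)
  haveI : p.IsPrime := Ideal.comap_isPrime _ _
  haveI := hsm
  obtain ⟨n, φ, hφ⟩ := Algebra.FiniteType.iff_quotient_mvPolynomial''.1 (inferInstance : Algebra.FiniteType R A)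
  obtain ⟨m, f, hf⟩ := Submodule.fg_iff_exists_fin_generating_family.1
    (IsNoetherian.noetherian (RingHom.ker φ.toRingHom) : (RingHom.ker φ.toRingHom).FG)
  have hker : RingHom.ker φ.toRingHom = Ideal.span (Set.range f) := hf.symm
  have hfz : ∀ j, φ (f j) = 0 := fun j => hf.le (Ideal.subset_span ⟨j, rfl⟩)
  let Q₀ : Ideal (MvPolynomial (Fin n) R) := p.comap φ.toRingHom
  obtain ⟨s, h, hh⟩ := Submodule.fg_iff_exists_fin_generating_family.1 (IsNoetherian.noetherian Q₀ : Q₀.FG)
  have hhQ : Ideal.span (Set.range h) = Q₀ := hh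
  have hπΛ : algebraMap R Λ π ∈ IsLocalRing.maximalIdeal Λ := map_nonunit (algebraMap R Λ) π
    (hπ.symm ▸ Ideal.mem_span_singleton_self π)
  have hπQ : C π ∈ Q₀ := by
    show algebraMap A Λ (φ (C π)) ∈ IsLocalRing.maximalIdeal Λ
    rw [MvPolynomial.algHom_C, ← IsScalarTower.algebraMap_apply]
    exact hπΛ
  -- the residue field of the point
  let k := IsLocalRing.ResidueField R
  let D := MvPolynomial (Fin n) R ⧸ Q₀
  let mkD : MvPolynomial (Fin n) R →+* D := Ideal.Quotient.mk Q₀
  letI : CommRing D := Ideal.Quotient.commRing Q₀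
  haveI : IsDomain D := Ideal.Quotient.isDomain Q₀
  let kD : k →+* D := Ideal.Quotient.lift _ (mkD.comp C) (fun r hr => by
    rw [hπ, Ideal.mem_span_singleton'] at hr
    obtain ⟨y, rfl⟩ := hr
    rw [map_mul]
    exact mul_eq_zero_of_right _ (Ideal.Quotient.eq_zero_iff_mem.2 hπQ))
  letI : Algebra k D := kD.toAlgebra
  let σ : MvPolynomial (Fin n) R →+* IsLocalRing.ResidueField Λ :=
    (IsLocalRing.residue Λ).comp ((algebraMap A Λ).comp φ.toRingHom)
  have hσ : ∀ x, σ x = 0 ↔ x ∈ Q₀ := fun x => IsLocalRing.residue_eq_zero_iff _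
  let σD : D →+* IsLocalRing.ResidueField Λ := Ideal.Quotient.lift Q₀ σ fun x hx => (hσ x).2 hx
  have hσD : Function.Injective σD := (injective_iff_map_eq_zero σD).2 fun x hx => by
    obtain ⟨x, rfl⟩ := Ideal.Quotient.mk_surjective x
    exact Ideal.Quotient.eq_zero_iff_mem.2 ((hσ x).1 hx)
  haveI : Algebra.FormallySmooth k (FractionRing D) := by
    haveI := hsep
    let σK : FractionRing D →+* IsLocalRing.ResidueField Λ := IsFractionRing.lift hσD
    let σa : FractionRing D →ₐ[k] IsLocalRing.ResidueField Λ :=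
      ⟨σK, fun r => by
        obtain ⟨r, rfl⟩ := IsLocalRing.residue_surjective r
        show σK (algebraMap D (FractionRing D) (mkD (C r))) = _
        rw [IsFractionRing.lift_algebraMap]
        show IsLocalRing.residue Λ (algebraMap A Λ (φ (C r))) = _
        rw [MvPolynomial.algHom_C, ← IsScalarTower.algebraMap_apply]
        rfl⟩
    haveI : Algebra.IsGeometricallyReduced k (FractionRing D) :=
      Algebra.IsGeometricallyReduced.of_injective σa σK.injective
    exact EGA41Lib.FieldFS.formallySmooth_of_isGeometricallyReduced k (FractionRing D)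
  let φk : MvPolynomial (Fin n) k →ₐ[k] D := aeval fun i => mkD (X i)
  have hφkμ : ∀ x, φk (MvPolynomial.map (algebraMap R k) x) = mkD x := fun x => by
    have : φk.toRingHom.comp (MvPolynomial.map (algebraMap R k)) = mkD := MvPolynomial.ringHom_ext
      (fun r => by
        show φk (MvPolynomial.map (algebraMap R k) (C r)) = _
        rw [MvPolynomial.map_C, aeval_C]
        rfl)
      (fun i => by show φk (MvPolynomial.map (algebraMap R k) (X i)) = _; simp [φk])
    exact RingHom.congr_fun this x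
  have hφks : Function.Surjective φk := fun y => by
    obtain ⟨x, rfl⟩ := Ideal.Quotient.mk_surjective y
    exact ⟨_, hφkμ x⟩
  let τ : MvPolynomial (Fin n) R →+* FractionRing D := (algebraMap D (FractionRing D)).comp mkD
  have hτ : ∀ x, τ x = 0 ↔ x ∈ Q₀ := fun x => by
    show algebraMap D (FractionRing D) (mkD x) = 0 ↔ _
    rw [map_eq_zero_iff _ (IsFractionRing.injective D (FractionRing D))]
    exact Ideal.Quotient.eq_zero_iff_mem
  let jK : MvPolynomial (Fin n) R → (Fin n → FractionRing D) := fun x i => τ (pderiv i x)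
  -- relations at `p`
  obtain ⟨a₀, ha₀, c, rows, cols, a', hfac, hel⟩ := exists_elementary_data φ hφ f hker p
  obtain ⟨a₁, ha₁⟩ := hφ a₀
  let P₀ := Localization.AtPrime Q₀
  have hfQ : ∀ l, f l ∈ Q₀ := fun l => by
    show φ (f l) ∈ p
    rw [hfz]; exact zero_mem _
  have hrows : ∀ x ∈ Ideal.span (Set.range f), ∃ w ∉ Q₀, w * x ∈ Ideal.span (Set.range (f ∘ rows)) := by
    intro x hx
    refine (IsLocalization.algebraMap_mem_map_algebraMap_iff Q₀.primeCompl P₀ _ x).1 ?_
    refine SetLike.le_def.1 ?_ (Ideal.mem_map_of_mem (algebraMap _ P₀) hx)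
    have h1 : (Ideal.span (Set.range f)).map (algebraMap _ P₀) ≤
        (Ideal.span (Set.range (f ∘ rows))).map (algebraMap _ P₀) ⊔ (Ideal.span (Set.range f)).map (algebraMap _ P₀) ^ 2 := by
      conv_lhs => rw [Ideal.map_span]
      rw [Ideal.span_le]
      rintro _ ⟨_, ⟨l, rfl⟩, rfl⟩
      have h2 := Ideal.mem_map_of_mem (algebraMap _ P₀) (hel a₁ ha₁ l)
      rw [Ideal.map_sup, Ideal.map_pow, map_mul] at h2
      refine (Ideal.unit_mul_mem_iff_mem _ ?_).1 h2
      exact IsLocalization.map_units P₀ (⟨a₁, fun h => ha₀ (by rw [← ha₁]; exact h)⟩ : Q₀.primeCompl)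
    refine Submodule.le_of_le_smul_of_le_jacobson_bot (Ideal.FG.map (Submodule.fg_span (Set.finite_range f) :
      (Ideal.span (Set.range f)).FG) _) ?_ (le_trans h1 (le_of_eq (by rw [pow_two, smul_eq_mul])))
    rw [IsLocalRing.jacobson_eq_maximalIdeal ⊥ bot_ne_top, Ideal.map_le_iff_le_comap, Ideal.span_le]
    rintro _ ⟨l, rfl⟩
    exact (IsLocalization.AtPrime.to_map_mem_maximal_iff P₀ Q₀ _).2 (hfQ l)
  have hmin : τ (Smoothing.jacobianMinor f rows cols) ≠ 0 := by
    rw [Ne, hτ]
    intro hm
    refine ha₀ ?_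
    rw [hfac]
    exact Ideal.mul_mem_left _ _ hm
  -- complete the rows by generators of the point
  let u : Fin c ⊕ Fin s → MvPolynomial (Fin n) R := Sum.elim (f ∘ rows) h
  have hli : LinearIndepOn (FractionRing D) (jK ∘ u) (Set.range Sum.inl) := by
    refine (linearIndepOn_range_iff Sum.inl_injective _).2 ?_
    rw [Fintype.linearIndependent_iff]
    intro w hw
    let Mr : Matrix (Fin c) (Fin c) (FractionRing D) := τ.mapMatrix (Matrix.of fun a b => pderiv (cols b) (f (rows a)))
    have hdet : Mr.det ≠ 0 := by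
      show (τ.mapMatrix _).det ≠ 0
      rw [← RingHom.map_det]; exact hmin
    have h1 : Matrix.vecMul w Mr = 0 := funext fun b => by
      have := congrFun hw (cols b)
      simpa [Matrix.vecMul, dotProduct, Mr, jK, u, Finset.sum_apply] using this
    exact congrFun (Matrix.eq_zero_of_vecMul_eq_zero hdet h1)
  obtain ⟨b, -, hb, hbspan, hbli⟩ := exists_linearIndepOn_extension hli (Set.subset_univ _)
  let J := {j : Fin s // Sum.inr j ∈ b}
  let e := Fintype.card J
  let eJ : Fin e ≃ J := (Fintype.equivFin J).symm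
  let hx : Fin e → MvPolynomial (Fin n) R := fun i => h (eJ i).1
  let idx : Fin (c + e) → Fin c ⊕ Fin s := Fin.append Sum.inl fun i => Sum.inr (eJ i).1
  let rel₀ : Fin (c + e) → MvPolynomial (Fin n) R := Fin.append (f ∘ rows) hx
  have hrel₀ : ∀ i, rel₀ i = u (idx i) := fun i => by
    induction i using Fin.addCases with
    | left i => simp [rel₀, idx, u]
    | right i => simp [rel₀, idx, u, hx]
  have hidx : Function.Injective idx := by
    intro i j hij
    induction i using Fin.addCases with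
    | left i =>
      induction j using Fin.addCases with
      | left j => simp [idx] at hij; rw [hij]
      | right j => simp [idx] at hij
    | right i =>
      induction j using Fin.addCases with
      | left j => simp [idx] at hij
      | right j => simp [idx] at hij; rw [eJ.injective (Subtype.ext hij)]
  have hidxb : ∀ i, idx i ∈ b := fun i => by
    induction i using Fin.addCases with
    | left i => simp only [idx, Fin.append_left]; exact hb ⟨i, rfl⟩
    | right i => simp only [idx, Fin.append_right]; exact (eJ i).2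
  have hli₀ : LinearIndependent (FractionRing D) fun i => jK (rel₀ i) := by
    have h1 := (show LinearIndependent (FractionRing D) fun x : b => jK (u x) from hbli).comp
      (fun i => ⟨idx i, hidxb i⟩) (fun i j hij => hidx (congrArg Subtype.val hij))
    simp only [hrel₀]
    exact h1
  have hspan₀ : ∀ j, jK (h j) ∈ Submodule.span (FractionRing D) (Set.range fun i => jK (rel₀ i)) := fun j => by
    refine Submodule.span_mono ?_ (hbspan ⟨Sum.inr j, Set.mem_univ _, rfl⟩)
    rintro _ ⟨i, hi, rfl⟩
    rcases i with i | i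
    · exact ⟨Fin.castAdd e i, by simp [rel₀, u]⟩
    · refine ⟨Fin.natAdd c (eJ.symm ⟨i, hi⟩), ?_⟩
      simp [rel₀, u, hx]
  have hxQ : ∀ i, hx i ∈ Q₀ := fun i => hhQ.le (Ideal.subset_span ⟨_, rfl⟩)
  have hrelQ : ∀ i, rel₀ i ∈ Q₀ := fun i => by
    induction i using Fin.addCases with
    | left i => simp only [rel₀, Fin.append_left]; exact hfQ _
    | right i => simp only [rel₀, Fin.append_right]; exact hxQ i
  have hgen : ∀ x ∈ Q₀, ∃ t ∉ Q₀, t * x ∈ Ideal.span (Set.range rel₀) ⊔ Ideal.span {C π} := fun x hx' =>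
    exists_mul_mem_span π (k := k) IsLocalRing.residue_surjective
      ((show RingHom.ker (IsLocalRing.residue R) = IsLocalRing.maximalIdeal R from IsLocalRing.ker_residue).trans hπ)
      h rel₀ Q₀ hhQ hrelQ hπQ (K := FractionRing D) φk hφks
      (fun y => by rw [hφkμ]; exact Ideal.Quotient.eq_zero_iff_mem)
      (fun j => by simp only [hφkμ]; exact hspan₀ j) hx'
  obtain ⟨cols₀, hcols₀⟩ := exists_minor_ne_zero (Matrix.of fun i => jK (rel₀ i)) hli₀
  -- the standard smooth model
  let ι : MvPolynomial (Fin n) R →ₐ[R] MvPolynomial (Fin (n + e)) R := rename (Fin.castAdd e)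
  let rel : Fin (c + e) → MvPolynomial (Fin (n + e)) R :=
    Fin.append (fun i => ι (f (rows i))) fun j => C π * X (Fin.natAdd n j) - ι (hx j)
  let colsS : Fin (c + e) → Fin (n + e) := fun i => Fin.castAdd e (cols₀ i)
  have hcn : c + e ≤ n + e := by
    have := Fintype.card_le_of_embedding cols₀
    simp only [Fintype.card_fin] at this
    omega
  let A' := BlowUp.affineAlgebra A p (algebraMap R A π)
  let φ₁ : A' →ₐ[A] Λ := φ'
  have hY : ∀ j, IsLocalization.mk' (Localization.Away (algebraMap R A π)) (φ (hx j))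
      ⟨algebraMap R A π, Submonoid.mem_powers _⟩ ∈ A' := fun j => Algebra.subset_adjoin ⟨φ (hx j), hxQ j, rfl⟩
  let Y : Fin e → A' := fun j => ⟨_, hY j⟩
  have hYπ : ∀ j, algebraMap R A' π * Y j = algebraMap A A' (φ (hx j)) := fun j => Subtype.ext (by
    show algebraMap R (Localization.Away (algebraMap R A π)) π * _ = algebraMap A _ (φ (hx j))
    rw [IsScalarTower.algebraMap_apply R A (Localization.Away (algebraMap R A π))]
    exact IsLocalization.mk'_spec' _ _ ⟨algebraMap R A π, Submonoid.mem_powers _⟩)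
  let Ψ : MvPolynomial (Fin (n + e)) R →ₐ[R] A' := aeval (Fin.append (fun i => algebraMap A A' (φ (X i))) Y)
  have hΨι : ∀ x, Ψ (ι x) = algebraMap A A' (φ x) := fun x => by
    have : Ψ.comp ι = (IsScalarTower.toAlgHom R A A').comp φ := MvPolynomial.algHom_ext fun i => by simp [Ψ, ι]
    exact AlgHom.congr_fun this x
  have hΨY : ∀ j, Ψ (X (Fin.natAdd n j)) = Y j := fun j => by simp [Ψ]
  have hΨrel : Ideal.span (Set.range rel) ≤ RingHom.ker Ψ.toRingHom := by
    rw [Ideal.span_le]
    rintro _ ⟨i, rfl⟩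
    show Ψ (rel i) = 0
    induction i using Fin.addCases with
    | left i => simp only [rel, Fin.append_left, hΨι, hfz, map_zero]
    | right j =>
      simp only [rel, Fin.append_right, map_sub, map_mul, MvPolynomial.algHom_C, hΨι, hΨY, hYπ, sub_self]
  let S := MvPolynomial (Fin (n + e)) R ⧸ Ideal.span (Set.range rel)
  letI : CommRing S := Ideal.Quotient.commRing _
  let mkS : MvPolynomial (Fin (n + e)) R →ₐ[R] S := Ideal.Quotient.mkₐ R _
  let ΨS : S →ₐ[R] A' := Ideal.Quotient.liftₐ _ Ψ fun x hx => hΨrel hx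
  let P' : Ideal A' := (IsLocalRing.maximalIdeal Λ).comap φ₁.toRingHom
  let Q' : Ideal S := P'.comap ΨS.toRingHom
  let σ' : MvPolynomial (Fin (n + e)) R →+* IsLocalRing.ResidueField Λ :=
    (IsLocalRing.residue Λ).comp (φ₁.toRingHom.comp Ψ.toRingHom)
  have hσ'ι : ∀ x, σ' (ι x) = σ x := fun x => by
    show IsLocalRing.residue Λ (φ₁ (Ψ (ι x))) = _
    rw [hΨι, φ₁.commutes]
    rfl
  have hιQ : ∀ x, mkS (ι x) ∈ Q' ↔ x ∈ Q₀ := fun x => by
    show φ₁ (Ψ (ι x)) ∈ IsLocalRing.maximalIdeal Λ ↔ _
    rw [hΨι, φ₁.commutes]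
    rfl
  have hd : mkS (Smoothing.jacobianMinor rel id colsS) ∉ Q' := by
    intro hm
    have h0 : σ' (Smoothing.jacobianMinor rel id colsS) = 0 := (IsLocalRing.residue_eq_zero_iff _).2 hm
    rw [Smoothing.jacobianMinor, RingHom.map_det] at h0
    let sg : Fin (c + e) → MvPolynomial (Fin n) R := Fin.append (fun _ => 1) fun _ => -1
    let M₀ : Matrix (Fin (c + e)) (Fin (c + e)) (MvPolynomial (Fin n) R) :=
      Matrix.diagonal sg * Matrix.of fun i j => pderiv (cols₀ j) (rel₀ i)
    have hM : σ'.mapMatrix (Matrix.of fun i j => pderiv (colsS j) (rel (id i))) = σ.mapMatrix M₀ := by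
      ext i j
      simp only [RingHom.mapMatrix_apply, Matrix.map_apply, M₀, Matrix.diagonal_mul, Matrix.of_apply, id]
      have hne : ∀ j', pderiv (colsS j) (X (Fin.natAdd n j') : MvPolynomial (Fin (n + e)) R) = 0 := fun j' =>
        pderiv_X_of_ne fun h => by
          have := congrArg Fin.val h
          simp [colsS] at this
          omega
      induction i using Fin.addCases with
      | left i =>
        simp only [rel, sg, rel₀, Fin.append_left, one_mul, Function.comp_apply, colsS, ι]
        rw [pderiv_rename (Fin.castAdd_injective _ _)]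
        exact hσ'ι _
      | right i =>
        simp only [rel, sg, rel₀, Fin.append_right, map_sub, pderiv_mul, pderiv_C, zero_mul, zero_add, hne, mul_zero,
          zero_sub]
        simp only [colsS, ι]
        rw [pderiv_rename (Fin.castAdd_injective _ _), neg_one_mul, map_neg, map_neg]
        exact congrArg Neg.neg (hσ'ι _)
    rw [hM, ← RingHom.map_det, hσ, Matrix.det_mul, Matrix.det_diagonal] at h0
    rcases Ideal.IsPrime.mem_or_mem inferInstance h0 with h1 | h1
    · obtain ⟨i, -, hi⟩ := Ideal.IsPrime.prod_mem_iff.1 h1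
      have h2 : IsUnit (sg i) := by
        induction i using Fin.addCases with
        | left i => simp [sg]
        | right i => simp [sg]
      exact (inferInstance : Q₀.IsPrime).ne_top (Ideal.eq_top_of_isUnit_mem _ hi h2)
    · refine hcols₀ ?_
      have h2 := (hτ _).2 h1
      rw [RingHom.map_det] at h2
      exact h2
  have hsmS := (smoothAt_of_det hcn (0 : R) (fun _ _ => zero_mul _) rel colsS Q' hd).1
  haveI := hsmS
  haveI : Algebra.FinitePresentation R S :=
    Algebra.FinitePresentation.quotient (Submodule.fg_span (Set.finite_range rel))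
  obtain ⟨sS, hsS, hsmAway⟩ := Algebra.IsSmoothAt.exists_notMem_smooth R Q'
  haveI := hsmAway
  have hπne : π ≠ 0 := fun h0 => IsDiscreteValuationRing.not_a_field R (by rw [hπ, h0, Ideal.span_singleton_eq_bot.2 rfl])
  have hπreg : IsSMulRegular R π := fun x y hxy => mul_left_cancel₀ hπne hxy
  -- denominators
  have hfrac : ∀ a : A', ∃ w ∉ Q', ∃ z, ΨS w * a = ΨS z := by
    rintro ⟨a, ha⟩
    induction ha using Algebra.adjoin_induction with
    | mem q hq =>
      obtain ⟨x, hxp, rfl⟩ := hq
      obtain ⟨x, rfl⟩ := hφ x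
      obtain ⟨t, ht, htx⟩ := hgen x hxp
      obtain ⟨z₁, hz₁, z₂, hz₂, hsum⟩ := Submodule.mem_sup.1 htx
      obtain ⟨cf, rfl⟩ := Ideal.mem_span_range_iff_exists_fun.1 hz₁
      obtain ⟨w, rfl⟩ := Ideal.mem_span_singleton'.1 hz₂
      refine ⟨mkS (ι t), fun h => ht ((hιQ t).1 h),
        mkS ((∑ j, ι (cf (Fin.natAdd c j)) * X (Fin.natAdd n j)) + ι w), Subtype.ext ?_⟩
      show ((Ψ (ι t) : A') : Localization.Away (algebraMap R A π)) * _ = ((Ψ (_ + _) : A') : _)
      rw [map_add, map_sum]
      simp only [map_mul, hΨι, hΨY]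
      have hu : IsUnit (algebraMap A (Localization.Away (algebraMap R A π)) (algebraMap R A π)) :=
        IsLocalization.Away.algebraMap_isUnit _
      refine hu.mul_left_cancel ?_
      have h1 := congrArg (fun y => algebraMap A (Localization.Away (algebraMap R A π)) (φ y)) hsum
      simp only [Fin.sum_univ_add, rel₀, Fin.append_left, Fin.append_right, Function.comp_apply, map_add, map_sum,
        map_mul, hfz, map_zero, mul_zero, Finset.sum_const_zero, zero_add, MvPolynomial.algHom_C] at h1
      push_cast [Subalgebra.coe_algebraMap]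
      rw [mul_add, Finset.mul_sum, mul_left_comm, IsLocalization.mk'_spec'_mk, ← h1]
      refine congrArg₂ (· + ·) (Finset.sum_congr rfl fun j _ => ?_) (mul_comm _ _)
      show algebraMap A (Localization.Away (algebraMap R A π)) (φ (cf (Fin.natAdd c j))) * algebraMap A _ (φ (hx j)) = _
      rw [mul_left_comm]
      exact congrArg (_ * ·) (IsLocalization.mk'_spec' _ _ ⟨algebraMap R A π, Submonoid.mem_powers _⟩).symm
    | algebraMap x =>
      obtain ⟨x, rfl⟩ := hφ x
      refine ⟨1, fun h => (inferInstance : Q'.IsPrime).ne_top ((Ideal.eq_top_iff_one _).2 h), mkS (ι x), ?_⟩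
      rw [map_one, one_mul]
      exact (hΨι x).symm
    | add x y hx' hy' ihx ihy =>
      obtain ⟨w, hw, z, hz⟩ := ihx
      obtain ⟨w', hw', z', hz'⟩ := ihy
      refine ⟨w * w', fun h => (Ideal.IsPrime.mem_or_mem inferInstance h).elim hw hw', z * w' + z' * w, ?_⟩
      show ΨS (w * w') * ((⟨x, hx'⟩ : A') + ⟨y, hy'⟩) = _
      rw [map_add, map_mul, map_mul, map_mul, ← hz, ← hz']; ring
    | mul x y hx' hy' ihx ihy =>
      obtain ⟨w, hw, z, hz⟩ := ihx
      obtain ⟨w', hw', z', hz'⟩ := ihy
      refine ⟨w * w', fun h => (Ideal.IsPrime.mem_or_mem inferInstance h).elim hw hw', z * z', ?_⟩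
      show ΨS (w * w') * ((⟨x, hx'⟩ : A') * ⟨y, hy'⟩) = _
      rw [map_mul, map_mul, ← hz, ← hz']; ring
  -- the kernel
  have hnorm : ∀ z, ∃ (N : ℕ) (z₀ : MvPolynomial (Fin n) R), C π ^ N * z - ι z₀ ∈ Ideal.span (Set.range rel) := by
    intro z
    induction z using MvPolynomial.induction_on with
    | C r => exact ⟨0, C r, by simp [ι, rename_C]⟩
    | add x y hx' hy' =>
      obtain ⟨N, a, ha⟩ := hx'
      obtain ⟨M, b, hb⟩ := hy'
      refine ⟨N + M, C π ^ M * a + C π ^ N * b, ?_⟩
      have h1 := add_mem (Ideal.mul_mem_left _ (C π ^ M) ha) (Ideal.mul_mem_left _ (C π ^ N) hb)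
      convert! h1 using 1
      simp only [map_add, map_mul, map_pow, ι, rename_C]
      ring
    | mul_X x i hx' =>
      obtain ⟨N, a, ha⟩ := hx'
      induction i using Fin.addCases with
      | left i =>
        refine ⟨N, a * X i, ?_⟩
        convert! Ideal.mul_mem_right (X (Fin.castAdd e i)) _ ha using 1
        simp only [map_mul, ι, rename_X]
        ring
      | right j =>
        refine ⟨N + 1, a * hx j, ?_⟩
        have h1 := add_mem (Ideal.mul_mem_right (C π * X (Fin.natAdd n j)) _ ha) (Ideal.mul_mem_left _ (ι a)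
          (Ideal.subset_span ⟨Fin.natAdd c j, rfl⟩ : rel (Fin.natAdd c j) ∈ Ideal.span (Set.range rel)))
        convert! h1 using 1
        simp only [rel, Fin.append_right, map_mul, pow_succ]
        ring
  have hkerS : ∀ z, ΨS z = 0 → algebraMap S (Localization.AtPrime Q') z = 0 := by
    intro z hz
    obtain ⟨z, rfl⟩ := Ideal.Quotient.mk_surjective z
    obtain ⟨N, z₀, hz₀⟩ := hnorm z
    have h1 : algebraMap A A' (φ z₀) = 0 := by
      have h2 : Ψ (C π ^ N * z - ι z₀) = 0 := hΨrel hz₀
      rw [map_sub, map_mul, show Ψ z = 0 from hz, mul_zero, zero_sub, neg_eq_zero, hΨι] at h2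
      exact h2
    obtain ⟨⟨_, M, rfl⟩, hM⟩ := (IsLocalization.map_eq_zero_iff (Submonoid.powers (algebraMap R A π))
      (Localization.Away (algebraMap R A π)) _).1 (congrArg Subtype.val h1)
    have h3 : φ z₀ = 0 := ((IsSMulRegular.of_flat (S := A) hπreg).pow M).right_eq_zero_of_smul hM
    obtain ⟨w, hw, hwz⟩ := hrows z₀ (hker.le h3)
    have h4 : mkS (ι w) * algebraMap R S π ^ N * mkS z = 0 := by
      have h5 : mkS (ι (w * z₀)) = 0 := by
        refine Ideal.Quotient.eq_zero_iff_mem.2 ?_
        have h6 := Ideal.mem_map_of_mem ι.toRingHom hwz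
        rw [Ideal.map_span, ← Set.range_comp] at h6
        refine Ideal.span_mono ?_ h6
        rintro _ ⟨i, rfl⟩
        exact ⟨Fin.castAdd e i, by simp [rel]⟩
      have h7 : mkS (C π ^ N * z) = mkS (ι z₀) := Ideal.Quotient.eq.2 hz₀
      rw [map_mul, map_pow, ← MvPolynomial.algebraMap_eq, mkS.commutes] at h7
      rw [mul_assoc, h7, ← map_mul, ← map_mul, h5]
    let Sv := Localization.Away sS
    have h8 : algebraMap S Sv (mkS (ι w) * mkS z) = 0 := by
      refine ((IsSMulRegular.of_flat (S := Sv) hπreg).pow N).right_eq_zero_of_smul ?_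
      show algebraMap R Sv π ^ N * _ = 0
      rw [IsScalarTower.algebraMap_apply R S Sv, ← map_pow, ← map_mul, mul_left_comm, ← mul_assoc, h4, map_zero]
    obtain ⟨⟨_, l, rfl⟩, hl⟩ := (IsLocalization.map_eq_zero_iff (Submonoid.powers sS) Sv _).1 h8
    refine (IsLocalization.map_eq_zero_iff Q'.primeCompl _ _).2
      ⟨⟨sS ^ l * mkS (ι w), fun h => (Ideal.IsPrime.mem_or_mem inferInstance h).elim
        (fun h => hsS (Ideal.IsPrime.mem_of_pow_mem inferInstance _ h)) (fun h => hw ((hιQ w).1 h))⟩, ?_⟩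
    show sS ^ l * mkS (ι w) * mkS z = 0
    rw [mul_assoc]; exact hl
  -- the local rings agree
  let χ : Localization.AtPrime Q' →+* Localization.AtPrime P' := Localization.localRingHom Q' P' ΨS.toRingHom rfl
  have hχ : ∀ x, χ (algebraMap S _ x) = algebraMap A' (Localization.AtPrime P') (ΨS x) :=
    Localization.localRingHom_to_map Q' P' ΨS.toRingHom rfl
  have hχi : Function.Injective χ := by
    refine (injective_iff_map_eq_zero χ).2 fun y hy => ?_
    obtain ⟨⟨x, d⟩, hyx⟩ := IsLocalization.surj Q'.primeCompl y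
    have h1 : algebraMap A' (Localization.AtPrime P') (ΨS x) = 0 := by
      rw [← hχ, ← hyx, map_mul, hy, zero_mul]
    obtain ⟨⟨a, ha⟩, hax⟩ := (IsLocalization.map_eq_zero_iff P'.primeCompl _ _).1 h1
    obtain ⟨w, hw, z, hz⟩ := hfrac a
    have hzQ : z ∉ Q' := fun h => by
      have h2 : ΨS w * a ∈ P' := hz ▸ h
      exact (Ideal.IsPrime.mem_or_mem inferInstance h2).elim hw ha
    have h3 := hkerS (z * x) (by rw [map_mul, ← hz, mul_assoc, hax, mul_zero])
    rw [map_mul, (IsLocalization.map_units _ (⟨z, hzQ⟩ : Q'.primeCompl)).mul_right_eq_zero] at h3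
    rw [h3] at hyx
    exact (IsLocalization.map_units _ d).mul_left_eq_zero.1 hyx
  have hχs : Function.Surjective χ := by
    intro y
    obtain ⟨⟨a, ⟨b', hb'⟩⟩, hy⟩ := IsLocalization.surj P'.primeCompl y
    obtain ⟨w, hw, z, hz⟩ := hfrac a
    obtain ⟨w', hw', z', hz'⟩ := hfrac b'
    have hd' : w * z' ∉ Q' := fun h => by
      rcases Ideal.IsPrime.mem_or_mem inferInstance h with h | h
      · exact hw h
      · have h2 : ΨS w' * b' ∈ P' := hz' ▸ h
        exact (Ideal.IsPrime.mem_or_mem inferInstance h2).elim hw' hb'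
    obtain ⟨d', hd''⟩ := IsLocalization.map_units (Localization.AtPrime Q') (⟨w * z', hd'⟩ : Q'.primeCompl)
    refine ⟨algebraMap S _ (z * w') * (d'⁻¹ : (Localization.AtPrime Q')ˣ), ?_⟩
    refine ((Units.isUnit d').map χ).mul_left_injective ?_
    show χ _ * χ d' = y * χ d'
    rw [← map_mul, Units.inv_mul_cancel_right, show ((d' : _) : Localization.AtPrime Q') = algebraMap S _ (w * z') from hd'',
      hχ, hχ, map_mul ΨS, map_mul ΨS, ← hz, ← hz', map_mul, map_mul, map_mul, map_mul, ← hy]
    show _ = y * (algebraMap A' _ (ΨS w) * (algebraMap A' _ (ΨS w') * algebraMap A' _ b'))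
    ring
  show Algebra.FormallySmooth R (Localization.AtPrime P')
  haveI : Algebra.FormallySmooth R (Localization.AtPrime Q') := hsmS
  exact Algebra.FormallySmooth.of_equiv (AlgEquiv.ofBijective
    (⟨χ, fun r => by
      show χ (algebraMap R (Localization.AtPrime Q') r) = _
      rw [IsScalarTower.algebraMap_apply R S (Localization.AtPrime Q'), hχ, ΨS.commutes,
        ← IsScalarTower.algebraMap_apply]⟩ : Localization.AtPrime Q' →ₐ[R] Localization.AtPrime P') ⟨hχi, hχs⟩)

end Groth.Agent.SmoothingLib.Neron
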