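import Groth.Prelude.Def_Smoothing
import Mathlib.RingTheory.Smooth.Basic
import Mathlib.RingTheory.Etale.Kaehler
import Mathlib.RingTheory.Kaehler.Polynomial
import Mathlib.RingTheory.Localization.Ideal
import Mathlib.LinearAlgebra.Matrix.ToLin
import Mathlib.LinearAlgebra.Matrix.NonsingularInverse
import Mathlib.LinearAlgebra.Matrix.Rank

/-!
# The conormal sequence of a presentation after localization, in coordinates
-/

universe u

open MvPolynomial TensorProduct KaehlerDifferential

namespace Groth.Agent.SmoothingLib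

variable {R A : Type u} [CommRing R] [CommRing A] [Algebra R A] {n m : ℕ}

/-- The row of partial derivatives of `x`, read in an `A`-algebra `B`. -/
noncomputable def jac (φ : MvPolynomial (Fin n) R →ₐ[R] A) (B : Type u) [CommRing B] [Algebra A B]
    (x : MvPolynomial (Fin n) R) : Fin n → B :=
  fun i => algebraMap A B (φ (pderiv i x))

theorem jac_add (φ : MvPolynomial (Fin n) R →ₐ[R] A) (B : Type u) [CommRing B] [Algebra A B]
    (x y : MvPolynomial (Fin n) R) : jac φ B (x + y) = jac φ B x + jac φ B y := by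
  funext i; simp [jac]

theorem jac_sub (φ : MvPolynomial (Fin n) R →ₐ[R] A) (B : Type u) [CommRing B] [Algebra A B]
    (x y : MvPolynomial (Fin n) R) : jac φ B (x - y) = jac φ B x - jac φ B y := by
  funext i; simp [jac]

theorem jac_mul (φ : MvPolynomial (Fin n) R →ₐ[R] A) (B : Type u) [CommRing B] [Algebra A B]
    (s : MvPolynomial (Fin n) R) {x : MvPolynomial (Fin n) R} (hx : φ x = 0) :
    jac φ B (s * x) = algebraMap A B (φ s) • jac φ B x := by
  funext i; simp [jac, pderiv_mul, hx]

theorem jac_sum (φ : MvPolynomial (Fin n) R →ₐ[R] A) (B : Type u) [CommRing B] [Algebra A B]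
    {ι : Type*} (t : Finset ι) (x : ι → MvPolynomial (Fin n) R) :
    jac φ B (∑ j ∈ t, x j) = ∑ j ∈ t, jac φ B (x j) := by
  funext i; simp [jac, Finset.sum_apply]

/-- If a localization `B` of `A` is formally smooth, a relation with vanishing differential lies in
the square of the relation ideal up to a denominator, and the Jacobian matrix has a pseudo-inverse. -/
theorem conormal (φ : MvPolynomial (Fin n) R →ₐ[R] A) (hφ : Function.Surjective φ)
    (f : Fin m → MvPolynomial (Fin n) R)
    (hker : RingHom.ker φ.toRingHom = Ideal.span (Set.range f))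
    (M : Submonoid A) (B : Type u) [CommRing B] [Algebra A B] [IsLocalization M B] [Algebra R B]
    [IsScalarTower R A B] [Algebra.FormallySmooth R B] :
    (∀ x ∈ Ideal.span (Set.range f), jac φ B x = 0 →
        ∃ s, φ s ∈ M ∧ s * x ∈ Ideal.span (Set.range f) ^ 2) ∧
      (∃ T : Matrix (Fin n) (Fin m) B, ∀ l, Matrix.vecMul (Matrix.vecMul (jac φ B (f l)) T)
        (Matrix.of fun j => jac φ B (f j)) = jac φ B (f l)) ∧
      Submodule.span B (Set.range fun i => D R B (algebraMap A B (φ (X i)))) = ⊤ ∧
      ∀ w : Fin n → B, ∑ i, w i • D R B (algebraMap A B (φ (X i))) = 0 ↔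
        ∃ u, Matrix.vecMul u (Matrix.of fun j => jac φ B (f j)) = w := by
  classical
  let S := MvPolynomial (Fin n) R
  let M' : Submonoid S := M.comap φ.toRingHom.toMonoidHom
  let S' := Localization M'
  let I := Ideal.span (Set.range f)
  let χ : S' →+* B := IsLocalization.map B φ.toRingHom (le_refl M')
  have hχ : ∀ x : S, χ (algebraMap S S' x) = algebraMap A B (φ x) := fun x =>
    IsLocalization.map_eq (le_refl M') x
  letI : Algebra S' B := χ.toAlgebra
  haveI : IsScalarTower R S' B := IsScalarTower.of_algebraMap_eq' (by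
    refine RingHom.ext fun r => ?_
    change algebraMap R B r = χ (algebraMap R S' r)
    rw [IsScalarTower.algebraMap_apply R S S', hχ, φ.commutes, ← IsScalarTower.algebraMap_apply])
  have hsurj : Function.Surjective (algebraMap S' B) := fun b => by
    obtain ⟨⟨x, ⟨u, hu⟩⟩, hxu⟩ := IsLocalization.surj M b
    obtain ⟨x', rfl⟩ := hφ x
    obtain ⟨u', rfl⟩ := hφ u
    obtain ⟨d, hd⟩ := (IsLocalization.map_units S' (⟨u', hu⟩ : M')).exists_right_inv
    refine ⟨algebraMap S S' x' * d, ?_⟩
    have hd' := congrArg χ hd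
    rw [map_mul, hχ, map_one] at hd'
    change χ (_ * d) = b
    rw [map_mul, hχ, ← hxu, mul_assoc, hd', mul_one]
  let K := RingHom.ker (algebraMap S' B)
  have hfI : ∀ x ∈ I, φ x = 0 := fun x hx => by
    have : x ∈ RingHom.ker φ.toRingHom := hker ▸ hx
    exact this
  have hK : K = I.map (algebraMap S S') := by
    refine le_antisymm (fun z hz => ?_) (Ideal.map_le_iff_le_comap.2 fun x hx => ?_)
    · obtain ⟨⟨x, ⟨s, hs⟩⟩, hxs⟩ := IsLocalization.surj M' z
      have h1 : algebraMap A B (φ x) = 0 := by
        rw [← hχ, ← hxs, map_mul, show χ z = 0 from hz, zero_mul]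
      obtain ⟨⟨u, hu⟩, hux⟩ := (IsLocalization.map_eq_zero_iff M B _).1 h1
      obtain ⟨u', rfl⟩ := hφ u
      have h2 : u' * x ∈ I := by
        change _ ∈ Ideal.span _
        rw [← hker, RingHom.mem_ker]
        change φ (u' * x) = 0
        rw [map_mul]; exact hux
      have h3 := Ideal.mem_map_of_mem (algebraMap S S') h2
      rw [map_mul, ← hxs] at h3
      rw [Ideal.unit_mul_mem_iff_mem _ (IsLocalization.map_units S' (⟨u', hu⟩ : M')),
        Ideal.mul_unit_mem_iff_mem _ (IsLocalization.map_units S' (⟨s, hs⟩ : M'))] at h3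
      exact h3
    · change χ _ = 0
      rw [hχ, hfI x hx, map_zero]
  haveI : Algebra.FormallyEtale S S' := Algebra.FormallyEtale.of_isLocalization M'
  haveI : Algebra.FormallySmooth R S' := .comp R S S'
  let bΩ : Module.Basis (Fin n) S' Ω[S'⁄R] :=
    (Algebra.TensorProduct.basis S' (mvPolynomialBasis R (Fin n))).map (isBaseChange_of_formallyEtale R S S').equiv
  let bB : Module.Basis (Fin n) B (B ⊗[S'] Ω[S'⁄R]) := Algebra.TensorProduct.basis B bΩ
  have hcoord : ∀ (x : S) i, bB.equivFun (1 ⊗ₜ D R S' (algebraMap S S' x)) i = jac φ B x i := by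
    intro x i
    have h1 : D R S' (algebraMap S S' x) = (isBaseChange_of_formallyEtale R S S').equiv (1 ⊗ₜ D R S x) := by
      rw [IsBaseChange.equiv_tmul, one_smul, map_D]
    have h2 : bΩ.repr (D R S' (algebraMap S S' x)) i = algebraMap S S' (pderiv i x) := by
      rw [h1, Module.Basis.map_repr, LinearEquiv.trans_apply, LinearEquiv.symm_apply_apply,
        Algebra.TensorProduct.basis_repr_tmul, one_smul, Finsupp.mapRange_apply, mvPolynomialBasis_repr_apply]
    rw [Module.Basis.equivFun_apply, Algebra.TensorProduct.basis_repr_tmul, one_smul, Finsupp.mapRange_apply, h2]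
    exact hχ _
  obtain ⟨l, hl⟩ := (Algebra.FormallySmooth.iff_split_injection (R := R) (P := S') hsurj).1 ‹_›
  let δ := kerCotangentToTensor R S' B
  have hinj : ∀ x, l (δ x) = x := fun x => LinearMap.congr_fun hl x
  have hmem : ∀ x ∈ I, algebraMap S S' x ∈ K := fun x hx => hK ▸ Ideal.mem_map_of_mem _ hx
  have hδ : ∀ (x : S) (hx : x ∈ I), bB.equivFun (δ (K.toCotangent ⟨_, hmem x hx⟩)) = jac φ B x := by
    intro x hx
    funext i
    rw [kerCotangentToTensor_toCotangent]
    exact hcoord x i
  let fl : Fin m → K := fun j => ⟨_, hmem (f j) (Ideal.subset_span ⟨j, rfl⟩)⟩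
  let e : (Fin m → S') →ₗ[S'] K.Cotangent := Fintype.linearCombination S' fun j => K.toCotangent (fl j)
  have he : Function.Surjective e := by
    intro x
    obtain ⟨⟨z, hz⟩, rfl⟩ := Ideal.toCotangent_surjective K x
    have hz' : z ∈ Ideal.span (Set.range fun j => algebraMap S S' (f j)) := by
      rw [hK, Ideal.map_span, ← Set.range_comp] at hz
      exact hz
    obtain ⟨v, hv⟩ := Ideal.mem_span_range_iff_exists_fun.1 hz'
    refine ⟨v, ?_⟩
    rw [Fintype.linearCombination_apply]
    simp only [← map_smul, ← map_sum]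
    refine congrArg _ (Subtype.ext ?_)
    simp only [AddSubmonoidClass.coe_finsetSum, SetLike.val_smul, smul_eq_mul]
    exact hv
  have hδe : ∀ u, bB.equivFun (δ (e u)) =
      Matrix.vecMul (fun j => algebraMap S' B (u j)) (Matrix.of fun j => jac φ B (f j)) := by
    intro u
    rw [Fintype.linearCombination_apply, map_sum, map_sum]
    funext i
    rw [Finset.sum_apply, Matrix.vecMul, dotProduct]
    refine Finset.sum_congr rfl fun j _ => ?_
    rw [map_smul, ← algebraMap_smul B (u j), map_smul, Pi.smul_apply, hδ _ (Ideal.subset_span ⟨j, rfl⟩)]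
    rfl
  let g : (Fin n → B) →ₗ[B] Ω[B⁄R] := mapBaseChange R S' B ∘ₗ bB.equivFun.symm.toLinearMap
  have hg : ∀ w, g w = ∑ i, w i • D R B (algebraMap A B (φ (X i))) := fun w => by
    simp only [g, LinearMap.comp_apply, LinearEquiv.coe_coe, Module.Basis.equivFun_symm_apply, map_sum, map_smul]
    refine Finset.sum_congr rfl fun i _ => congrArg _ ?_
    simp only [bB, Algebra.TensorProduct.basis_apply, bΩ, Module.Basis.map_apply, IsBaseChange.equiv_tmul, one_smul,
      mvPolynomialBasis_apply, map_D, mapBaseChange_tmul]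
    erw [IsBaseChange.equiv_tmul]
    rw [one_smul, map_D, map_D]
    exact congrArg (D R B) (hχ _)
  have hgs : Function.Surjective g := (mapBaseChange_surjective R S' B hsurj).comp bB.equivFun.symm.surjective
  have hex := exact_kerCotangentToTensor_mapBaseChange R S' B hsurj
  refine ⟨fun x hx hx0 => ?_, ?_, ?_, fun w => ?_⟩
  · have h1 : K.toCotangent ⟨_, hmem x hx⟩ = 0 := by
      rw [← hinj (K.toCotangent _), show δ (K.toCotangent ⟨_, hmem x hx⟩) = 0 from
        bB.equivFun.injective (by rw [hδ x hx, hx0, map_zero]), map_zero]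
    rw [Ideal.toCotangent_eq_zero] at h1
    change algebraMap S S' x ∈ K ^ 2 at h1
    rw [hK, ← Ideal.map_pow] at h1
    obtain ⟨s, hs, hsx⟩ := (IsLocalization.algebraMap_mem_map_algebraMap_iff M' S' (I ^ 2) x).1 h1
    exact ⟨s, hs, hsx⟩
  ·
    choose t ht using fun i : Fin n => he (l (bB i))
    refine ⟨Matrix.of fun i j => algebraMap S' B (t i j), fun k => ?_⟩
    set v := jac φ B (f k) with hv
    choose c hc using fun i => hsurj (v i)
    have hsum : δ (K.toCotangent (fl k)) = ∑ i, c i • bB i := by
      apply bB.equivFun.injective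
      rw [hδ _ (Ideal.subset_span ⟨k, rfl⟩), ← hv]
      have : ∀ i, c i • bB i = v i • bB i := fun i => by rw [← hc, algebraMap_smul]
      simp only [this, map_sum, map_smul, Module.Basis.equivFun_self]
      funext i
      simp [Finset.sum_apply, Finsupp.single_apply]
    have h2 := congrArg (fun y => bB.equivFun (δ y)) (hinj (K.toCotangent (fl k)))
    have h3 : bB.equivFun (∑ i, c i • bB i) = v := by rw [← hsum, hδ _ (Ideal.subset_span ⟨k, rfl⟩)]
    rw [hsum, h3] at h2
    conv_rhs => rw [← h2]
    funext i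
    simp only [map_sum, map_smul, ← ht, e, Fintype.linearCombination_apply, Finset.sum_apply, Finset.smul_sum,
      Matrix.vecMul, dotProduct, Matrix.of_apply, Finset.sum_mul]
    rw [Finset.sum_comm]
    refine Finset.sum_congr rfl fun a _ => Finset.sum_congr rfl fun j _ => ?_
    rw [← algebraMap_smul B (c a), ← algebraMap_smul B (t a j), map_smul, map_smul, Pi.smul_apply, Pi.smul_apply,
      hδ, hc, smul_eq_mul, smul_eq_mul, mul_assoc]
    exact Ideal.subset_span ⟨j, rfl⟩
  · refine top_unique fun y _ => ?_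
    obtain ⟨w, rfl⟩ := hgs y
    rw [hg]
    exact Submodule.sum_mem _ fun i _ => Submodule.smul_mem _ _ (Submodule.subset_span ⟨i, rfl⟩)
  · rw [← hg]
    constructor
    · intro h
      obtain ⟨x, hx⟩ := (hex _).1 h
      obtain ⟨u, rfl⟩ := he x
      refine ⟨fun j => algebraMap S' B (u j), ?_⟩
      rw [← hδe, show δ (e u) = bB.equivFun.symm w from hx, LinearEquiv.apply_symm_apply]
    · rintro ⟨u, rfl⟩
      choose u' hu' using fun j => hsurj (u j)
      rw [← show (fun j => algebraMap S' B (u' j)) = u from funext hu', ← hδe]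
      change mapBaseChange R S' B (bB.equivFun.symm (bB.equivFun (δ (e u')))) = 0
      rw [LinearEquiv.symm_apply_apply]
      exact (hex _).2 ⟨_, rfl⟩

/-- Independent rows over a field have a non-vanishing maximal minor. -/
theorem exists_minor_ne_zero {F : Type*} [Field F] {c n : ℕ} (M : Matrix (Fin c) (Fin n) F)
    (h : LinearIndependent F M.row) : ∃ cols : Fin c ↪ Fin n, (M.submatrix id cols).det ≠ 0 := by
  classical
  obtain ⟨κ, a, ha, hsp, hli⟩ := exists_linearIndependent' F M.col
  haveI : Fintype κ := Fintype.ofInjective a ha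
  have hrk : Fintype.card κ = c := by
    rw [← finrank_span_eq_card hli, hsp, ← Matrix.rank_eq_finrank_span_cols, h.rank_matrix, Fintype.card_fin]
  let e := (Fintype.equivFinOfCardEq hrk).symm
  refine ⟨⟨a ∘ e, ha.comp e.injective⟩, fun h0 => ?_⟩
  have h1 : LinearIndependent F (M.submatrix id (a ∘ e)).col := hli.comp e e.injective
  rw [Matrix.linearIndependent_cols_iff_isUnit, Matrix.isUnit_iff_isUnit_det] at h1
  exact h1.ne_zero h0

end Groth.Agent.SmoothingLib
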