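import Groth.Agent.SmoothingLib.GeomFrameBasic
import Groth.Agent.CAlgGlobalDim.RegSeq
import Mathlib

/-!
# Parameters in a polynomial algebra at a point of a geometrically regular algebra
-/

set_option autoImplicit false
set_option linter.style.haveILetI false

universe u

open IsLocalRing TensorProduct

namespace Groth.Agent.SmoothingLib.GeomDiff

/-- A derivation killing the kernel of a surjection descends. -/
theorem exists_derivation_quot {A B M : Type u} [CommRing A] [CommRing B] [Algebra A B] [AddCommGroup M]
    [Module A M] [Module B M] [IsScalarTower A B M] (hs : Function.Surjective (algebraMap A B))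
    (D : Derivation ℤ A M) (hker : ∀ a, algebraMap A B a = 0 → D a = 0) :
    ∃ D' : Derivation ℤ B M, ∀ a, D' (algebraMap A B a) = D a := by
  choose s hs' using hs
  have hwd : ∀ a, D (s (algebraMap A B a)) = D a := fun a => by
    rw [← sub_eq_zero, ← map_sub]
    exact hker _ (by rw [map_sub, hs', sub_self])
  refine ⟨Derivation.mk' (AddMonoidHom.mk' (fun b => D (s b)) fun b c => ?_).toIntLinearMap fun b c => ?_, hwd⟩
  · rw [← map_add, ← hwd (s b + s c), map_add, hs', hs']
  · simp only [AddMonoidHom.coe_toIntLinearMap, AddMonoidHom.mk'_apply]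
    rw [← hs' b, ← hs' c, ← map_mul, hwd, Derivation.leibniz, hwd, hwd, algebraMap_smul, algebraMap_smul]

variable (p : ℕ) [hp : Fact p.Prime]

attribute [-instance] IsLocalRing.ResidueField.instModule

set_option maxHeartbeats 2000000 in
set_option synthInstance.maxHeartbeats 200000 in
include p hp in
/-- Parameters in a polynomial algebra adapted to an artinian subalgebra. -/
theorem exists_params {k L : Type u} [Field k] [CharP k p] [CommRing L] [Algebra k L] [IsRegularLocalRing L]
    [CharP L p] (hL : CAlg.IsGeometricallyRegular k L) {d : ℕ} (hd : ringKrullDim L = d) {Nb : ℕ} (hNb : 2 ≤ Nb)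
    [IsLocalRing (L ⧸ maximalIdeal L ^ Nb)]
    (A : Subalgebra k (L ⧸ maximalIdeal L ^ Nb)) [IsLocalRing A] [IsArtinianRing A] [Algebra.EssFiniteType k A]
    [Module.Flat A (L ⧸ maximalIdeal L ^ Nb)]
    (hAm : (maximalIdeal A).map (algebraMap A (L ⧸ maximalIdeal L ^ Nb)) = maximalIdeal (L ⧸ maximalIdeal L ^ Nb)) :
    ∃ (F : Frame k L d) (ev : MvPolynomial F.σ k →ₐ[k] A),
      (∀ r, ((ev r : A) : L ⧸ maximalIdeal L ^ Nb) = Ideal.Quotient.mk _ (F.f r)) ∧
      Ideal.span (Set.range fun i => ev (F.x i)) = maximalIdeal A ∧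
      Submodule.span (ResidueField A)
        (Set.range fun r => KaehlerDifferential.D k (ResidueField A) (residue A (ev r))) = ⊤ := by
  classical
  let m := maximalIdeal L
  let Lb := L ⧸ m ^ Nb
  let K0 := ResidueField A
  let Kb := ResidueField Lb
  haveI : CharP A p := charP_of_injective_algebraMap (algebraMap k A).injective p
  haveI : IsLocalHom (algebraMap A Lb) := by
    refine ⟨fun a ha => ?_⟩
    by_contra h
    have h1 := Ideal.mem_map_of_mem (algebraMap A Lb) ((IsLocalRing.mem_maximalIdeal a).2 h)
    rw [hAm] at h1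
    exact h1 ha
  haveI hffl : Module.FaithfullyFlat A Lb := Module.FaithfullyFlat.of_flat_of_isLocalHom
  letI : Algebra K0 Kb := (ResidueField.map (algebraMap A Lb)).toAlgebra
  haveI : IsScalarTower A K0 Kb := IsScalarTower.of_algebraMap_eq fun a => rfl
  haveI : IsScalarTower k K0 Kb := IsScalarTower.of_algebraMap_eq fun c => rfl
  haveI : IsScalarTower k L Kb := IsScalarTower.of_algebraMap_eq fun c => rfl
  have hFKb : ∀ x ∈ m, algebraMap L Kb x = 0 := fun x hx => by
    show residue Lb (Ideal.Quotient.mk _ x) = 0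
    rw [residue_eq_zero_iff, mem_maximalIdeal, mem_nonunits_iff]
    intro hu
    obtain ⟨y, hy⟩ := hu.exists_right_inv
    obtain ⟨y, rfl⟩ := Ideal.Quotient.mk_surjective y
    rw [← map_mul, ← map_one (Ideal.Quotient.mk _), Ideal.Quotient.eq] at hy
    have h1 : x * y - 1 ∈ m := Ideal.pow_le_self (by omega) hy
    have h2 := sub_mem (Ideal.mul_mem_right y _ hx) h1
    rw [sub_sub_cancel] at h2
    exact (maximalIdeal.isMaximal L).ne_top ((Ideal.eq_top_iff_one _).2 h2)
  -- extension of derivations of the base
  obtain ⟨ρ, hρ⟩ := (Algebra.linearMap K0 Kb).exists_leftInverse_of_injective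
    (LinearMap.ker_eq_bot.2 (algebraMap K0 Kb).injective)
  have ext0 : ∀ δ : Derivation ℤ k K0, ∃ D : Derivation ℤ A K0, ∀ c, D (algebraMap k A c) = δ c := by
    intro δ
    let δ' : Derivation ℤ k Kb := Derivation.mk'
      (AddMonoidHom.mk' (fun c => algebraMap K0 Kb (δ c)) fun a b => by simp only [map_add]).toIntLinearMap
      fun a b => by
        simp only [AddMonoidHom.coe_toIntLinearMap, AddMonoidHom.mk'_apply, Derivation.leibniz, map_add,
          Algebra.smul_def, map_mul, ← IsScalarTower.algebraMap_apply]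
    obtain ⟨D, hD⟩ := exists_derivation_extend p hL hFKb δ'
    have hD2 : ∀ x ∈ m ^ 2, D x = 0 := fun x hx => by
      rw [pow_two] at hx
      refine Submodule.mul_induction_on hx (fun a ha b hb => ?_) fun a b ha hb => by rw [map_add, ha, hb, add_zero]
      rw [Derivation.leibniz, Algebra.smul_def, Algebra.smul_def, hFKb a ha, hFKb b hb, zero_mul, zero_mul, add_zero]
    obtain ⟨Db, hDb⟩ := exists_derivation_quot (B := Lb) Ideal.Quotient.mk_surjective D
      fun a ha => hD2 a (Ideal.pow_le_pow_right hNb (Ideal.Quotient.eq_zero_iff_mem.1 ha))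
    refine ⟨Derivation.mk' (AddMonoidHom.mk' (fun a : A => ρ (Db (a : Lb))) fun a b => ?_).toIntLinearMap
      fun a b => ?_, fun c => ?_⟩
    · rw [Subalgebra.coe_add, map_add, map_add]
    · simp only [AddMonoidHom.coe_toIntLinearMap, AddMonoidHom.mk'_apply]
      rw [Subalgebra.coe_mul, Derivation.leibniz, map_add]
      have h : ∀ (a : A) (w : Kb), ρ ((a : Lb) • w) = a • ρ w := fun a w => by
        rw [← algebraMap_smul K0 a (ρ w), ← map_smul]
        congr 1
      rw [h, h]
    · show ρ (Db (Ideal.Quotient.mk _ (algebraMap k L c))) = δ c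
      rw [show Db (Ideal.Quotient.mk _ (algebraMap k L c)) = D (algebraMap k L c) from hDb _, hD]
      exact LinearMap.congr_fun hρ (δ c)
  -- a differential basis of the residue field
  haveI : Algebra.EssFiniteType k K0 := Algebra.EssFiniteType.comp k A K0
  obtain ⟨b, hbsub, hbspan, hbli⟩ := exists_linearIndependent K0 (Set.range (KaehlerDifferential.D k K0))
  rw [KaehlerDifferential.span_range_derivation] at hbspan
  let bas : Module.Basis b K0 Ω[K0⁄k] := Module.Basis.mk hbli (by rw [Subtype.range_coe]; exact hbspan.ge)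
  haveI : Finite b := Module.Finite.finite_basis bas
  haveI : Fintype b := Fintype.ofFinite b
  choose w hw using fun x : b => hbsub x.2
  choose z hz using fun x : b => residue_surjective (R := A) (w x)
  have derivz : ∀ v : b → K0, ∃ E : Derivation k A K0, ∀ x, E (z x) = v x := by
    intro v
    let E₀ : Derivation k K0 K0 := (bas.constr K0 v).compDer (KaehlerDifferential.D k K0)
    refine ⟨E₀.compAlgebraMap A, fun x => ?_⟩
    show bas.constr K0 v (KaehlerDifferential.D k K0 (residue A (z x))) = v x
    rw [hz, hw, show (x : Ω[K0⁄k]) = bas x from (Module.Basis.mk_apply _ _ x).symm, Module.Basis.constr_basis]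
  -- coordinates on the derivations killing them
  haveI : IsNoetherianRing A := inferInstance
  obtain ⟨e, g, hg⟩ := Submodule.fg_iff_exists_fin_generating_family.1
    (IsNoetherian.noetherian (maximalIdeal A) : (maximalIdeal A).FG)
  have hgm : ∀ l, g l ∈ maximalIdeal A := fun l => hg ▸ Submodule.subset_span ⟨l, rfl⟩
  let U : Submodule K0 (Fin e → K0) :=
    { carrier := {u | ∃ E : Derivation k A K0, (∀ x, E (z x) = 0) ∧ ∀ l, E (g l) = u l}
      zero_mem' := ⟨0, fun _ => rfl, fun _ => rfl⟩
      add_mem' := by
        rintro u v ⟨E, h1, h2⟩ ⟨E', h1', h2'⟩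
        exact ⟨E + E', fun x => by simp [h1, h1'], fun l => by simp [h2, h2']⟩
      smul_mem' := by
        rintro c u ⟨E, h1, h2⟩
        obtain ⟨c, rfl⟩ := residue_surjective c
        refine ⟨c • E, fun x => by simp [h1], fun l => ?_⟩
        rw [Derivation.smul_apply, h2, Pi.smul_apply, ← ResidueField.algebraMap_eq, algebraMap_smul] }
  obtain ⟨S, hSinj, hSsurj⟩ := exists_coord U
  let σ := b ⊕ ULift.{u} ↥S
  let y : σ → A := Sum.elim z fun i => g i.down
  let ev : MvPolynomial σ k →ₐ[k] A := MvPolynomial.aeval y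
  have hev : ∀ s, ev (MvPolynomial.X s) = y s := fun s => MvPolynomial.aeval_X _ s
  have EXT : ∀ (δ : Derivation ℤ k K0) (c : σ → K0), ∃ D : Derivation ℤ A K0,
      (∀ a, D (algebraMap k A a) = δ a) ∧ ∀ s, D (y s) = c s := by
    intro δ c
    obtain ⟨D₁, hD₁⟩ := ext0 δ
    obtain ⟨E₁, hE₁⟩ := derivz fun x => c (Sum.inl x) - D₁ (z x)
    let cc : Fin e → K0 := fun i => if hi : i ∈ S then c (Sum.inr ⟨⟨i, hi⟩⟩) - D₁ (g i) - E₁ (g i) else 0
    obtain ⟨u, ⟨E₂, hE₂z, hE₂g⟩, hu⟩ := hSsurj cc
    refine ⟨D₁ + E₁.restrictScalars ℤ + E₂.restrictScalars ℤ, fun a => ?_, fun s => ?_⟩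
    · simp only [Derivation.add_apply, Derivation.restrictScalars_apply, Derivation.map_algebraMap, hD₁, add_zero]
    · rcases s with x | ⟨i, hi⟩
      · simp only [y, Sum.elim_inl, Derivation.add_apply, Derivation.restrictScalars_apply, hE₁, hE₂z]
        ring
      · simp only [y, Sum.elim_inr, Derivation.add_apply, Derivation.restrictScalars_apply, hE₂g, hu i hi, cc, dif_pos hi]
        ring
  -- the map to `L`
  choose Y hY using fun s => Ideal.Quotient.mk_surjective ((y s : A) : Lb)
  let f : MvPolynomial σ k →ₐ[k] L := MvPolynomial.aeval Y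
  have hf : ∀ r, ((ev r : A) : Lb) = Ideal.Quotient.mk _ (f r) := by
    have : A.val.comp ev = (Ideal.Quotient.mkₐ k (m ^ Nb)).comp f := by
      refine MvPolynomial.algHom_ext fun s => ?_
      show ((ev (MvPolynomial.X s) : A) : Lb) = Ideal.Quotient.mk _ (f (MvPolynomial.X s))
      rw [hev, MvPolynomial.aeval_X, hY]
    exact fun r => AlgHom.congr_fun this r
  let P := m.comap f
  have hLbm : ∀ v : L, Ideal.Quotient.mk (m ^ Nb) v ∈ maximalIdeal Lb ↔ v ∈ m := by
    intro v
    constructor
    · intro h
      by_contra hv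
      exact h ((IsLocalRing.notMem_maximalIdeal.1 hv).map _)
    · intro h
      rw [← residue_eq_zero_iff]
      exact hFKb v h
  have hP : ∀ r, r ∈ P ↔ ev r ∈ maximalIdeal A := by
    intro r
    rw [Ideal.mem_comap, ← hLbm, ← hf]
    constructor
    · intro h
      by_contra hh
      exact h ((IsLocalRing.notMem_maximalIdeal.1 hh).map (algebraMap A Lb))
    · intro h
      exact hAm ▸ Ideal.mem_map_of_mem (algebraMap A Lb) h
  haveI : CharP (MvPolynomial σ k) p := inferInstance
  let Rp := Localization.AtPrime P
  haveI : CharP Rp p := charP_of_injective_algebraMap (algebraMap k Rp).injective p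
  haveI : IsRegularLocalRing Rp := inferInstance
  let evp : Rp →+* A := IsLocalization.lift (M := P.primeCompl) (g := ev.toRingHom) fun s => by
    by_contra h
    exact s.2 ((hP _).2 ((IsLocalRing.mem_maximalIdeal _).2 h))
  have hevp : ∀ r, evp (algebraMap _ Rp r) = ev r := fun r => IsLocalization.lift_eq _ r
  haveI : IsLocalHom evp := by
    refine ⟨fun v hv => ?_⟩
    obtain ⟨⟨r, s⟩, rfl⟩ := IsLocalization.mk'_surjective P.primeCompl v
    refine (IsLocalization.AtPrime.isUnit_mk'_iff Rp P r s).2 fun h => ?_
    have h1 := congrArg evp (IsLocalization.mk'_spec Rp r s)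
    rw [map_mul, hevp, hevp] at h1
    exact ((IsLocalRing.mem_maximalIdeal _).1 ((hP r).1 h)) (h1 ▸ hv.mul (by
      rw [← hevp]; exact (IsLocalization.map_units Rp s).map evp))
  -- parameters from a basis of the cotangent space
  let cot : P → CotangentSpace Rp := fun r => (maximalIdeal Rp).toCotangent
    ⟨algebraMap _ Rp (r : MvPolynomial σ k), (IsLocalization.AtPrime.to_map_mem_maximal_iff Rp P _).2 r.2⟩
  have hcot : Submodule.span (ResidueField Rp) (Set.range cot) = ⊤ := by
    rw [eq_top_iff]
    rintro v -
    obtain ⟨⟨v, hv⟩, rfl⟩ := (maximalIdeal Rp).toCotangent_surjective v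
    obtain ⟨⟨r, s⟩, hrs⟩ := IsLocalization.mk'_surjective P.primeCompl v
    simp only at hrs
    have hr : r ∈ P := by
      rw [← IsLocalization.AtPrime.to_map_mem_maximal_iff Rp P r, ← IsLocalization.mk'_spec Rp r s, hrs]
      exact Ideal.mul_mem_right _ _ hv
    obtain ⟨si, hsi⟩ := (IsLocalization.map_units Rp s).exists_left_inv
    have hve : (⟨v, hv⟩ : maximalIdeal Rp) = si •
        (⟨algebraMap _ Rp r, (IsLocalization.AtPrime.to_map_mem_maximal_iff Rp P _).2 hr⟩ : maximalIdeal Rp) := by
      refine Subtype.ext ?_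
      show v = si * algebraMap _ Rp r
      rw [← IsLocalization.mk'_spec Rp r s, hrs, ← mul_assoc, mul_comm si v, mul_assoc, hsi, mul_one]
    rw [hve, map_smul, ← algebraMap_smul (ResidueField Rp) si]
    exact Submodule.smul_mem _ _ (Submodule.subset_span ⟨⟨r, hr⟩, rfl⟩)
  obtain ⟨bc, hbcsub, hbcspan, hbcli⟩ := exists_linearIndependent (ResidueField Rp) (Set.range cot)
  rw [hcot] at hbcspan
  let basc : Module.Basis bc (ResidueField Rp) (CotangentSpace Rp) :=
    Module.Basis.mk hbcli (by rw [Subtype.range_coe]; exact hbcspan.ge)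
  haveI : Fintype bc := @Fintype.ofFinite _ (Module.Finite.finite_basis basc)
  choose x₀ hx₀ using fun i : bc => hbcsub i.2
  let xs : bc → MvPolynomial σ k := fun i => (x₀ i : MvPolynomial σ k)
  have hxs : ∀ i, xs i ∈ P := fun i => (x₀ i).2
  have hxsm : ∀ i, ev (xs i) ∈ maximalIdeal A := fun i => (hP _).1 (hxs i)
  have hspanx : Ideal.span (Set.range fun i => algebraMap _ Rp (xs i)) = maximalIdeal Rp := by
    have h1 := (IsLocalRing.CotangentSpace.span_image_eq_top_iff (R := Rp)
      (s := Set.range fun i => (⟨algebraMap _ Rp (xs i),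
        (IsLocalization.AtPrime.to_map_mem_maximal_iff Rp P _).2 (hxs i)⟩ : maximalIdeal Rp))).1 (by
      rw [← Set.range_comp, ← hbcspan]
      congr 1
      ext v
      constructor
      · rintro ⟨i, rfl⟩; show cot (x₀ i) ∈ bc; rw [hx₀]; exact i.2
      · intro hv; exact ⟨⟨v, hv⟩, hx₀ ⟨v, hv⟩⟩)
    have h2 := congrArg (Submodule.map (maximalIdeal Rp).subtype) h1
    rw [Submodule.map_span, Submodule.map_top, Submodule.range_subtype, ← Set.range_comp] at h2
    exact h2
  -- independence in the artinian algebra
  have hkill : ∀ (D : Derivation ℤ A K0) (c a : A), a ∈ maximalIdeal A → D a = 0 → D (c * a) = 0 :=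
    fun D c a ha h0 => by
      rw [Derivation.leibniz, h0, smul_zero, zero_add, Algebra.smul_def, ResidueField.algebraMap_eq,
        (residue_eq_zero_iff a).2 ha, zero_mul]
  have hindep : ∀ i, ev (xs i) ∉ Ideal.span (Set.range fun j : {j // j ≠ i} => ev (xs j)) ⊔ maximalIdeal A ^ 2 := by
    intro i hmem
    obtain ⟨DR, hDR⟩ := PRootLib.exists_derivation_of_dual p (basc.coord i)
    let ι : ResidueField Rp →+* K0 := ResidueField.map evp
    have hι : ∀ (r : MvPolynomial σ k) (v : ResidueField Rp), ι (algebraMap _ Rp r • v) = residue A (ev r) * ι v := by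
      intro r v
      rw [Algebra.smul_def, map_mul]
      congr 1
      show residue A (evp (algebraMap _ Rp r)) = _
      rw [hevp]
    let D' : MvPolynomial σ k → K0 := fun r => ι (DR (algebraMap _ Rp r))
    have hD'mul : ∀ r s, D' (r * s) = residue A (ev r) * D' s + residue A (ev s) * D' r := fun r s => by
      simp only [D', map_mul, Derivation.leibniz, map_add, hι]
    have hD'add : ∀ r s, D' (r + s) = D' r + D' s := fun r s => by simp only [D', map_add]
    let δ : Derivation ℤ k K0 := Derivation.mk'
      (AddMonoidHom.mk' (fun c => D' (MvPolynomial.C c)) fun a b => by rw [map_add, hD'add]).toIntLinearMap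
      fun a b => by
        simp only [AddMonoidHom.coe_toIntLinearMap, AddMonoidHom.mk'_apply, map_mul, hD'mul]
        simp [Algebra.smul_def, ev, IsScalarTower.algebraMap_apply k A K0]
        rfl
    obtain ⟨D, hDk, hDy⟩ := EXT δ fun s => D' (MvPolynomial.X s)
    have hDD' : ∀ r, D (ev r) = D' r := by
      intro r
      induction r using MvPolynomial.induction_on with
      | C a => rw [MvPolynomial.algHom_C]; exact hDk a
      | add r s hr hs => rw [map_add, map_add, hr, hs, hD'add]
      | mul_X r s hr =>
        rw [map_mul, Derivation.leibniz, hr, hev, hDy, hD'mul, hev, Algebra.smul_def, Algebra.smul_def]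
        rfl
    have hDx : ∀ j, D (ev (xs j)) = if j = i then 1 else 0 := fun j => by
      rw [hDD']
      show ι (DR (algebraMap _ Rp (xs j))) = _
      have h1 := hDR ⟨algebraMap _ Rp (xs j), (IsLocalization.AtPrime.to_map_mem_maximal_iff Rp P _).2 (hxs j)⟩
      rw [h1, show (maximalIdeal Rp).toCotangent _ = basc j from (hx₀ j).trans (Module.Basis.mk_apply _ _ j).symm,
        Module.Basis.coord_apply, Module.Basis.repr_self, Finsupp.single_apply]
      split_ifs <;> simp
    obtain ⟨a, ha, b', hb, hab⟩ := Submodule.mem_sup.1 hmem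
    have h0b : D b' = 0 := by
      rw [pow_two] at hb
      refine Submodule.mul_induction_on hb (fun a ha b hb => ?_) fun a b ha hb => by rw [map_add, ha, hb, add_zero]
      rw [Derivation.leibniz, Algebra.smul_def, Algebra.smul_def, ResidueField.algebraMap_eq,
        (residue_eq_zero_iff a).2 ha, (residue_eq_zero_iff b).2 hb, zero_mul, zero_mul, add_zero]
    obtain ⟨c, hc⟩ := Ideal.mem_span_range_iff_exists_fun.1 ha
    have h0a : D a = 0 := by
      rw [← hc, map_sum]
      exact Finset.sum_eq_zero fun j _ => hkill D _ _ (hxsm j) (by rw [hDx, if_neg j.2])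
    have := hDx i
    rw [← hab, map_add, h0a, h0b, add_zero, if_pos rfl] at this
    exact zero_ne_one this
  -- spanning in the artinian algebra
  let evR : MvPolynomial σ k →+* K0 := (residue A).comp ev.toRingHom
  have hspanA : Ideal.span (Set.range fun i => ev (xs i)) = maximalIdeal A := by
    let sA : bc → maximalIdeal A := fun i => ⟨ev (xs i), hxsm i⟩
    have h1 : Submodule.span K0 ((maximalIdeal A).toCotangent '' Set.range sA) = ⊤ := by
      by_contra hne
      obtain ⟨ℓ, hℓ0, hℓ⟩ := Submodule.exists_le_ker_of_lt_top _ (lt_top_iff_ne_top.2 hne)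
      obtain ⟨D, hD⟩ : ∃ D : Derivation ℤ A K0, ∀ g : maximalIdeal A, D g = ℓ ((maximalIdeal A).toCotangent g) :=
        PRootLib.exists_derivation_of_dual p ℓ
      have hDx : ∀ i, D (ev (xs i)) = 0 := fun i =>
        (hD (sA i)).trans (hℓ (Submodule.subset_span ⟨sA i, ⟨i, rfl⟩, rfl⟩))
      have hDP : ∀ r ∈ P, D (ev r) = 0 := by
        intro r hr
        have h1 : algebraMap _ Rp r ∈ Ideal.span (Set.range fun i => algebraMap _ Rp (xs i)) :=
          hspanx.symm ▸ (IsLocalization.AtPrime.to_map_mem_maximal_iff Rp P _).2 hr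
        obtain ⟨c, hc⟩ := Ideal.mem_span_range_iff_exists_fun.1 h1
        have h2 := congrArg evp hc
        simp only [map_sum, map_mul, hevp] at h2
        rw [← h2, map_sum]
        exact Finset.sum_eq_zero fun i _ => hkill D _ _ (hxsm i) (hDx i)
      let Rq := MvPolynomial σ k ⧸ P
      letI : CommRing Rq := Ideal.Quotient.commRing _
      let qe : Rq →+* K0 := Ideal.Quotient.lift P evR fun r hr => (residue_eq_zero_iff _).2 ((hP r).1 hr)
      letI : Algebra Rq K0 := qe.toAlgebra
      letI : Algebra (MvPolynomial σ k) K0 := evR.toAlgebra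
      haveI : IsScalarTower (MvPolynomial σ k) Rq K0 := IsScalarTower.of_algebraMap_eq fun r => rfl
      haveI : IsScalarTower k (MvPolynomial σ k) K0 := IsScalarTower.of_algebraMap_eq fun c => by
        show algebraMap k K0 c = residue A (ev (MvPolynomial.C c))
        rw [MvPolynomial.algHom_C]
        exact IsScalarTower.algebraMap_apply k A K0 c
      haveI hunrR : Algebra.FormallyUnramified (MvPolynomial σ k) K0 := by
        refine ⟨subsingleton_of_forall_eq 0 fun v => ?_⟩
        obtain ⟨v, rfl⟩ := KaehlerDifferential.map_surjective k (MvPolynomial σ k) K0 v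
        refine (congrArg (KaehlerDifferential.map k (MvPolynomial σ k) K0 K0) (bas.sum_repr v).symm).trans ?_
        rw [map_sum]
        refine Finset.sum_eq_zero fun i _ => ?_
        rw [map_smul, Module.Basis.mk_apply, ← hw i, KaehlerDifferential.map_D, ← hz i,
          show residue A (z i) = algebraMap (MvPolynomial σ k) K0 (MvPolynomial.X (Sum.inl i)) by
            show _ = residue A (ev _)
            rw [hev]; rfl]
        simp
      haveI : Algebra.EssFiniteType (MvPolynomial σ k) K0 := Algebra.EssFiniteType.of_comp k _ _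
      have hqinj : Function.Injective (algebraMap Rq K0) := by
        refine (injective_iff_map_eq_zero _).2 fun v hv => ?_
        obtain ⟨r, rfl⟩ := Ideal.Quotient.mk_surjective v
        exact Ideal.Quotient.eq_zero_iff_mem.2 ((hP r).2 ((residue_eq_zero_iff _).1 hv))
      haveI : P.IsPrime := Ideal.comap_isPrime _ _
      let κ := FractionRing Rq
      letI : Algebra κ K0 := (IsFractionRing.lift hqinj).toAlgebra
      haveI : IsScalarTower Rq κ K0 := IsScalarTower.of_algebraMap_eq fun v => (IsFractionRing.lift_algebraMap hqinj v).symm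
      haveI : IsScalarTower (MvPolynomial σ k) κ K0 := IsScalarTower.to₁₃₄ _ Rq _ _
      haveI : Algebra.FormallyUnramified κ K0 := Algebra.FormallyUnramified.of_restrictScalars (MvPolynomial σ k) κ K0
      haveI : Algebra.EssFiniteType κ K0 := Algebra.EssFiniteType.of_comp (MvPolynomial σ k) κ K0
      haveI : Algebra.IsSeparable κ K0 := Algebra.FormallyUnramified.isSeparable κ K0
      haveI : Algebra.FormallyEtale κ K0 := Algebra.FormallyEtale.of_isSeparable κ K0
      haveI : Algebra.FormallyEtale Rq κ := Algebra.FormallyEtale.of_isLocalization (nonZeroDivisors Rq)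
      haveI : Algebra.FormallySmooth Rq K0 := Algebra.FormallySmooth.comp Rq κ K0
      let DR : Derivation ℤ (MvPolynomial σ k) K0 := Derivation.mk'
        (AddMonoidHom.mk' (fun r => D (ev r)) fun r s => by rw [map_add, map_add]).toIntLinearMap
        fun r s => by
          simp only [AddMonoidHom.coe_toIntLinearMap, AddMonoidHom.mk'_apply, map_mul, Derivation.leibniz,
            Algebra.smul_def]
          rfl
      obtain ⟨Dq, hDq⟩ := exists_derivation_quot (B := Rq) Ideal.Quotient.mk_surjective DR
        fun r hr => hDP r (Ideal.Quotient.eq_zero_iff_mem.1 hr)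
      obtain ⟨Dz, hDz⟩ := exists_derivation_extend_smooth Dq
      have hDz' : ∀ r, Dz (residue A (ev r)) = D (ev r) := fun r => (hDz (Ideal.Quotient.mk P r)).trans (hDq r)
      let E₀ : Derivation ℤ A K0 := D - Dz.compAlgebraMap A
      have hE₀ : ∀ r, E₀ (ev r) = 0 := fun r => by
        show D (ev r) - Dz (residue A (ev r)) = 0
        rw [hDz', sub_self]
      let E : Derivation k A K0 := Derivation.mk'
        { toFun := E₀
          map_add' := map_add E₀
          map_smul' := fun c a => by
            rw [RingHom.id_apply, Algebra.smul_def, Derivation.leibniz,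
              show E₀ (algebraMap k A c) = 0 by rw [← MvPolynomial.algHom_C ev]; exact hE₀ _, smul_zero, add_zero,
              algebraMap_smul] }
        E₀.leibniz
      have hEz : ∀ i, E (z i) = 0 := fun i => by
        show E₀ (z i) = 0
        rw [show z i = ev (MvPolynomial.X (Sum.inl i)) by rw [hev]; rfl]
        exact hE₀ _
      have hu0 := hSinj (fun l => E (g l)) ⟨E, hEz, fun _ => rfl⟩ fun i hi => by
        show E₀ (g i) = 0
        rw [show g i = ev (MvPolynomial.X (Sum.inr ⟨⟨i, hi⟩⟩)) by rw [hev]; rfl]
        exact hE₀ _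
      have hDg : ∀ l, D (g l) = 0 := fun l => by
        have h1 : D (g l) - Dz (residue A (g l)) = 0 := congrFun hu0 l
        rwa [(residue_eq_zero_iff _).2 (hgm l), map_zero, sub_zero] at h1
      refine hℓ0 (LinearMap.ext fun v => ?_)
      obtain ⟨⟨v, hv⟩, rfl⟩ := (maximalIdeal A).toCotangent_surjective v
      rw [← hD, LinearMap.zero_apply]
      show D v = 0
      rw [← hg] at hv
      obtain ⟨c, hc⟩ := Ideal.mem_span_range_iff_exists_fun.1 hv
      rw [← hc, map_sum]
      exact Finset.sum_eq_zero fun l _ => hkill D _ _ (hgm l) (hDg l)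
    have h2 := IsLocalRing.CotangentSpace.span_image_eq_top_iff.1 h1
    have h3 := congrArg (Submodule.map (maximalIdeal A).subtype) h2
    rw [Submodule.map_span, Submodule.map_top, Submodule.range_subtype, ← Set.range_comp] at h3
    exact h3
  -- the number of parameters is the dimension
  have hfm : ∀ i, f (xs i) ∈ m := fun i => hxs i
  have hspanf : Ideal.span (Set.range fun i => f (xs i)) = m := by
    have hmap : maximalIdeal Lb = m.map (Ideal.Quotient.mk (m ^ Nb)) := by
      ext v
      obtain ⟨v, rfl⟩ := Ideal.Quotient.mk_surjective v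
      rw [hLbm, Ideal.mem_quotient_iff_mem (Ideal.pow_le_self (by omega))]
    have h1 : m ≤ Ideal.span (Set.range fun i => f (xs i)) ⊔ m ^ Nb := by
      intro v hv
      rw [← Ideal.mem_quotient_iff_mem_sup, Ideal.map_span, ← Set.range_comp,
        show (Ideal.Quotient.mk (m ^ Nb) ∘ fun i => f (xs i)) = fun i => algebraMap A Lb (ev (xs i)) from
          funext fun i => (hf _).symm]
      rw [show (Set.range fun i => algebraMap A Lb (ev (xs i))) = algebraMap A Lb '' Set.range (fun i => ev (xs i)) from
          Set.range_comp _ _, ← Ideal.map_span, hspanA, hAm]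
      exact (hLbm v).2 hv
    refine le_antisymm (Ideal.span_le.2 (by rintro _ ⟨i, rfl⟩; exact hfm i)) ?_
    refine Submodule.le_of_le_smul_of_le_jacobson_bot (IsNoetherian.noetherian _)
      (IsLocalRing.jacobson_eq_maximalIdeal _ bot_ne_top).ge (h1.trans (sup_le_sup_left ?_ _))
    rw [smul_eq_mul, ← pow_two]
    exact Ideal.pow_le_pow_right hNb
  have hle : (Fintype.card bc : ℕ) = d := by
    have hsr : (maximalIdeal L).spanFinrank = d := CAlgGlobalDim.spanFinrank_eq_of_dim L d hd
    refine le_antisymm ?_ ?_
    · rw [← hsr, spanFinrank_maximalIdeal_eq_finrank_cotangentSpace]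
      refine LinearIndependent.fintype_card_le_finrank (b := fun i => m.toCotangent ⟨f (xs i), hfm i⟩) ?_
      rw [Fintype.linearIndependent_iff]
      intro c hc i
      choose c' hc' using fun j => residue_surjective (R := L) (c j)
      by_contra hci
      have hu : IsUnit (c' i) := by
        by_contra hh
        exact hci ((hc' i).symm.trans ((residue_eq_zero_iff _).2 ((IsLocalRing.mem_maximalIdeal _).2 hh)))
      have hsum : ∑ j, c' j * f (xs j) ∈ m ^ 2 := by
        have h0 : m.toCotangent (∑ j, c' j • (⟨f (xs j), hfm j⟩ : m)) = 0 := by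
          rw [map_sum, ← hc]
          refine Finset.sum_congr rfl fun j _ => ?_
          rw [map_smul, ← hc' j, ← ResidueField.algebraMap_eq, algebraMap_smul]
        simpa using (Ideal.toCotangent_eq_zero _ _).1 h0
      refine hindep i ?_
      rw [← Ideal.comap_map_eq_self_of_faithfullyFlat (B := Lb)
        (Ideal.span (Set.range fun j : {j // j ≠ i} => ev (xs j)) ⊔ maximalIdeal A ^ 2), Ideal.mem_comap,
        Ideal.map_sup, Ideal.map_pow, hAm, Ideal.map_span, ← Set.range_comp]
      show ((ev (xs i) : A) : Lb) ∈ _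
      rw [hf]
      rw [← Finset.add_sum_erase _ _ (Finset.mem_univ i)] at hsum
      have hval : c' i * f (xs i) = (c' i * f (xs i) + ∑ j ∈ Finset.univ.erase i, c' j * f (xs j)) +
          -∑ j ∈ Finset.univ.erase i, c' j * f (xs j) := by ring
      obtain ⟨w, hw⟩ := hu.exists_left_inv
      rw [show f (xs i) = w * (c' i * f (xs i)) by rw [← mul_assoc, hw, one_mul], hval, map_mul]
      refine Ideal.mul_mem_left _ _ ?_
      rw [map_add]
      refine add_mem (Ideal.mem_sup_right ?_) (Ideal.mem_sup_left ?_)
      · rw [pow_two] at hsum ⊢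
        refine Submodule.mul_induction_on hsum (fun a ha b hb => ?_) fun a b ha hb => by rw [map_add]; exact add_mem ha hb
        rw [map_mul]
        exact Ideal.mul_mem_mul ((hLbm a).2 ha) ((hLbm b).2 hb)
      · rw [map_neg, map_sum, neg_mem_iff]
        refine Ideal.sum_mem _ fun j hj => ?_
        rw [map_mul, ← hf]
        exact Ideal.mul_mem_left _ _ (Ideal.subset_span ⟨⟨j, (Finset.mem_erase.1 hj).1⟩, rfl⟩)
    · rw [← hsr]
      refine ((congrArg Submodule.spanFinrank hspanf).symm.trans_le
        (Submodule.spanFinrank_span_le_ncard_of_finite (Set.finite_range _))).trans ?_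
      rw [← Nat.card_coe_set_eq, ← Nat.card_eq_fintype_card]
      exact Finite.card_range_le _
  let el : Fin d ≃ bc := ((Fintype.equivFinOfCardEq hle)).symm
  have hre : ∀ {β : Type u} (v : bc → β), Set.range (fun i : Fin d => v (el i)) = Set.range v :=
    fun v => el.surjective.range_comp v
  refine ⟨{ σ := σ, f := f, x := fun i => xs (el i), span_f := ?_, span_x := ?_ }, ev, hf, ?_, ?_⟩
  · exact (congrArg Ideal.span (hre fun i => f (xs i))).trans hspanf
  · exact (congrArg Ideal.span (hre fun i => algebraMap _ Rp (xs i))).trans hspanx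
  · exact (congrArg Ideal.span (hre fun i => ev (xs i))).trans hspanA
  · rw [eq_top_iff, ← hbspan, Submodule.span_le]
    intro v hv
    refine Submodule.subset_span ⟨MvPolynomial.X (Sum.inl ⟨v, hv⟩), ?_⟩
    show KaehlerDifferential.D k K0 (residue A (ev _)) = v
    rw [hev]
    show KaehlerDifferential.D k K0 (residue A (z ⟨v, hv⟩)) = v
    rw [hz, hw]

end Groth.Agent.SmoothingLib.GeomDiff
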