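import Groth.Agent.SmoothingLib.RegularResolve
import Mathlib

/-!
# Resolving modulo an ideal which is primary at the prime
-/

set_option autoImplicit false
set_option linter.style.haveILetI false

universe u

open TensorProduct

namespace Groth.Agent.SmoothingLib.GeomDiff

set_option maxHeartbeats 2000000 in
/-- A smooth factorization modulo a primary ideal resolves the problem modulo that ideal. -/
theorem resolvable_mod_of_factor {R Λ : Type u} [CommRing R] [IsNoetherianRing R] [CommRing Λ] [Algebra R Λ]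
    [IsNoetherianRing Λ] (𝔮 : Ideal Λ) [𝔮.IsPrime]
    {Cc : Type u} [CommRing Cc] [Algebra R Cc] [Algebra.FinitePresentation R Cc] (h : Cc →ₐ[R] Λ)
    (hminC : ∀ P : Ideal Λ, P.IsPrime → (Smoothing.singularIdeal R Cc).map h ≤ P → P ≤ 𝔮 → 𝔮 ≤ P)
    (K : Ideal R) (hK𝔮 : K.map (algebraMap R Λ) ≤ 𝔮)
    (hprim : ∀ P : Ideal Λ, P.IsPrime → K.map (algebraMap R Λ) ≤ P → P ≤ 𝔮 → 𝔮 ≤ P)
    (φK : (Cc ⧸ K.map (algebraMap R Cc)) →ₐ[R ⧸ K] (Λ ⧸ K.map (algebraMap R Λ)))
    (hφK : ∀ c : Cc, φK (Ideal.Quotient.mk _ c) = Ideal.Quotient.mk _ (h c))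
    {Tp : Type u} [CommRing Tp] [Algebra R Tp] [IsLocalization.AtPrime Tp (𝔮.comap (algebraMap R Λ))]
    (hT : Tp →+* Localization.AtPrime 𝔮)
    (hTc : ∀ x, hT (algebraMap R Tp x) = algebraMap Λ (Localization.AtPrime 𝔮) (algebraMap R Λ x))
    {B : Type u} [CommRing B] [Algebra (Tp ⧸ K.map (algebraMap R Tp)) B]
    [Algebra.Smooth (Tp ⧸ K.map (algebraMap R Tp)) B]
    (g : Cc →+* B) (hB : B →+* Localization.AtPrime 𝔮 ⧸ K.map (algebraMap R (Localization.AtPrime 𝔮)))
    (hg : ∀ x, g (algebraMap R Cc x) =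
      algebraMap (Tp ⧸ K.map (algebraMap R Tp)) B (Ideal.Quotient.mk _ (algebraMap R Tp x)))
    (hBT : ∀ z, hB (algebraMap (Tp ⧸ K.map (algebraMap R Tp)) B (Ideal.Quotient.mk _ z)) = Ideal.Quotient.mk _ (hT z))
    (hBg : ∀ c, hB (g c) = Ideal.Quotient.mk _ (algebraMap Λ (Localization.AtPrime 𝔮) (h c))) :
    Smoothing.Resolvable (R ⧸ K) φK (𝔮.map (Ideal.Quotient.mk (K.map (algebraMap R Λ)))) := by
  classical
  let L := Localization.AtPrime 𝔮
  let Ab := Cc ⧸ K.map (algebraMap R Cc)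
  letI : CommRing Ab := Ideal.Quotient.commRing _
  let Λb := Λ ⧸ K.map (algebraMap R Λ)
  letI : CommRing Λb := Ideal.Quotient.commRing _
  haveI : Algebra.FiniteType (R ⧸ K) Ab := Algebra.FiniteType.of_restrictScalars_finiteType R (R ⧸ K) Ab
  haveI : Algebra.FinitePresentation (R ⧸ K) Ab := Algebra.FinitePresentation.of_finiteType.1 inferInstance
  let qb := 𝔮.map (Ideal.Quotient.mk (K.map (algebraMap R Λ)))
  haveI hqb : qb.IsPrime := Ideal.map_isPrime_of_surjective Ideal.Quotient.mk_surjective (by rw [Ideal.mk_ker]; exact hK𝔮)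
  have hqbmem : ∀ z, Ideal.Quotient.mk (K.map (algebraMap R Λ)) z ∈ qb ↔ z ∈ 𝔮 := fun z =>
    Ideal.mem_quotient_iff_mem hK𝔮
  by_cases hle : Smoothing.singRad (R ⧸ K) φK ≤ qb
  swap
  · exact ⟨Ab, inferInstance, inferInstance, inferInstance, AlgHom.id _ _, φK, AlgHom.comp_id _, le_rfl, hle⟩
  have hminb : qb ∈ (Smoothing.singRad (R ⧸ K) φK).minimalPrimes := by
    refine ⟨⟨hqb, hle⟩, fun P hP hPq => ?_⟩
    haveI := hP.1
    have h1 : 𝔮 ≤ P.comap (Ideal.Quotient.mk _) := by
      refine hminC _ (Ideal.comap_isPrime _ _) ?_ (fun x hx => (hqbmem x).1 (hPq hx))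
      rw [Ideal.map_le_iff_le_comap]
      intro x hx
      refine hP.2 (Ideal.le_radical ?_)
      have h2 : Ideal.Quotient.mk _ x ∈ Smoothing.singularIdeal (R ⧸ K) Ab := singularIdeal_quotient K hx
      have h3 := Ideal.mem_map_of_mem φK h2
      rwa [hφK] at h3
    exact Ideal.map_le_iff_le_comap.2 h1
  -- the localizations of the quotients
  let 𝔭 := 𝔮.comap (algebraMap R Λ)
  have hK𝔭 : K ≤ 𝔭 := Ideal.map_le_iff_le_comap.1 hK𝔮
  let Rq := Tp ⧸ K.map (algebraMap R Tp)
  letI : CommRing Rq := Ideal.Quotient.commRing _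
  let pb := qb.comap (algebraMap (R ⧸ K) Λb)
  have hpb : ∀ z, Ideal.Quotient.mk K z ∈ pb ↔ z ∈ 𝔭 := fun z => hqbmem (algebraMap R Λ z)
  haveI : IsLocalization.AtPrime Rq pb := by
    have h1 : IsLocalization (𝔭.primeCompl.map (Ideal.Quotient.mk K)) Rq :=
      IsLocalization.of_surjective 𝔭.primeCompl Tp _ Ideal.Quotient.mk_surjective (Ideal.Quotient.mk _)
        Ideal.Quotient.mk_surjective rfl (by rw [Ideal.mk_ker, Ideal.mk_ker])
    convert! h1 using 1
    ext z
    constructor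
    · intro hz
      obtain ⟨z, rfl⟩ := Ideal.Quotient.mk_surjective z
      exact ⟨z, fun h => hz ((hpb z).2 h), rfl⟩
    · rintro ⟨z, hz, rfl⟩ h
      exact hz ((hpb z).1 h)
  let Lq := L ⧸ K.map (algebraMap R L)
  letI : CommRing Lq := Ideal.Quotient.commRing _
  let gL : Λb →+* Lq := Ideal.Quotient.lift _ ((Ideal.Quotient.mk _).comp (algebraMap Λ L)) fun x hx => by
    refine Ideal.Quotient.eq_zero_iff_mem.2 ?_
    rw [IsScalarTower.algebraMap_eq R Λ L, ← Ideal.map_map]
    exact Ideal.mem_map_of_mem _ hx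
  letI : Algebra Λb Lq := gL.toAlgebra
  haveI : IsScalarTower (R ⧸ K) Λb Lq := IsScalarTower.of_algebraMap_eq fun x => by
    obtain ⟨x, rfl⟩ := Ideal.Quotient.mk_surjective x
    show Ideal.Quotient.mk _ (algebraMap R L x) = Ideal.Quotient.mk _ (algebraMap Λ L (algebraMap R Λ x))
    rw [← IsScalarTower.algebraMap_apply]
  haveI : IsLocalization.AtPrime Lq qb := by
    have h1 : IsLocalization (𝔮.primeCompl.map (Ideal.Quotient.mk (K.map (algebraMap R Λ)))) Lq :=
      IsLocalization.of_surjective 𝔮.primeCompl L _ Ideal.Quotient.mk_surjective (Ideal.Quotient.mk _)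
        Ideal.Quotient.mk_surjective rfl (by
          rw [Ideal.mk_ker, Ideal.mk_ker, IsScalarTower.algebraMap_eq R Λ L, ← Ideal.map_map])
    convert! h1 using 1
    ext z
    constructor
    · intro hz
      obtain ⟨z, rfl⟩ := Ideal.Quotient.mk_surjective z
      exact ⟨z, fun h => hz ((hqbmem z).2 h), rfl⟩
    · rintro ⟨z, hz, rfl⟩ h
      exact hz ((hqbmem z).1 h)
  let gT : Rq →+* Lq := Ideal.Quotient.lift _ ((Ideal.Quotient.mk _).comp hT) fun x hx => by
    refine Ideal.Quotient.eq_zero_iff_mem.2 ?_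
    have h1 := Ideal.mem_map_of_mem hT hx
    rw [Ideal.map_map, show hT.comp (algebraMap R Tp) = algebraMap R L from RingHom.ext fun x =>
      (hTc x).trans (IsScalarTower.algebraMap_apply R Λ L x).symm] at h1
    exact h1
  letI : Algebra Rq Lq := gT.toAlgebra
  haveI : IsScalarTower (R ⧸ K) Rq Lq := IsScalarTower.of_algebraMap_eq fun x => by
    obtain ⟨x, rfl⟩ := Ideal.Quotient.mk_surjective x
    show Ideal.Quotient.mk _ (algebraMap R L x) = Ideal.Quotient.mk _ (hT (algebraMap R Tp x))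
    rw [hTc, ← IsScalarTower.algebraMap_apply]
  haveI : IsLocalRing Lq := IsLocalization.AtPrime.isLocalRing Lq qb
  have hdim : ringKrullDim Lq = 0 := by
    haveI : Ring.KrullDimLE 0 Lq := Ring.KrullDimLE.mk₀ fun P hP => by
      let Q := P.comap ((Ideal.Quotient.mk _).comp (algebraMap Λ L))
      have hQq : Q ≤ 𝔮 := fun z hz => by
        by_contra hzq
        exact hP.ne_top (Ideal.eq_top_of_isUnit_mem _ hz
          ((IsLocalization.map_units L (⟨z, hzq⟩ : 𝔮.primeCompl)).map (Ideal.Quotient.mk _)))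
      have hQK : K.map (algebraMap R Λ) ≤ Q := fun z hz => by
        show Ideal.Quotient.mk _ (algebraMap Λ L z) ∈ P
        rw [Ideal.Quotient.eq_zero_iff_mem.2 (by
          rw [IsScalarTower.algebraMap_eq R Λ L, ← Ideal.map_map]; exact Ideal.mem_map_of_mem _ hz)]
        exact zero_mem _
      have hqQ := hprim Q (Ideal.comap_isPrime _ _) hQK hQq
      have h1 : IsLocalRing.maximalIdeal Lq ≤ P := by
        rw [← IsLocalization.AtPrime.map_eq_maximalIdeal qb Lq, Ideal.map_le_iff_le_comap]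
        intro z hz
        obtain ⟨z, rfl⟩ := Ideal.Quotient.mk_surjective z
        exact hqQ ((hqbmem z).1 hz)
      rw [← (IsLocalRing.maximalIdeal.isMaximal Lq).eq_of_le hP.ne_top h1]
      exact IsLocalRing.maximalIdeal.isMaximal Lq
    exact ringKrullDimZero_iff_ringKrullDim_eq_zero.1 inferInstance
  -- the smooth algebra
  letI : Algebra (R ⧸ K) B := ((algebraMap Rq B).comp (algebraMap (R ⧸ K) Rq)).toAlgebra
  haveI : IsScalarTower (R ⧸ K) Rq B := IsScalarTower.of_algebraMap_eq fun _ => rfl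
  let gA : Ab →ₐ[R ⧸ K] B :=
    { Ideal.Quotient.lift _ g (fun c hc => by
        have h1 := Ideal.mem_map_of_mem g hc
        rw [Ideal.map_map, show g.comp (algebraMap R Cc) =
          ((algebraMap Rq B).comp (Ideal.Quotient.mk _)).comp (algebraMap R Tp) from RingHom.ext hg,
          ← Ideal.map_map, ← Ideal.map_map] at h1
        rwa [show (K.map (algebraMap R Tp)).map (Ideal.Quotient.mk (K.map (algebraMap R Tp))) = ⊥ from
          Ideal.map_quotient_self _, Ideal.map_bot, Ideal.mem_bot] at h1) with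
      commutes' := fun x => by
        obtain ⟨x, rfl⟩ := Ideal.Quotient.mk_surjective x
        exact hg x }
  let gq : Rq ⊗[R ⧸ K] Ab →ₐ[Rq] B := Algebra.TensorProduct.lift (Algebra.ofId Rq B) gA fun _ _ => Commute.all _ _
  let hq : B →ₐ[Rq] Lq := ⟨hB, fun z => by obtain ⟨z, rfl⟩ := Ideal.Quotient.mk_surjective z; exact hBT z⟩
  let f₁ : Rq ⊗[R ⧸ K] Ab →ₐ[Rq] Lq := Algebra.TensorProduct.lift (Algebra.ofId Rq Lq)
    ((IsScalarTower.toAlgHom (R ⧸ K) Λb Lq).comp φK) (fun _ _ => Commute.all _ _)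
  have hcomp : hq.comp gq = f₁ := by
    refine AlgHom.ext fun z => ?_
    induction z using TensorProduct.induction_on with
    | zero => simp
    | add a b ha hb => simp only [map_add, ha, hb]
    | tmul a b =>
      obtain ⟨b, rfl⟩ := Ideal.Quotient.mk_surjective b
      simp only [AlgHom.comp_apply, gq, f₁, Algebra.TensorProduct.lift_tmul, map_mul, Algebra.ofId_apply, AlgHom.commutes]
      congr 1
      show hB (g b) = gL (φK (Ideal.Quotient.mk _ b))
      rw [hφK, hBg]
      rfl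
  have hresL : Smoothing.Resolvable Rq (A := Rq ⊗[R ⧸ K] Ab) (Λ := Lq) f₁ (qb.map (algebraMap Λb Lq)) := by
    have htop : Smoothing.singRad Rq hq = ⊤ := by
      rw [Smoothing.singRad, RegRes.singularIdeal_eq_top, Ideal.map_top, Ideal.radical_top]
    refine ⟨B, inferInstance, inferInstance, Algebra.Smooth.finitePresentation, gq, hq, hcomp, by rw [htop]; exact le_top, ?_⟩
    rw [htop, IsLocalization.AtPrime.map_eq_maximalIdeal qb Lq, top_le_iff]
    exact (IsLocalRing.maximalIdeal.isMaximal Lq).ne_top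
  obtain ⟨C₁, _, _, hC₁, g₁, h₁, hgh₁, hnot₁⟩ := exists_descend_at_prime φK qb hresL
  refine resolvable_of_descend φK qb (fun x hx => ?_) C₁ g₁ h₁ hgh₁ hnot₁
  exact exists_pow_kill (Λq := Lq) qb hdim (hminb.1.2 (Ideal.le_radical (Ideal.mem_map_of_mem φK hx)))

/-- Stability passes to powers. -/
theorem stable_pow {B : Type*} [CommRing B] (a : Ideal B) (y : B) (h : ∀ x, y ^ 2 * x ∈ a → y * x ∈ a) {M : ℕ}
    (hM : 0 < M) {x : B} (hx : (y ^ M) ^ 2 * x ∈ a) : y ^ M * x ∈ a := by
  have hst : ∀ (m : ℕ) x, y ^ (m + 1) * x ∈ a → y * x ∈ a := by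
    intro m
    induction m with
    | zero => intro x hx; rwa [pow_one] at hx
    | succ m ih =>
      intro x hx
      refine h x ?_
      have h1 := ih (y * x) (by rwa [← mul_assoc, ← pow_succ])
      rwa [pow_two, mul_assoc]
  have h3 := hst (M * 2 - 1) x (by rwa [← pow_mul, show M * 2 = M * 2 - 1 + 1 by omega] at hx)
  rw [show M = (M - 1) + 1 by omega, pow_succ, mul_assoc]
  exact Ideal.mul_mem_left _ _ h3

end Groth.Agent.SmoothingLib.GeomDiff
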