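import Groth.Agent.SmoothingLib.RegularPowers
import Groth.Agent.GeomReg.Basic
import Mathlib

/-!
# Stable parameters on a smooth base
-/

set_option autoImplicit false
set_option linter.style.haveILetI false

universe u

open IsLocalRing

namespace Groth.Agent.SmoothingLib.GeomDiff

/-- Multiples of a suitable element outside a prime make an element stable modulo an ideal. -/
theorem exists_stable_multiplier {Λ : Type u} [CommRing Λ] [IsNoetherianRing Λ] (q a : Ideal Λ) [q.IsPrime] (y : Λ)
    (hnzd : ∀ x : Localization.AtPrime q, algebraMap Λ _ y * x ∈ a.map (algebraMap Λ (Localization.AtPrime q)) →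
      x ∈ a.map (algebraMap Λ (Localization.AtPrime q))) :
    ∃ u, u ∉ q ∧ ∀ c, ∃ K₀, ∀ K, K₀ ≤ K →
      ∀ x, ((u * c) ^ (K + 1) * y) ^ 2 * x ∈ a → (u * c) ^ (K + 1) * y * x ∈ a := by
  classical
  let B := Localization.AtPrime q
  let colon : Λ → Ideal Λ := fun c => Submodule.comap (LinearMap.mulLeft Λ c) a
  have hcolon : ∀ c x, x ∈ colon c ↔ c * x ∈ a := fun c x => Iff.rfl
  have hmono : ∀ c, Monotone fun k => colon (c ^ k) := fun c k l hkl x hx => by
    rw [hcolon, show c ^ l = c ^ (l - k) * c ^ k by rw [← pow_add, Nat.sub_add_cancel hkl], mul_assoc]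
    exact a.mul_mem_left _ hx
  have stab : ∀ c, ∃ K, ∀ k, K ≤ k → colon (c ^ K) = colon (c ^ k) := fun c =>
    monotone_stabilizes_iff_noetherian.2 inferInstance ⟨fun k => colon (c ^ k), hmono c⟩
  obtain ⟨k₀, hk₀⟩ := stab y
  have hloc : ∀ g ∈ colon (y ^ k₀), ∃ u, u ∉ q ∧ u * g ∈ a := fun g hg => by
    have h1 : ∀ k : ℕ, algebraMap Λ B y ^ k * algebraMap Λ B g ∈ a.map (algebraMap Λ B) →
        algebraMap Λ B g ∈ a.map (algebraMap Λ B) := by
      intro k
      induction k with
      | zero => simp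
      | succ k ih => intro h; rw [pow_succ', mul_assoc] at h; exact ih (hnzd _ h)
    obtain ⟨u, hu, hug⟩ := (IsLocalization.algebraMap_mem_map_algebraMap_iff q.primeCompl B a g).1
      (h1 k₀ (by rw [← map_pow, ← map_mul]; exact Ideal.mem_map_of_mem _ hg))
    exact ⟨u, hu, hug⟩
  obtain ⟨n, g, hg⟩ := Submodule.fg_iff_exists_fin_generating_family.1 (IsNoetherian.noetherian (colon (y ^ k₀)))
  choose u hu hug using fun i => hloc (g i) (hg ▸ Submodule.subset_span ⟨i, rfl⟩)
  have hs₀ : ∀ x ∈ colon (y ^ k₀), (∏ i, u i) * x ∈ a := fun x hx => by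
    have hle : colon (y ^ k₀) ≤ colon (∏ i, u i) := by
      rw [← hg, Submodule.span_le]
      rintro _ ⟨i, rfl⟩
      rw [SetLike.mem_coe, hcolon, ← Finset.prod_erase_mul _ _ (Finset.mem_univ i), mul_assoc]
      exact a.mul_mem_left _ (hug i)
    exact hle hx
  refine ⟨∏ i, u i, fun h => (q.primeCompl.prod_mem (fun i _ => hu i)) h, fun c => ?_⟩
  obtain ⟨K₀, hK₀⟩ := stab ((∏ i, u i) * c)
  refine ⟨K₀, fun K hK x hx => ?_⟩
  set s₁ := (∏ i, u i) * c with hs₁
  have h2 : (s₁ ^ (K + 1)) ^ 2 * x ∈ colon (y ^ k₀) := by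
    rw [hk₀ (max k₀ 2) (le_max_left _ _)]
    refine hmono y (le_max_right k₀ 2) ?_
    rw [hcolon, ← mul_assoc, ← mul_pow, mul_comm y]
    exact hx
  have h3 : x ∈ colon (s₁ ^ (1 + 2 * (K + 1))) := by
    rw [hcolon, pow_add, pow_one, mul_assoc, pow_mul', hs₁, mul_comm (∏ i, u i) c, mul_assoc]
    rw [mul_comm (∏ i, u i) c] at hs₁
    rw [← hs₁]
    exact a.mul_mem_left _ (hs₀ _ h2)
  rw [← hK₀ _ (by omega), hK₀ (K + 1) (by omega), hcolon] at h3
  rw [mul_right_comm]
  exact a.mul_mem_right _ h3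

/-- Elements mapping to parameters of a regular local ring are regular modulo powers of earlier ones. -/
theorem mem_span_pow_of_map {B L : Type u} [CommRing B] [IsRegularLocalRing B] [CommRing L] [IsRegularLocalRing L]
    (h : B →+* L) [IsLocalHom h] {d e : ℕ} (he : 0 < e) (hd : ringKrullDim L = d) (v : Fin d → B)
    (hv : Ideal.span (Set.range fun i => h (v i)) = maximalIdeal L) (i : Fin d) (x : B)
    (hx : v i * x ∈ Ideal.span (Set.range fun j : {j : Fin d // (j : ℕ) < (i : ℕ)} => v j ^ e)) :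
    x ∈ Ideal.span (Set.range fun j : {j : Fin d // (j : ℕ) < (i : ℕ)} => v j ^ e) := by
  classical
  have hvm : ∀ j, v j ∈ maximalIdeal B := fun j => by
    rw [IsLocalRing.mem_maximalIdeal]
    intro hu
    exact (maximalIdeal.isMaximal L).ne_top (Ideal.eq_top_of_isUnit_mem _ (hv ▸ Ideal.subset_span ⟨j, rfl⟩) (hu.map h))
  have hhv : ∀ j, h (v j) ∈ maximalIdeal L := fun j => hv ▸ Ideal.subset_span ⟨j, rfl⟩
  let w : Fin d → CotangentSpace L := fun j => (maximalIdeal L).toCotangent ⟨h (v j), hhv j⟩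
  have hwli : LinearIndependent (ResidueField L) w := by
    refine linearIndependent_of_top_le_span_of_card_eq_finrank ?_ ?_
    · rw [show Set.range w = (maximalIdeal L).toCotangent ''
          Set.range (fun j => (⟨h (v j), hhv j⟩ : maximalIdeal L)) from Set.range_comp _ _,
        IsLocalRing.CotangentSpace.span_image_eq_top_iff.2]
      apply Submodule.map_injective_of_injective (maximalIdeal L).injective_subtype
      rw [Submodule.map_top, Submodule.range_subtype, Submodule.map_span, ← Set.range_comp]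
      exact hv
    · rw [← spanFinrank_maximalIdeal_eq_finrank_cotangentSpace, CAlgGlobalDim.spanFinrank_eq_of_dim L d hd,
        Fintype.card_fin]
  let z : Fin d → CotangentSpace B := fun j => (maximalIdeal B).toCotangent ⟨v j, hvm j⟩
  have hzli : LinearIndependent (ResidueField B) z := by
    rw [Fintype.linearIndependent_iff]
    intro c hc j
    choose c' hc' using fun l => residue_surjective (R := B) (c l)
    have hsum : ∑ l, c' l * v l ∈ maximalIdeal B ^ 2 := by
      have h0 : (maximalIdeal B).toCotangent (∑ l, c' l • (⟨v l, hvm l⟩ : maximalIdeal B)) = 0 := by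
        rw [map_sum, ← hc]
        refine Finset.sum_congr rfl fun l _ => ?_
        rw [map_smul, ← hc' l, ← ResidueField.algebraMap_eq, algebraMap_smul]
      simpa using (Ideal.toCotangent_eq_zero _ _).1 h0
    have hsum' : ∑ l, h (c' l) * h (v l) ∈ maximalIdeal L ^ 2 := by
      have h1 := Ideal.mem_map_of_mem h hsum
      rw [Ideal.map_pow, map_sum] at h1
      simp only [map_mul] at h1
      exact Ideal.pow_right_mono (((IsLocalRing.local_hom_TFAE h).out 0 2).1 ‹IsLocalHom h›) 2 h1
    have h2 : ∑ l, residue L (h (c' l)) • w l = 0 := by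
      have h0 := (Ideal.toCotangent_eq_zero (maximalIdeal L) (∑ l, h (c' l) • (⟨h (v l), hhv l⟩ : maximalIdeal L))).2
        (by simpa using hsum')
      rw [map_sum] at h0
      rw [← h0]
      refine Finset.sum_congr rfl fun l _ => ?_
      rw [map_smul, ← ResidueField.algebraMap_eq, algebraMap_smul]
    have h3 := Fintype.linearIndependent_iff.1 hwli _ h2 j
    rw [← hc' j, residue_eq_zero_iff, IsLocalRing.mem_maximalIdeal]
    intro hu
    exact (residue_eq_zero_iff _).1 h3 (hu.map h)
  -- complete to generators of the maximal ideal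
  let b := Module.Basis.extend hzli.linearIndepOn_id
  haveI : Finite (hzli.linearIndepOn_id.extend (Set.subset_univ _)) := Module.Finite.finite_basis b
  let T := hzli.linearIndepOn_id.extend (Set.subset_univ (Set.range z))
  let O := (T \ Set.range z : Set (CotangentSpace B))
  haveI : Finite O := Set.Finite.to_subtype ((Set.toFinite T).sdiff)
  haveI : Fintype O := Fintype.ofFinite O
  choose o ho using fun w : O => (maximalIdeal B).toCotangent_surjective (w : CotangentSpace B)
  let eO := Fintype.equivFin O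
  let y : Fin (d + Fintype.card O) → B := Fin.addCases v fun l => (o (eO.symm l) : B)
  have hyspan : Ideal.span (Set.range y) = maximalIdeal B := by
    let ys : Fin (d + Fintype.card O) → maximalIdeal B :=
      Fin.addCases (fun j => ⟨v j, hvm j⟩) fun l => o (eO.symm l)
    have hys : y = fun l => (ys l : B) := funext fun l => by
      refine Fin.addCases (fun j => ?_) (fun j => ?_) l <;> simp [y, ys]
    have h1 : Submodule.span (ResidueField B) ((maximalIdeal B).toCotangent '' Set.range ys) = ⊤ := by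
      rw [eq_top_iff, ← b.span_eq, Submodule.span_le, Module.Basis.range_extend]
      intro w hw
      by_cases hwz : w ∈ Set.range z
      · obtain ⟨j, rfl⟩ := hwz
        exact Submodule.subset_span ⟨_, ⟨Fin.castAdd _ j, rfl⟩, by simp [ys, z]⟩
      · refine Submodule.subset_span ⟨_, ⟨Fin.natAdd _ (eO ⟨w, hw, hwz⟩), rfl⟩, ?_⟩
        simp [ys, ho]
    have h2 := congrArg (Submodule.map (maximalIdeal B).subtype) (IsLocalRing.CotangentSpace.span_image_eq_top_iff.1 h1)
    rw [Submodule.map_span, Submodule.map_top, Submodule.range_subtype, ← Set.range_comp] at h2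
    rw [hys]
    exact h2
  have hdimB : ringKrullDim B = ((d + Fintype.card O : ℕ) : ℕ) := by
    rw [← IsRegularLocalRing.spanFinrank_maximalIdeal (R := B), spanFinrank_maximalIdeal_eq_finrank_cotangentSpace]
    congr 1
    rw [Module.finrank_eq_nat_card_basis b, Nat.card_coe_set_eq,
      ← Set.ncard_diff_add_ncard_of_subset (hzli.linearIndepOn_id.subset_extend _) (Set.toFinite T),
      Set.ncard_range_of_injective hzli.injective, Nat.card_fin, ← Nat.card_coe_set_eq, Nat.card_eq_fintype_card, add_comm]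
  have hset : (Set.range fun j : {j : Fin (d + Fintype.card O) // (j : ℕ) < ((Fin.castAdd _ i : Fin (d + Fintype.card O)) : ℕ)} => y j ^ e) =
      Set.range fun j : {j : Fin d // (j : ℕ) < (i : ℕ)} => v j ^ e := by
    ext w
    constructor
    · rintro ⟨⟨j, hj⟩, rfl⟩
      simp only [Fin.coe_castAdd] at hj
      have hjd : (j : ℕ) < d := lt_trans hj i.2
      refine ⟨⟨⟨j, hjd⟩, hj⟩, ?_⟩
      exact congrArg (· ^ e) (Fin.addCases_left (motive := fun _ => B) (left := v)
        (right := fun l => (o (eO.symm l) : B)) (⟨j, hjd⟩ : Fin d)).symm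
    · rintro ⟨⟨j, hj⟩, rfl⟩
      exact ⟨⟨Fin.castAdd _ j, by simpa using hj⟩, by simp [y]⟩
  have hmain := mem_span_pow_of_mul_mem he hdimB y hyspan (Fin.castAdd _ i) x
  rw [hset] at hmain
  exact hmain (by simpa [y] using hx)

/-- Stable multipliers in a regular ring mapping to parameters of a regular local ring. -/
theorem exists_stable_multiplier_of_map {B L : Type u} [CommRing B] [IsRegularRing B] [CommRing L]
    [IsRegularLocalRing L] (h : B →+* L) {d e : ℕ} (he : 0 < e) (hd : ringKrullDim L = d) (v : Fin d → B)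
    (hv : Ideal.span (Set.range fun i => h (v i)) = maximalIdeal L) (i : Fin d) :
    ∃ u, IsUnit (h u) ∧ ∀ c, ∃ K₀, ∀ K, K₀ ≤ K → ∀ x,
      ((u * c) ^ (K + 1) * v i) ^ 2 * x ∈ Ideal.span (Set.range fun j : {j : Fin d // (j : ℕ) < (i : ℕ)} => v j ^ e) →
      (u * c) ^ (K + 1) * v i * x ∈ Ideal.span (Set.range fun j : {j : Fin d // (j : ℕ) < (i : ℕ)} => v j ^ e) := by
  haveI : IsNoetherianRing B := inferInstance
  let 𝔭 : Ideal B := (maximalIdeal L).comap h
  let B' := Localization.AtPrime 𝔭
  let h' : B' →+* L := IsLocalization.lift (M := 𝔭.primeCompl) (g := h) fun b => by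
    by_contra hb
    exact b.2 ((IsLocalRing.mem_maximalIdeal _).2 hb)
  have hh' : ∀ b, h' (algebraMap B B' b) = h b := fun b => IsLocalization.lift_eq _ b
  haveI : IsLocalHom h' := by
    refine ⟨fun b hb => ?_⟩
    obtain ⟨⟨r, m⟩, rfl⟩ := IsLocalization.mk'_surjective 𝔭.primeCompl b
    refine (IsLocalization.AtPrime.isUnit_mk'_iff B' 𝔭 r m).2 fun hr => ?_
    have h1 := congrArg h' (IsLocalization.mk'_spec B' r m)
    rw [map_mul, hh', hh'] at h1
    refine (IsLocalRing.mem_maximalIdeal _).1 hr (h1 ▸ hb.mul ?_)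
    rw [← hh']
    exact (IsLocalization.map_units B' m).map h'
  obtain ⟨u, hu, hU⟩ := exists_stable_multiplier 𝔭
    (Ideal.span (Set.range fun j : {j : Fin d // (j : ℕ) < (i : ℕ)} => v j ^ e)) (v i) (by
      intro x hx
      have hmap : (Ideal.span (Set.range fun j : {j : Fin d // (j : ℕ) < (i : ℕ)} => v j ^ e)).map (algebraMap B B') =
          Ideal.span (Set.range fun j : {j : Fin d // (j : ℕ) < (i : ℕ)} => (algebraMap B B' (v j)) ^ e) := by
        rw [Ideal.map_span, ← Set.range_comp]
        simp only [Function.comp_def, map_pow]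
      rw [hmap] at hx ⊢
      have hv' : Ideal.span (Set.range fun j => h' (algebraMap B B' (v j))) = maximalIdeal L := by simpa only [hh'] using hv
      haveI : IsRegularLocalRing B' := IsRegularRing.isRegularLocalRing_localization 𝔭
      have hgoal := mem_span_pow_of_map h' he hd (fun j => algebraMap B B' (v j)) hv' i x
      exact hgoal hx)
  refine ⟨u, ?_, hU⟩
  by_contra hu'
  exact hu ((IsLocalRing.mem_maximalIdeal _).2 hu')

set_option maxHeartbeats 1000000 in
/-- Multiply parameters by units to make them stable, on a smooth base and on the target. -/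
theorem exists_stable_base {k Λ R₀ : Type u} [Field k] [CommRing Λ] [Algebra k Λ] [IsNoetherianRing Λ]
    (𝔮 : Ideal Λ) [𝔮.IsPrime] [IsRegularLocalRing (Localization.AtPrime 𝔮)] {d : ℕ}
    (hd : ringKrullDim (Localization.AtPrime 𝔮) = d) [CommRing R₀] [Algebra k R₀] [Algebra.Smooth k R₀]
    (δ₀ : R₀ →ₐ[k] Λ) (θ : Fin d → R₀)
    (hθ : Ideal.span (Set.range fun i => algebraMap Λ (Localization.AtPrime 𝔮) (δ₀ (θ i))) =
      maximalIdeal (Localization.AtPrime 𝔮))
    (t : Fin d → Λ) (ht : ∀ i, t i ∉ 𝔮) (e : ℕ) (he : 0 < e) :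
    ∃ (R' : Type u) (_ : CommRing R') (_ : Algebra k R'), Algebra.Smooth k R' ∧
      ∃ (ι : R₀ →ₐ[k] R') (δ : R' →ₐ[k] Λ), δ.comp ι = δ₀ ∧ ∃ s : Fin d → R',
        (∀ i, δ (s i) ∉ 𝔮 ∧ t i ∣ δ (s i)) ∧
        (∀ i : Fin d, ∀ x, (s i * ι (θ i)) ^ 2 * x ∈ Ideal.span (Set.range fun j : {j : Fin d // (j : ℕ) < (i : ℕ)} => (s j * ι (θ j)) ^ e) →
          s i * ι (θ i) * x ∈ Ideal.span (Set.range fun j : {j : Fin d // (j : ℕ) < (i : ℕ)} => (s j * ι (θ j)) ^ e)) ∧
        ∀ i : Fin d, ∀ x, δ (s i * ι (θ i)) ^ 2 * x ∈ Ideal.span (Set.range fun j : {j : Fin d // (j : ℕ) < (i : ℕ)} => δ (s j * ι (θ j)) ^ e) →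
          δ (s i * ι (θ i)) * x ∈ Ideal.span (Set.range fun j : {j : Fin d // (j : ℕ) < (i : ℕ)} => δ (s j * ι (θ j)) ^ e) := by
  classical
  let L := Localization.AtPrime 𝔮
  have key : ∀ l : ℕ, l ≤ d → ∃ (R' : Type u) (_ : CommRing R') (_ : Algebra k R'), Algebra.Smooth k R' ∧
      ∃ (ι : R₀ →ₐ[k] R') (δ : R' →ₐ[k] Λ), δ.comp ι = δ₀ ∧ ∃ s : Fin d → R',
        (∀ i : Fin d, δ (s i) ∉ 𝔮) ∧ ∀ i : Fin d, (i : ℕ) < l → t i ∣ δ (s i) ∧
          (∀ x, (s i * ι (θ i)) ^ 2 * x ∈ Ideal.span (Set.range fun j : {j : Fin d // (j : ℕ) < (i : ℕ)} => (s j * ι (θ j)) ^ e) →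
            s i * ι (θ i) * x ∈ Ideal.span (Set.range fun j : {j : Fin d // (j : ℕ) < (i : ℕ)} => (s j * ι (θ j)) ^ e)) ∧
          ∀ x, δ (s i * ι (θ i)) ^ 2 * x ∈ Ideal.span (Set.range fun j : {j : Fin d // (j : ℕ) < (i : ℕ)} => δ (s j * ι (θ j)) ^ e) →
            δ (s i * ι (θ i)) * x ∈ Ideal.span (Set.range fun j : {j : Fin d // (j : ℕ) < (i : ℕ)} => δ (s j * ι (θ j)) ^ e) := by
    intro l
    induction l with
    | zero =>
      intro _
      refine ⟨R₀, inferInstance, inferInstance, inferInstance, AlgHom.id k R₀, δ₀, δ₀.comp_id, fun _ => 1,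
        fun i => ?_, fun i hi => absurd hi (Nat.not_lt_zero _)⟩
      show δ₀ 1 ∉ 𝔮
      rw [map_one]
      exact fun h => Ideal.IsPrime.ne_top ‹_› ((Ideal.eq_top_iff_one _).2 h)
    | succ l ih =>
      intro hl
      obtain ⟨Rl, _, _, hsm, ι, δ, hδι, s, hs, hst⟩ := ih (by omega)
      haveI := hsm
      let i₀ : Fin d := ⟨l, by omega⟩
      have hδθ : ∀ i, δ (ι (θ i)) = δ₀ (θ i) := fun i => AlgHom.congr_fun hδι _
      have hassoc : ∀ j, algebraMap Λ L (δ (s j * ι (θ j))) = algebraMap Λ L (δ (s j)) * algebraMap Λ L (δ₀ (θ j)) :=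
        fun j => by rw [map_mul, map_mul, hδθ]
      -- the parameters with the multipliers found so far
      let v : Fin d → Rl := fun j => if (j : ℕ) < l then s j * ι (θ j) else ι (θ j)
      have hvspan : Ideal.span (Set.range fun j => algebraMap Λ L (δ (v j))) = maximalIdeal L := by
        rw [← hθ]
        refine le_antisymm (Ideal.span_le.2 ?_) (Ideal.span_le.2 ?_)
        · rintro _ ⟨j, rfl⟩
          by_cases hj : (j : ℕ) < l
          · simp only [v, if_pos hj, SetLike.mem_coe, hassoc]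
            exact Ideal.mul_mem_left _ _ (Ideal.subset_span ⟨j, rfl⟩)
          · simp only [v, if_neg hj, SetLike.mem_coe, hδθ]
            exact Ideal.subset_span ⟨j, rfl⟩
        · rintro _ ⟨j, rfl⟩
          by_cases hj : (j : ℕ) < l
          · refine (Ideal.unit_mul_mem_iff_mem _ (IsLocalization.map_units L (⟨δ (s j), hs j⟩ : 𝔮.primeCompl))).1 ?_
            rw [← hassoc]
            exact Ideal.subset_span ⟨j, by simp [v, hj]⟩
          · exact Ideal.subset_span ⟨j, by simp only [v, if_neg hj, hδθ]; rfl⟩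
      have hsetv : ∀ {β : Type u} (f : Rl → β), (Set.range fun j : {j : Fin d // (j : ℕ) < (i₀ : ℕ)} => f (v j)) =
          Set.range fun j : {j : Fin d // (j : ℕ) < (i₀ : ℕ)} => f (s j * ι (θ j)) := fun f =>
        congrArg Set.range (funext fun j => congrArg f (if_pos j.2))
      -- stability on the target
      obtain ⟨uΛ, huΛ, hUΛ⟩ := exists_stable_multiplier 𝔮
        (Ideal.span (Set.range fun j : {j : Fin d // (j : ℕ) < (i₀ : ℕ)} => δ (s j * ι (θ j)) ^ e)) (δ₀ (θ i₀)) (by
          intro x hx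
          have hmap : (Ideal.span (Set.range fun j : {j : Fin d // (j : ℕ) < (i₀ : ℕ)} => δ (s j * ι (θ j)) ^ e)).map (algebraMap Λ L) =
              Ideal.span (Set.range fun j : {j : Fin d // (j : ℕ) < (i₀ : ℕ)} => (algebraMap Λ L (δ (v j))) ^ e) := by
            rw [Ideal.map_span, ← Set.range_comp, hsetv (fun z => (algebraMap Λ L (δ z)) ^ e)]
            simp only [Function.comp_def, map_pow]
          rw [hmap] at hx ⊢
          refine mem_span_pow_of_mul_mem he hd _ hvspan i₀ x ?_
          rwa [show δ (v i₀) = δ₀ (θ i₀) by simp [v, i₀, hδθ]])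
      -- the new base
      letI R' := Polynomial Rl
      let δ' : R' →ₐ[k] Λ := AlgHom.mk (Polynomial.eval₂RingHom δ.toRingHom (uΛ * t i₀)) fun c => by
        show Polynomial.eval₂ δ.toRingHom (uΛ * t i₀) (Polynomial.C (algebraMap k Rl c)) = _
        rw [Polynomial.eval₂_C]
        exact δ.commutes c
      have hδ'C : ∀ z, δ' (Polynomial.C z) = δ z := fun z => Polynomial.eval₂_C _ _
      have hδ'X : δ' Polynomial.X = uΛ * t i₀ := Polynomial.eval₂_X _ _
      haveI : Algebra.Smooth Rl R' := ⟨inferInstance, inferInstance⟩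
      haveI : Algebra.Smooth k R' := Algebra.Smooth.comp k Rl R'
      haveI : IsRegularRing R' := GeomReg.isRegularRing_of_smooth k R'
      haveI : IsNoetherianRing R' := inferInstance
      obtain ⟨uR, huR', hUR⟩ := exists_stable_multiplier_of_map ((algebraMap Λ L).comp δ'.toRingHom) he hd
        (fun j => Polynomial.C (v j)) (by
          rw [← hvspan]
          refine congrArg _ (congrArg Set.range (funext fun j => ?_))
          exact congrArg (algebraMap Λ L) (hδ'C _)) i₀
      have huR : δ' uR ∉ 𝔮 := fun h => by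
        exact IsLocalization.AtPrime.isUnit_to_map_iff L 𝔮 _ |>.1 huR' h
      have hsetR : Ideal.span (Set.range fun j : {j : Fin d // (j : ℕ) < (i₀ : ℕ)} => (Polynomial.C (v j)) ^ e) =
          Ideal.span (Set.range fun j : {j : Fin d // (j : ℕ) < (i₀ : ℕ)} => Polynomial.C (s j * ι (θ j)) ^ e) :=
        congrArg Ideal.span (hsetv (fun z => (Polynomial.C z : R') ^ e))
      have hvi₀ : v i₀ = ι (θ i₀) := if_neg (lt_irrefl _)
      simp only [hsetR, hvi₀] at hUR
      obtain ⟨KΛ, hKΛ⟩ := hUΛ (δ' uR * t i₀)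
      obtain ⟨KR, hKR⟩ := hUR Polynomial.X
      let K := max KΛ KR
      let snew : R' := (uR * Polynomial.X) ^ (K + 1)
      have hδsnew : δ' snew = (uΛ * (δ' uR * t i₀)) ^ (K + 1) := by
        simp only [snew, map_pow, map_mul, hδ'X]; ring
      let s' : Fin d → R' := fun j => if j = i₀ then snew else Polynomial.C (s j)
      let ι' : R₀ →ₐ[k] R' := (IsScalarTower.toAlgHom k Rl R').comp ι
      have hι' : ∀ z, ι' z = Polynomial.C (ι z) := fun z => rfl
      have hlt : ∀ j : Fin d, (j : ℕ) < l → s' j = Polynomial.C (s j) := fun j hj =>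
        if_neg (fun h => (ne_of_lt hj) (congrArg Fin.val h))
      refine ⟨R', inferInstance, inferInstance, inferInstance, ι', δ', AlgHom.ext fun z => (hδ'C _).trans (AlgHom.congr_fun hδι z),
        s', fun j => ?_, fun i hi => ?_⟩
      · by_cases hj : j = i₀
        · simp only [s', if_pos hj, hδsnew]
          intro hmem
          have := Ideal.IsPrime.mem_of_pow_mem ‹𝔮.IsPrime› _ hmem
          rcases Ideal.IsPrime.mem_or_mem ‹𝔮.IsPrime› this with h | h
          · exact huΛ h
          · rcases Ideal.IsPrime.mem_or_mem ‹𝔮.IsPrime› h with h | h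
            · exact huR h
            · exact ht _ h
        · simp only [s', if_neg hj, hδ'C]
          exact hs j
      have hsetC : (fun j : {j : Fin d // (j : ℕ) < (i : ℕ)} => (s' j * ι' (θ j)) ^ e) =
          fun j : {j : Fin d // (j : ℕ) < (i : ℕ)} => Polynomial.C (s j * ι (θ j)) ^ e := funext fun j => by
        rw [hlt j (by have := j.2; omega), hι', map_mul]
      have hsetΛ : (fun j : {j : Fin d // (j : ℕ) < (i : ℕ)} => δ' (s' j * ι' (θ j)) ^ e) =
          fun j : {j : Fin d // (j : ℕ) < (i : ℕ)} => δ (s j * ι (θ j)) ^ e := funext fun j => by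
        rw [hlt j (by have := j.2; omega), hι', ← Polynomial.C_mul, hδ'C]
      rw [hsetC, hsetΛ]
      rcases eq_or_ne i i₀ with rfl | hne
      · simp only [s', if_pos rfl, hι']
        refine ⟨?_, fun x hx => hsetR ▸ hKR K (le_max_right _ _) x (hsetR.symm ▸ hx), fun x hx => ?_⟩
        · rw [hδsnew]
          exact dvd_pow (dvd_mul_of_dvd_right (dvd_mul_left _ _) _) (by omega)
        · rw [map_mul, hδsnew, hδ'C, hδθ] at hx ⊢
          exact hKΛ K (le_max_left _ _) x hx
      · have hil : (i : ℕ) < l := by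
          have : (i : ℕ) ≠ l := fun h => hne (Fin.ext h)
          omega
        obtain ⟨h1, h2, h3⟩ := hst i hil
        rw [hlt i hil, hι', ← Polynomial.C_mul, hδ'C, hδ'C]
        refine ⟨h1, fun x hx => ?_, h3⟩
        have hmapC : Ideal.span (Set.range fun j : {j : Fin d // (j : ℕ) < (i : ℕ)} => Polynomial.C (s j * ι (θ j)) ^ e) =
            (Ideal.span (Set.range fun j : {j : Fin d // (j : ℕ) < (i : ℕ)} => (s j * ι (θ j)) ^ e)).map Polynomial.C := by
          rw [Ideal.map_span, ← Set.range_comp]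
          simp only [Function.comp_def, map_pow]
        rw [hmapC, Ideal.mem_map_C_iff] at hx ⊢
        intro m
        have := hx m
        rw [← Polynomial.C_pow, Polynomial.coeff_C_mul] at this
        rw [Polynomial.coeff_C_mul]
        exact h2 _ this
  obtain ⟨R', _, _, hsm, ι, δ, hδι, s, hs, hst⟩ := key d le_rfl
  exact ⟨R', inferInstance, inferInstance, hsm, ι, δ, hδι, s, fun i => ⟨hs i, (hst i i.2).1⟩, fun i => (hst i i.2).2.1,
    fun i => (hst i i.2).2.2⟩

end Groth.Agent.SmoothingLib.GeomDiff
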