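import Groth.Agent.SmoothingLib.Conormal
import Mathlib.RingTheory.LocalRing.ResidueField.Basic
import Mathlib.LinearAlgebra.Matrix.Basis

/-!
# Linear algebra for Néron desingularisation
-/

universe u

namespace Groth.Agent.SmoothingLib.Neron

/-- Independent vectors over a field are part of the rows of an invertible matrix. -/
theorem exists_completion {F : Type*} [Field F] {ι σ : Type*} [Fintype ι] [Fintype σ] [DecidableEq σ]
    (u : ι → σ → F) (hu : LinearIndependent F u) :
    ∃ (s : ι ↪ σ) (M : Matrix σ σ F), M.det ≠ 0 ∧ ∀ i, M (s i) = u i := by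
  classical
  let v : ι ⊕ σ → (σ → F) := Sum.elim u fun l => Pi.single l 1
  have hli : LinearIndepOn F v (Set.range Sum.inl) := (linearIndepOn_range_iff Sum.inl_injective _).2 hu
  obtain ⟨b, -, hb, hspan, hbli⟩ := exists_linearIndepOn_extension hli (Set.subset_univ _)
  have htop : ⊤ ≤ Submodule.span F (Set.range fun x : b => v x) := by
    rw [← (Pi.basisFun F σ).span_eq, Submodule.span_le]
    rintro _ ⟨l, rfl⟩
    have h1 := hspan ⟨Sum.inr l, Set.mem_univ _, rfl⟩
    rw [Pi.basisFun_apply]
    rwa [show v '' b = Set.range (fun x : b => v x) from Set.image_eq_range _ _] at h1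
  let bb : Module.Basis b F (σ → F) := Module.Basis.mk hbli htop
  let e : σ ≃ b := (Pi.basisFun F σ).indexEquiv bb
  refine ⟨⟨fun i => e.symm ⟨Sum.inl i, hb ⟨i, rfl⟩⟩, fun i j h => by simpa using e.symm.injective h⟩,
    Matrix.of fun k => v (e k), ?_, fun i => ?_⟩
  · have h1 : LinearIndependent F (Matrix.of fun k => v (e k)).row := hbli.comp e e.injective
    rw [Matrix.linearIndependent_rows_iff_isUnit, Matrix.isUnit_iff_isUnit_det] at h1
    exact h1.ne_zero
  · show v (e (e.symm _)) = _
    rw [Equiv.apply_symm_apply]; rfl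

/-- Vectors over a local ring with independent residues are part of the rows of an invertible matrix. -/
theorem exists_completion_residue {Λ : Type*} [CommRing Λ] [IsLocalRing Λ] {ι σ : Type*} [Fintype ι] [Fintype σ]
    [DecidableEq σ] (u : ι → σ → Λ)
    (hu : LinearIndependent (IsLocalRing.ResidueField Λ) fun i l => IsLocalRing.residue Λ (u i l)) :
    ∃ (s : ι ↪ σ) (B : Matrix σ σ Λ), IsUnit B.det ∧ ∀ i, B (s i) = u i := by
  classical
  obtain ⟨s, M, hM, hMs⟩ := exists_completion _ hu
  choose g hg using fun k l => IsLocalRing.residue_surjective (R := Λ) (M k l)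
  let B : Matrix σ σ Λ := Matrix.of fun k => if h : ∃ i, s i = k then u h.choose else g k
  have hB : ∀ i, B (s i) = u i := fun i => by
    have h : ∃ j, s j = s i := ⟨i, rfl⟩
    show (if h : ∃ j, s j = s i then u h.choose else g (s i)) = _
    rw [dif_pos h, s.injective h.choose_spec]
  refine ⟨s, B, ?_, hB⟩
  have hBM : (IsLocalRing.residue Λ).mapMatrix B = M := by
    ext k l
    show IsLocalRing.residue Λ (B k l) = _
    by_cases h : ∃ i, s i = k
    · obtain ⟨i, rfl⟩ := h
      rw [hB, hMs]
    · show IsLocalRing.residue Λ ((if h : ∃ i, s i = k then u h.choose else g k) l) = _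
      rw [dif_neg h, hg]
  refine (isUnit_map_iff (IsLocalRing.residue Λ) B.det).1 (isUnit_iff_ne_zero.2 ?_)
  rw [RingHom.map_det, hBM]
  exact hM

/-- Rows outside a fixed set can be exchanged for rows of an invertible matrix without entering an ideal. -/
theorem exists_replace {Λ : Type*} [CommRing Λ] {σ : Type*} [Fintype σ] [DecidableEq σ] (B V : Matrix σ σ Λ)
    (hB : IsUnit B.det) (S : Finset σ) (I : Ideal Λ) (hV : V.det ∉ I) :
    ∃ (τ : σ → σ) (V' : Matrix σ σ Λ), Set.InjOn τ (Sᶜ : Finset σ) ∧ (∀ i ∈ S, V' i = V i) ∧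
      (∀ i ∉ S, V' i = B (τ i)) ∧ V'.det ∉ I := by
  classical
  have hstep : ∀ T : Finset σ, ∃ V' : Matrix σ σ Λ, (∀ i ∉ T, V' i = V i) ∧ (∀ i ∈ T, ∃ k, V' i = B k) ∧ V'.det ∉ I := by
    intro T
    induction T using Finset.induction with
    | empty => exact ⟨V, fun i _ => rfl, fun i hi => by simp at hi, hV⟩
    | insert i T hi ih =>
      obtain ⟨V', h1, h2, h3⟩ := ih
      let c := Matrix.vecMul (V' i) B⁻¹
      have hc : V' i = ∑ k, c k • B k := by
        funext l
        have h4 : Matrix.vecMul c B = V' i := by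
          simp only [c, Matrix.vecMul_vecMul, Matrix.nonsing_inv_mul B hB, Matrix.vecMul_one]
        conv_lhs => rw [← h4]
        simp [Matrix.vecMul, dotProduct, Finset.sum_apply]
      have h4 : ∃ k, (V'.updateRow i (B k)).det ∉ I := by
        by_contra hcon
        push_neg at hcon
        refine h3 ?_
        have h5 : V'.det = ∑ k, c k * (V'.updateRow i (B k)).det := by
          conv_lhs => rw [← Matrix.updateRow_eq_self V' i, hc]
          have h6 := (Matrix.detRowAlternating (n := σ) (R := Λ)).map_update_sum Finset.univ i (fun k => c k • B k) V'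
          refine h6.trans (Finset.sum_congr rfl fun k _ => ?_)
          exact (Matrix.detRowAlternating (n := σ) (R := Λ)).map_update_smul V' i (c k) (B k)
        rw [h5]
        exact Ideal.sum_mem _ fun k _ => I.mul_mem_left _ (hcon k)
      obtain ⟨k, hk⟩ := h4
      refine ⟨V'.updateRow i (B k), fun j hj => ?_, fun j hj => ?_, hk⟩
      · rw [Finset.mem_insert, not_or] at hj
        rw [Matrix.updateRow_ne hj.1, h1 j hj.2]
      · by_cases hji : j = i
        · exact ⟨k, by rw [hji, Matrix.updateRow_self]⟩
        · rw [Matrix.updateRow_ne hji]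
          exact h2 j ((Finset.mem_insert.1 hj).resolve_left hji)
  obtain ⟨V', h1, h2, h3⟩ := hstep Sᶜ
  choose! τ hτ using h2
  refine ⟨τ, V', fun i hi j hj hij => ?_, fun i hi => h1 i (by simpa using hi), fun i hi => hτ i (by simpa using hi), h3⟩
  by_contra hne
  refine h3 ?_
  rw [Matrix.det_zero_of_row_eq hne (by rw [hτ i hi, hτ j hj, hij])]
  exact zero_mem _

/-- A field homomorphism preserves independence of coordinate vectors. -/
theorem linearIndependent_map {K L : Type*} [Field K] [Field L] (f : K →+* L) {c n : ℕ} (u : Fin c → Fin n → K)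
    (hu : LinearIndependent K u) : LinearIndependent L fun i l => f (u i l) := by
  classical
  obtain ⟨cols, hcols⟩ := exists_minor_ne_zero (Matrix.of u) hu
  refine LinearIndependent.of_comp (LinearMap.funLeft L L cols) ?_
  have h1 : IsUnit (f.mapMatrix ((Matrix.of u).submatrix id cols)) := by
    rw [Matrix.isUnit_iff_isUnit_det, ← RingHom.map_det]
    exact (isUnit_iff_ne_zero.2 hcols).map f
  exact Matrix.linearIndependent_rows_iff_isUnit.2 h1

end Groth.Agent.SmoothingLib.Neron
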