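import Groth.Agent.SmoothingLib.NeronBlowup
import Groth.Agent.SmoothingLib.NeronLinAlg
import Mathlib.RingTheory.Localization.Module

/-!
# Regular parameters of a point of the closed fibre
-/

set_option linter.style.haveILetI false

universe u

open MvPolynomial

namespace Groth.Agent.SmoothingLib.Neron

variable {R Λ : Type u} [CommRing R] [CommRing Λ] [Algebra R Λ]

/-- The row of partial derivatives at a point. -/
noncomputable def jp {σ : Type*} (μ : σ → Λ) (p : MvPolynomial σ R) : σ → Λ := fun l => aeval μ (pderiv l p)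

theorem jp_zero {σ : Type*} (μ : σ → Λ) : jp μ (0 : MvPolynomial σ R) = 0 := by
  funext l; simp [jp]

theorem jp_add {σ : Type*} (μ : σ → Λ) (p q : MvPolynomial σ R) : jp μ (p + q) = jp μ p + jp μ q := by
  funext l; simp [jp]

theorem jp_sub {σ : Type*} (μ : σ → Λ) (p q : MvPolynomial σ R) : jp μ (p - q) = jp μ p - jp μ q := by
  funext l; simp [jp]

theorem jp_mul {σ : Type*} (μ : σ → Λ) (s p : MvPolynomial σ R) :
    jp μ (s * p) = aeval μ s • jp μ p + aeval μ p • jp μ s := by
  funext l; simp [jp, pderiv_mul]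

theorem jp_mul_of_zero {σ : Type*} (μ : σ → Λ) (s : MvPolynomial σ R) {p : MvPolynomial σ R} (hp : aeval μ p = 0) :
    jp μ (s * p) = aeval μ s • jp μ p := by
  rw [jp_mul, hp, zero_smul, add_zero]

theorem jp_C_mul {σ : Type*} (μ : σ → Λ) (r : R) (p : MvPolynomial σ R) :
    jp μ (C r * p) = algebraMap R Λ r • jp μ p := by
  funext l; simp [jp, pderiv_mul]

theorem jp_sum {σ ι : Type*} (μ : σ → Λ) (t : Finset ι) (p : ι → MvPolynomial σ R) :
    jp μ (∑ j ∈ t, p j) = ∑ j ∈ t, jp μ (p j) := by
  funext l; simp [jp, Finset.sum_apply]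

/-- Membership up to a denominator passes to squares of ideals. -/
theorem exists_mul_mem_sq {P : Type*} [CommRing P] (Q J L : Ideal P) [Q.IsPrime]
    (h : ∀ x ∈ Q, ∃ t ∉ Q, t * x ∈ J ⊔ L) : ∀ z ∈ Q ^ 2, ∃ t ∉ Q, t * z ∈ J ^ 2 ⊔ L := by
  have hle : (J ⊔ L) * (J ⊔ L) ≤ J ^ 2 ⊔ L := by
    rw [pow_two, Ideal.mul_le]
    intro a ha b hb
    obtain ⟨a₁, ha₁, a₂, ha₂, rfl⟩ := Submodule.mem_sup.1 ha
    obtain ⟨b₁, hb₁, b₂, hb₂, rfl⟩ := Submodule.mem_sup.1 hb
    rw [show (a₁ + a₂) * (b₁ + b₂) = a₁ * b₁ + (a₂ * (b₁ + b₂) + a₁ * b₂) by ring]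
    exact Submodule.add_mem_sup (Ideal.mul_mem_mul ha₁ hb₁) (add_mem (L.mul_mem_right _ ha₂) (L.mul_mem_left _ hb₂))
  intro z hz
  rw [pow_two] at hz
  induction hz using Submodule.mul_induction_on' with
  | mem_mul_mem a ha b' hb =>
    obtain ⟨ta, hta, hta'⟩ := h a ha
    obtain ⟨tb, htb, htb'⟩ := h b' hb
    refine ⟨ta * tb, fun h => (Ideal.IsPrime.mem_or_mem inferInstance h).elim hta htb, ?_⟩
    rw [mul_mul_mul_comm]
    exact hle (Ideal.mul_mem_mul hta' htb')
  | add a _ b' _ iha ihb =>
    obtain ⟨ta, hta, hta'⟩ := iha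
    obtain ⟨tb, htb, htb'⟩ := ihb
    refine ⟨ta * tb, fun h => (Ideal.IsPrime.mem_or_mem inferInstance h).elim hta htb, ?_⟩
    rw [show ta * tb * (a + b') = tb * (ta * a) + ta * (tb * b') by ring]
    exact add_mem (Ideal.mul_mem_left _ _ hta') (Ideal.mul_mem_left _ _ htb')

variable [IsLocalRing Λ] {n : ℕ}

open IsLocalRing in
/-- The evaluation at the closed point. -/
noncomputable def resHom (μ : Fin n → Λ) : MvPolynomial (Fin n) R →+* ResidueField Λ :=
  (residue Λ).comp (aeval μ).toRingHom

theorem resHom_eq_zero (μ : Fin n → Λ) (x : MvPolynomial (Fin n) R) :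
    resHom μ x = 0 ↔ aeval μ x ∈ IsLocalRing.maximalIdeal Λ :=
  IsLocalRing.residue_eq_zero_iff _

set_option maxHeartbeats 1000000 in
open IsLocalRing in
/-- Either rows are independent at the closed point, or a combination with a unit coefficient vanishes there. -/
theorem residue_dichotomy (μ : Fin n → Λ) {c : ℕ} (f : Fin c → MvPolynomial (Fin n) R) :
    LinearIndependent (ResidueField Λ) (fun i l => residue Λ (jp μ (f i) l)) ∨
      ∃ (a : Fin c → MvPolynomial (Fin n) R) (i₀ : Fin c), aeval μ (a i₀) ∉ maximalIdeal Λ ∧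
        ∀ l, (∑ i, aeval μ (a i) • jp μ (f i)) l ∈ maximalIdeal Λ := by
  classical
  let Q : Ideal (MvPolynomial (Fin n) R) := RingHom.ker (resHom μ)
  haveI : Q.IsPrime := RingHom.ker_isPrime _
  let D := MvPolynomial (Fin n) R ⧸ Q
  letI : CommRing D := Ideal.Quotient.commRing Q
  haveI : IsDomain D := Ideal.Quotient.isDomain Q
  let u : Fin c → Fin n → D := fun i l => Ideal.Quotient.mk Q (pderiv l (f i))
  by_cases h : LinearIndependent D u
  · refine Or.inl ?_
    let σD : D →+* ResidueField Λ := RingHom.kerLift (resHom μ)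
    have hσ : Function.Injective σD := RingHom.kerLift_injective _
    let u' : Fin c → Fin n → FractionRing D := fun i l => algebraMap D (FractionRing D) (u i l)
    have hu' : LinearIndependent (FractionRing D) u' :=
      (LinearIndependent.iff_fractionRing D (FractionRing D)).1
        (h.map' (LinearMap.compLeft (Algebra.linearMap D (FractionRing D)) (Fin n))
          (LinearMap.ker_eq_bot.2 fun x y hxy => funext fun l =>
            IsFractionRing.injective D (FractionRing D) (congrFun hxy l)))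
    let g : FractionRing D →+* ResidueField Λ := IsFractionRing.lift hσ
    have h2 := linearIndependent_map g u' hu'
    simp only [g, u', IsFractionRing.lift_algebraMap] at h2
    exact h2
  · obtain ⟨g, hg, i₀, hi₀⟩ := Fintype.not_linearIndependent_iff.1 h
    choose a ha using fun i => Ideal.Quotient.mk_surjective (g i)
    refine Or.inr ⟨a, i₀, fun hm => hi₀ ?_, fun l => ?_⟩
    · rw [← ha]
      exact Ideal.Quotient.eq_zero_iff_mem.2 ((resHom_eq_zero μ _).2 hm)
    · have h1 : Ideal.Quotient.mk Q (∑ i, a i * pderiv l (f i)) = 0 := by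
        rw [map_sum]
        have := congrFun hg l
        simp only [Finset.sum_apply, Pi.smul_apply, smul_eq_mul, Pi.zero_apply] at this
        exact Eq.trans (Finset.sum_congr rfl fun i _ => by rw [map_mul, ha]) this
      have h2 := (resHom_eq_zero μ _).1 (Ideal.Quotient.eq_zero_iff_mem.1 h1)
      simpa [jp, Finset.sum_apply] using h2

set_option maxHeartbeats 2000000 in
open IsLocalRing in
/-- Regular parameters, with independent differentials, at a point of the closed fibre with separable residue field. -/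
theorem exists_point_params [IsDomain R] [IsDiscreteValuationRing R] [IsLocalHom (algebraMap R Λ)]
    (hsep : Algebra.IsGeometricallyReduced (ResidueField R) (ResidueField Λ))
    (π : R) (hπ : maximalIdeal R = Ideal.span {π}) (μ : Fin n → Λ) :
    ∃ (e : ℕ) (h : Fin e → MvPolynomial (Fin n) R), (∀ j, aeval μ (h j) ∈ maximalIdeal Λ) ∧
      LinearIndependent (ResidueField Λ) (fun j l => residue Λ (jp μ (h j) l)) ∧
      (∀ x, aeval μ x ∈ maximalIdeal Λ →
        ∃ t, aeval μ t ∉ maximalIdeal Λ ∧ t * x ∈ Ideal.span (Set.range h) ⊔ Ideal.span {C π}) ∧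
      (∀ x, aeval μ x ∈ maximalIdeal Λ → (∀ l, jp μ x l ∈ maximalIdeal Λ) →
        ∃ t, aeval μ t ∉ maximalIdeal Λ ∧ t * x ∈ Ideal.span (Set.range h) ^ 2 ⊔ Ideal.span {C π}) := by
  classical
  let Q : Ideal (MvPolynomial (Fin n) R) := RingHom.ker (resHom μ)
  haveI : Q.IsPrime := RingHom.ker_isPrime _
  have hQ : ∀ x, x ∈ Q ↔ aeval μ x ∈ maximalIdeal Λ := resHom_eq_zero μ
  obtain ⟨s, gq, hgq⟩ := Submodule.fg_iff_exists_fin_generating_family.1 (IsNoetherian.noetherian Q : Q.FG)
  have hgQ : Ideal.span (Set.range gq) = Q := hgq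
  have hπQ : C π ∈ Q := by
    rw [hQ, aeval_C]
    exact map_nonunit (algebraMap R Λ) π (hπ.symm ▸ Ideal.mem_span_singleton_self π)
  let k := ResidueField R
  let D := MvPolynomial (Fin n) R ⧸ Q
  let mkD : MvPolynomial (Fin n) R →+* D := Ideal.Quotient.mk Q
  letI : CommRing D := Ideal.Quotient.commRing Q
  haveI : IsDomain D := Ideal.Quotient.isDomain Q
  let kD : k →+* D := Ideal.Quotient.lift _ (mkD.comp C) (fun r hr => by
    rw [hπ, Ideal.mem_span_singleton'] at hr
    obtain ⟨y, rfl⟩ := hr
    rw [map_mul]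
    exact mul_eq_zero_of_right _ (Ideal.Quotient.eq_zero_iff_mem.2 hπQ))
  letI : Algebra k D := kD.toAlgebra
  let σD : D →+* ResidueField Λ := RingHom.kerLift (resHom μ)
  have hσD : Function.Injective σD := RingHom.kerLift_injective _
  let σK : FractionRing D →+* ResidueField Λ := IsFractionRing.lift hσD
  haveI : Algebra.FormallySmooth k (FractionRing D) := by
    haveI := hsep
    let σa : FractionRing D →ₐ[k] ResidueField Λ :=
      ⟨σK, fun r => by
        obtain ⟨r, rfl⟩ := IsLocalRing.residue_surjective r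
        show σK (algebraMap D (FractionRing D) (mkD (C r))) = _
        rw [IsFractionRing.lift_algebraMap]
        show IsLocalRing.residue Λ (aeval μ (C r)) = _
        rw [aeval_C]
        rfl⟩
    haveI : Algebra.IsGeometricallyReduced k (FractionRing D) :=
      Algebra.IsGeometricallyReduced.of_injective σa σK.injective
    exact EGA41Lib.FieldFS.formallySmooth_of_isGeometricallyReduced k (FractionRing D)
  let φk : MvPolynomial (Fin n) k →ₐ[k] D := aeval fun i => mkD (X i)
  have hφkμ : ∀ x, φk (MvPolynomial.map (algebraMap R k) x) = mkD x := fun x => by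
    have : φk.toRingHom.comp (MvPolynomial.map (algebraMap R k)) = mkD := MvPolynomial.ringHom_ext
      (fun r => by
        show φk (MvPolynomial.map (algebraMap R k) (C r)) = _
        rw [MvPolynomial.map_C, aeval_C]
        rfl)
      (fun i => by show φk (MvPolynomial.map (algebraMap R k) (X i)) = _; simp [φk])
    exact RingHom.congr_fun this x
  have hφks : Function.Surjective φk := fun y => by
    obtain ⟨x, rfl⟩ := Ideal.Quotient.mk_surjective y
    exact ⟨_, hφkμ x⟩
  have hσK : ∀ x, σK (algebraMap D (FractionRing D) (mkD x)) = resHom μ x := fun x => by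
    rw [IsFractionRing.lift_algebraMap]; rfl
  -- choose independent differentials
  let w : Fin s → Fin n → FractionRing D := fun j l => algebraMap D (FractionRing D) (mkD (pderiv l (gq j)))
  obtain ⟨b, -, -, hspan, hbli⟩ := exists_linearIndepOn_extension (linearIndepOn_empty (FractionRing D) w)
    (Set.subset_univ _)
  let eb := Fintype.equivFin b
  let h : Fin (Fintype.card b) → MvPolynomial (Fin n) R := fun j => gq (eb.symm j).1
  have hhQ : ∀ j, h j ∈ Q := fun j => hgQ.le (Ideal.subset_span ⟨_, rfl⟩)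
  have hgen : ∀ x ∈ Q, ∃ t ∉ Q, t * x ∈ Ideal.span (Set.range h) ⊔ Ideal.span {C π} := fun x hx' =>
    exists_mul_mem_span π (k := k) IsLocalRing.residue_surjective
      ((show RingHom.ker (IsLocalRing.residue R) = IsLocalRing.maximalIdeal R from IsLocalRing.ker_residue).trans hπ)
      gq h Q hgQ hhQ hπQ (K := FractionRing D) φk hφks
      (fun y => by rw [hφkμ]; exact Ideal.Quotient.eq_zero_iff_mem)
      (fun j => by
        simp only [hφkμ]
        refine Submodule.span_mono ?_ (hspan ⟨j, Set.mem_univ _, rfl⟩)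
        rintro _ ⟨i, hi, rfl⟩
        exact ⟨eb ⟨i, hi⟩, by simp [h, w]⟩) hx'
  refine ⟨_, h, fun j => (hQ _).1 (hhQ j), ?_, fun x hx => ?_, fun x hx hjx => ?_⟩
  · have h1 : LinearIndependent (FractionRing D) fun j l => algebraMap D (FractionRing D) (mkD (pderiv l (h j))) :=
      (show LinearIndependent (FractionRing D) fun x : b => w x from hbli).comp eb.symm eb.symm.injective
    have h2 := linearIndependent_map σK _ h1
    simp only [hσK] at h2
    exact h2
  · obtain ⟨t, ht, htx⟩ := hgen x ((hQ x).2 hx)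
    exact ⟨t, fun h => ht ((hQ t).2 h), htx⟩
  · let μ₀ : MvPolynomial (Fin n) R →+* MvPolynomial (Fin n) k := MvPolynomial.map (algebraMap R k)
    have hμ₀ : Function.Surjective μ₀ := MvPolynomial.map_surjective _ IsLocalRing.residue_surjective
    have hkμ : RingHom.ker μ₀ = Ideal.span {C π} := by
      show RingHom.ker (MvPolynomial.map (algebraMap R k)) = _
      rw [MvPolynomial.ker_map, show RingHom.ker (algebraMap R k) = maximalIdeal R from IsLocalRing.ker_residue, hπ,
        Ideal.map_span, Set.image_singleton]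
    have hker : RingHom.ker φk.toRingHom = Ideal.span (Set.range fun j => μ₀ (gq j)) := by
      refine le_antisymm (fun y hy => ?_) (Ideal.span_le.2 ?_)
      · obtain ⟨y, rfl⟩ := hμ₀ y
        have h1 : y ∈ Q := Ideal.Quotient.eq_zero_iff_mem.1 ((hφkμ y).symm.trans hy)
        have h2 := Ideal.mem_map_of_mem μ₀ (hgQ.symm.le h1)
        rwa [Ideal.map_span, ← Set.range_comp] at h2
      · rintro _ ⟨j, rfl⟩
        exact (hφkμ _).trans (Ideal.Quotient.eq_zero_iff_mem.2 (hgQ.le (Ideal.subset_span ⟨j, rfl⟩)))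
    obtain ⟨hA, -⟩ := conormal φk hφks (fun j => μ₀ (gq j)) hker (nonZeroDivisors D) (FractionRing D)
    have hv : μ₀ x ∈ Ideal.span (Set.range fun j => μ₀ (gq j)) := by
      rw [← hker]
      exact (hφkμ x).trans (Ideal.Quotient.eq_zero_iff_mem.2 ((hQ x).2 hx))
    have hzero : jac φk (FractionRing D) (μ₀ x) = 0 := funext fun l => by
      show algebraMap D (FractionRing D) (φk (pderiv l (μ₀ x))) = 0
      rw [pderiv_map, hφkμ, show mkD (pderiv l x) = 0 from Ideal.Quotient.eq_zero_iff_mem.2 ((hQ _).2 (hjx l)), map_zero]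
    obtain ⟨t, ht, htv⟩ := hA (μ₀ x) hv hzero
    obtain ⟨t, rfl⟩ := hμ₀ t
    have htQ : t ∉ Q := fun h => nonZeroDivisors.ne_zero ht ((hφkμ t).trans (Ideal.Quotient.eq_zero_iff_mem.2 h))
    have h2 : μ₀ (t * x) ∈ (Q ^ 2).map μ₀ := by
      have hQmap : Q.map μ₀ = Ideal.span (Set.range fun j => μ₀ (gq j)) := by
        rw [← hgQ, Ideal.map_span, ← Set.range_comp]
        rfl
      rw [Ideal.map_pow, hQmap, map_mul]
      exact htv
    obtain ⟨z, hz, hzv⟩ := (Ideal.mem_map_iff_of_surjective μ₀ hμ₀).1 h2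
    have hsq := exists_mul_mem_sq Q (Ideal.span (Set.range h)) (Ideal.span {C π}) hgen
    obtain ⟨t', ht', ht'z⟩ := hsq z hz
    refine ⟨t' * t, fun h => (Ideal.IsPrime.mem_or_mem inferInstance ((hQ _).2 h)).elim ht' htQ, ?_⟩
    rw [show t' * t * x = t' * z + t' * (t * x - z) by ring]
    refine add_mem ht'z (Ideal.mem_sup_right (Ideal.mul_mem_left _ _ ?_))
    rw [← hkμ, RingHom.mem_ker, map_sub, hzv, sub_self]

end Groth.Agent.SmoothingLib.Neron
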